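import Cfsg.Agent.Lib.Geometry.Dickson.Cases

/-!
Subgroups containing an upper and a lower transvection.
-/

set_option autoImplicit false

namespace Cfsg.Agent.Lib.Geometry.Dickson

open Matrix
open scoped Matrix MatrixGroups Pointwise
open Cfsg.Agent.Lib.SL2Trace (tr tr_eq tr_conj toPSL toPSL_eq toPSL_eq_one mem_center_iff)

variable {F : Type*} [Field F]

local notation "SL2" => Matrix.SpecialLinearGroup (Fin 2) F
local notation "M2" => Matrix (Fin 2) (Fin 2) F
local notation "zz" => Nat.card (Subgroup.center (Matrix.SpecialLinearGroup (Fin 2) F))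

/-- The upper transvection. -/
def upper (x : F) : SL2 := ⟨!![1, x; 0, 1], by simp [Matrix.det_fin_two]⟩

/-- The lower transvection. -/
def lower (x : F) : SL2 := ⟨!![1, 0; x, 1], by simp [Matrix.det_fin_two]⟩

theorem coe_upper (x : F) : (upper x : M2) = !![1, x; 0, 1] := rfl

theorem coe_lower (x : F) : (lower x : M2) = !![1, 0; x, 1] := rfl

theorem upper_mul (x y : F) : upper x * upper y = upper (x + y) := sl_ext (by
  show (!![1, x; 0, 1] : M2) * !![1, y; 0, 1] = !![1, x + y; 0, 1]
  ext i j; fin_cases i <;> fin_cases j <;> simp [Matrix.mul_apply, Fin.sum_univ_two, add_comm])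

theorem lower_mul (x y : F) : lower x * lower y = lower (x + y) := sl_ext (by
  show (!![1, 0; x, 1] : M2) * !![1, 0; y, 1] = !![1, 0; x + y, 1]
  ext i j; fin_cases i <;> fin_cases j <;> simp [Matrix.mul_apply, Fin.sum_univ_two])

theorem upper_zero : upper (0 : F) = 1 := sl_ext (by
  show (!![1, 0; 0, 1] : M2) = 1
  exact Matrix.one_fin_two.symm)

theorem lower_zero : lower (0 : F) = 1 := sl_ext (by
  show (!![1, 0; 0, 1] : M2) = 1
  exact Matrix.one_fin_two.symm)

theorem upper_inv (x : F) : (upper x)⁻¹ = upper (-x) :=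
  inv_eq_of_mul_eq_one_right (by rw [upper_mul, add_neg_cancel, upper_zero])

theorem lower_inv (x : F) : (lower x)⁻¹ = lower (-x) :=
  inv_eq_of_mul_eq_one_right (by rw [lower_mul, add_neg_cancel, lower_zero])

theorem tr_upper (x : F) : tr (upper x) = 2 := by rw [tr_eq]; simp [upper]; norm_num

theorem tr_lower (x : F) : tr (lower x) = 2 := by rw [tr_eq]; simp [lower]; norm_num

theorem upper_notMem_center {x : F} (hx : x ≠ 0) : upper x ∉ Subgroup.center SL2 := fun h => by
  rcases mem_center_iff.mp h with h | h <;>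
  · have := congrArg (fun g : SL2 => (g : M2) 0 1) h
    simp [upper] at this
    exact hx this

theorem lower_notMem_center {x : F} (hx : x ≠ 0) : lower x ∉ Subgroup.center SL2 := fun h => by
  rcases mem_center_iff.mp h with h | h <;>
  · have := congrArg (fun g : SL2 => (g : M2) 1 0) h
    simp [lower] at this
    exact hx this

theorem exists_eq_upper_of_fix {g : SL2} {c : F} (hc : c * c = 1)
    (hg : (g : M2) *ᵥ ![1, 0] = c • ![1, 0]) : ∃ x, g = upper x ∨ g = -upper x := by
  have h0 : (g : M2) 0 0 = c := by simpa [Matrix.mulVec, dotProduct, Fin.sum_univ_two] using congrFun hg 0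
  have h1 : (g : M2) 1 0 = 0 := by simpa [Matrix.mulVec, dotProduct, Fin.sum_univ_two] using congrFun hg 1
  have hd : (g : M2) 0 0 * (g : M2) 1 1 - (g : M2) 0 1 * (g : M2) 1 0 = 1 := Cfsg.Agent.Lib.SL2Trace.det_eq g
  rw [h0, h1, mul_zero, sub_zero] at hd
  have h11 : (g : M2) 1 1 = c := by linear_combination c * hd - (g : M2) 1 1 * hc
  rcases mul_self_eq_one_iff.mp hc with rfl | rfl
  · refine ⟨(g : M2) 0 1, Or.inl (sl_ext ?_)⟩
    ext i j; fin_cases i <;> fin_cases j <;> simp [coe_upper, Matrix.SpecialLinearGroup.coe_neg, h0, h1, h11]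
  · refine ⟨-(g : M2) 0 1, Or.inr (sl_ext ?_)⟩
    ext i j; fin_cases i <;> fin_cases j <;> simp [coe_upper, Matrix.SpecialLinearGroup.coe_neg, h0, h1, h11]

theorem exists_eq_lower_of_fix {g : SL2} {c : F} (hc : c * c = 1)
    (hg : (g : M2) *ᵥ ![0, 1] = c • ![0, 1]) : ∃ x, g = lower x ∨ g = -lower x := by
  have h0 : (g : M2) 1 1 = c := by simpa [Matrix.mulVec, dotProduct, Fin.sum_univ_two] using congrFun hg 1
  have h1 : (g : M2) 0 1 = 0 := by simpa [Matrix.mulVec, dotProduct, Fin.sum_univ_two] using congrFun hg 0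
  have hd : (g : M2) 0 0 * (g : M2) 1 1 - (g : M2) 0 1 * (g : M2) 1 0 = 1 := Cfsg.Agent.Lib.SL2Trace.det_eq g
  rw [h0, h1, zero_mul, sub_zero] at hd
  have h00 : (g : M2) 0 0 = c := by linear_combination c * hd - (g : M2) 0 0 * hc
  rcases mul_self_eq_one_iff.mp hc with rfl | rfl
  · refine ⟨(g : M2) 1 0, Or.inl (sl_ext ?_)⟩
    ext i j; fin_cases i <;> fin_cases j <;> simp [coe_lower, Matrix.SpecialLinearGroup.coe_neg, h0, h1, h00]
  · refine ⟨-(g : M2) 1 0, Or.inr (sl_ext ?_)⟩
    ext i j; fin_cases i <;> fin_cases j <;> simp [coe_lower, Matrix.SpecialLinearGroup.coe_neg, h0, h1, h00]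

theorem upper_mulVec (x : F) : (upper x : M2) *ᵥ ![1, 0] = (1 : F) • ![1, 0] := by
  ext i; fin_cases i <;> simp [upper]

theorem lower_mulVec (x : F) : (lower x : M2) *ᵥ ![0, 1] = (1 : F) • ![0, 1] := by
  ext i; fin_cases i <;> simp [lower]

/-- A subgroup of `SL₂` containing all transvections of both kinds is everything. -/
theorem eq_top_of_upper_lower {H : Subgroup SL2} (hu : ∀ x, upper x ∈ H) (hl : ∀ x, lower x ∈ H) : H = ⊤ := by
  have key : ∀ g : SL2, (g : M2) 1 0 ≠ 0 → g ∈ H := by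
    intro g hc
    have hd : (g : M2) 0 0 * (g : M2) 1 1 - (g : M2) 0 1 * (g : M2) 1 0 = 1 := Cfsg.Agent.Lib.SL2Trace.det_eq g
    set a := (g : M2) 0 0 with ha
    set b := (g : M2) 0 1 with hb
    set c := (g : M2) 1 0 with hc'
    set d := (g : M2) 1 1 with hd'
    have he : g = upper ((a - 1) / c) * lower c * upper ((d - 1) / c) := by
      refine sl_ext ?_
      show (g : M2) = !![1, (a - 1) / c; 0, 1] * !![1, 0; c, 1] * !![1, (d - 1) / c; 0, 1]
      ext i j
      fin_cases i <;> fin_cases j <;>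
        simp [Matrix.mul_apply, Fin.sum_univ_two, ← ha, ← hb, ← hc', ← hd'] <;> field_simp <;>
        first | ring1 | linear_combination -hd | linear_combination hd
    rw [he]
    exact H.mul_mem (H.mul_mem (hu _) (hl _)) (hu _)
  refine eq_top_iff.mpr fun g _ => ?_
  by_cases hc : (g : M2) 1 0 = 0
  · have hd : (g : M2) 0 0 * (g : M2) 1 1 - (g : M2) 0 1 * (g : M2) 1 0 = 1 := Cfsg.Agent.Lib.SL2Trace.det_eq g
    rw [hc, mul_zero, sub_zero] at hd
    have h := key (g * lower 1) (by
      show ((g : M2) * (!![1, 0; 1, 1] : M2)) 1 0 ≠ 0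
      simpa [Matrix.mul_apply, Fin.sum_univ_two, hc] using right_ne_zero_of_mul_eq_one hd)
    exact (H.mul_mem_cancel_right (hl 1)).mp h
  · exact key g hc

variable (G : Subgroup (Matrix.SpecialLinearGroup (Fin 2) F))

/-- Parameters of the upper transvections in `G`. -/
def upperParams : AddSubgroup F where
  carrier := {x | upper x ∈ G}
  add_mem' := fun {x y} hx hy => by
    show upper (x + y) ∈ G
    rw [← upper_mul]; exact G.mul_mem hx hy
  zero_mem' := by
    show upper 0 ∈ G
    rw [upper_zero]; exact G.one_mem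
  neg_mem' := fun {x} hx => by
    show upper (-x) ∈ G
    rw [← upper_inv]; exact G.inv_mem hx

/-- Parameters of the lower transvections in `G`. -/
def lowerParams : AddSubgroup F where
  carrier := {x | lower x ∈ G}
  add_mem' := fun {x y} hx hy => by
    show lower (x + y) ∈ G
    rw [← lower_mul]; exact G.mul_mem hx hy
  zero_mem' := by
    show lower 0 ∈ G
    rw [lower_zero]; exact G.one_mem
  neg_mem' := fun {x} hx => by
    show lower (-x) ∈ G
    rw [← lower_inv]; exact G.inv_mem hx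

theorem card_params [Fintype F] {w : SL2} {r : ℕ} (hZ : Subgroup.center SL2 ≤ G) (f : F → SL2) (A : AddSubgroup F)
    (hA : ∀ x, x ∈ A ↔ f x ∈ G) (hf : Function.Injective fun x => toPSL (f x))
    (hcell : ∀ g, g ∈ cell G w → ∃ x, g = f x ∨ g = -f x) (hmem : ∀ x, f x ∈ Subgroup.centralizer ({w} : Set SL2))
    (hr : Nat.card (cell G w) = zz * r) : Nat.card A = r := by
  classical
  have hm := card_map_toPSL G hZ (cell G w) (center_le_cell G hZ w) inf_le_right
  rw [hr] at hm
  rw [Nat.eq_of_mul_eq_mul_left Nat.card_pos hm]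
  let π : A → (cell G w).map (toPSL : SL2 →* _) := fun x => ⟨toPSL (f x), f x, ⟨hmem x, (hA x).mp x.2⟩, rfl⟩
  refine Nat.card_congr (Equiv.ofBijective π ⟨fun a b h => Subtype.ext (hf (congrArg Subtype.val h)), ?_⟩)
  rintro ⟨_, g, hg, rfl⟩
  obtain ⟨x, rfl | rfl⟩ := hcell g hg
  · exact ⟨⟨x, (hA x).mpr hg.2⟩, rfl⟩
  · refine ⟨⟨x, (hA x).mpr ?_⟩, Subtype.ext (Cfsg.Agent.Lib.SL2Trace.toPSL_neg (f x)).symm⟩
    have : (-1 : SL2) * -f x ∈ G := G.mul_mem (hZ (mem_center_iff.mpr (Or.inr rfl))) hg.2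
    simpa using this

theorem toPSL_upper_injective : Function.Injective fun x : F => toPSL (upper x) := by
  intro x y h
  rcases toPSL_eq.mp h with e | e
  · have := congrArg (fun g : SL2 => (g : M2) 0 1) e
    simpa [upper] using this.symm
  · have h1 := congrArg (fun g : SL2 => (g : M2) 0 1) e
    have h2 := congrArg (fun g : SL2 => (g : M2) 0 0) e
    simp [coe_upper, Matrix.SpecialLinearGroup.coe_neg] at h1 h2
    linear_combination x * h2 - h1

theorem toPSL_lower_injective : Function.Injective fun x : F => toPSL (lower x) := by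
  intro x y h
  rcases toPSL_eq.mp h with e | e
  · have := congrArg (fun g : SL2 => (g : M2) 1 0) e
    simpa [lower] using this.symm
  · have h1 := congrArg (fun g : SL2 => (g : M2) 1 0) e
    have h2 := congrArg (fun g : SL2 => (g : M2) 0 0) e
    simp [coe_lower, Matrix.SpecialLinearGroup.coe_neg] at h1 h2
    linear_combination x * h2 - h1

/-- With `r + 1` cells of unipotent type, the transvection parameters form a subfield of order `r`. -/
theorem subfield_normal [Fintype F] (p : ℕ) [Fact p.Prime] [CharP F p] (hZ : Subgroup.center SL2 ≤ G) {lam : F}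
    (hlam : lam ≠ 0) (hup : upper lam ∈ G) (hlo : lower 1 ∈ G) {r : ℕ}
    (hr : Nat.card (cell G (upper lam)) = zz * r) (hn : Nat.card (cls G (upper lam)) = r + 1) :
    ∃ K : Subfield F, Nat.card K = r ∧ lam ∈ K ∧ (∀ x, upper x ∈ G ↔ x ∈ K) ∧ (∀ x, lower x ∈ G ↔ x ∈ K) ∧
      ∀ g ∈ G, (g : M2) 1 0 ≠ 0 → (g : M2) 0 0 / (g : M2) 1 0 ∈ K := by
  classical
  set u := upper lam with hu
  have he0 : (![1, 0] : Fin 2 → F) ≠ 0 := fun h => one_ne_zero (α := F) (congrFun h 0)
  have he1 : (![0, 1] : Fin 2 → F) ≠ 0 := fun h => one_ne_zero (α := F) (congrFun h 1)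
  have huZ := upper_notMem_center hlam
  have hwZ := lower_notMem_center (one_ne_zero (α := F))
  have htu : tr u = 2 * 1 := by rw [hu, tr_upper, mul_one]
  have htw : tr (lower (1 : F)) = 2 * 1 := by rw [tr_lower, mul_one]
  have hcu := mem_centralizer_unipotent_iff huZ he0 (one_mul 1) htu (upper_mulVec lam)
  have hcw := mem_centralizer_unipotent_iff hwZ he1 (one_mul 1) htw (lower_mulVec 1)
  have hM : Nat.card (upperParams G) = r := by
    refine card_params G hZ upper _ (fun _ => Iff.rfl) toPSL_upper_injective (fun g hg => ?_)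
      (fun x => (hcu _).mpr ⟨1, one_mul 1, upper_mulVec x⟩) hr
    obtain ⟨c, hc, hgv⟩ := (hcu g).mp hg.1
    exact exists_eq_upper_of_fix hc hgv
  have hclsw : cls G (lower 1) = cls G u := unipotent_cls_eq G p hZ hlo hup hwZ huZ
    (by rw [tr_lower]; norm_num) (by rw [hu, tr_upper]; norm_num)
  have hM' : Nat.card (lowerParams G) = r := by
    refine card_params G hZ lower _ (fun _ => Iff.rfl) toPSL_lower_injective (fun g hg => ?_)
      (fun x => (hcw _).mpr ⟨1, one_mul 1, lower_mulVec x⟩) (by rw [(data_of_cls_eq G hclsw).1, hr])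
    obtain ⟨c, hc, hgv⟩ := (hcw g).mp hg.1
    exact exists_eq_lower_of_fix hc hgv
  -- the fixed lines of the other cells
  let w : F → SL2 := fun m => upper m * lower 1 * (upper m)⁻¹
  have hwne : ∀ m, w m ∉ Subgroup.center SL2 := fun m => conj_notMem_center hwZ _
  have hwfix : ∀ m, (w m : M2) *ᵥ ![m, 1] = (1 : F) • ![m, 1] := fun m => by
    show ((upper m * lower 1 * (upper m)⁻¹ : SL2) : M2) *ᵥ ![m, 1] = _
    rw [upper_inv]
    show (!![1, m; 0, 1] * !![1, 0; 1, 1] * !![1, -m; 0, 1] : M2) *ᵥ ![m, 1] = _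
    ext i; fin_cases i <;> simp [Matrix.mulVec, dotProduct, Fin.sum_univ_two, Matrix.mul_apply] <;> ring
  have hwcent := fun m => mem_centralizer_unipotent_iff (hwne m)
    (show (![m, 1] : Fin 2 → F) ≠ 0 from fun h => one_ne_zero (α := F) (congrFun h 1)) (one_mul 1)
    (show tr (w m) = 2 * 1 by rw [tr_conj, tr_lower, mul_one]) (hwfix m)
  have hinj : ∀ m m', cell G (w m') = cell G (w m) → upper m ∈ G → upper m' ∈ G → m = m' := by
    intro m m' h hm hm'
    have hmem : w m ∈ cell G (w m') := by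
      rw [h]; exact mem_cell_self G (G.mul_mem (G.mul_mem hm hlo) (G.inv_mem hm))
    obtain ⟨d, -, hd⟩ := (hwcent m' _).mp hmem.1
    obtain ⟨e, he⟩ := mem_line_of_eigen (hwne m) (show (![m, 1] : Fin 2 → F) ≠ 0 from
      fun h => one_ne_zero (α := F) (congrFun h 1)) (one_mul 1)
      (show tr (w m) = 2 * 1 by rw [tr_conj, tr_lower, mul_one]) (hwfix m) hd
    have h1 := congrFun he 1
    have h0 := congrFun he 0
    simp at h0 h1
    rw [h0, ← h1, one_mul]
  have hne : ∀ m, cell G (w m) ≠ cell G u := fun m h => by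
    have hmem : u ∈ cell G (w m) := by rw [h]; exact mem_cell_self G hup
    obtain ⟨d, -, hd⟩ := (hwcent m _).mp hmem.1
    have h1 := congrFun hd 1
    have h0 := congrFun hd 0
    simp [hu, upper] at h0 h1
    rw [← h1, one_mul] at h0
    exact hlam (by linear_combination h0)
  have hwcls : ∀ m, upper m ∈ G → cell G (w m) ∈ cls G u := fun m hm => by
    rw [← hclsw]; exact ⟨⟨_, hm⟩, rfl⟩
  haveI : Finite (cls G u) := Finite.Set.finite_range _
  haveI := Fintype.ofFinite (cls G u)
  haveI := Fintype.ofFinite (upperParams G)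
  let π : upperParams G → {A : cls G u // A ≠ ⟨cell G u, cell_mem_cls G u⟩} := fun m =>
    ⟨⟨cell G (w m), hwcls m m.2⟩, fun h => hne m (congrArg (fun e : cls G u => (e : Subgroup SL2)) h)⟩
  have hπ : Function.Bijective π := by
    rw [Fintype.bijective_iff_injective_and_card]
    refine ⟨fun a b h => Subtype.ext (hinj a b
      (congrArg (fun e : {A : cls G u // A ≠ ⟨cell G u, cell_mem_cls G u⟩} => (e.1 : Subgroup SL2)) h).symm a.2 b.2), ?_⟩
    rw [Fintype.card_subtype_compl, Fintype.card_subtype_eq, ← Nat.card_eq_fintype_card (α := cls G u), hn,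
      Nat.add_sub_cancel, ← Nat.card_eq_fintype_card, hM]
  have hinv : ∀ x, lower x ∈ G → x ≠ 0 → upper x⁻¹ ∈ G := by
    intro x hx hx0
    have hA : cell G (lower x * u * (lower x)⁻¹) ∈ cls G u := ⟨⟨_, hx⟩, rfl⟩
    have hAne : cell G (lower x * u * (lower x)⁻¹) ≠ cell G u := fun h => by
      have hmem : lower x * u * (lower x)⁻¹ ∈ cell G u := by
        rw [← h]; exact mem_cell_self G (G.mul_mem (G.mul_mem hx hup) (G.inv_mem hx))
      obtain ⟨d, hd⟩ := fix_line_of_conj_mem huZ he0 (one_mul 1) htu (upper_mulVec lam) hmem.1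
      have h1 := congrFun hd 1
      simp [lower] at h1
      exact hx0 h1
    obtain ⟨⟨m, hm⟩, hmA⟩ := hπ.2 ⟨⟨_, hA⟩, fun h => hAne (congrArg (fun e : cls G u => (e : Subgroup SL2)) h)⟩
    have hmem : lower x * u * (lower x)⁻¹ ∈ cell G (w m) := by
      rw [show cell G (w m) = cell G (lower x * u * (lower x)⁻¹) from
        congrArg (fun e : {A : cls G u // A ≠ ⟨cell G u, cell_mem_cls G u⟩} => (e.1 : Subgroup SL2)) hmA]
      exact mem_cell_self G (G.mul_mem (G.mul_mem hx hup) (G.inv_mem hx))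
    obtain ⟨d, -, hd⟩ := (hwcent m _).mp hmem.1
    rw [lower_inv] at hd
    have hd' : (!![1, 0; x, 1] * !![1, lam; 0, 1] * !![1, 0; -x, 1] : M2) *ᵥ ![m, 1] = d • ![m, 1] := hd
    have h1 := congrFun hd' 1
    have h0 := congrFun hd' 0
    simp [Matrix.mulVec, dotProduct, Fin.sum_univ_two, Matrix.mul_apply] at h0 h1
    have h2 : lam * ((1 - x * m) * (1 - x * m)) = 0 := by linear_combination h0 - m * h1
    have h3 : x * m = 1 := (sub_eq_zero.mp (mul_self_eq_zero.mp ((mul_eq_zero.mp h2).resolve_left hlam))).symm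
    rw [inv_eq_of_mul_eq_one_right h3]
    exact hm
  -- the Weyl element
  have h1 : upper 1 ∈ G := by simpa using hinv 1 hlo one_ne_zero
  have hW : upper 1 * lower (-1) * upper 1 ∈ G :=
    G.mul_mem (G.mul_mem h1 ((lowerParams G).neg_mem hlo)) h1
  have hsub : lowerParams G ≤ upperParams G := by
    intro x hx
    have e : upper 1 * lower (-1) * upper 1 * lower x = upper (-x) * (upper 1 * lower (-1) * upper 1) := sl_ext (by
      show (!![1, 1; 0, 1] * !![1, 0; -1, 1] * !![1, 1; 0, 1] * !![1, 0; x, 1] : M2) =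
        !![1, -x; 0, 1] * (!![1, 1; 0, 1] * !![1, 0; -1, 1] * !![1, 1; 0, 1])
      ext i j; fin_cases i <;> fin_cases j <;> simp [Matrix.mul_apply, Fin.sum_univ_two])
    have : upper (-x) ∈ G := (G.mul_mem_cancel_right hW).mp (e ▸ G.mul_mem hW hx)
    have h := (upperParams G).neg_mem this
    rwa [neg_neg] at h
  have heq : lowerParams G = upperParams G := SetLike.coe_injective
    (Set.eq_of_subset_of_ncard_le hsub (by
      rw [← Nat.card_coe_set_eq, ← Nat.card_coe_set_eq]
      exact (hM.trans hM'.symm).le))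
  set M := upperParams G with hMdef
  have hMinv : ∀ x ∈ M, x⁻¹ ∈ M := by
    intro x hx
    rcases eq_or_ne x 0 with rfl | h0
    · rw [_root_.inv_zero]; exact hx
    · exact hinv x (heq.symm ▸ hx : x ∈ lowerParams G) h0
  have hone : (1 : F) ∈ M := h1
  have hua : ∀ a ∈ M, ∀ b ∈ M, a * a * b ∈ M := by
    intro a ha b hb
    rcases eq_or_ne a 0 with rfl | ha0
    · simp
    rcases eq_or_ne b 0 with rfl | hb0
    · simp
    rcases eq_or_ne (a * b) 1 with hab | hab
    · rw [mul_assoc, hab, mul_one]; exact ha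
    have hd : b⁻¹ - a ≠ 0 := fun h => hab (by rw [← sub_eq_zero.mp h, inv_mul_cancel₀ hb0])
    have hd1 : 1 - a * b ≠ 0 := sub_ne_zero.mpr (Ne.symm hab)
    have hkey : a - (a⁻¹ + (b⁻¹ - a)⁻¹)⁻¹ = a * a * b := by
      have e : a⁻¹ + (b⁻¹ - a)⁻¹ = (a * (1 - a * b))⁻¹ := by
        rw [show b⁻¹ - a = (1 - a * b) / b by field_simp, inv_div]
        field_simp
        ring
      rw [e, inv_inv]; ring
    rw [← hkey]
    exact M.sub_mem ha (hMinv _ (M.add_mem (hMinv a ha) (hMinv _ (M.sub_mem (hMinv b hb) ha))))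
  have hsq : ∀ a ∈ M, a * a ∈ M := fun a ha => by simpa using hua a ha 1 hone
  have hmul : ∀ a ∈ M, ∀ b ∈ M, a * b ∈ M := by
    intro a ha b hb
    by_cases h2 : (2 : F) = 0
    · obtain ⟨⟨c, hc⟩, hcc⟩ := (Finite.injective_iff_surjective.mp
        (show Function.Injective (fun c : M => (⟨c * c, hsq c c.2⟩ : M)) from fun x y h => by
          have h' : (x : F) * x = y * y := congrArg Subtype.val h
          have h'' : ((x : F) - y) * ((x : F) - y) = 0 := by linear_combination h' + ((y : F) * y - x * y) * h2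
          exact Subtype.ext (sub_eq_zero.mp (mul_self_eq_zero.mp h'')))) ⟨a, ha⟩
      have : c * c = a := congrArg Subtype.val hcc
      rw [← this]
      exact hua c hc b hb
    · have h2ab : 2 * (a * b) ∈ M := by
        have h := M.sub_mem (M.sub_mem (hua _ (M.add_mem ha hone) b hb) (hua a ha b hb)) hb
        rwa [show (a + 1) * (a + 1) * b - a * a * b - b = 2 * (a * b) by ring] at h
      obtain ⟨⟨c, hc⟩, hcc⟩ := (Finite.injective_iff_surjective.mp
        (show Function.Injective (fun c : M => (⟨c + c, M.add_mem c.2 c.2⟩ : M)) from fun x y h => by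
          have h' : (x : F) + x = y + y := congrArg Subtype.val h
          exact Subtype.ext (mul_left_cancel₀ h2 (by linear_combination h')))) ⟨_, h2ab⟩
      have : c + c = 2 * (a * b) := congrArg Subtype.val hcc
      rw [← two_mul] at this
      rw [← mul_left_cancel₀ h2 this]
      exact hc
  let K : Subfield F :=
    { carrier := M
      mul_mem' := fun {a b} ha hb => hmul a ha b hb
      one_mem' := hone
      add_mem' := fun {a b} ha hb => M.add_mem ha hb
      zero_mem' := M.zero_mem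
      neg_mem' := fun {a} ha => M.neg_mem ha
      inv_mem' := fun a ha => hMinv a ha }
  refine ⟨K, hM, hup, fun _ => Iff.rfl, fun x => SetLike.ext_iff.mp heq x, fun g hg hc => ?_⟩
  have hgu : g * u * g⁻¹ ∈ G := G.mul_mem (G.mul_mem hg hup) (G.inv_mem hg)
  have hA : cell G (g * u * g⁻¹) ∈ cls G u := ⟨⟨_, hg⟩, rfl⟩
  have hgv : (g : M2) *ᵥ ![1, 0] = ![(g : M2) 0 0, (g : M2) 1 0] := by
    ext i; fin_cases i <;> simp [Matrix.mulVec, dotProduct, Fin.sum_univ_two]
  have hgv0 : (![(g : M2) 0 0, (g : M2) 1 0] : Fin 2 → F) ≠ 0 := fun h => hc (congrFun h 1)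
  have hgfix : ((g * u * g⁻¹ : SL2) : M2) *ᵥ ![(g : M2) 0 0, (g : M2) 1 0] = (1 : F) • ![(g : M2) 0 0, (g : M2) 1 0] := by
    rw [← hgv, Matrix.mulVec_mulVec]
    show ((g * u * g⁻¹ * g : SL2) : M2) *ᵥ ![1, 0] = _
    rw [inv_mul_cancel_right, Matrix.SpecialLinearGroup.coe_mul, ← Matrix.mulVec_mulVec, hu, upper_mulVec,
      Matrix.mulVec_smul]
  have hAne : cell G (g * u * g⁻¹) ≠ cell G u := fun h => by
    have hmem : g * u * g⁻¹ ∈ cell G u := by rw [← h]; exact mem_cell_self G hgu
    obtain ⟨d, hd⟩ := fix_line_of_conj_mem huZ he0 (one_mul 1) htu (upper_mulVec lam) hmem.1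
    have h1 := congrFun hd 1
    simp at h1
    exact hc h1
  obtain ⟨⟨m, hm⟩, hmA⟩ := hπ.2 ⟨⟨_, hA⟩, fun h => hAne (congrArg (fun e : cls G u => (e : Subgroup SL2)) h)⟩
  have hmem : g * u * g⁻¹ ∈ cell G (w m) := by
    rw [show cell G (w m) = cell G (g * u * g⁻¹) from
      congrArg (fun e : {A : cls G u // A ≠ ⟨cell G u, cell_mem_cls G u⟩} => (e.1 : Subgroup SL2)) hmA]
    exact mem_cell_self G hgu
  obtain ⟨d, -, hd⟩ := (hwcent m _).mp hmem.1
  obtain ⟨e, he⟩ := mem_line_of_eigen (conj_notMem_center huZ g) hgv0 (one_mul 1)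
    (by rw [tr_conj, htu]) hgfix hd
  have h1 := congrFun he 1
  have h0 := congrFun he 0
  simp at h0 h1
  show (g : M2) 0 0 / (g : M2) 1 0 ∈ M
  have : (g : M2) 0 0 / (g : M2) 1 0 = m := by
    rw [div_eq_iff hc, h0]
    linear_combination (g : M2) 0 0 * h1
  rw [this]
  exact hm

/-- The two possibilities for a subgroup containing transvections of both kinds. -/
theorem shape_two_transvections [Fintype F] (p : ℕ) [Fact p.Prime] [CharP F p] (hp : p ≠ 2)
    (hZ : Subgroup.center SL2 ≤ G) {lam : F} (hlam : lam ≠ 0) (hup : upper lam ∈ G) (hlo : lower 1 ∈ G) :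
    (∃ r, Nat.card (cell G (upper lam)) = zz * r ∧ Nat.card (cls G (upper lam)) = r + 1) ∨
      (p = 3 ∧ Nat.card G = zz * 60 ∧ ∀ x ∈ G, x ∉ Subgroup.center SL2 →
        ∃ a ∈ ({2, 3, 5} : Finset ℕ), Nat.card (cell G x) = zz * a) := by
  classical
  have h2 : (2 : F) ≠ 0 := by
    intro h
    apply hp
    have := (CharP.cast_eq_zero_iff F p 2).mp (by exact_mod_cast h)
    exact (Nat.prime_dvd_prime_iff_eq Fact.out Nat.prime_two).mp this
  have huZ := upper_notMem_center hlam
  have hwZ := lower_notMem_center (one_ne_zero (α := F))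
  have htu : tr (upper lam) ^ 2 = 4 := by rw [tr_upper]; norm_num
  have hord : orderOf (upper lam) = p := by
    refine orderOf_eq_prime ?_ (fun h => huZ (by rw [h]; exact Subgroup.one_mem _))
    have hpow : ∀ n : ℕ, upper lam ^ n = upper ((n : F) * lam) := fun n => by
      induction n with
      | zero => simp [upper_zero]
      | succ n ih => rw [pow_succ, ih, upper_mul]; congr 1; push_cast; ring
    rw [hpow, CharP.cast_eq_zero, zero_mul, upper_zero]
  have hdvdG : p ∣ Nat.card G := by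
    rw [← hord, ← Subgroup.orderOf_mk (upper lam) hup]; exact orderOf_dvd_natCard _
  have hzz : zz = 2 := by
    rw [show zz = Nat.card ({1, -1} : Set SL2) from Nat.card_congr (Equiv.setCongr (Set.ext fun g => by
      simpa using mem_center_iff)), Nat.card_coe_set_eq, Set.ncard_pair]
    intro h
    have := congrArg (fun g : SL2 => (g : M2) 0 0) h
    simp at this
    exact h2 (by linear_combination this)
  have hp3 : 3 ≤ p := by
    have := (Fact.out : p.Prime).two_le
    omega
  rcases shape G p hZ with h | ⟨y, hy, hyZ, ht, h⟩ | ⟨y, a, hy, ht, h⟩ | ⟨y, hy, hyZ, ht, h⟩ | ⟨y, hy, ht, h⟩ |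
    ⟨y, hy, ht, h⟩ | ⟨y₂, y₃, y₅, hy₂, hy₃, hy₅, hcover, h⟩ | ⟨y, r, k, hy, hyZ, ht, hr, hc, h⟩
  · exact absurd (h hup) huZ
  · exact absurd htu (tr_sq_ne_of_cell G hyZ ht (h.symm ▸ hup : upper lam ∈ cell G y) huZ)
  · exfalso
    obtain ⟨hyG, hyZ, -, -⟩ := hy
    by_cases hc : upper lam ∈ cell G y
    · exact tr_sq_ne_of_cell G hyZ ht hc huZ htu
    · have := sq_mem_center_of_inverts G hyG hyZ ht (h.symm ▸ hup) hc
      rw [upper_mul] at this
      exact upper_notMem_center (fun e => hlam (by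
        rcases mul_eq_zero.mp (show (2 : F) * lam = 0 by linear_combination e) with h' | h'
        · exact absurd h' h2
        · exact h')) this
  · exfalso
    obtain ⟨v, ε, hv, hε, hty, hyv⟩ := exists_fixed_vector ht
    have hN := mem_cellNorm_unipotent_iff G hy hyZ hv hε hty hyv
    rw [h] at hN
    obtain ⟨-, d, hd⟩ := (hN _).mp hup
    obtain ⟨-, e, he⟩ := (hN _).mp hlo
    obtain ⟨s, hs⟩ := mem_line_of_eigen huZ (show (![1, 0] : Fin 2 → F) ≠ 0 from
      fun h => one_ne_zero (α := F) (congrFun h 0)) (one_mul 1) (by rw [tr_upper, mul_one]) (upper_mulVec lam) hd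
    obtain ⟨t, ht'⟩ := mem_line_of_eigen hwZ (show (![0, 1] : Fin 2 → F) ≠ 0 from
      fun h => one_ne_zero (α := F) (congrFun h 1)) (one_mul 1) (by rw [tr_lower, mul_one]) (lower_mulVec 1) he
    apply hv
    rw [hs] at ht' ⊢
    have := congrFun ht' 0
    simp at this
    rw [this, zero_smul]
  all_goals first
    | (exfalso
       have h3 : zz * 3 ∣ Fintype.card F - 1 ∨ zz * 3 ∣ Fintype.card F + 1 := by
         rw [← hy.2.2.1]; exact torus_card_dvd G hy.2.1 ht hy.1
       have hpne : p ≠ 3 := fun e => by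
         obtain ⟨n, -, hn⟩ := FiniteField.card F p
         have h3q : 3 ∣ Fintype.card F := hn ▸ e ▸ dvd_pow_self _ n.ne_zero
         have hq : 2 ≤ Fintype.card F := Fintype.one_lt_card
         rcases h3 with h3 | h3 <;>
         · have := (Dvd.intro_left zz rfl).trans h3
           omega
       rw [h, hzz] at hdvdG
       have hp' : p ∣ 2 ∨ p ∣ 3 := by
         have h24 : p ∣ 2 ^ 4 * 3 := hdvdG.trans (by norm_num)
         rcases (Fact.out : p.Prime).dvd_mul.mp h24 with h' | h'
         · exact Or.inl ((Fact.out : p.Prime).dvd_of_dvd_pow h')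
         · exact Or.inr h'
       rcases hp' with h' | h'
       · exact absurd (Nat.le_of_dvd (by norm_num) h') (by omega)
       · exact hpne ((Nat.prime_dvd_prime_iff_eq Fact.out Nat.prime_three).mp h'))
    | skip
  · have hcells : ∀ x ∈ G, x ∉ Subgroup.center SL2 → ∃ a ∈ ({2, 3, 5} : Finset ℕ), Nat.card (cell G x) = zz * a := by
      intro x hxG hxZ
      rcases hcover x hxG hxZ with e | e | e
      · exact ⟨2, by simp, (data_of_cls_eq G e).1.trans hy₂.2.2.1⟩
      · exact ⟨3, by simp, (data_of_cls_eq G e).1.trans hy₃.2.2.1⟩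
      · exact ⟨5, by simp, (data_of_cls_eq G e).1.trans hy₅.2.2.1⟩
    have hp5 : p = 3 ∨ p = 5 := by
      rw [h, hzz] at hdvdG
      have h120 : p ∣ 2 ^ 3 * (3 * 5) := hdvdG.trans (by norm_num)
      rcases (Fact.out : p.Prime).dvd_mul.mp h120 with h' | h'
      · exact absurd ((Nat.prime_dvd_prime_iff_eq Fact.out Nat.prime_two).mp ((Fact.out : p.Prime).dvd_of_dvd_pow h'))
          hp
      · rcases (Fact.out : p.Prime).dvd_mul.mp h' with h' | h'
        · exact Or.inl ((Nat.prime_dvd_prime_iff_eq Fact.out Nat.prime_three).mp h')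
        · exact Or.inr ((Nat.prime_dvd_prime_iff_eq Fact.out Nat.prime_five).mp h')
    rcases hp5 with hp5 | hp5
    · exact Or.inr ⟨hp5, h, hcells⟩
    left
    obtain ⟨r, k, hr2, -, ⟨s, hrs⟩, -, hcr, hnr, -⟩ := unipotent_norm_data G p hZ hup huZ htu
    have hsr : p ∣ r := by
      rcases s with _ | s
      · rw [pow_zero] at hrs; omega
      · exact hrs ▸ dvd_pow_self p (Nat.succ_ne_zero s)
    refine ⟨r, hcr, ?_⟩
    rw [hp5] at hsr
    have hN5 : r = 5 ∧ r * k = 10 := by
      rcases hcover _ hup huZ with e | e | e <;> obtain ⟨ec, en⟩ := data_of_cls_eq G e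
      · rw [hcr, hy₂.2.2.1] at ec
        have := Nat.eq_of_mul_eq_mul_left Nat.card_pos ec
        omega
      · rw [hcr, hy₃.2.2.1] at ec
        have := Nat.eq_of_mul_eq_mul_left Nat.card_pos ec
        omega
      · rw [hcr, hy₅.2.2.1] at ec
        rw [hnr, hy₅.2.2.2] at en
        have := Nat.eq_of_mul_eq_mul_left Nat.card_pos ec
        have := Nat.eq_of_mul_eq_mul_left Nat.card_pos en
        omega
    have hcl := card_cls_mul G (upper lam)
    rw [hnr, hN5.2, h, hzz] at hcl
    omega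
  · left
    have e := unipotent_cls_eq G p hZ hy hup hyZ huZ ht htu
    exact ⟨r, (data_of_cls_eq G e).1.symm.trans hc, e ▸ h⟩

end Cfsg.Agent.Lib.Geometry.Dickson
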