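import Cfsg.Agent.Lib.Geometry.Dickson.Unip

/-!
Unipotent cells are Sylow subgroups.
-/

set_option autoImplicit false

namespace Cfsg.Agent.Lib.Geometry.Dickson

open Matrix
open scoped Matrix MatrixGroups
open Cfsg.Agent.Lib.SL2Trace (tr tr_conj tr_neg toPSL toPSL_surjective toPSL_eq toPSL_eq_one mem_center_iff)

variable {F : Type*} [Field F] [Fintype F] (p : ℕ) [Fact p.Prime] [CharP F p]

local notation "SL2" => Matrix.SpecialLinearGroup (Fin 2) F

include p in
/-- The image of the centraliser of a unipotent type element is a Sylow subgroup. -/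
theorem exists_sylow_cell {u : SL2} (huZ : u ∉ Subgroup.center SL2) (ht : tr u ^ 2 = 4) :
    ∃ S : Sylow p (Matrix.ProjectiveSpecialLinearGroup (Fin 2) F),
      (S : Subgroup (Matrix.ProjectiveSpecialLinearGroup (Fin 2) F)) = (cell ⊤ u).map toPSL := by
  have hP : IsPGroup p ((cell ⊤ u).map (toPSL : SL2 →* _)) := cell_map_isPGroup ⊤ p huZ ht
  obtain ⟨S, hS⟩ := hP.exists_le_sylow
  refine ⟨S, le_antisymm ?_ hS⟩
  set P : Subgroup (Matrix.ProjectiveSpecialLinearGroup (Fin 2) F) := S.toSubgroup with hPdef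
  have hu1 : toPSL u ∈ P := hS ⟨u, mem_cell_self ⊤ (Subgroup.mem_top u), rfl⟩
  have hne : P ≠ ⊥ := fun h => by
    rw [h, Subgroup.mem_bot] at hu1
    exact huZ (mem_center_iff.mpr (toPSL_eq_one.mp hu1))
  haveI : Nontrivial P := Subgroup.nontrivial_iff_ne_bot _ |>.mpr hne
  haveI := (S.2).center_nontrivial
  obtain ⟨z, hz⟩ := exists_ne (1 : Subgroup.center P)
  obtain ⟨w, hw⟩ := toPSL_surjective (F := F) z.1.1
  have hcomm : ∀ s : P, ∀ x : SL2, toPSL x = (s : Matrix.ProjectiveSpecialLinearGroup (Fin 2) F) →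
      x * w * x⁻¹ = w ∨ x * w * x⁻¹ = -w := by
    intro s x hx
    have h : toPSL (x * w * x⁻¹) = toPSL w := by
      rw [map_mul, map_mul, map_inv, hx, hw]
      exact mul_inv_eq_iff_eq_mul.mpr (congrArg Subtype.val (Subgroup.mem_center_iff.mp z.2 s))
    exact toPSL_eq.mp h.symm
  have hwZ : w ∉ Subgroup.center SL2 := fun h => hz (by
    refine Subtype.ext (Subtype.ext ?_)
    show z.1.1 = 1
    rw [← hw]
    exact toPSL_eq_one.mpr (mem_center_iff.mp h))
  have hneg : ∀ {a b : SL2}, tr a ^ 2 = 4 → b * a * b⁻¹ = -a → b * a * b⁻¹ = a := by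
    intro a b hta hb
    have h := tr_conj a b
    rw [hb, tr_neg] at h
    have h20 : (2 : F) = 0 := by
      have h2 : (2 : F) * tr a = 0 := by linear_combination -h
      rcases mul_eq_zero.mp h2 with h3 | h3
      · exact h3
      · rw [h3] at hta
        exact mul_self_eq_zero.mp (by linear_combination -hta)
    rw [hb]
    refine sl_ext ?_
    ext i j
    simp
    linear_combination (-(a : Matrix (Fin 2) (Fin 2) F) i j) * h20
  have hwu : w ∈ Subgroup.centralizer ({u} : Set SL2) := by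
    refine mem_centralizer_iff.mpr ?_
    rcases hcomm ⟨toPSL u, hu1⟩ u rfl with h | h
    · exact (mul_inv_eq_iff_eq_mul.mp h).symm
    · have h' : w * u * w⁻¹ = -u := by
        have h2 : u * w = -(w * u) := by
          have := congrArg (· * u) h
          simpa using this
        have h3 : w * u = -(u * w) := by rw [h2, neg_neg]
        rw [h3]; simp
      exact mul_inv_eq_iff_eq_mul.mp (hneg ht h')
  have htw : tr w ^ 2 = 4 := tr_sq_of_mem huZ ht hwu
  intro s hs
  obtain ⟨x, rfl⟩ := toPSL_surjective (F := F) s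
  refine ⟨x, ⟨?_, Subgroup.mem_top x⟩, rfl⟩
  rw [← centralizer_eq huZ hwZ hwu]
  refine mem_centralizer_iff.mpr ?_
  rcases hcomm ⟨_, hs⟩ x rfl with h | h
  · exact mul_inv_eq_iff_eq_mul.mp h
  · exact mul_inv_eq_iff_eq_mul.mp (hneg htw h)

include p in
/-- A subgroup of Borel shape normalises a Sylow `p`-subgroup. -/
theorem borel_image (G : Subgroup SL2) {u : SL2} (hu : u ∈ G) (huZ : u ∉ Subgroup.center SL2) (ht : tr u ^ 2 = 4)
    (h : cellNorm G u = G) :
    ∃ S : Sylow p (Matrix.ProjectiveSpecialLinearGroup (Fin 2) F),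
      G.map toPSL ≤ Subgroup.normalizer
        ((S : Subgroup (Matrix.ProjectiveSpecialLinearGroup (Fin 2) F)) : Set _) := by
  obtain ⟨S, hS⟩ := exists_sylow_cell p huZ ht
  refine ⟨S, ?_⟩
  rintro _ ⟨g, hg, rfl⟩
  obtain ⟨v, ε, hv, hε, hte, huv⟩ := exists_fixed_vector ht
  obtain ⟨-, hd⟩ := (mem_cellNorm_unipotent_iff G hu huZ hv hε hte huv g).mp (h.symm ▸ hg)
  have hN : g ∈ cellNorm ⊤ u :=
    (mem_cellNorm_unipotent_iff ⊤ (Subgroup.mem_top u) huZ hv hε hte huv g).mpr ⟨Subgroup.mem_top g, hd⟩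
  rw [hS]
  exact Subgroup.le_normalizer_map (f := (toPSL : SL2 →* _)) ⟨g, hN.1, rfl⟩

end Cfsg.Agent.Lib.Geometry.Dickson
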