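import Cfsg.Agent.Lib.Geometry.Dickson.Generate
import Cfsg.Agent.Lib.Classical.SLTwo

/-!
The subfield shape: `PSL₂` or `PGL₂` over a subfield.
-/

set_option autoImplicit false

namespace Cfsg.Agent.Lib.Geometry.Dickson

open Matrix
open scoped Matrix MatrixGroups Pointwise
open Cfsg.Agent.Lib.SL2Trace (tr tr_eq tr_conj tr_neg toPSL toPSL_eq toPSL_eq_one mem_center_iff)

variable {F : Type*} [Field F]

local notation "SL2" => Matrix.SpecialLinearGroup (Fin 2) F
local notation "M2" => Matrix (Fin 2) (Fin 2) F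
local notation "zz" => Nat.card (Subgroup.center (Matrix.SpecialLinearGroup (Fin 2) F))

/-- Conjugation of `SL₂` by an element of `GL₂`. -/
def glConj (P : GL (Fin 2) F) : SL2 ≃* SL2 where
  toFun A := ⟨((P⁻¹ : GL (Fin 2) F) : M2) * (A : M2) * (P : M2), by
    rw [Matrix.det_mul, Matrix.det_mul, A.2, mul_one, ← Matrix.det_mul, ← Units.val_mul, inv_mul_cancel,
      Units.val_one, Matrix.det_one]⟩
  invFun A := ⟨(P : M2) * (A : M2) * ((P⁻¹ : GL (Fin 2) F) : M2), by
    rw [Matrix.det_mul, Matrix.det_mul, A.2, mul_one, ← Matrix.det_mul, ← Units.val_mul, mul_inv_cancel,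
      Units.val_one, Matrix.det_one]⟩
  left_inv A := sl_ext (by
    show (P : M2) * (((P⁻¹ : GL (Fin 2) F) : M2) * (A : M2) * (P : M2)) * ((P⁻¹ : GL (Fin 2) F) : M2) = A
    simp [mul_assoc])
  right_inv A := sl_ext (by
    show ((P⁻¹ : GL (Fin 2) F) : M2) * ((P : M2) * (A : M2) * ((P⁻¹ : GL (Fin 2) F) : M2)) * (P : M2) = A
    simp [mul_assoc])
  map_mul' A B := sl_ext (by
    show ((P⁻¹ : GL (Fin 2) F) : M2) * ((A : M2) * (B : M2)) * (P : M2) =
      ((P⁻¹ : GL (Fin 2) F) : M2) * (A : M2) * (P : M2) * (((P⁻¹ : GL (Fin 2) F) : M2) * (B : M2) * (P : M2))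
    simp [mul_assoc])

variable (G : Subgroup (Matrix.SpecialLinearGroup (Fin 2) F)) (φ : Matrix.SpecialLinearGroup (Fin 2) F ≃* Matrix.SpecialLinearGroup (Fin 2) F)

theorem center_le_map (hZ : Subgroup.center SL2 ≤ G) : Subgroup.center SL2 ≤ G.map φ.toMonoidHom := fun z hz => by
  refine ⟨φ.symm z, hZ (Subgroup.mem_center_iff.mpr fun x => φ.injective ?_), φ.apply_symm_apply z⟩
  rw [map_mul, map_mul, φ.apply_symm_apply]
  exact Subgroup.mem_center_iff.mp hz _

theorem cell_map (y : SL2) : cell (G.map φ.toMonoidHom) (φ y) = (cell G y).map φ.toMonoidHom := by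
  ext x
  constructor
  · rintro ⟨hx, a, ha, rfl⟩
    refine ⟨a, ⟨mem_centralizer_iff.mpr (φ.injective ?_), ha⟩, rfl⟩
    rw [map_mul, map_mul]
    exact mem_centralizer_iff.mp hx
  · rintro ⟨a, ⟨ha, haG⟩, rfl⟩
    refine ⟨mem_centralizer_iff.mpr ?_, ⟨a, haG, rfl⟩⟩
    show φ a * φ y = φ y * φ a
    rw [← map_mul, ← map_mul, mem_centralizer_iff.mp ha]

theorem card_cell_map (y : SL2) : Nat.card (cell (G.map φ.toMonoidHom) (φ y)) = Nat.card (cell G y) := by
  rw [cell_map]
  exact (Nat.card_congr (Subgroup.equivMapOfInjective _ _ φ.injective).toEquiv).symm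

theorem card_cls_map (y : SL2) : Nat.card (cls (G.map φ.toMonoidHom) (φ y)) = Nat.card (cls G y) := by
  have h : cls (G.map φ.toMonoidHom) (φ y) = (fun A : Subgroup SL2 => A.map φ.toMonoidHom) '' cls G y := by
    ext A
    constructor
    · rintro ⟨⟨_, g, hg, rfl⟩, rfl⟩
      refine ⟨_, ⟨⟨g, hg⟩, rfl⟩, ?_⟩
      show (cell G (g * y * g⁻¹)).map φ.toMonoidHom = cell (G.map φ.toMonoidHom) (φ g * φ y * (φ g)⁻¹)
      rw [← map_inv, ← map_mul, ← map_mul, cell_map]
    · rintro ⟨_, ⟨g, rfl⟩, rfl⟩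
      refine ⟨⟨φ g, g, g.2, rfl⟩, ?_⟩
      show cell (G.map φ.toMonoidHom) (φ g * φ y * (φ g)⁻¹) = (cell G ((g : SL2) * y * (g : SL2)⁻¹)).map φ.toMonoidHom
      rw [← map_inv, ← map_mul, ← map_mul, cell_map]
  rw [h]
  exact Nat.card_image_of_injective (Subgroup.map_injective φ.injective) _

theorem image_equiv : Nonempty ((G.map φ.toMonoidHom).map (toPSL : SL2 →* Matrix.ProjectiveSpecialLinearGroup (Fin 2) F) ≃*
    G.map (toPSL : SL2 →* Matrix.ProjectiveSpecialLinearGroup (Fin 2) F)) := by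
  let e : Matrix.ProjectiveSpecialLinearGroup (Fin 2) F ≃* Matrix.ProjectiveSpecialLinearGroup (Fin 2) F :=
    Cfsg.Agent.Lib.Classical.centralQuotientCongr φ
  have h : (G.map φ.toMonoidHom).map (toPSL : SL2 →* _) = (G.map (toPSL : SL2 →* _)).map e.toMonoidHom := by
    rw [Subgroup.map_map, Subgroup.map_map]
    rfl
  rw [h]
  exact ⟨(Subgroup.equivMapOfInjective _ _ e.injective).symm⟩

variable [Fintype F] (p : ℕ) [Fact p.Prime] [CharP F p]

/-- Normal form of a subgroup with at least two cells of unipotent type. -/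
theorem exists_normal_form (hZ : Subgroup.center SL2 ≤ G) {u : SL2} (hu : u ∈ G)
    (huZ : u ∉ Subgroup.center SL2) (ht : tr u ^ 2 = 4) {n : ℕ} (hn : Nat.card (cls G u) = n) (h2 : 2 ≤ n) :
    ∃ (ψ : SL2 ≃* SL2) (lam : F), lam ≠ 0 ∧ upper lam ∈ G.map ψ.toMonoidHom ∧ lower 1 ∈ G.map ψ.toMonoidHom ∧
      Nat.card (cell (G.map ψ.toMonoidHom) (upper lam)) = Nat.card (cell G u) ∧
      Nat.card (cls (G.map ψ.toMonoidHom) (upper lam)) = n := by
  classical
  obtain ⟨u', hu', huZ', hcell, htu', hcls⟩ : ∃ u' ∈ G, u' ∉ Subgroup.center SL2 ∧ cell G u' = cell G u ∧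
      tr u' = 2 ∧ cls G u' = cls G u := by
    obtain ⟨ε, hε, hte⟩ := exists_eps ht
    rcases mul_self_eq_one_iff.mp hε with rfl | rfl
    · exact ⟨u, hu, huZ, rfl, by rw [hte, mul_one], rfl⟩
    · have hneg : (-1 : SL2) ∈ Subgroup.center SL2 := mem_center_iff.mpr (Or.inr rfl)
      have hmem : -u ∈ cell G u := by
        rw [neg_eq_neg_one_mul]
        exact (cell G u).mul_mem (center_le_cell G hZ u hneg) (mem_cell_self G hu)
      have hnZ : -u ∉ Subgroup.center SL2 := fun h => huZ (by simpa using Subgroup.mul_mem _ hneg h)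
      have hc := cell_eq G huZ hnZ hmem
      exact ⟨-u, hmem.2, hnZ, hc, by rw [tr_neg, hte]; ring,
        cls_eq_of_cell_mem G (hc ▸ cell_mem_cls G u)⟩
  obtain ⟨v, ε, hv, hε, hte, huv⟩ := exists_fixed_vector (y := u') (by rw [htu']; norm_num)
  obtain ⟨hlin, huv⟩ : tr u' = 2 * 1 ∧ (u' : M2) *ᵥ v = (1 : F) • v := by
    refine ⟨by rw [htu', mul_one], ?_⟩
    rcases mul_self_eq_one_iff.mp hε with rfl | rfl
    · exact huv
    · have h4 : (2 : F) * 2 = 0 := by rw [htu'] at hte; linear_combination hte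
      have h20 : (2 : F) = 0 := mul_self_eq_zero.mp h4
      rw [huv]
      congr 1
      linear_combination -h20
  rw [← hcls] at hn
  haveI : Finite (cls G u') := Finite.Set.finite_range _
  haveI : Nontrivial (cls G u') := Finite.one_lt_card_iff_nontrivial.mp (by omega)
  obtain ⟨A, hA⟩ := exists_ne (⟨cell G u', cell_mem_cls G u'⟩ : cls G u')
  obtain ⟨g, hg⟩ := A.2
  have hgfix : ¬ ∃ d : F, ((g : SL2) : M2) *ᵥ v = d • v := by
    rintro ⟨d, hd⟩
    apply hA
    refine Subtype.ext ?_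
    show (A : Subgroup SL2) = cell G u'
    rw [← hg]
    show cell G ((g : SL2) * u' * (g : SL2)⁻¹) = cell G u'
    rw [← cell_conj G g.2]
    exact ((mem_cellNorm_iff G).mp ((mem_cellNorm_unipotent_iff G hu' huZ' hv (one_mul 1) hlin huv _).mpr
      ⟨g.2, d, hd⟩)).2
  set w := (g : SL2) * u' * (g : SL2)⁻¹ with hw
  set v' := ((g : SL2) : M2) *ᵥ v with hv'
  have hwG : w ∈ G := G.mul_mem (G.mul_mem g.2 hu') (G.inv_mem g.2)
  have hwv' : (w : M2) *ᵥ v' = (1 : F) • v' := by
    rw [hv', Matrix.mulVec_mulVec]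
    show (((g : SL2) * u' * (g : SL2)⁻¹ * (g : SL2) : SL2) : M2) *ᵥ v = _
    rw [inv_mul_cancel_right, Matrix.SpecialLinearGroup.coe_mul, ← Matrix.mulVec_mulVec, huv, Matrix.mulVec_smul]
  have hwt : tr w = 2 := by rw [hw, tr_conj, htu']
  obtain ⟨s, hs⟩ : ∃ s : F, (w : M2) *ᵥ v - v = s • v' := by
    refine mem_line_of_eigen (conj_notMem_center huZ' _) (smul_ne_zero_vec hv) (one_mul 1)
      (by rw [hwt, mul_one]) hwv' (c := 1) ?_
    rw [one_smul, Matrix.mulVec_sub, Matrix.mulVec_mulVec, Cfsg.Agent.Lib.SL2Trace.sq_eq w, hwt,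
      Matrix.sub_mulVec, Matrix.one_mulVec, Matrix.smul_mulVec, two_smul]
    abel
  have hs0 : s ≠ 0 := by
    intro h
    rw [h, zero_smul, sub_eq_zero] at hs
    obtain ⟨d, hd⟩ := mem_line_of_eigen (conj_notMem_center huZ' _) (smul_ne_zero_vec hv) (one_mul 1)
      (show tr ((g : SL2) * u' * (g : SL2)⁻¹) = 2 * 1 by rw [← hw, hwt, mul_one]) hwv' (c := 1) (by rw [one_smul, ← hw, hs])
    have hd0 : d ≠ 0 := fun h => hv (by rw [hd, h, zero_smul])
    refine hgfix ⟨d⁻¹, ?_⟩
    rw [show d⁻¹ • v = d⁻¹ • (d • v') from congrArg _ hd, smul_smul, inv_mul_cancel₀ hd0, one_smul]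
  let Pm : M2 := !![v 0, (s • v') 0; v 1, (s • v') 1]
  have hPdet : Pm.det ≠ 0 := by
    intro h
    obtain ⟨x, hx, hPx⟩ := Matrix.exists_mulVec_eq_zero_iff.mpr h
    have h0 := congrFun hPx 0
    have h1 := congrFun hPx 1
    simp [Pm, Matrix.mulVec, dotProduct, Fin.sum_univ_two] at h0 h1
    by_cases hx1 : x 1 = 0
    · apply hx
      ext i
      fin_cases i
      · by_contra hx0
        apply hv
        ext j
        fin_cases j
        · simpa [hx1, show x 0 ≠ 0 from hx0] using h0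
        · simpa [hx1, show x 0 ≠ 0 from hx0] using h1
      · exact hx1
    · refine hgfix ⟨-(x 0) / (s * x 1), ?_⟩
      ext i
      fin_cases i
      · show v' 0 = _
        simp
        field_simp
        linear_combination h0
      · show v' 1 = _
        simp
        field_simp
        linear_combination h1
  let P : GL (Fin 2) F := Matrix.GeneralLinearGroup.mkOfDetNeZero Pm hPdet
  have hP : ∀ (A B : SL2), (A : M2) * Pm = Pm * (B : M2) → glConj P A = B := fun A B h => sl_ext (by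
    show ((P⁻¹ : GL (Fin 2) F) : M2) * (A : M2) * (P : M2) = (B : M2)
    rw [mul_assoc, show (P : M2) = Pm from rfl, h, ← mul_assoc,
      show ((P⁻¹ : GL (Fin 2) F) : M2) * Pm = 1 from Units.inv_mul P, one_mul])
  -- the two transvections
  have hfix0 : (glConj P u' : M2) *ᵥ ![1, 0] = (1 : F) • ![1, 0] := by
    show (((P⁻¹ : GL (Fin 2) F) : M2) * (u' : M2) * Pm) *ᵥ ![1, 0] = _
    rw [← Matrix.mulVec_mulVec, ← Matrix.mulVec_mulVec, show Pm *ᵥ ![1, 0] = v from by
      ext i; fin_cases i <;> simp [Pm], huv, one_smul, one_smul,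
      show v = Pm *ᵥ ![1, 0] from by ext i; fin_cases i <;> simp [Pm], Matrix.mulVec_mulVec,
      show ((P⁻¹ : GL (Fin 2) F) : M2) * Pm = 1 from Units.inv_mul P, Matrix.one_mulVec]
  have hlow : glConj P w = lower 1 := by
    refine hP w (lower 1) ?_
    have hwv : (w : M2) *ᵥ v = v + s • v' := by rw [← hs]; abel
    have hwsv : (w : M2) *ᵥ (s • v') = s • v' := by rw [Matrix.mulVec_smul, hwv', one_smul]
    ext i j
    fin_cases j <;> fin_cases i
    all_goals simp [Pm, coe_lower, Matrix.mul_apply, Fin.sum_univ_two]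
    · simpa [Matrix.mulVec, dotProduct, Fin.sum_univ_two] using congrFun hwv 0
    · simpa [Matrix.mulVec, dotProduct, Fin.sum_univ_two] using congrFun hwv 1
    · simpa [Matrix.mulVec, dotProduct, Fin.sum_univ_two] using congrFun hwsv 0
    · simpa [Matrix.mulVec, dotProduct, Fin.sum_univ_two] using congrFun hwsv 1
  obtain ⟨lam, hlam⟩ := exists_eq_upper_of_fix (one_mul 1) hfix0
  have htp : tr (glConj P u') = 2 := by
    show (((P⁻¹ : GL (Fin 2) F) : M2) * (u' : M2) * (P : M2)).trace = 2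
    rw [Matrix.trace_mul_comm, ← mul_assoc, ← Units.val_mul, mul_inv_cancel, Units.val_one, one_mul]
    exact htu'
  have hlam' : glConj P u' = upper lam := by
    rcases hlam with h | h
    · exact h
    · have h20 : (2 : F) = 0 := by
        have h' := congrArg tr h
        rw [htp, tr_neg, tr_upper] at h'
        exact mul_self_eq_zero.mp (show (2 : F) * 2 = 0 by linear_combination 2 * h' - 2 * h' + h')
      rw [h]
      refine sl_ext ?_
      rw [Matrix.SpecialLinearGroup.coe_neg]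
      ext i j
      simp
      linear_combination (-(upper lam : M2) i j) * h20
  refine ⟨glConj P, lam, ?_, ⟨u', hu', hlam'⟩, ⟨w, hwG, hlow⟩, ?_, ?_⟩
  · intro h
    rw [h, upper_zero] at hlam'
    exact huZ' (by rw [(glConj P).injective (hlam'.trans (map_one _).symm)]; exact Subgroup.one_mem _)
  · rw [← hlam', card_cell_map, hcell]
  · rw [← hlam', card_cls_map, hn]

/-- The embedding of `SL₂` of a subfield. -/
def subIncl (K : Subfield F) : Matrix.SpecialLinearGroup (Fin 2) K →* SL2 :=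
  Matrix.SpecialLinearGroup.map K.subtype

theorem coe_subIncl (K : Subfield F) (A : Matrix.SpecialLinearGroup (Fin 2) K) (i j : Fin 2) :
    (subIncl K A : M2) i j = ((A : Matrix (Fin 2) (Fin 2) K) i j : F) := rfl

theorem range_subIncl_le {K : Subfield F} (hu : ∀ x ∈ K, upper x ∈ G) (hl : ∀ x ∈ K, lower x ∈ G) :
    (subIncl K).range ≤ G := by
  rintro _ ⟨A, rfl⟩
  have h : G.comap (subIncl K) = ⊤ := by
    refine eq_top_of_upper_lower (fun x => ?_) (fun x => ?_)
    · rw [Subgroup.mem_comap, show subIncl K (upper x) = upper (x : F) from sl_ext (by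
        ext i j; rw [coe_subIncl]; fin_cases i <;> fin_cases j <;> simp [upper])]
      exact hu _ x.2
    · rw [Subgroup.mem_comap, show subIncl K (lower x) = lower (x : F) from sl_ext (by
        ext i j; rw [coe_subIncl]; fin_cases i <;> fin_cases j <;> simp [lower])]
      exact hl _ x.2
  exact Subgroup.mem_comap.mp (h.symm ▸ Subgroup.mem_top A)

/-- Elements of a subgroup in normal form. -/
theorem exists_decomposition {K : Subfield F} (hu : ∀ x, upper x ∈ G ↔ x ∈ K) (hl : ∀ x, lower x ∈ G ↔ x ∈ K)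
    (hline : ∀ g ∈ G, (g : M2) 1 0 ≠ 0 → (g : M2) 0 0 / (g : M2) 1 0 ∈ K) {g : SL2} (hg : g ∈ G) :
    ∃ (S : Matrix.SpecialLinearGroup (Fin 2) K) (D : SL2) (a : F), g = subIncl K S * D ∧ D ∈ G ∧
      a * a ∈ K ∧ (D : M2) = !![a, 0; 0, a⁻¹] := by
  have hu' : ∀ x : K, subIncl K (upper x) = upper (x : F) := fun x => sl_ext (by
    ext i j; rw [coe_subIncl]; fin_cases i <;> fin_cases j <;> simp [upper])
  have hl' : ∀ x : K, subIncl K (lower x) = lower (x : F) := fun x => sl_ext (by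
    ext i j; rw [coe_subIncl]; fin_cases i <;> fin_cases j <;> simp [lower])
  have hle := range_subIncl_le G (fun x hx => (hu x).mpr hx) (fun x hx => (hl x).mpr hx)
  set W : SL2 := upper 1 * lower (-1) * upper 1 with hW
  have hWe : (W : M2) = !![0, 1; -1, 0] := by
    rw [hW, Matrix.SpecialLinearGroup.coe_mul, Matrix.SpecialLinearGroup.coe_mul, coe_upper, coe_lower]
    ext i j; fin_cases i <;> fin_cases j <;> simp [Matrix.mul_apply, Fin.sum_univ_two]
  obtain ⟨W', hW'⟩ : W ∈ (subIncl K).range :=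
    ⟨upper 1 * lower (-1) * upper 1, by rw [map_mul, map_mul, hu', hl', hW]; push_cast; rfl⟩
  have hWG : W ∈ G := hle ⟨W', hW'⟩
  suffices main : ∀ h ∈ G, (h : M2) 1 0 = 0 →
      ∃ (S : Matrix.SpecialLinearGroup (Fin 2) K) (D : SL2) (a : F), h = subIncl K S * D ∧ D ∈ G ∧
        a * a ∈ K ∧ (D : M2) = !![a, 0; 0, a⁻¹] by
    by_cases hc : (g : M2) 1 0 = 0
    · exact main g hg hc
    · set m := (g : M2) 0 0 / (g : M2) 1 0 with hm
      have hmK : m ∈ K := hline g hg hc
      have hh : W * upper (-m) * g ∈ G := G.mul_mem (G.mul_mem hWG ((hu _).mpr (neg_mem hmK))) hg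
      obtain ⟨S, D, a, he, hD, ha, hDe⟩ := main _ hh (by
        rw [Matrix.SpecialLinearGroup.coe_mul, Matrix.SpecialLinearGroup.coe_mul, hWe, coe_upper]
        simp [Matrix.mul_apply, Fin.sum_univ_two, hm]
        field_simp
        ring)
      refine ⟨(W' * upper ⟨-m, neg_mem hmK⟩)⁻¹ * S, D, a, ?_, hD, ha, hDe⟩
      rw [map_mul, mul_assoc, ← he, map_inv, map_mul, hu', hW']
      group
  intro h hh hc
  set a := (h : M2) 0 0 with ha
  set b := (h : M2) 0 1 with hb
  set d := (h : M2) 1 1 with hd'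
  have hd : a * d - b * (h : M2) 1 0 = 1 := Cfsg.Agent.Lib.SL2Trace.det_eq h
  rw [hc, mul_zero, sub_zero] at hd
  have hd0 : d ≠ 0 := right_ne_zero_of_mul_eq_one hd
  have ha0 : a ≠ 0 := left_ne_zero_of_mul_eq_one hd
  have hhe : (h : M2) = !![a, b; 0, d] := by
    ext i j; fin_cases i <;> fin_cases j <;> simp [ha, hb, hd', hc]
  have hbK : b / d ∈ K := by
    have h' := hline (h * W) (G.mul_mem hh hWG) (by
      rw [Matrix.SpecialLinearGroup.coe_mul, hhe, hWe]; simp [Matrix.mul_apply, Fin.sum_univ_two, hd0])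
    rw [Matrix.SpecialLinearGroup.coe_mul, hhe, hWe] at h'
    simpa [Matrix.mul_apply, Fin.sum_univ_two] using h'
  obtain ⟨D, hD⟩ : ∃ D : SL2, D = upper (-(b / d)) * h := ⟨_, rfl⟩
  have hDe : (D : M2) = !![a, 0; 0, a⁻¹] := by
    rw [hD, Matrix.SpecialLinearGroup.coe_mul, coe_upper, hhe]
    have : d = a⁻¹ := eq_inv_of_mul_eq_one_right hd
    ext i j
    fin_cases i <;> fin_cases j <;> simp [Matrix.mul_apply, Fin.sum_univ_two, this]
    field_simp
    ring
  have hDG : D ∈ G := hD ▸ G.mul_mem ((hu _).mpr (neg_mem hbK)) hh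
  refine ⟨upper ⟨b / d, hbK⟩, D, a, ?_, hDG, ?_, hDe⟩
  · rw [hu', hD, ← mul_assoc, upper_mul]
    simp [upper_zero]
  · have e : D * upper 1 = upper (a * a) * D := sl_ext (by
      rw [Matrix.SpecialLinearGroup.coe_mul, Matrix.SpecialLinearGroup.coe_mul, hDe, coe_upper, coe_upper]
      ext i j; fin_cases i <;> fin_cases j <;> simp [Matrix.mul_apply, Fin.sum_univ_two] <;> field_simp)
    have : upper (a * a) ∈ G := by
      refine (G.mul_mem_cancel_right hDG).mp ?_
      rw [← e]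
      exact G.mul_mem hDG ((hu 1).mpr (one_mem K))
    exact (hu _).mp this

/-- A subgroup in normal form has image `PSL₂` or `PGL₂` of the subfield. -/
theorem normal_image {K : Subfield F} (hu : ∀ x, upper x ∈ G ↔ x ∈ K) (hl : ∀ x, lower x ∈ G ↔ x ∈ K)
    (hline : ∀ g ∈ G, (g : M2) 1 0 ≠ 0 → (g : M2) 0 0 / (g : M2) 1 0 ∈ K) :
    Nonempty (G.map (toPSL : SL2 →* Matrix.ProjectiveSpecialLinearGroup (Fin 2) F) ≃*
        Matrix.ProjectiveSpecialLinearGroup (Fin 2) K) ∨
      Nonempty (G.map (toPSL : SL2 →* Matrix.ProjectiveSpecialLinearGroup (Fin 2) F) ≃*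
        Matrix.ProjGenLinGroup (Fin 2) K) := by
  classical
  have hle := range_subIncl_le G (fun x hx => (hu x).mpr hx) (fun x hx => (hl x).mpr hx)
  set H := G.map (toPSL : SL2 →* Matrix.ProjectiveSpecialLinearGroup (Fin 2) F)
  by_cases hall : ∀ (D : SL2) (a : F), D ∈ G → a * a ∈ K → (D : M2) = !![a, 0; 0, a⁻¹] → a ∈ K
  · left
    let f : Matrix.SpecialLinearGroup (Fin 2) K →* H :=
      (toPSL.comp (subIncl K)).codRestrict H fun A => ⟨_, hle ⟨A, rfl⟩, rfl⟩
    have hf : Function.Surjective f := by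
      rintro ⟨_, g, hg, rfl⟩
      obtain ⟨S, D, a, rfl, hD, ha, hDe⟩ := exists_decomposition G hu hl hline hg
      have haK := hall D a hD ha hDe
      have ha0 : a ≠ 0 := by
        intro h
        have := D.2
        rw [hDe, h] at this
        simp [Matrix.det_fin_two] at this
      obtain ⟨T, hT⟩ : ∃ T : Matrix.SpecialLinearGroup (Fin 2) K,
          (T : Matrix (Fin 2) (Fin 2) K) = !![⟨a, haK⟩, 0; 0, ⟨a⁻¹, inv_mem haK⟩] :=
        ⟨⟨!![⟨a, haK⟩, 0; 0, ⟨a⁻¹, inv_mem haK⟩], by rw [Matrix.det_fin_two]; exact Subtype.ext (by simp [ha0])⟩, rfl⟩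
      refine ⟨S * T, Subtype.ext ?_⟩
      show toPSL (subIncl K (S * T)) = toPSL (subIncl K S * D)
      rw [map_mul (subIncl K)]
      congr 2
      refine sl_ext ?_
      ext i j
      rw [coe_subIncl, hDe, hT]
      fin_cases i <;> fin_cases j <;> simp
    have hker : f.ker = Subgroup.center (Matrix.SpecialLinearGroup (Fin 2) K) := by
      ext A
      rw [MonoidHom.mem_ker, Subtype.ext_iff, mem_center_iff]
      show toPSL (subIncl K A) = 1 ↔ _
      rw [toPSL_eq_one]
      refine or_congr ⟨fun h => ?_, fun h => by rw [h, map_one]⟩ ⟨fun h => ?_, fun h => ?_⟩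
      · refine Subtype.ext (Matrix.ext fun i j => Subtype.ext ?_)
        rw [← coe_subIncl K A, h]
        fin_cases i <;> fin_cases j <;> simp
      · refine Subtype.ext (Matrix.ext fun i j => Subtype.ext ?_)
        rw [← coe_subIncl K A, h, Matrix.SpecialLinearGroup.coe_neg, Matrix.SpecialLinearGroup.coe_neg]
        fin_cases i <;> fin_cases j <;> simp
      · refine sl_ext (Matrix.ext fun i j => ?_)
        rw [coe_subIncl, h, Matrix.SpecialLinearGroup.coe_neg, Matrix.SpecialLinearGroup.coe_neg]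
        fin_cases i <;> fin_cases j <;> simp
    exact ⟨((QuotientGroup.quotientMulEquivOfEq hker.symm).trans
      (QuotientGroup.quotientKerEquivOfSurjective f hf)).symm⟩
  right
  push Not at hall
  obtain ⟨D₀, a₀, hD₀, ha₀, hD₀e, ha₀K⟩ := hall
  have ha₀0 : a₀ ≠ 0 := fun h => ha₀K (h ▸ zero_mem K)
  -- every element of `K` has a square root in `F`, inside `K` or `K a₀`
  have hroot : ∀ d : K, d ≠ 0 → (∃ c : K, c * c = d) ∨ (∃ c : K, c * c * (⟨a₀ * a₀, ha₀⟩ : K) = d) := by
    intro d hd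
    set k : K := ⟨a₀ * a₀, ha₀⟩ with hk
    have hk0 : k ≠ 0 := fun h => mul_ne_zero ha₀0 ha₀0 (congrArg Subtype.val h)
    have hknsq : ¬ IsSquare k := by
      rintro ⟨c, hc⟩
      have hc' : a₀ * a₀ = (c : F) * c := congrArg Subtype.val hc
      rcases mul_self_eq_mul_self_iff.mp hc' with h | h
      · exact ha₀K (h ▸ c.2)
      · exact ha₀K (h ▸ neg_mem c.2)
    by_cases hdsq : IsSquare d
    · obtain ⟨c, hc⟩ := hdsq
      exact Or.inl ⟨c, hc.symm⟩
    · right
      haveI := Fintype.ofFinite K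
      have h : quadraticChar K (d * k) = 1 := by
        rw [map_mul, quadraticChar_neg_one_iff_not_isSquare.mpr hdsq, quadraticChar_neg_one_iff_not_isSquare.mpr hknsq]
        norm_num
      obtain ⟨c, hc⟩ := (quadraticChar_one_iff_isSquare (mul_ne_zero hd hk0)).mp h
      exact ⟨c / k, by field_simp; linear_combination -hc⟩
  let R : GL (Fin 2) K → SL2 → Prop := fun A B =>
    ∃ c : F, (B : M2) = c • (A : Matrix (Fin 2) (Fin 2) K).map K.subtype
  have hdetF : ∀ A : GL (Fin 2) K, ((A : Matrix (Fin 2) (Fin 2) K).map K.subtype).det =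
      (((A : Matrix (Fin 2) (Fin 2) K).det : K) : F) := fun A => (RingHom.map_det K.subtype _).symm
  have huniq : ∀ A B B', R A B → R A B' → toPSL B = toPSL B' := by
    rintro A B B' ⟨c, hc⟩ ⟨c', hc'⟩
    have h1 := B.2
    have h2 := B'.2
    rw [hc, Matrix.det_smul, Fintype.card_fin, hdetF] at h1
    rw [hc', Matrix.det_smul, Fintype.card_fin, hdetF] at h2
    have h3 : c' * c' = c * c := by linear_combination (c * c) * h2 - (c' * c') * h1
    refine toPSL_eq.mpr ?_
    rcases mul_self_eq_mul_self_iff.mp h3 with h | h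
    · exact Or.inl (sl_ext (by rw [hc, hc', h]))
    · exact Or.inr (sl_ext (by rw [Matrix.SpecialLinearGroup.coe_neg, hc, hc', h, neg_smul]))
  have hex : ∀ A : GL (Fin 2) K, ∃ B ∈ G, R A B := by
    intro A
    have hd0 : (A : Matrix (Fin 2) (Fin 2) K).det ≠ 0 := A.det_ne_zero
    rcases hroot _ hd0 with ⟨c, hc⟩ | ⟨c, hc⟩
    · have hc0 : c ≠ 0 := fun h => hd0 (by rw [← hc, h, mul_zero])
      obtain ⟨T, hT⟩ : ∃ T : Matrix.SpecialLinearGroup (Fin 2) K,
          (T : Matrix (Fin 2) (Fin 2) K) = c⁻¹ • (A : Matrix (Fin 2) (Fin 2) K) :=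
        ⟨⟨_, by rw [Matrix.det_smul, Fintype.card_fin, ← hc]; field_simp⟩, rfl⟩
      refine ⟨subIncl K T, hle ⟨_, rfl⟩, (c : F)⁻¹, ?_⟩
      ext i j
      rw [coe_subIncl, hT]
      simp
    · set k : K := ⟨a₀ * a₀, ha₀⟩ with hk
      have hk0 : k ≠ 0 := fun h => mul_ne_zero ha₀0 ha₀0 (congrArg Subtype.val h)
      have hc0 : c ≠ 0 := fun h => hd0 (by rw [← hc, h, mul_zero, zero_mul])
      obtain ⟨T, hT⟩ : ∃ T : Matrix.SpecialLinearGroup (Fin 2) K,
          (T : Matrix (Fin 2) (Fin 2) K) = !![(c * k)⁻¹, 0; 0, c⁻¹] * (A : Matrix (Fin 2) (Fin 2) K) :=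
        ⟨⟨_, by rw [Matrix.det_mul, ← hc, Matrix.det_fin_two]; simp; field_simp⟩, rfl⟩
      refine ⟨D₀ * subIncl K T, G.mul_mem hD₀ (hle ⟨_, rfl⟩), ((c : F) * a₀)⁻¹, ?_⟩
      rw [Matrix.SpecialLinearGroup.coe_mul, hD₀e]
      ext i j
      fin_cases i <;> fin_cases j <;>
        simp [Matrix.mul_apply, Fin.sum_univ_two, coe_subIncl, hT, hk] <;> field_simp
  choose B hBG hBR using hex
  have hmul : ∀ A A' : GL (Fin 2) K, toPSL (B (A * A')) = toPSL (B A) * toPSL (B A') := by
    intro A A'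
    rw [← map_mul]
    refine huniq (A * A') _ _ (hBR _) ?_
    obtain ⟨c, hc⟩ := hBR A
    obtain ⟨c', hc'⟩ := hBR A'
    refine ⟨c * c', ?_⟩
    rw [Matrix.SpecialLinearGroup.coe_mul, hc, hc', Units.val_mul, Matrix.map_mul, Matrix.smul_mul,
      Matrix.mul_smul, smul_smul]
  let f : GL (Fin 2) K →* H := MonoidHom.mk' (fun A => ⟨toPSL (B A), B A, hBG A, rfl⟩)
    fun A A' => Subtype.ext (hmul A A')
  have hf : Function.Surjective f := by
    rintro ⟨_, g, hg, rfl⟩
    obtain ⟨S, D, a, rfl, hD, ha, hDe⟩ := exists_decomposition G hu hl hline hg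
    have ha0 : a ≠ 0 := by
      intro h
      have := D.2
      rw [hDe, h] at this
      simp [Matrix.det_fin_two] at this
    let A : GL (Fin 2) K := Matrix.GeneralLinearGroup.mkOfDetNeZero
      ((S : Matrix (Fin 2) (Fin 2) K) * !![⟨a * a, ha⟩, 0; 0, 1]) (by
        rw [Matrix.det_mul, S.2, Matrix.det_fin_two]
        intro h
        simp at h
        exact mul_ne_zero ha0 ha0 (congrArg Subtype.val h))
    refine ⟨A, Subtype.ext (huniq A _ _ (hBR A) ⟨a⁻¹, ?_⟩)⟩
    rw [Matrix.SpecialLinearGroup.coe_mul, hDe]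
    ext i j
    fin_cases i <;> fin_cases j <;>
      simp [A, Matrix.GeneralLinearGroup.mkOfDetNeZero, Matrix.mul_apply, Fin.sum_univ_two, coe_subIncl] <;>
      field_simp
  have hker : f.ker = Subgroup.center (GL (Fin 2) K) := by
    ext A
    rw [MonoidHom.mem_ker, Subtype.ext_iff, Matrix.GeneralLinearGroup.mem_center_iff_val_mem_range_scalar]
    show toPSL (B A) = 1 ↔ _
    obtain ⟨c, hc⟩ := hBR A
    constructor
    · intro h
      have hd : ∃ e : F, (B A : M2) = e • 1 := by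
        rcases toPSL_eq_one.mp h with h | h
        · exact ⟨1, by rw [h]; simp⟩
        · exact ⟨-1, by rw [h]; simp⟩
      obtain ⟨e, he⟩ := hd
      have hc0 : c ≠ 0 := by
        intro h0
        have := (B A).2
        rw [hc, h0, zero_smul, Matrix.det_zero] at this
        exact zero_ne_one this
      have hentry : ∀ i j, c * ((A : Matrix (Fin 2) (Fin 2) K) i j : F) = (e • (1 : M2)) i j := fun i j => by
        rw [← he, hc]; rfl
      refine ⟨(A : Matrix (Fin 2) (Fin 2) K) 0 0, ?_⟩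
      ext i j
      fin_cases i <;> fin_cases j
      · simp
      · have := hentry 0 1; simp [hc0] at this; simp [this]
      · have := hentry 1 0; simp [hc0] at this; simp [this]
      · simp
        exact Subtype.ext (mul_left_cancel₀ hc0 ((hentry 0 0).trans ((by simp : (e • (1 : M2)) 0 0 = (e • (1 : M2)) 1 1).trans (hentry 1 1).symm)))
    · rintro ⟨t, ht⟩
      rw [← map_one (toPSL (F := F))]
      refine huniq A _ _ (hBR A) ⟨(t : F)⁻¹, ?_⟩
      have ht0 : (t : F) ≠ 0 := by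
        intro h
        have h' := A.det_ne_zero
        rw [← ht] at h'
        apply h'
        simp [show t = 0 from Subtype.ext h]
      rw [← ht]
      ext i j
      fin_cases i <;> fin_cases j <;> simp [ht0]
  exact ⟨((QuotientGroup.quotientMulEquivOfEq hker.symm).trans
    (QuotientGroup.quotientKerEquivOfSurjective f hf)).symm⟩

include p in
/-- The image of a subgroup with `r + 1` cells of unipotent type. -/
theorem subfield_image (hZ : Subgroup.center SL2 ≤ G) {u : SL2} {r : ℕ} (hu : u ∈ G)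
    (huZ : u ∉ Subgroup.center SL2) (ht : tr u ^ 2 = 4) (hr : 2 ≤ r)
    (hc : Nat.card (cell G u) = zz * r) (h : Nat.card (cls G u) = r + 1) :
    ∃ K : Subfield F, Nat.card K = r ∧
      (Nonempty (G.map (toPSL : SL2 →* Matrix.ProjectiveSpecialLinearGroup (Fin 2) F) ≃*
          Matrix.ProjectiveSpecialLinearGroup (Fin 2) K) ∨
        Nonempty (G.map (toPSL : SL2 →* Matrix.ProjectiveSpecialLinearGroup (Fin 2) F) ≃*
          Matrix.ProjGenLinGroup (Fin 2) K)) := by
  obtain ⟨ψ, lam, hlam, hup, hlo, hc', hn'⟩ := exists_normal_form G hZ hu huZ ht h (by omega)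
  obtain ⟨K, hK, -, hKu, hKl, hline⟩ := subfield_normal (G.map ψ.toMonoidHom) p (center_le_map G ψ hZ)
    hlam hup hlo (hc'.trans hc) hn'
  obtain ⟨e⟩ := image_equiv G ψ
  refine ⟨K, hK, ?_⟩
  exact (normal_image (G.map ψ.toMonoidHom) hKu hKl hline).imp (fun ⟨e'⟩ => ⟨e.symm.trans e'⟩)
    (fun ⟨e'⟩ => ⟨e.symm.trans e'⟩)

end Cfsg.Agent.Lib.Geometry.Dickson
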