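import Cfsg.Agent.Lib.Geometry.Dickson.Recognize
import Cfsg.Agent.Lib.Geometry.Dickson.Subfield
import Cfsg.Agent.Lib.Geometry.Dickson.Borel

/-!
Dickson's list of the subgroups of `PSL₂(q)`.
-/

set_option autoImplicit false

namespace Cfsg.Agent.Lib.Geometry.Dickson

open Matrix
open scoped Matrix MatrixGroups
open Cfsg.Agent.Lib.SL2Trace (tr toPSL toPSL_surjective toPSL_eq_one mem_center_iff)

variable {F : Type*} [Field F] [Fintype F] (p : ℕ) [Fact p.Prime] [CharP F p]

local notation "PSL2" => Matrix.ProjectiveSpecialLinearGroup (Fin 2) F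

/-- The possible types of a subgroup of `PSL₂`. -/
inductive SubType (H : Subgroup PSL2) : Prop
  | cyclic (k : ℕ) (hk : k ∣ (Fintype.card F + 1) / Nat.gcd 2 (Fintype.card F - 1) ∨
      k ∣ (Fintype.card F - 1) / Nat.gcd 2 (Fintype.card F - 1)) (hc : IsCyclic H) (h : Nat.card H = k)
  | dihedral (k : ℕ) (hk : k ∣ (Fintype.card F + 1) / Nat.gcd 2 (Fintype.card F - 1) ∨
      k ∣ (Fintype.card F - 1) / Nat.gcd 2 (Fintype.card F - 1)) (h : Nonempty (H ≃* DihedralGroup k))
  | borel (S : Sylow p PSL2) (h : H ≤ Subgroup.normalizer ((S : Subgroup PSL2) : Set PSL2))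
  | altFour (h : Nonempty (H ≃* alternatingGroup (Fin 4)))
  | symFour (h : Nonempty (H ≃* Equiv.Perm (Fin 4)))
  | altFive (h : Nonempty (H ≃* alternatingGroup (Fin 5)))
  | subfield (K : Subfield F) (h : Nonempty (H ≃* Matrix.ProjectiveSpecialLinearGroup (Fin 2) K) ∨
      Nonempty (H ≃* Matrix.ProjGenLinGroup (Fin 2) K))

theorem subType (H : Subgroup PSL2) : SubType p H := by
  obtain ⟨G, hG, hmap⟩ : ∃ G : Subgroup (Matrix.SpecialLinearGroup (Fin 2) F),
      Subgroup.center _ ≤ G ∧ G.map toPSL = H :=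
    ⟨H.comap toPSL, fun z hz => by
        rw [Subgroup.mem_comap, show toPSL z = 1 from toPSL_eq_one.mpr (mem_center_iff.mp hz)]; exact H.one_mem,
      Subgroup.map_comap_eq_self_of_surjective toPSL_surjective H⟩
  subst hmap
  rcases shape G p hG with h | ⟨y, hy, hyZ, ht, h⟩ | ⟨y, a, hy, ht, h⟩ | ⟨y, hy, hyZ, ht, h⟩ | ⟨y, hy, ht, h⟩ |
    ⟨y, hy, ht, h⟩ | ⟨y₂, y₃, y₅, h₂, h₃, h₅, hcover, h⟩ | ⟨y, r, k, hy, hyZ, ht, hr, hc, h⟩
  · have hbot : G.map (toPSL : Matrix.SpecialLinearGroup (Fin 2) F →* _) = ⊥ := by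
      rw [eq_bot_iff]
      rintro _ ⟨g, hg, rfl⟩
      exact toPSL_eq_one.mpr (mem_center_iff.mp (h hg))
    refine .cyclic 1 (Or.inl (one_dvd _)) ?_ ?_ <;> rw [hbot]
    · infer_instance
    · exact Subgroup.card_bot
  · obtain ⟨a, -, ha⟩ := two_le_of_notMem G hG hy hyZ
    refine .cyclic a (dvd_of_torus G hG hy hyZ ht ha) (cyclic_image G hyZ ht h) ?_
    rw [h] at ha
    exact card_image G hG ha
  · exact .dihedral a (dvd_of_torus G hG hy.1 hy.2.1 ht hy.2.2.1) (dihedral_image G hG hy ht h)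
  · obtain ⟨S, hS⟩ := borel_image p G hy hyZ ht h
    exact .borel S hS
  · exact .altFour (tetrahedral_image G hG hy ht h)
  · exact .symFour (octahedral_image G hG hy ht h)
  · exact .altFive (icosahedral_image G hG h₂ h₃ h₅ hcover h)
  · obtain ⟨K, -, hK⟩ := subfield_image G p hG hy hyZ ht hr hc h
    exact .subfield K hK

include p in
/-- A field of lowest universe isomorphic to a subfield, with the degree of `F` over it. -/
theorem exists_small_field (K : Subfield F) :
    ∃ (K' : Type) (_ : Field K') (_ : Fintype K') (m : ℕ), 1 ≤ m ∧ Fintype.card K' ^ m = Fintype.card F ∧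
      Fintype.card K' = Nat.card K ∧ Nonempty (K' ≃+* K) := by
  classical
  haveI := Fintype.ofFinite K
  haveI : CharP K p := K.subtype.charP K.subtype.injective p
  obtain ⟨n, -, hn⟩ := FiniteField.card K p
  haveI := Fintype.ofFinite (GaloisField p n)
  have hc : Fintype.card (GaloisField p n) = Fintype.card K := by
    rw [← Nat.card_eq_fintype_card, GaloisField.card p n n.ne_zero, hn]
  refine ⟨GaloisField p n, inferInstance, inferInstance, Module.finrank K F, Module.finrank_pos, ?_, ?_,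
    ⟨FiniteField.ringEquivOfCardEq hc⟩⟩
  · rw [hc]; exact (Module.card_eq_pow_finrank (K := K) (V := F)).symm
  · rw [hc, Nat.card_eq_fintype_card]

/-- Isomorphic fields have isomorphic `PGL₂`. -/
noncomputable def pglCongr {K K' : Type*} [Field K] [Field K'] (e : K ≃+* K') :
    Matrix.ProjGenLinGroup (Fin 2) K ≃* Matrix.ProjGenLinGroup (Fin 2) K' :=
  Cfsg.Agent.Lib.Classical.centralQuotientCongr (Units.mapEquiv (e.mapMatrix (m := Fin 2)).toMulEquiv)

end Cfsg.Agent.Lib.Geometry.Dickson
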