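import Cfsg.Agent.Lib.Geometry.Dickson.Tori

/-!
Maximality of the normalisers of tori.
-/

set_option autoImplicit false

namespace Cfsg.Agent.Lib.Geometry.Dickson

open Matrix
open scoped Matrix MatrixGroups
open Cfsg.Agent.Lib.SL2Trace (tr toPSL)

variable {F : Type*} [Field F] [Fintype F] (p : ℕ) [Fact p.Prime] [CharP F p]

local notation "SL2" => Matrix.SpecialLinearGroup (Fin 2) F
local notation "PSL2" => Matrix.ProjectiveSpecialLinearGroup (Fin 2) F

theorem no_index_two_alt4 (H : Subgroup (alternatingGroup (Fin 4))) : H.index ≠ 2 := by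
  classical
  intro h
  have hsub : (Finset.univ.filter fun x : alternatingGroup (Fin 4) => x ^ 3 = 1) ⊆ Finset.univ.filter (· ∈ H) := by
    intro x hx
    rw [Finset.mem_filter] at hx ⊢
    refine ⟨Finset.mem_univ _, ?_⟩
    have : x = (x * x) * (x * x) := by
      calc x = x ^ 3 * x := by rw [hx.2, one_mul]
        _ = (x * x) * (x * x) := by simp [pow_succ, mul_assoc]
    rw [this]
    exact H.mul_mem (Subgroup.mul_self_mem_of_index_two h x) (Subgroup.mul_self_mem_of_index_two h x)
  have hle := Finset.card_le_card hsub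
  rw [show (Finset.univ.filter fun x : alternatingGroup (Fin 4) => x ^ 3 = 1).card = 9 by decide,
    ← Fintype.card_subtype, ← Nat.card_eq_fintype_card] at hle
  have h12 : Nat.card (alternatingGroup (Fin 4)) = 12 := by rw [Nat.card_eq_fintype_card]; decide
  have hm := H.card_mul_index
  rw [h, h12] at hm
  omega

theorem orders_alt4 : ∀ x : alternatingGroup (Fin 4), x ^ 2 = 1 ∨ x ^ 3 = 1 := by decide +kernel

theorem orders_sym4 : ∀ x : Equiv.Perm (Fin 4), x ^ 3 = 1 ∨ x ^ 4 = 1 := by decide +kernel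

theorem orders_alt5 : ∀ x : alternatingGroup (Fin 5), x ^ 2 = 1 ∨ x ^ 3 = 1 ∨ x ^ 5 = 1 := by decide +kernel

include p in
/-- An involution normalising a Sylow `2`-subgroup lies in it. -/
theorem mem_sylow_of_sq (hp : p = 2) (S : Sylow p PSL2) {x : PSL2}
    (hx : x ∈ Subgroup.normalizer ((S : Subgroup PSL2) : Set PSL2)) (h2 : x ^ p = 1) : x ∈ (S : Subgroup PSL2) := by
  have hcyc : IsPGroup p (Subgroup.zpowers x) := by
    rintro ⟨_, i, rfl⟩
    refine ⟨1, Subtype.ext ?_⟩
    show (x ^ i) ^ (p ^ 1) = 1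
    rw [pow_one, ← zpow_natCast, ← _root_.zpow_mul, mul_comm, _root_.zpow_mul, zpow_natCast, h2, _root_.one_zpow]
  have hle : Subgroup.zpowers x ≤ Subgroup.normalizer ((S : Subgroup PSL2) : Set PSL2) := by
    rwa [Subgroup.zpowers_le]
  have hsup := IsPGroup.to_sup_of_normal_right' hcyc S.2 hle
  have := S.3 hsup le_sup_right
  rw [← this]
  exact Subgroup.mem_sup_left (Subgroup.mem_zpowers x)

include p in
/-- The normaliser of a maximal torus is a maximal subgroup. -/
theorem isCoatom_torusNorm {y : SL2} (hy : y ∉ Subgroup.center SL2) (ht : tr y ^ 2 ≠ 4) {m : ℕ}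
    (hm : Nat.card (cell ⊤ y) = Nat.card (Subgroup.center SL2) * m)
    (hq : (Nat.gcd 2 (Fintype.card F - 1) * m = Fintype.card F + 1 ∧ Fintype.card F ∉ ({2, 7, 9} : Finset ℕ)) ∨
      (Nat.gcd 2 (Fintype.card F - 1) * m = Fintype.card F - 1 ∧
        Fintype.card F ∉ ({2, 3, 5, 7, 9, 11} : Finset ℕ))) :
    IsCoatom (torusNorm y) := by
  classical
  set q := Fintype.card F with hqdef
  set d := Nat.gcd 2 (q - 1)
  simp only [Finset.mem_insert, Finset.mem_singleton, not_or] at hq
  obtain ⟨⟨eN⟩, x, hxN, hxo⟩ := torusNorm_data hy ht hm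
  set N := torusNorm y
  have hNc : Nat.card N = 2 * m := by rw [Nat.card_congr eN.toEquiv, DihedralGroup.nat_card]
  have hq2 : 2 ≤ q := Fintype.one_lt_card
  have hd : d = 1 ∨ d = 2 := by
    have := Nat.le_of_dvd two_pos (Nat.gcd_dvd_left 2 (q - 1))
    have : 0 < d := Nat.gcd_pos_of_pos_left _ two_pos
    omega
  have hdpar : (q % 2 = 1 → d = 2) ∧ (q % 2 = 0 → d = 1) := by
    constructor
    · intro h
      exact Nat.gcd_eq_left (Nat.dvd_iff_mod_eq_zero.mpr (by omega))
    · intro h
      rcases hd with h' | h'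
      · exact h'
      · have h2 : 2 ∣ q - 1 := h' ▸ Nat.gcd_dvd_right 2 (q - 1)
        omega
  have hm1 : 1 ≤ m := by
    rcases Nat.eq_zero_or_pos m with rfl | h
    · rw [mul_zero] at hm; exact absurd hm Nat.card_pos.ne'
    · exact h
  have hG : d * Nat.card PSL2 = q * ((q - 1) * (q + 1)) := card_PSL2
  refine ⟨fun htop => ?_, fun K hK => by_contra fun hKtop => ?_⟩
  · have h1 : Nat.card PSL2 = 2 * m := by rw [← hNc, htop, Subgroup.card_top]
    rw [h1, show d * (2 * m) = 2 * (d * m) by ring] at hG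
    have h3 : 3 ≤ q := by omega
    have h2 : 3 * ((3 - 1) * (q + 1)) ≤ q * ((q - 1) * (q + 1)) :=
      Nat.mul_le_mul h3 (Nat.mul_le_mul_right _ (by omega))
    omega
  obtain ⟨j, hj⟩ : 2 * m ∣ Nat.card K := hNc ▸ Subgroup.card_dvd_of_le hK.le
  have hlt : Nat.card N < Nat.card K := by
    by_contra hle
    exact hK.ne (Subgroup.eq_of_le_of_card_ge hK.le (by omega))
  have hj2 : 2 ≤ j := by
    by_contra h
    interval_cases j <;> omega
  have hK4 : 4 * m ≤ Nat.card K := by rw [hj]; nlinarith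
  have hKlt : Nat.card K < Nat.card PSL2 := by
    by_contra hle
    exact hKtop (Subgroup.eq_top_of_le_card K (by omega))
  have hxK : x ∈ K := hK.le hxN
  obtain ⟨i, hi⟩ := K.card_subgroup_dvd_card
  have hk : ∀ k, (k ∣ (q + 1) / d ∨ k ∣ (q - 1) / d) → 0 < k → d * k ≤ q + 1 := by
    intro k hk hk0
    have hdm := Nat.mul_div_le (q + 1) d
    have hdm' := Nat.mul_div_le (q - 1) d
    rcases hk with hk | hk
    · rcases Nat.eq_zero_or_pos ((q + 1) / d) with h0 | h0
      · rcases hd with h | h <;> rw [h] at h0 <;> omega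
      · exact (Nat.mul_le_mul_left d (Nat.le_of_dvd h0 hk)).trans hdm
    · rcases Nat.eq_zero_or_pos ((q - 1) / d) with h0 | h0
      · rcases hd with h | h <;> rw [h] at h0 <;> omega
      · exact (Nat.mul_le_mul_left d (Nat.le_of_dvd h0 hk)).trans (by omega)
  rcases subType p K with ⟨k, hkd, -, h⟩ | ⟨k, hkd, ⟨e⟩⟩ | ⟨S, h⟩ | ⟨⟨e⟩⟩ | ⟨⟨e⟩⟩ | ⟨⟨e⟩⟩ | ⟨L, hL⟩
  · have h1 := hk k hkd (h ▸ Nat.card_pos)
    have h2 : d * (4 * m) ≤ d * k := Nat.mul_le_mul_left d (h ▸ hK4)
    rw [show d * (4 * m) = 4 * (d * m) by ring] at h2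
    omega
  · have h := Nat.card_congr e.toEquiv
    rw [DihedralGroup.nat_card] at h
    have h1 := hk k hkd (by omega)
    have h2 : d * (2 * m) ≤ d * k := Nat.mul_le_mul_left d (by omega)
    rw [show d * (2 * m) = 2 * (d * m) by ring] at h2
    omega
  · have hN := index_normalizer_sylow p S
    have hc := (Subgroup.normalizer ((S : Subgroup PSL2) : Set PSL2)).card_mul_index
    rw [hN, ← hqdef] at hc
    have h1 : d * Nat.card (Subgroup.normalizer ((S : Subgroup PSL2) : Set PSL2)) = q * (q - 1) := by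
      refine Nat.eq_of_mul_eq_mul_right (show 0 < q + 1 by omega) ?_
      rw [mul_assoc, hc, hG]
      ring
    have h2 : d * (2 * m) ∣ q * (q - 1) :=
      h1 ▸ mul_dvd_mul_left d ((hNc ▸ Subgroup.card_dvd_of_le hK.le).trans (Subgroup.card_dvd_of_le h))
    rw [show d * (2 * m) = 2 * (d * m) by ring] at h2
    rcases hq with ⟨hdm, hq⟩ | ⟨hdm, hq⟩
    · rw [hdm] at h2
      have h3 : q + 1 ∣ q * (q - 1) := (dvd_mul_left _ 2).trans h2
      obtain ⟨a, ha⟩ : ∃ a, q = a + 2 := ⟨q - 2, by omega⟩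
      rw [ha, show (a + 2) * (a + 2 - 1) = (a + 2 + 1) * a + 2 by
        rw [show a + 2 - 1 = a + 1 from rfl]; ring] at h3
      have := Nat.le_of_dvd two_pos ((Nat.dvd_add_right (dvd_mul_right _ _)).mp h3)
      omega
    · rw [hdm] at h2
      have hqe : 2 ∣ q := by
        obtain ⟨a, ha⟩ := h2
        refine ⟨a, Nat.eq_of_mul_eq_mul_right (show 0 < q - 1 by omega) ?_⟩
        rw [ha]; ring
      have hp2 : p = 2 := by
        obtain ⟨n, -, hn⟩ := FiniteField.card F p
        rw [hqdef, hn] at hqe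
        exact ((Nat.prime_dvd_prime_iff_eq Nat.prime_two Fact.out).mp (Nat.prime_two.dvd_of_dvd_pow hqe)).symm
      have hd1 : d = 1 := hdpar.2 (Nat.dvd_iff_mod_eq_zero.mp hqe)
      rw [hd1, one_mul] at hdm
      have hmem : ∀ i : ZMod m, ((eN.symm (DihedralGroup.sr i) : N) : PSL2) ∈ (S : Subgroup PSL2) := fun i => by
        refine mem_sylow_of_sq p hp2 S (h (hK.le (SetLike.coe_mem _))) ?_
        rw [hp2, sq, ← Subgroup.coe_mul, ← map_mul, DihedralGroup.sr_mul_self, map_one, Subgroup.coe_one]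
      have hr : ((eN.symm (DihedralGroup.r 1) : N) : PSL2) ∈ (S : Subgroup PSL2) := by
        have := Subgroup.mul_mem _ (hmem 0) (hmem 1)
        rwa [← Subgroup.coe_mul, ← map_mul, DihedralGroup.sr_mul_sr, sub_zero] at this
      obtain ⟨t, ht'⟩ := S.2 ⟨_, hr⟩
      have ho : orderOf ((eN.symm (DihedralGroup.r 1) : N) : PSL2) = m := by
        rw [Subgroup.orderOf_coe, MulEquiv.orderOf_eq, DihedralGroup.orderOf_r_one]
      have h4 : orderOf ((eN.symm (DihedralGroup.r 1) : N) : PSL2) ∣ p ^ t :=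
        orderOf_dvd_of_pow_eq_one (congrArg Subtype.val ht')
      rw [ho, hp2] at h4
      have hodd : Nat.Coprime m (2 ^ t) := by
        refine Nat.Coprime.pow_right _ ?_
        rw [Nat.coprime_two_right, Nat.odd_iff]
        omega
      have := Nat.eq_one_of_dvd_coprimes hodd dvd_rfl h4
      omega
  · have hc : Nat.card K = 12 := by rw [Nat.card_congr e.toEquiv, Nat.card_eq_fintype_card]; decide
    have hm3 : m ≠ 3 := by
      rintro rfl
      have h := (N.subgroupOf K).card_mul_index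
      rw [Nat.card_congr (Subgroup.subgroupOfEquivOfLe hK.le).toEquiv, hNc, hc] at h
      have hidx : ((N.subgroupOf K).map e.toMonoidHom).index = (N.subgroupOf K).index :=
        Subgroup.index_map_equiv _ e
      exact no_index_two_alt4 _ (by rw [hidx]; omega)
    have hm3' : m ≤ 3 := by omega
    rw [hc] at hi
    have hqb : q ≤ 7 := by rcases hd with h | h <;> rw [h] at hq <;> omega
    interval_cases q <;> rcases hd with h | h <;> rw [h] at hG hq hdpar <;> omega
  · have hc : Nat.card K = 24 := by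
      rw [Nat.card_congr e.toEquiv, Nat.card_eq_fintype_card, Fintype.card_perm]; decide
    have hm4 : m ≤ 4 := by
      rw [← hxo, ← Subgroup.orderOf_mk x hxK, ← e.orderOf_eq]
      rcases orders_sym4 (e ⟨x, hxK⟩) with h | h <;>
        exact le_trans (Nat.le_of_dvd (by norm_num) (orderOf_dvd_of_pow_eq_one h)) (by norm_num)
    have hqb : q ≤ 9 := by rcases hd with h | h <;> rw [h] at hq <;> omega
    rw [hc] at hi
    interval_cases q <;> rcases hd with h | h <;> rw [h] at hG hq hdpar <;> omega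
  · have hc : Nat.card K = 60 := by rw [Nat.card_congr e.toEquiv, Nat.card_eq_fintype_card]; decide
    have hm5 : m ≤ 5 := by
      rw [← hxo, ← Subgroup.orderOf_mk x hxK, ← e.orderOf_eq]
      rcases orders_alt5 (e ⟨x, hxK⟩) with h | h | h <;>
        exact le_trans (Nat.le_of_dvd (by norm_num) (orderOf_dvd_of_pow_eq_one h)) (by norm_num)
    have hqb : q ≤ 11 := by rcases hd with h | h <;> rw [h] at hq <;> omega
    rw [hc] at hi
    interval_cases q <;> rcases hd with h | h <;> rw [h] at hG hq hdpar <;> omega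
  · have hLt : L ≠ ⊤ := fun h => hKtop (eq_top_of_subfield_top L h hL)
    have h1 := sq_le_of_subfield L hLt
    rw [← hqdef] at h1
    have h2 := subfield_orderOf_le L hL hxK
    rw [hxo] at h2
    have h3 := card_le_of_subfield L hL
    haveI := Fintype.ofFinite L
    have hdiv : Nat.card L ∣ q := by
      rw [hqdef, Nat.card_eq_fintype_card, Module.card_eq_pow_finrank (K := L) (V := F)]
      exact dvd_pow_self _ (Module.finrank_pos (R := L) (M := F)).ne'
    set r := Nat.card L with hr
    have hr2 : 2 ≤ r := by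
      haveI : Nontrivial L := inferInstance
      exact Finite.one_lt_card
    have h4 : d * m ≤ d * (r + 1) := Nat.mul_le_mul_left d h2
    rcases Nat.lt_or_ge r 4 with hr4 | hr4
    · obtain ⟨a, ha⟩ := hdiv
      interval_cases r <;> rcases hd with h | h <;> rw [h] at hq hdpar h4 <;> omega
    · have h5 : 4 * r ≤ r ^ 2 := by rw [sq]; exact Nat.mul_le_mul_right r hr4
      rcases hd with h | h <;> rw [h] at hq h4 <;> omega

end Cfsg.Agent.Lib.Geometry.Dickson
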