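import Cfsg.Agent.Lib.Geometry.Dickson.Subfield

/-!
A subgroup of `SL₂` whose traces lie in a subfield is conjugate into the group of that subfield.
-/

set_option autoImplicit false

namespace Cfsg.Agent.Lib.Geometry.Dickson

open Matrix
open scoped Matrix MatrixGroups
open Cfsg.Agent.Lib.SL2Trace (tr tr_eq det_eq sq_eq comp companion_eq mem_center_iff)

variable {F : Type*} [Field F]

local notation "SL2" => Matrix.SpecialLinearGroup (Fin 2) F
local notation "M2" => Matrix (Fin 2) (Fin 2) F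

/-- The elements that are a scalar multiple of a matrix over `K`. -/
def projSub (K : Subfield F) : Subgroup SL2 where
  carrier := {g | ∃ c : F, c ≠ 0 ∧ ∀ i j, c * (g : M2) i j ∈ K}
  one_mem' := ⟨1, one_ne_zero, fun i j => by fin_cases i <;> fin_cases j <;> simp [one_mem, zero_mem]⟩
  mul_mem' := by
    rintro g h ⟨c, hc, hg⟩ ⟨d, hd, hh⟩
    refine ⟨c * d, mul_ne_zero hc hd, fun i j => ?_⟩
    rw [Matrix.SpecialLinearGroup.coe_mul, Matrix.mul_apply, Finset.mul_sum]
    refine sum_mem fun k _ => ?_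
    rw [mul_mul_mul_comm]
    exact mul_mem (hg i k) (hh k j)
  inv_mem' := by
    rintro g ⟨c, hc, hg⟩
    refine ⟨c, hc, fun i j => ?_⟩
    rw [Matrix.SpecialLinearGroup.coe_inv, Matrix.adjugate_fin_two]
    fin_cases i <;> fin_cases j <;> simp [hg, neg_mem]

theorem mem_projSub {K : Subfield F} {g : SL2} :
    g ∈ projSub K ↔ ∃ c : F, c ≠ 0 ∧ ∀ i j, c * (g : M2) i j ∈ K := Iff.rfl

theorem projSub_mono {K L : Subfield F} (h : K ≤ L) : projSub K ≤ projSub L :=
  fun _ ⟨c, hc, hg⟩ => ⟨c, hc, fun i j => h (hg i j)⟩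

theorem center_le_projSub (K : Subfield F) : Subgroup.center SL2 ≤ projSub K := fun z hz => by
  refine ⟨1, one_ne_zero, fun i j => ?_⟩
  rcases mem_center_iff.mp hz with rfl | rfl <;>
    fin_cases i <;> fin_cases j <;> simp [one_mem, zero_mem, neg_mem]

theorem upper_mem_projSub {K : Subfield F} {x : F} : upper x ∈ projSub K ↔ x ∈ K := by
  constructor
  · rintro ⟨c, hc, hg⟩
    have h0 := hg 0 0
    have h1 := hg 0 1
    simp [coe_upper] at h0 h1
    simpa [hc] using div_mem h1 h0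
  · refine fun hx => ⟨1, one_ne_zero, fun i j => ?_⟩
    fin_cases i <;> fin_cases j <;> simp [coe_upper, one_mem, zero_mem, hx]

theorem lower_mem_projSub {K : Subfield F} {x : F} : lower x ∈ projSub K ↔ x ∈ K := by
  constructor
  · rintro ⟨c, hc, hg⟩
    have h0 := hg 0 0
    have h1 := hg 1 0
    simp [coe_lower] at h0 h1
    simpa [hc] using div_mem h1 h0
  · refine fun hx => ⟨1, one_ne_zero, fun i j => ?_⟩
    fin_cases i <;> fin_cases j <;> simp [coe_lower, one_mem, zero_mem, hx]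

theorem line_mem_projSub {K : Subfield F} {g : SL2} (hg : g ∈ projSub K) :
    (g : M2) 0 0 / (g : M2) 1 0 ∈ K := by
  obtain ⟨c, hc, h⟩ := hg
  simpa [mul_div_mul_left _ _ hc] using div_mem (h 0 0) (h 1 0)

theorem tr_glConj (P : GL (Fin 2) F) (g : SL2) : tr (glConj P g) = tr g := by
  show (((P⁻¹ : GL (Fin 2) F) : M2) * (g : M2) * (P : M2)).trace = _
  rw [Matrix.trace_mul_comm, ← mul_assoc, ← Units.val_mul, mul_inv_cancel, Units.val_one, one_mul]
  rfl

theorem tr_commutator_of_tr_zero (X Y : SL2) (hX : tr X = 0) :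
    tr (X * Y * X⁻¹ * Y⁻¹) = tr Y ^ 2 + tr (X * Y) ^ 2 - 2 := by
  have hXi : ((X⁻¹ : SL2) : M2) = -(X : M2) := by rw [coe_inv_eq, hX, zero_smul, zero_sub]
  have hxx : (X : M2) * X = -1 := by rw [sq_eq, hX, zero_smul, zero_sub]
  have hxyxy := sq_eq (X * Y)
  rw [Matrix.SpecialLinearGroup.coe_mul] at hxyxy
  have hxyx : ((X : M2) * Y * X).trace = -tr Y := by
    rw [Matrix.trace_mul_comm, ← mul_assoc, hxx, neg_one_mul, Matrix.trace_neg]; rfl
  show ((X * Y * X⁻¹ * Y⁻¹ : SL2) : M2).trace = _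
  rw [Matrix.SpecialLinearGroup.coe_mul, Matrix.SpecialLinearGroup.coe_mul, Matrix.SpecialLinearGroup.coe_mul,
    hXi, coe_inv_eq Y, Matrix.mul_neg, Matrix.neg_mul, Matrix.mul_sub, Matrix.mul_smul, mul_one,
    show (X : M2) * Y * X * Y = (X : M2) * Y * ((X : M2) * Y) by rw [mul_assoc], hxyxy]
  simp only [Matrix.trace_neg, Matrix.trace_sub, Matrix.trace_smul, Matrix.trace_one, hxyx, smul_eq_mul,
    Fintype.card_fin]
  show _ = tr Y ^ 2 + tr (X * Y) ^ 2 - 2
  rw [show ((X : M2) * Y).trace = tr (X * Y) from rfl]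
  push_cast
  ring

/-- A matrix with enough traces in `K` has entries in `K`. -/
theorem entries_mem {K : Subfield F} {a b c s : F} (ha : a ∈ K) (hb : b ∈ K) (hc : c ∈ K) (hs : s ∈ K)
    (hk : (2 * a - s) ^ 2 + (b + c) ^ 2 ≠ 0) (N : M2) (h1 : N.trace ∈ K)
    (h2 : ((!![0, -1; 1, 0] : M2) * N).trace ∈ K) (h3 : ((!![a, b; c, s - a] : M2) * N).trace ∈ K)
    (h4 : ((!![0, -1; 1, 0] : M2) * !![a, b; c, s - a] * N).trace ∈ K) (i j : Fin 2) : N i j ∈ K := by
  rw [Matrix.eta_fin_two N] at h1 h2 h3 h4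
  rw [Matrix.trace_fin_two_of] at h1
  rw [Matrix.mul_fin_two, Matrix.trace_fin_two_of] at h2 h3
  rw [Matrix.mul_fin_two, Matrix.mul_fin_two, Matrix.trace_fin_two_of] at h4
  set γ := a * N 0 0 + b * N 1 0 + (c * N 0 1 + (s - a) * N 1 1)
  set δ := (0 * a + -1 * c) * N 0 0 + (0 * b + -1 * (s - a)) * N 1 0 +
    ((1 * a + 0 * c) * N 0 1 + (1 * b + 0 * (s - a)) * N 1 1)
  set α := N 0 0 + N 1 1
  set β := 0 * N 0 0 + -1 * N 1 0 + (1 * N 0 1 + 0 * N 1 1)
  have h2m : (2 : F) ∈ K := ofNat_mem K 2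
  have e1 : (2 * a - s) * N 0 0 + (b + c) * N 1 0 = γ - c * β - (s - a) * α := by ring
  have e2 : -(b + c) * N 0 0 + (2 * a - s) * N 1 0 = δ - a * β - b * α := by ring
  have k1 : γ - c * β - (s - a) * α ∈ K :=
    sub_mem (sub_mem h3 (mul_mem hc h2)) (mul_mem (sub_mem hs ha) h1)
  have k2 : δ - a * β - b * α ∈ K := sub_mem (sub_mem h4 (mul_mem ha h2)) (mul_mem hb h1)
  have kA : 2 * a - s ∈ K := sub_mem (mul_mem h2m ha) hs
  have kB : b + c ∈ K := add_mem hb hc
  have m00 : N 0 0 ∈ K := by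
    rw [show N 0 0 = ((2 * a - s) * (γ - c * β - (s - a) * α) - (b + c) * (δ - a * β - b * α)) /
      ((2 * a - s) ^ 2 + (b + c) ^ 2) by rw [← e1, ← e2, eq_div_iff hk]; ring]
    exact div_mem (sub_mem (mul_mem kA k1) (mul_mem kB k2)) (add_mem (pow_mem kA 2) (pow_mem kB 2))
  have m10 : N 1 0 ∈ K := by
    rw [show N 1 0 = ((b + c) * (γ - c * β - (s - a) * α) + (2 * a - s) * (δ - a * β - b * α)) /
      ((2 * a - s) ^ 2 + (b + c) ^ 2) by rw [← e1, ← e2, eq_div_iff hk]; ring]
    exact div_mem (add_mem (mul_mem kB k1) (mul_mem kA k2)) (add_mem (pow_mem kA 2) (pow_mem kB 2))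
  have m11 : N 1 1 ∈ K := by rw [show N 1 1 = α - N 0 0 by ring]; exact sub_mem h1 m00
  have m01 : N 0 1 ∈ K := by rw [show N 0 1 = β + N 1 0 by ring]; exact add_mem h2 m10
  fin_cases i <;> fin_cases j <;> assumption

variable [Fintype F]

/-- A vector `v` on which `Y` has coordinates in `K` with respect to `v`, `X v`. -/
theorem exists_frame (K : Subfield F) {X Y : SL2} (hX : tr X = 0) (hs : tr Y ∈ K) (hu : tr (X * Y) ∈ K)
    (hk : tr Y ^ 2 + tr (X * Y) ^ 2 ≠ 4) :
    ∃ (a c : F) (v : Fin 2 → F), a ∈ K ∧ c ∈ K ∧ v ≠ 0 ∧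
      (Y : M2) *ᵥ v = a • v + c • ((X : M2) *ᵥ v) := by
  classical
  set s := tr Y with hsdef
  set u := tr (X * Y) with hudef
  obtain ⟨a, c, ha, hc, hf⟩ : ∃ a c : F, a ∈ K ∧ c ∈ K ∧ a ^ 2 + c ^ 2 - s * a + u * c + 1 = 0 := by
    haveI := Fintype.ofFinite K
    by_cases h2 : (2 : F) = 0
    · have hne : s + u ≠ 0 := fun h => hk (by
        linear_combination (s + u) * h + (-s * u - 2) * h2)
      refine ⟨(s + u)⁻¹, (s + u)⁻¹, inv_mem (add_mem hs hu), inv_mem (add_mem hs hu), ?_⟩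
      field_simp
      linear_combination (1 + u * (s + u)) * h2
    · have hK2 : ringChar K ≠ 2 := fun h => h2 (by
        haveI : CharP K 2 := ringChar.of_eq h
        haveI : CharP F 2 := RingHom.charP_iff K.subtype K.subtype.injective 2 |>.mp ‹_›
        exact CharTwo.two_eq_zero)
      obtain ⟨a, c, h⟩ := FiniteField.exists_root_sum_quadratic
        (f := Polynomial.C (1 : K) * Polynomial.X ^ 2 + Polynomial.C (-(⟨s, hs⟩ : K)) * Polynomial.X + Polynomial.C 1)
        (g := Polynomial.C (1 : K) * Polynomial.X ^ 2 + Polynomial.C (⟨u, hu⟩ : K) * Polynomial.X + Polynomial.C 0)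
        (Polynomial.degree_quadratic one_ne_zero) (Polynomial.degree_quadratic one_ne_zero)
        (by rw [Nat.odd_iff.mp (Nat.odd_iff.mpr (FiniteField.odd_card_of_char_ne_two hK2))])
      refine ⟨a, c, a.2, c.2, ?_⟩
      simp only [Polynomial.eval_add, Polynomial.eval_mul, Polynomial.eval_C, Polynomial.eval_pow,
        Polynomial.eval_X] at h
      have h' := congrArg Subtype.val h
      push_cast at h'
      linear_combination h'
  obtain ⟨v, hv, hvz⟩ : ∃ v : Fin 2 → F, v ≠ 0 ∧ ((Y : M2) - a • 1 - c • (X : M2)) *ᵥ v = 0 := by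
    refine Matrix.exists_mulVec_eq_zero_iff.mpr ?_
    have hdX := det_eq X
    have hdY := det_eq Y
    rw [tr_eq] at hX
    simp only [hsdef, hudef, tr_eq, Matrix.SpecialLinearGroup.coe_mul, Matrix.mul_apply, Fin.sum_univ_two] at hf
    simp [Matrix.det_fin_two]
    linear_combination hf + hdY + c ^ 2 * hdX + (a * c - c * ((Y : M2) 0 0 + (Y : M2) 1 1)) * hX
  refine ⟨a, c, v, ha, hc, hv, ?_⟩
  rw [Matrix.sub_mulVec, Matrix.sub_mulVec, Matrix.smul_mulVec, Matrix.smul_mulVec, Matrix.one_mulVec] at hvz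
  rw [← sub_eq_zero, ← hvz]
  abel

set_option maxHeartbeats 1000000 in
/-- The trace field realises the group. -/
theorem trace_field_conj (G G₀ : Subgroup SL2) (hn : ∀ g ∈ G, ∀ h ∈ G₀, g⁻¹ * h * g ∈ G₀) (K : Subfield F)
    (htr : ∀ h ∈ G₀, tr h ∈ K) {X Y : SL2} (hXG : X ∈ G₀) (hYG : Y ∈ G₀) (hX : tr X = 0)
    (hk : tr Y ^ 2 + tr (X * Y) ^ 2 ≠ 4) : ∃ ψ : SL2 ≃* SL2, G.map ψ.toMonoidHom ≤ projSub K := by
  classical
  obtain ⟨a, c, v, ha, hc, hv, hY⟩ := exists_frame K hX (htr Y hYG) (htr _ (G₀.mul_mem hXG hYG)) hk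
  set Pm : M2 := !![v 0, X 0 0 * v 0 + X 0 1 * v 1; v 1, X 1 0 * v 0 + X 1 1 * v 1] with hPm
  have hdet : Pm.det ≠ 0 := by
    intro h
    rw [hPm, Matrix.det_fin_two] at h
    simp at h
    obtain ⟨r, hr⟩ : ∃ r : F, (X : M2) *ᵥ v = r • v := by
      by_cases h0 : v 0 = 0
      · have h1 : v 1 ≠ 0 := fun h1 => hv (by ext i; fin_cases i <;> assumption)
        refine ⟨(X 1 0 * v 0 + X 1 1 * v 1) / v 1, ?_⟩
        ext i
        fin_cases i <;> simp [Matrix.mulVec, dotProduct, Fin.sum_univ_two] <;> field_simp <;>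
          first | linear_combination -h | linear_combination h | ring1
      · refine ⟨(X 0 0 * v 0 + X 0 1 * v 1) / v 0, ?_⟩
        ext i
        fin_cases i <;> simp [Matrix.mulVec, dotProduct, Fin.sum_univ_two] <;> field_simp <;>
          first | linear_combination -h | linear_combination h | ring1
    rw [hr, smul_smul, ← add_smul] at hY
    set d := a + c * r
    have hXY : ((X * Y : SL2) : M2) *ᵥ v = (d * r) • v := by
      rw [Matrix.SpecialLinearGroup.coe_mul, ← Matrix.mulVec_mulVec, hY, Matrix.mulVec_smul, hr, smul_smul]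
    have key : ∀ (g : SL2) (e : F), (g : M2) *ᵥ v = e • v → e * e = tr g * e - 1 := fun g e hg => by
      refine smul_left_cancel_vec hv ?_
      have h := congrArg (fun A : M2 => A *ᵥ v) (sq_eq g)
      simp only [← Matrix.mulVec_mulVec, hg, Matrix.mulVec_smul, Matrix.sub_mulVec, Matrix.smul_mulVec,
        Matrix.one_mulVec, smul_smul] at h
      rw [h, sub_smul, one_smul]
    have e1 := key X r hr
    have e2 := key Y d hY
    have e3 := key _ _ hXY
    rw [hX] at e1
    have hd : d ≠ 0 := fun h => by rw [h] at e2; simp at e2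
    apply hk
    refine mul_right_cancel₀ (mul_ne_zero hd hd) ?_
    linear_combination (-(tr Y * d + d * d + 1)) * e2 + (tr (X * Y) * d * r + 1 - d * d) * e3 +
      (tr (X * Y) ^ 2 * d * d - d * d * (tr (X * Y) * d * r + 1 - d * d)) * e1
  let P : GL (Fin 2) F := Matrix.GeneralLinearGroup.mkOfDetNeZero Pm hdet
  have hinv : ((P⁻¹ : GL (Fin 2) F) : M2) * Pm = 1 := Units.inv_mul P
  have hJ : (glConj P X : M2) = !![0, -1; 1, 0] := by
    show ((P⁻¹ : GL (Fin 2) F) : M2) * (X : M2) * Pm = _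
    rw [mul_assoc, companion_eq X v, ← mul_assoc, hinv, one_mul, hX]
    rfl
  set Y' := glConj P Y with hY'
  have hcol : (Y' : M2) *ᵥ ![1, 0] = ![a, c] := by
    show (((P⁻¹ : GL (Fin 2) F) : M2) * (Y : M2) * Pm) *ᵥ ![1, 0] = _
    rw [← Matrix.mulVec_mulVec, ← Matrix.mulVec_mulVec, show Pm *ᵥ ![1, 0] = v from by
        ext i; fin_cases i <;> simp [hPm], hY,
      show a • v + c • ((X : M2) *ᵥ v) = Pm *ᵥ ![a, c] from by
        ext i; fin_cases i <;> simp [hPm, Matrix.mulVec, dotProduct, Fin.sum_univ_two] <;> ring,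
      Matrix.mulVec_mulVec, hinv, Matrix.one_mulVec]
  set b := tr (X * Y) + c with hb
  have hYe : (Y' : M2) = !![a, b; c, tr Y - a] := by
    have h0 := congrFun hcol 0
    have h1 := congrFun hcol 1
    have ht : tr Y' = tr Y := tr_glConj P Y
    have hu : tr (glConj P X * Y') = tr (X * Y) := by rw [hY', ← map_mul, tr_glConj]
    simp [Matrix.mulVec, dotProduct, Fin.sum_univ_two] at h0 h1
    rw [tr_eq] at ht hu
    rw [Matrix.SpecialLinearGroup.coe_mul, hJ] at hu
    simp [Matrix.mul_apply, Fin.sum_univ_two] at hu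
    ext i j
    fin_cases i <;> fin_cases j <;> simp [h0, h1]
    · rw [hb]; linear_combination hu + h1
    · linear_combination ht - h0
  have hdetY := det_eq Y'
  rw [hYe] at hdetY
  simp at hdetY
  have hκ : (2 * a - tr Y) ^ 2 + (b + c) ^ 2 ≠ 0 := fun h => hk (by
    rw [hb] at h hdetY
    linear_combination h + 4 * hdetY)
  have hbK : b ∈ K := add_mem (htr _ (G₀.mul_mem hXG hYG)) hc
  have hent : ∀ h ∈ G₀, ∀ i j, (glConj P h : M2) i j ∈ K := fun h hh => by
    refine entries_mem ha hbK hc (htr Y hYG) hκ _ ?_ ?_ ?_ ?_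
    · show tr (glConj P h) ∈ K
      rw [tr_glConj]; exact htr h hh
    · rw [← hJ, ← Matrix.SpecialLinearGroup.coe_mul]
      show tr (glConj P X * glConj P h) ∈ K
      rw [← map_mul, tr_glConj]; exact htr _ (G₀.mul_mem hXG hh)
    · rw [← hYe, ← Matrix.SpecialLinearGroup.coe_mul]
      show tr (glConj P Y * glConj P h) ∈ K
      rw [← map_mul, tr_glConj]; exact htr _ (G₀.mul_mem hYG hh)
    · rw [← hJ, ← hYe, ← Matrix.SpecialLinearGroup.coe_mul, ← Matrix.SpecialLinearGroup.coe_mul]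
      show tr (glConj P X * glConj P Y * glConj P h) ∈ K
      rw [← map_mul, ← map_mul, tr_glConj]; exact htr _ (G₀.mul_mem (G₀.mul_mem hXG hYG) hh)
  refine ⟨glConj P, ?_⟩
  rintro _ ⟨g, hg, rfl⟩
  show glConj P g ∈ projSub K
  set m := (glConj P g : M2) with hm
  set m' := ((glConj P g⁻¹ : SL2) : M2) with hm'
  have hconj : ∀ h : SL2, (glConj P (g⁻¹ * h * g) : M2) = m' * (glConj P h : M2) * m := fun h => by
    rw [map_mul, map_mul, Matrix.SpecialLinearGroup.coe_mul, Matrix.SpecialLinearGroup.coe_mul]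
  have hprod : ∀ k l i j, m i k * m' l j ∈ K := by
    intro k l
    have key : ∀ M : M2, (M * (m * (Matrix.single k l (1 : F) : M2) * m')).trace = (m' * M * m) l k := fun M => by
      rw [← mul_assoc, Matrix.trace_mul_comm, ← mul_assoc, ← mul_assoc, Matrix.trace_mul_single]
      simp
    have hN : ∀ i j, (m * (Matrix.single k l (1 : F) : M2) * m') i j ∈ K := by
      refine entries_mem ha hbK hc (htr Y hYG) hκ _ ?_ ?_ ?_ ?_
      · rw [← one_mul (m * (Matrix.single k l (1 : F) : M2) * m'), key, mul_one, hm', hm,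
          ← Matrix.SpecialLinearGroup.coe_mul, ← map_mul, inv_mul_cancel, map_one]
        by_cases hkl : l = k
        · subst hkl; simp [one_mem]
        · simp [hkl, zero_mem]
      · rw [← hJ, key, ← hconj]; exact hent _ (hn g hg X hXG) l k
      · rw [← hYe, key, ← hconj]; exact hent _ (hn g hg Y hYG) l k
      · rw [← hJ, ← hYe, ← Matrix.SpecialLinearGroup.coe_mul, ← map_mul, key, ← hconj]
        exact hent _ (hn g hg _ (G₀.mul_mem hXG hYG)) l k
    intro i j
    have := hN i j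
    fin_cases k <;> fin_cases l <;> simpa [Matrix.mul_apply, Fin.sum_univ_two, Matrix.single] using this
  have hadj : m' = !![m 1 1, -m 0 1; -m 1 0, m 0 0] := by
    rw [hm', map_inv, Matrix.SpecialLinearGroup.coe_inv, Matrix.adjugate_fin_two]
  have hpair : ∀ i k u w, m i k * m u w ∈ K := by
    intro i k u w
    have h00 := hprod k 1 i 1
    have h01 := hprod k 0 i 1
    have h10 := hprod k 1 i 0
    have h11 := hprod k 0 i 0
    rw [hadj] at h00 h01 h10 h11
    simp at h00 h01 h10 h11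
    fin_cases u <;> fin_cases w <;> assumption
  obtain ⟨i, k, hik⟩ : ∃ i k, m i k ≠ 0 := by
    by_contra h
    push Not at h
    have := det_eq (glConj P g)
    rw [← hm] at this
    simp [h] at this
  exact ⟨m i k, hik, hpair i k⟩

end Cfsg.Agent.Lib.Geometry.Dickson
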