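import Cfsg.Agent.Lib.Geometry.Dickson.PGLBasic
import Cfsg.Agent.Lib.Geometry.Dickson.TraceField

/-!
A subgroup of `PGL₂` normalising a subgroup of `SL₂` with traces in a subfield lives over that subfield.
-/

set_option autoImplicit false
set_option maxHeartbeats 400000

namespace Cfsg.Agent.Lib.Geometry.Dickson.PGLMax

open Matrix
open scoped Matrix MatrixGroups
open Cfsg.Agent.Lib.SL2Trace (tr tr_eq det_eq sq_eq companion_eq mem_center_iff toPSL)
open Cfsg.Agent.Lib.Geometry.Dickson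

variable {F : Type*} [Field F]

local notation "SL2" => Matrix.SpecialLinearGroup (Fin 2) F
local notation "M2" => Matrix (Fin 2) (Fin 2) F
local notation "PGL2" => Matrix.ProjGenLinGroup (Fin 2) F
local notation "pmk" => (Matrix.ProjGenLinGroup.mk : GL (Fin 2) F →* Matrix.ProjGenLinGroup (Fin 2) F)

/-- `PGL₂` over a subfield, inside `PGL₂`. -/
def pglSubHom (K : Subfield F) : Matrix.ProjGenLinGroup (Fin 2) K →* PGL2 :=
  QuotientGroup.lift (Subgroup.center (GL (Fin 2) K))
    ((Matrix.ProjGenLinGroup.mk).comp (Matrix.GeneralLinearGroup.map K.subtype)) fun z hz => by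
      rw [MonoidHom.mem_ker, MonoidHom.comp_apply, mk_eq_one_iff]
      obtain ⟨c, hc⟩ := (Matrix.GeneralLinearGroup.mem_center_iff_val_mem_range_scalar (g := z)).mp hz
      refine ⟨(c : F), ?_⟩
      ext i j
      show ((z : Matrix (Fin 2) (Fin 2) K) i j : F) = _
      rw [← hc]
      fin_cases i <;> fin_cases j <;> simp

theorem pglSubHom_injective (K : Subfield F) : Function.Injective (pglSubHom K) := by
  rw [← MonoidHom.ker_eq_bot_iff, eq_bot_iff]
  intro x hx
  obtain ⟨A, rfl⟩ := Matrix.ProjGenLinGroup.mk_surjective x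
  rw [MonoidHom.mem_ker] at hx
  change pmk (Matrix.GeneralLinearGroup.map K.subtype A) = 1 at hx
  rw [mk_eq_one_iff_isScal] at hx
  rw [Subgroup.mem_bot]
  have h1 : ((A : Matrix (Fin 2) (Fin 2) K) 0 1 : F) = 0 := hx.1
  have h2 : ((A : Matrix (Fin 2) (Fin 2) K) 1 0 : F) = 0 := hx.2.1
  have h3 : ((A : Matrix (Fin 2) (Fin 2) K) 0 0 : F) = (A : Matrix (Fin 2) (Fin 2) K) 1 1 := hx.2.2
  exact mk_eq_one_iff_isScal.mpr ⟨Subtype.ext h1, Subtype.ext h2, Subtype.ext h3⟩

/-- The image of `PGL₂(K)`. -/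
def pglSub (K : Subfield F) : Subgroup PGL2 := (pglSubHom K).range

theorem mk_mem_pglSub {K : Subfield F} {B : GL (Fin 2) F} {c : F} (hc : c ≠ 0)
    (h : ∀ i j, c * (B : M2) i j ∈ K) : pmk B ∈ pglSub K := by
  let A₀ : Matrix (Fin 2) (Fin 2) K := Matrix.of fun i j => ⟨c * (B : M2) i j, h i j⟩
  have hA : A₀.map (fun x : K => (x : F)) = c • (B : M2) := by ext i j; rfl
  have hd : A₀.det ≠ 0 := fun e => by
    have := RingHom.map_det K.subtype A₀
    rw [e, map_zero, RingHom.mapMatrix_apply] at this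
    change 0 = (A₀.map (fun x : K => (x : F))).det at this
    rw [hA, det_smul] at this
    exact mul_ne_zero (pow_ne_zero _ hc) B.det_ne_zero this.symm
  refine ⟨Matrix.ProjGenLinGroup.mk (Matrix.GeneralLinearGroup.mkOfDetNeZero A₀ hd), ?_⟩
  show pmk (Matrix.GeneralLinearGroup.map K.subtype _) = pmk B
  refine mk_eq_iff.mpr ⟨c⁻¹, inv_ne_zero hc, ?_⟩
  show (B : M2) = c⁻¹ • A₀.map (fun x : K => (x : F))
  rw [hA, smul_smul, inv_mul_cancel₀ hc, one_smul]

set_option maxHeartbeats 1000000 in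
/-- The trace field realises the group. -/
theorem pgl_trace_conj [Fintype F] (M : Subgroup PGL2) (G₀ : Subgroup SL2)
    (hn : ∀ B : GL (Fin 2) F, pmk B ∈ M → ∀ h ∈ G₀, cj B h ∈ G₀) (K : Subfield F)
    (htr : ∀ h ∈ G₀, tr h ∈ K) {X Y : SL2} (hXG : X ∈ G₀) (hYG : Y ∈ G₀) (hX : tr X = 0)
    (hk : tr Y ^ 2 + tr (X * Y) ^ 2 ≠ 4) : ∃ g₀ : PGL2, ∀ g ∈ M, g₀⁻¹ * g * g₀ ∈ pglSub K := by
  classical
  obtain ⟨a, c, v, ha, hc, hv, hY⟩ := exists_frame K hX (htr Y hYG) (htr _ (G₀.mul_mem hXG hYG)) hk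
  set Pm : M2 := !![v 0, X 0 0 * v 0 + X 0 1 * v 1; v 1, X 1 0 * v 0 + X 1 1 * v 1] with hPm
  have hdet : Pm.det ≠ 0 := by
    intro h
    rw [hPm, Matrix.det_fin_two] at h
    simp at h
    obtain ⟨r, hr⟩ : ∃ r : F, (X : M2) *ᵥ v = r • v := by
      by_cases h0 : v 0 = 0
      · have h1 : v 1 ≠ 0 := fun h1 => hv (by ext i; fin_cases i <;> assumption)
        refine ⟨(X 1 0 * v 0 + X 1 1 * v 1) / v 1, ?_⟩
        ext i
        fin_cases i <;> simp [Matrix.mulVec, dotProduct, Fin.sum_univ_two] <;> field_simp <;>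
          first | linear_combination -h | linear_combination h | ring1
      · refine ⟨(X 0 0 * v 0 + X 0 1 * v 1) / v 0, ?_⟩
        ext i
        fin_cases i <;> simp [Matrix.mulVec, dotProduct, Fin.sum_univ_two] <;> field_simp <;>
          first | linear_combination -h | linear_combination h | ring1
    rw [hr, smul_smul, ← add_smul] at hY
    set d := a + c * r
    have hXY : ((X * Y : SL2) : M2) *ᵥ v = (d * r) • v := by
      rw [Matrix.SpecialLinearGroup.coe_mul, ← Matrix.mulVec_mulVec, hY, Matrix.mulVec_smul, hr, smul_smul]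
    have key : ∀ (g : SL2) (e : F), (g : M2) *ᵥ v = e • v → e * e = tr g * e - 1 := fun g e hg => by
      refine smul_left_cancel_vec hv ?_
      have h := congrArg (fun A : M2 => A *ᵥ v) (sq_eq g)
      simp only [← Matrix.mulVec_mulVec, hg, Matrix.mulVec_smul, Matrix.sub_mulVec, Matrix.smul_mulVec,
        Matrix.one_mulVec, smul_smul] at h
      rw [h, sub_smul, one_smul]
    have e1 := key X r hr
    have e2 := key Y d hY
    have e3 := key _ _ hXY
    rw [hX] at e1
    have hd : d ≠ 0 := fun h => by rw [h] at e2; simp at e2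
    apply hk
    refine mul_right_cancel₀ (mul_ne_zero hd hd) ?_
    linear_combination (-(tr Y * d + d * d + 1)) * e2 + (tr (X * Y) * d * r + 1 - d * d) * e3 +
      (tr (X * Y) ^ 2 * d * d - d * d * (tr (X * Y) * d * r + 1 - d * d)) * e1
  let P : GL (Fin 2) F := Matrix.GeneralLinearGroup.mkOfDetNeZero Pm hdet
  have hinv : ((P⁻¹ : GL (Fin 2) F) : M2) * Pm = 1 := Units.inv_mul P
  have hJ : (glConj P X : M2) = !![0, -1; 1, 0] := by
    show ((P⁻¹ : GL (Fin 2) F) : M2) * (X : M2) * Pm = _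
    rw [mul_assoc, companion_eq X v, ← mul_assoc, hinv, one_mul, hX]
    rfl
  set Y' := glConj P Y with hY'
  have hcol : (Y' : M2) *ᵥ ![1, 0] = ![a, c] := by
    show (((P⁻¹ : GL (Fin 2) F) : M2) * (Y : M2) * Pm) *ᵥ ![1, 0] = _
    rw [← Matrix.mulVec_mulVec, ← Matrix.mulVec_mulVec, show Pm *ᵥ ![1, 0] = v from by
        ext i; fin_cases i <;> simp [hPm], hY,
      show a • v + c • ((X : M2) *ᵥ v) = Pm *ᵥ ![a, c] from by
        ext i; fin_cases i <;> simp [hPm, Matrix.mulVec, dotProduct, Fin.sum_univ_two] <;> ring,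
      Matrix.mulVec_mulVec, hinv, Matrix.one_mulVec]
  set b := tr (X * Y) + c with hb
  have hYe : (Y' : M2) = !![a, b; c, tr Y - a] := by
    have h0 := congrFun hcol 0
    have h1 := congrFun hcol 1
    have ht : tr Y' = tr Y := tr_glConj P Y
    have hu : tr (glConj P X * Y') = tr (X * Y) := by rw [hY', ← map_mul, tr_glConj]
    simp [Matrix.mulVec, dotProduct, Fin.sum_univ_two] at h0 h1
    rw [tr_eq] at ht hu
    rw [Matrix.SpecialLinearGroup.coe_mul, hJ] at hu
    simp [Matrix.mul_apply, Fin.sum_univ_two] at hu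
    ext i j
    fin_cases i <;> fin_cases j <;> simp [h0, h1]
    · rw [hb]; linear_combination hu + h1
    · linear_combination ht - h0
  have hdetY := det_eq Y'
  rw [hYe] at hdetY
  simp at hdetY
  have hκ : (2 * a - tr Y) ^ 2 + (b + c) ^ 2 ≠ 0 := fun h => hk (by
    rw [hb] at h hdetY
    linear_combination h + 4 * hdetY)
  have hbK : b ∈ K := add_mem (htr _ (G₀.mul_mem hXG hYG)) hc
  have hent : ∀ h ∈ G₀, ∀ i j, (glConj P h : M2) i j ∈ K := fun h hh => by
    refine entries_mem ha hbK hc (htr Y hYG) hκ _ ?_ ?_ ?_ ?_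
    · show tr (glConj P h) ∈ K
      rw [tr_glConj]; exact htr h hh
    · rw [← hJ, ← Matrix.SpecialLinearGroup.coe_mul]
      show tr (glConj P X * glConj P h) ∈ K
      rw [← map_mul, tr_glConj]; exact htr _ (G₀.mul_mem hXG hh)
    · rw [← hYe, ← Matrix.SpecialLinearGroup.coe_mul]
      show tr (glConj P Y * glConj P h) ∈ K
      rw [← map_mul, tr_glConj]; exact htr _ (G₀.mul_mem hYG hh)
    · rw [← hJ, ← hYe, ← Matrix.SpecialLinearGroup.coe_mul, ← Matrix.SpecialLinearGroup.coe_mul]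
      show tr (glConj P X * glConj P Y * glConj P h) ∈ K
      rw [← map_mul, ← map_mul, tr_glConj]; exact htr _ (G₀.mul_mem (G₀.mul_mem hXG hYG) hh)
  refine ⟨pmk P, fun g hg => ?_⟩
  obtain ⟨B, rfl⟩ := Matrix.ProjGenLinGroup.mk_surjective g
  rw [← map_inv, ← map_mul, ← map_mul]
  set Bg : GL (Fin 2) F := P⁻¹ * B * P with hBg
  set m : M2 := (Bg : M2) with hm
  set m' : M2 := ((Bg⁻¹ : GL (Fin 2) F) : M2) with hm'
  have hn' : ∀ h ∈ G₀, cj B⁻¹ h ∈ G₀ := fun h hh => hn B⁻¹ (by rw [map_inv]; exact inv_mem hg) h hh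
  have hconj : ∀ h : SL2, (glConj P (cj B⁻¹ h) : M2) = m' * (glConj P h : M2) * m := fun h => by
    show ((P⁻¹ : GL (Fin 2) F) : M2) * (cj B⁻¹ h : M2) * (P : M2) =
      m' * (((P⁻¹ : GL (Fin 2) F) : M2) * (h : M2) * (P : M2)) * m
    rw [coe_cj, inv_inv, hm, hm', hBg, _root_.mul_inv_rev, _root_.mul_inv_rev, inv_inv]
    simp only [Units.val_mul, mul_assoc]
    rw [← mul_assoc (P : M2) (↑P⁻¹ : M2), ← Units.val_mul P P⁻¹, mul_inv_cancel, Units.val_one, one_mul,
      ← mul_assoc (P : M2) (↑P⁻¹ : M2), ← Units.val_mul P P⁻¹, mul_inv_cancel, Units.val_one, one_mul]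
  have hprod : ∀ k l i j, m i k * m' l j ∈ K := by
    intro k l
    have key : ∀ M : M2, (M * (m * (Matrix.single k l (1 : F) : M2) * m')).trace = (m' * M * m) l k := fun M => by
      rw [← mul_assoc, Matrix.trace_mul_comm, ← mul_assoc, ← mul_assoc, Matrix.trace_mul_single]
      simp
    have hN : ∀ i j, (m * (Matrix.single k l (1 : F) : M2) * m') i j ∈ K := by
      refine entries_mem ha hbK hc (htr Y hYG) hκ _ ?_ ?_ ?_ ?_
      · rw [← one_mul (m * (Matrix.single k l (1 : F) : M2) * m'), key, mul_one, hm', hm,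
          ← Units.val_mul, inv_mul_cancel, Units.val_one]
        by_cases hkl : l = k
        · subst hkl; simp [one_mem]
        · simp [hkl, zero_mem]
      · rw [← hJ, key, ← hconj]; exact hent _ (hn' X hXG) l k
      · rw [← hYe, key, ← hconj]; exact hent _ (hn' Y hYG) l k
      · rw [← hJ, ← hYe, ← Matrix.SpecialLinearGroup.coe_mul, ← map_mul, key, ← hconj]
        exact hent _ (hn' _ (G₀.mul_mem hXG hYG)) l k
    intro i j
    have := hN i j
    fin_cases k <;> fin_cases l <;> simpa [Matrix.mul_apply, Fin.sum_univ_two, Matrix.single] using this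
  obtain ⟨l, j, hlj⟩ : ∃ l j, m' l j ≠ 0 := by
    by_contra h
    push Not at h
    exact (Bg⁻¹).det_ne_zero (by rw [← hm', show m' = 0 from Matrix.ext h]; exact det_zero)
  exact mk_mem_pglSub hlj fun i k => by rw [mul_comm]; exact hprod k l i j

end Cfsg.Agent.Lib.Geometry.Dickson.PGLMax
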