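import Cfsg.Agent.Lib.Geometry.Dickson.MaxClass
import Cfsg.Agent.Lib.Characters.Burnside

/-!
Which subgroups of `PSL₂` are solvable.
-/

set_option autoImplicit false

namespace Cfsg.Agent.Lib.Geometry.Dickson

open Matrix
open scoped Matrix MatrixGroups
open Cfsg.Agent.Lib.SL2Trace (toPSL toPSL_surjective)

variable {F : Type*} [Field F] [Fintype F] (p : ℕ) [Fact p.Prime] [CharP F p]

local notation "PSL2" => Matrix.ProjectiveSpecialLinearGroup (Fin 2) F

theorem solvable_dihedral (k : ℕ) : Group.IsSolvable (DihedralGroup k) := by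
  let rot : Multiplicative (ZMod k) →* DihedralGroup k :=
    MonoidHom.mk' (fun x => DihedralGroup.r x.toAdd) fun x y => (DihedralGroup.r_mul_r _ _).symm
  let sgn : DihedralGroup k → Multiplicative (ZMod 2) := fun z => match z with
    | .r _ => Multiplicative.ofAdd 0
    | .sr _ => Multiplicative.ofAdd 1
  let g : DihedralGroup k →* Multiplicative (ZMod 2) := MonoidHom.mk' sgn fun a b => by
    rcases a with i | i <;> rcases b with j | j <;>
      simp only [DihedralGroup.r_mul_r, DihedralGroup.r_mul_sr, DihedralGroup.sr_mul_r, DihedralGroup.sr_mul_sr,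
        sgn] <;> rfl
  refine Group.isSolvable_of_ker_le_range rot g fun z hz => ?_
  rcases z with i | i
  · exact ⟨Multiplicative.ofAdd i, rfl⟩
  · have h1 : sgn (.sr i) = 1 := MonoidHom.mem_ker.mp hz
    have h2 : (1 : ZMod 2) = 0 := congrArg Multiplicative.toAdd h1
    exact absurd h2 (by decide)

include p in
theorem solvable_normalizer_sylow (S : Sylow p PSL2) :
    Group.IsSolvable (Subgroup.normalizer ((S : Subgroup PSL2) : Set PSL2)) := by
  set N := Subgroup.normalizer ((S : Subgroup PSL2) : Set PSL2)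
  set T : Subgroup N := (S : Subgroup PSL2).subgroupOf N
  have hle : (S : Subgroup PSL2) ≤ N := Subgroup.le_normalizer
  haveI hTn : T.Normal := Subgroup.normal_subgroupOf_iff_le_normalizer hle |>.mpr le_rfl
  haveI : Group.IsNilpotent T :=
    (S.isPGroup'.of_equiv (Subgroup.subgroupOfEquivOfLe hle).symm).isNilpotent
  have hab : ∀ a b : N ⧸ T, a * b = b * a := by
    intro a b
    induction a using QuotientGroup.induction_on with | _ a => ?_
    induction b using QuotientGroup.induction_on with | _ b => ?_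
    rw [← QuotientGroup.mk_mul, ← QuotientGroup.mk_mul, QuotientGroup.eq, Subgroup.mem_subgroupOf]
    set c : PSL2 := (((a * b)⁻¹ * (b * a) : N) : PSL2)
    have hc : orderOf c ∣ p := by
      have h := orderOf_commutator_dvd p S (x := (b⁻¹ : N)) (y := (a⁻¹ : N)) (SetLike.coe_mem _) (SetLike.coe_mem _)
      have e : c = ((b⁻¹ : N) : PSL2) * (a⁻¹ : N) * ((b⁻¹ : N) : PSL2)⁻¹ * ((a⁻¹ : N) : PSL2)⁻¹ := by
        simp [c, mul_assoc]
      rwa [e]
    have hcN : c ∈ N := SetLike.coe_mem _
    have hcyc : IsPGroup p (Subgroup.zpowers c) := by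
      rintro ⟨_, i, rfl⟩
      refine ⟨1, Subtype.ext ?_⟩
      show (c ^ i) ^ (p ^ 1) = 1
      rw [pow_one, ← zpow_natCast, ← _root_.zpow_mul, mul_comm, _root_.zpow_mul, zpow_natCast,
        orderOf_dvd_iff_pow_eq_one.mp hc, _root_.one_zpow]
    have hsup := IsPGroup.to_sup_of_normal_right' hcyc S.2 (Subgroup.zpowers_le.mpr hcN)
    have hS := S.3 hsup le_sup_right
    show c ∈ (S : Subgroup PSL2)
    rw [← hS]
    exact Subgroup.mem_sup_left (Subgroup.mem_zpowers c)
  haveI : Group.IsSolvable (N ⧸ T) := Group.isSolvable_of_comm hab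
  exact Group.isSolvable_of_ker_le_range T.subtype (QuotientGroup.mk' T)
    (by rw [QuotientGroup.ker_mk', Subgroup.range_subtype])

include p in
/-- A subgroup is solvable unless it is `A₅` or comes from a subfield with at least four elements. -/
theorem solvable_or (H : Subgroup PSL2) : Group.IsSolvable H ∨ Nonempty (H ≃* alternatingGroup (Fin 5)) ∨
    ∃ L : Subfield F, 4 ≤ Nat.card L ∧ (Nonempty (H ≃* Matrix.ProjectiveSpecialLinearGroup (Fin 2) L) ∨
      Nonempty (H ≃* Matrix.ProjGenLinGroup (Fin 2) L)) := by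
  classical
  rcases subType p H with ⟨k, -, hc, -⟩ | ⟨k, -, ⟨e⟩⟩ | ⟨S, h⟩ | ⟨⟨e⟩⟩ | ⟨⟨e⟩⟩ | h | ⟨L, hL⟩
  · left; haveI := hc.commutative; exact Group.isSolvable_of_comm mul_comm'
  · left
    haveI := solvable_dihedral k
    exact Group.isSolvable_of_isSolvable_injective (f := e.toMonoidHom) e.injective
  · left
    haveI := solvable_normalizer_sylow p S
    exact Group.isSolvable_of_isSolvable_injective (Subgroup.inclusion_injective h)
  · exact Or.inl (Cfsg.Agent.Lib.Characters.isSolvable_of_card_eq_pow_mul_pow (p := 2) (q := 3) (a := 2) (b := 1)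
      Nat.prime_two Nat.prime_three (by rw [Nat.card_congr e.toEquiv, card_alt4]; norm_num))
  · exact Or.inl (Cfsg.Agent.Lib.Characters.isSolvable_of_card_eq_pow_mul_pow (p := 2) (q := 3) (a := 3) (b := 1)
      Nat.prime_two Nat.prime_three (by rw [Nat.card_congr e.toEquiv, card_sym4]; norm_num))
  · exact Or.inr (Or.inl h)
  · by_cases h4 : 4 ≤ Nat.card L
    · exact Or.inr (Or.inr ⟨L, h4, hL⟩)
    left
    haveI := Fintype.ofFinite L
    have h2 : 2 ≤ Fintype.card L := Fintype.one_lt_card
    rw [Nat.card_eq_fintype_card] at h4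
    obtain ⟨a, b, hab⟩ : ∃ a b, Nat.card H = 2 ^ a * 3 ^ b := by
      rcases hL with ⟨⟨f⟩⟩ | ⟨⟨f⟩⟩
      · have hP := Cfsg.Agent.Lib.Classical.card_PSL2_mul (F := L)
        rw [Nat.card_congr f.toEquiv]
        rcases (show Fintype.card L = 2 ∨ Fintype.card L = 3 by omega) with hl | hl
        · rw [hl, show Nat.gcd 2 (2 - 1) = 1 from rfl, show 2 * (2 ^ 2 - 1) = 6 from rfl] at hP
          exact ⟨1, 1, by omega⟩
        · rw [hl, show Nat.gcd 2 (3 - 1) = 2 from rfl, show 3 * (3 ^ 2 - 1) = 24 from rfl] at hP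
          exact ⟨2, 1, by omega⟩
      · rw [Nat.card_congr f.toEquiv, Cfsg.Agent.Lib.Classical.card_PGL, Cfsg.Agent.Lib.Classical.card_SL2]
        rcases (show Fintype.card L = 2 ∨ Fintype.card L = 3 by omega) with hl | hl <;> rw [hl]
        · exact ⟨1, 1, rfl⟩
        · exact ⟨3, 1, rfl⟩
    exact Cfsg.Agent.Lib.Characters.isSolvable_of_card_eq_pow_mul_pow Nat.prime_two Nat.prime_three hab

theorem not_solvable_altFive {G : Type*} [Group G] (e : G ≃* alternatingGroup (Fin 5)) : ¬ Group.IsSolvable G := by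
  intro h
  haveI := h
  haveI : Group.IsSolvable (alternatingGroup (Fin 5)) := Group.isSolvable_of_surjective (f := e.toMonoidHom) e.surjective
  have hc := IsSimpleGroup.comm_iff_isSolvable.mpr (inferInstance : Group.IsSolvable (alternatingGroup (Fin 5)))
  exact absurd hc (by decide +kernel)

theorem not_solvable_PSL2 {K : Type*} [Field K] [Fintype K] (h4 : 4 ≤ Fintype.card K) :
    ¬ Group.IsSolvable (Matrix.ProjectiveSpecialLinearGroup (Fin 2) K) := by
  classical
  intro h
  haveI : IsSimpleGroup (Matrix.ProjectiveSpecialLinearGroup (Fin 2) K) :=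
    Matrix.ProjectiveSpecialLinearGroup.rank_two_simple (by rw [Nat.card_eq_fintype_card]; exact h4)
  have hc := IsSimpleGroup.comm_iff_isSolvable.mpr h
  have h1 := hc (toPSL (upper (1 : K))) (toPSL (lower (1 : K)))
  rw [← map_mul, ← map_mul, Cfsg.Agent.Lib.SL2Trace.toPSL_eq] at h1
  rcases h1 with h1 | h1
  all_goals
    have e := congrArg (fun g : Matrix.SpecialLinearGroup (Fin 2) K => (g : Matrix (Fin 2) (Fin 2) K) 0 0) h1
    have e' := congrArg (fun g : Matrix.SpecialLinearGroup (Fin 2) K => (g : Matrix (Fin 2) (Fin 2) K) 0 1) h1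
    simp [coe_upper, coe_lower, Matrix.mul_apply, Fin.sum_univ_two] at e e'
  exact one_ne_zero (α := K) (by linear_combination e - e')

end Cfsg.Agent.Lib.Geometry.Dickson
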