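import Cfsg.Agent.Lib.Geometry.Dickson.PGLTorus
import Cfsg.Agent.Lib.Geometry.Dickson.PGLTrace
import Cfsg.Agent.Lib.Geometry.Dickson.Maximal
import Cfsg.Agent.Lib.Geometry.Dickson.Solv

/-!
Auxiliary facts for the maximal subgroups of `PGL₂`.
-/

set_option autoImplicit false
set_option maxHeartbeats 400000

namespace Cfsg.Agent.Lib.Geometry.Dickson.PGLMax

open Matrix
open scoped Matrix MatrixGroups
open Cfsg.Agent.Lib.SL2Trace (tr tr_eq tr_conj tr_inv tr_neg det_eq sq_eq toPSL toPSL_surjective toPSL_eq toPSL_eq_one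
  mem_center_iff)
open Cfsg.Agent.Lib.Geometry.Dickson

variable {F : Type*} [Field F]

local notation "SL2" => Matrix.SpecialLinearGroup (Fin 2) F
local notation "M2" => Matrix (Fin 2) (Fin 2) F
local notation "PSL2" => Matrix.ProjectiveSpecialLinearGroup (Fin 2) F
local notation "PGL2" => Matrix.ProjGenLinGroup (Fin 2) F
local notation "pmk" => (Matrix.ProjGenLinGroup.mk : GL (Fin 2) F →* Matrix.ProjGenLinGroup (Fin 2) F)

/-- The part of a subgroup of `PGL₂` inside `PSL₂`. -/
def below (M : Subgroup PGL2) : Subgroup PSL2 := M.comap iota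

theorem below_conj {M : Subgroup PGL2} {g : PGL2} (hg : g ∈ M) {x : PSL2} (hx : x ∈ below M) :
    ∃ x' ∈ below M, g * iota x * g⁻¹ = iota x' := by
  have h1 : g * iota x * g⁻¹ ∈ pglImage (F := F) := Subgroup.Normal.conj_mem inferInstance _ (iota_mem x) _
  rw [← range_iota] at h1
  obtain ⟨x', hx'⟩ := h1
  refine ⟨x', ?_, hx'.symm⟩
  show iota x' ∈ M
  rw [hx']
  exact mul_mem (mul_mem hg hx) (inv_mem hg)

theorem map_below (M : Subgroup PGL2) : (below M).map iota = M ⊓ pglImage := by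
  rw [below, Subgroup.map_comap_eq, range_iota, inf_comm]

theorem card_below (M : Subgroup PGL2) : Nat.card (M ⊓ pglImage : Subgroup PGL2) = Nat.card (below M) := by
  rw [← map_below]
  exact (Nat.card_congr (Subgroup.equivMapOfInjective _ _ iota_injective).toEquiv).symm

variable [Fintype F]

theorem card_PGL2 : Nat.card PGL2 = Fintype.card F * (Fintype.card F ^ 2 - 1) := by
  rw [Cfsg.Agent.Lib.Classical.card_PGL, Cfsg.Agent.Lib.Classical.card_SL2]

theorem below_ne_top {M : Subgroup PGL2} (hML : ¬ pglImage ≤ M) : below M ≠ ⊤ := fun h => hML (by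
  rw [← range_iota]
  rintro _ ⟨x, rfl⟩
  exact (show x ∈ below M from h ▸ Subgroup.mem_top x))

theorem not_le_image (h4 : 3 ≤ Fintype.card F) (hodd : Fintype.card F % 2 = 1) {M : Subgroup PGL2} (hM : IsCoatom M)
    (hML : ¬ pglImage ≤ M) : ¬ M ≤ pglImage := by
  intro hle
  rcases hM.le_iff.mp hle with h | h
  · obtain ⟨d, hd0, hd⟩ := exists_nonsquare hodd
    let A : GL (Fin 2) F := Matrix.GeneralLinearGroup.mkOfDetNeZero !![d, 0; 0, 1]
      (by rw [Matrix.det_fin_two_of]; simpa using hd0)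
    have := mk_mem_pglImage_iff.mp (h.symm ▸ Subgroup.mem_top (pmk A))
    rw [show (A : M2).det = d by show (!![d, 0; 0, 1] : M2).det = d; rw [Matrix.det_fin_two_of]; ring] at this
    exact hd this
  · exact hML h.le

theorem card_eq_below (h4 : 3 ≤ Fintype.card F) (hodd : Fintype.card F % 2 = 1) {M : Subgroup PGL2} (hM : IsCoatom M)
    (hML : ¬ pglImage ≤ M) : Nat.card M = 2 * Nat.card (below M) := by
  rw [card_eq_two_mul (not_le_image h4 hodd hM hML), card_below]

theorem isSimple_PSL2 (h4 : 4 ≤ Fintype.card F) : IsSimpleGroup PSL2 :=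
  Matrix.ProjectiveSpecialLinearGroup.rank_two_simple (by rw [Nat.card_eq_fintype_card]; exact h4)

/-- A proper nontrivial subgroup of `L` has a proper normaliser. -/
theorem normalizer_ne_top (h4 : 4 ≤ Fintype.card F) {H : Subgroup PSL2} (h1 : H ≠ ⊥) (h2 : H ≠ ⊤) :
    Subgroup.normalizer ((H.map iota : Subgroup PGL2) : Set PGL2) ≠ ⊤ := by
  intro h
  haveI := isSimple_PSL2 (F := F) h4
  haveI hn : (H.map (iota (F := F))).Normal := Subgroup.normalizer_eq_top_iff.mp h
  have : H.Normal := ⟨fun x hx g => by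
    have := hn.conj_mem _ ⟨x, hx, rfl⟩ (iota g)
    obtain ⟨y, hy, he⟩ := this
    rw [← map_inv, ← map_mul, ← map_mul] at he
    exact iota_injective he ▸ hy⟩
  rcases this.eq_bot_or_eq_top with e | e
  · exact h1 e
  · exact h2 e

/-- If `H` is normalised by more of `L`, that part is in `M`. -/
theorem below_normalizer_le (h4 : 4 ≤ Fintype.card F) {M : Subgroup PGL2} (hM : IsCoatom M) (hML : ¬ pglImage ≤ M)
    {N : Subgroup PSL2} (hN1 : N ≠ ⊥) (hN2 : N ≠ ⊤)
    (hn : ∀ g ∈ M, ∀ x ∈ N, ∃ x' ∈ N, g * iota x * g⁻¹ = iota x') {t : PSL2}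
    (ht : t ∈ Subgroup.normalizer (N : Set PSL2)) : t ∈ below M := by
  haveI : Finite PGL2 := Finite.of_surjective _ Matrix.ProjGenLinGroup.mk_surjective
  set V := N.map (iota (F := F))
  have hMV : M ≤ Subgroup.normalizer (V : Set PGL2) := by
    intro g hg
    have hle : V.map (MulAut.conj g).toMonoidHom ≤ V := by
      rintro _ ⟨_, ⟨x, hx, rfl⟩, rfl⟩
      obtain ⟨x', hx', he⟩ := hn g hg x hx
      exact ⟨x', hx', he.symm⟩
    have heq := Subgroup.eq_of_le_of_card_ge hle
      (Subgroup.card_map_of_injective (f := (MulAut.conj g).toMonoidHom) (MulAut.conj g).injective).ge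
    rw [Subgroup.mem_normalizer_iff]
    intro w
    conv_rhs => rw [← heq]
    exact (Subgroup.mem_map_iff_mem (f := (MulAut.conj g).toMonoidHom) (MulAut.conj g).injective).symm
  rcases hM.le_iff.mp hMV with h | h
  · exact absurd h (normalizer_ne_top h4 hN1 hN2)
  · show iota t ∈ M
    rw [← h, Subgroup.mem_normalizer_iff]
    intro w
    constructor
    · rintro ⟨x, hx, rfl⟩
      exact ⟨t * x * t⁻¹, (Subgroup.mem_normalizer_iff.mp ht x).mp hx, by simp [map_mul]⟩
    · rintro ⟨x, hx, he⟩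
      refine ⟨t⁻¹ * x * t, (Subgroup.mem_normalizer_iff.mp ht _).mpr (by simpa [mul_assoc] using hx), ?_⟩
      rw [map_mul, map_mul, he, map_inv]
      group

/-- A maximal subgroup normalising a four group contains an element of order three. -/
theorem three_dvd_of_four (h4 : 4 ≤ Fintype.card F) (hodd : Fintype.card F % 2 = 1) {M : Subgroup PGL2}
    (hM : IsCoatom M) (hML : ¬ pglImage ≤ M) {X Y : SL2} (hX : tr X = 0) (hY : tr Y = 0) (hXY : tr (X * Y) = 0)
    (hn : ∀ g ∈ M, ∀ x ∈ Subgroup.closure ({toPSL X, toPSL Y} : Set PSL2),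
      ∃ x' ∈ Subgroup.closure ({toPSL X, toPSL Y} : Set PSL2), g * iota x * g⁻¹ = iota x') :
    3 ∣ Nat.card (below M) := by
  classical
  have h2 := two_ne hodd
  have hYX := anticomm_of_tr hX hY hXY
  have hne : X * Y ≠ Y * X := by
    rw [hYX]
    intro e
    have e' : ((X * Y : SL2) : M2) = -((X * Y : SL2) : M2) := congrArg (fun g : SL2 => (g : M2)) e
    have : (2 : F) • ((X * Y : SL2) : M2) = 0 := by rw [two_smul]; exact eq_neg_iff_add_eq_zero.mp e'
    rcases smul_eq_zero.mp this with h | h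
    · exact h2 h
    · exact (Matrix.SpecialLinearGroup.toGL (X * Y)).det_ne_zero (by
        show ((X * Y : SL2) : M2).det = 0
        rw [h]; exact det_zero)
  have hXX : (X : M2) * (X : M2) = -1 := congrArg (fun e : SL2 => (e : M2)) (sq_of_tr_zero' hX)
  have hYY : (Y : M2) * (Y : M2) = -1 := congrArg (fun e : SL2 => (e : M2)) (sq_of_tr_zero' hY)
  have hYXm : (Y : M2) * (X : M2) = -((X : M2) * (Y : M2)) := congrArg (fun e : SL2 => (e : M2)) hYX
  set T₀ : M2 := 1 + (X : M2) + (Y : M2) + (X : M2) * (Y : M2) with hT₀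
  have hdetT : T₀.det = 4 := by
    rw [show T₀ = (1 + (X : M2)) * (1 + (Y : M2)) by simp only [hT₀, mul_add, add_mul, one_mul, mul_one]; abel,
      det_mul]
    have hd : ∀ Z : SL2, tr Z = 0 → (1 + (Z : M2)).det = 2 := fun Z hZ => by
      have hdZ := det_eq Z
      rw [tr_eq] at hZ
      simp [Matrix.det_fin_two]
      linear_combination hdZ + hZ
    rw [hd X hX, hd Y hY]
    norm_num
  let T : SL2 := ⟨(2 : F)⁻¹ • T₀, by rw [det_smul, hdetT, Fintype.card_fin]; field_simp; norm_num⟩
  have hTX : T * X = Y * T := sl_ext (by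
    show ((2 : F)⁻¹ • T₀) * (X : M2) = (Y : M2) * ((2 : F)⁻¹ • T₀)
    rw [smul_mul_assoc, mul_smul_comm, hT₀]
    congr 1
    simp only [add_mul, mul_add, one_mul, mul_one, hXX, hYY, hYXm, mul_assoc]
    rw [← mul_assoc (Y : M2) (X : M2) (Y : M2), hYXm, neg_mul, mul_assoc, hYY, mul_neg, ← mul_assoc (X : M2) (X : M2),
      hXX]
    simp only [mul_neg, mul_one, neg_neg, neg_mul, one_mul]
    abel)
  have hTY : T * Y = X * Y * T := sl_ext (by
    show ((2 : F)⁻¹ • T₀) * (Y : M2) = (X : M2) * (Y : M2) * ((2 : F)⁻¹ • T₀)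
    rw [smul_mul_assoc, mul_smul_comm, hT₀]
    congr 1
    simp only [add_mul, mul_add, one_mul, mul_one, mul_assoc, hYY]
    rw [← mul_assoc (Y : M2) (X : M2) (Y : M2), hYXm, neg_mul, mul_assoc, hYY]
    simp only [mul_neg, mul_one, neg_neg, hYXm, ← mul_assoc, hXX, neg_mul, one_mul]
    abel)
  set V := Subgroup.closure ({toPSL X, toPSL Y} : Set PSL2)
  have hXV : toPSL X ∈ V := Subgroup.subset_closure (Set.mem_insert _ _)
  have hYV : toPSL Y ∈ V := Subgroup.subset_closure (Set.mem_insert_of_mem _ rfl)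
  have hcX : toPSL T * toPSL X * (toPSL T)⁻¹ = toPSL Y := by rw [← map_mul, hTX, map_mul, mul_inv_cancel_right]
  have hcY : toPSL T * toPSL Y * (toPSL T)⁻¹ = toPSL X * toPSL Y := by
    rw [← map_mul, hTY, map_mul, map_mul, mul_inv_cancel_right]
  have hVtop : V ≠ ⊤ := by
    intro h
    have hxy : toPSL X * toPSL Y = toPSL Y * toPSL X := by
      rw [← map_mul, ← map_mul]
      exact toPSL_eq.mpr (Or.inr (by rw [hYX]))
    have hcom : ∀ z ∈ ({toPSL X, toPSL Y} : Set PSL2), ∀ w ∈ ({toPSL X, toPSL Y} : Set PSL2), z * w = w * z := by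
      rintro z (rfl | rfl) w (rfl | rfl) <;> first | rfl | exact hxy | exact hxy.symm
    haveI := Subgroup.isMulCommutative_closure hcom
    refine not_solvable_PSL2 h4 (Group.isSolvable_of_comm fun a b => ?_)
    exact congrArg Subtype.val (mul_comm' (⟨a, h ▸ Subgroup.mem_top a⟩ : V) ⟨b, h ▸ Subgroup.mem_top b⟩)
  have hVbot : V ≠ ⊥ := by
    intro h
    rw [h, Subgroup.mem_bot] at hXV
    rcases toPSL_eq_one.mp hXV with e | e <;> rw [e] at hX
    · rw [tr_one'] at hX; exact h2 hX
    · rw [tr_neg, tr_one', neg_eq_zero] at hX; exact h2 hX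
  have hTN : toPSL T ∈ Subgroup.normalizer (V : Set PSL2) :=
    mem_normalizer_closure_pair (by rw [hcX]; exact hYV) (by rw [hcY]; exact mul_mem hXV hYV)
  have hTM := below_normalizer_le h4 hM hML hVbot hVtop hn hTN
  have hxy1 : toPSL X ≠ toPSL Y := by
    intro e
    rcases toPSL_eq.mp e with e | e <;> rw [e] at hne <;> simp at hne
  haveI : Fact (Nat.Prime 3) := ⟨Nat.prime_three⟩
  have hord : orderOf (toPSL T) = 3 := by
    refine orderOf_eq_prime ?_ fun e => hxy1 (by rw [← hcX, e, one_mul, inv_one, mul_one])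
    rw [← map_pow, toPSL_eq_one]
    right
    have htr : tr T = 1 := by
      show ((2 : F)⁻¹ • T₀).trace = 1
      rw [trace_smul, hT₀, trace_add, trace_add, trace_add, trace_one, show (X : M2).trace = 0 from hX,
        show (Y : M2).trace = 0 from hY, show ((X : M2) * (Y : M2)).trace = 0 from hXY, Fintype.card_fin, smul_eq_mul]
      field_simp
      norm_num
    refine sl_ext ?_
    rw [pow_succ, pow_two]
    simp only [Matrix.SpecialLinearGroup.coe_mul, Matrix.SpecialLinearGroup.coe_neg, Matrix.SpecialLinearGroup.coe_one]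
    rw [sq_eq, htr, one_smul, sub_mul, sq_eq, htr, one_smul, one_mul]
    abel
  rw [← hord]
  exact Subgroup.orderOf_dvd_natCard _ hTM

end Cfsg.Agent.Lib.Geometry.Dickson.PGLMax
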