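import Cfsg.Agent.Lib.Geometry.Dickson.MaxClass
import Cfsg.Agent.Lib.PSLSpec.TorusNorm

/-!
Involutions and fours groups of `PSL₂` in odd characteristic.
-/

set_option autoImplicit false

namespace Cfsg.Agent.Lib.Geometry.Dickson

open Matrix
open scoped Matrix MatrixGroups
open Cfsg.Agent.Lib.SL2Trace (tr tr_conj tr_neg toPSL toPSL_surjective toPSL_eq toPSL_eq_one mem_center_iff)

section Dihedral

theorem zmod_double_eq_zero {m : ℕ} [NeZero m] {j : ZMod m} (h : j + j = 0) : j = 0 ∨ j = (m / 2 : ℕ) := by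
  rw [← ZMod.natCast_zmod_val j, ← Nat.cast_add, ZMod.natCast_eq_zero_iff] at h
  have hlt := ZMod.val_lt j
  obtain ⟨c, hc⟩ := h
  rcases Nat.lt_or_ge c 2 with h2 | h2
  · interval_cases c
    · left; rw [← ZMod.natCast_zmod_val j, show j.val = 0 by omega, Nat.cast_zero]
    · right; rw [← ZMod.natCast_zmod_val j, show j.val = m / 2 by omega]
  · have : m * 2 ≤ m * c := Nat.mul_le_mul_left m h2
    omega

theorem half_ne_zero {m : ℕ} [NeZero m] (hm : 2 ∣ m) : ((m / 2 : ℕ) : ZMod m) ≠ 0 := by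
  rw [ne_eq, ZMod.natCast_eq_zero_iff]
  intro h
  have hm0 := NeZero.ne m
  have := Nat.le_of_dvd (by omega) h
  omega

theorem half_add_half {m : ℕ} (hm : 2 ∣ m) : ((m / 2 : ℕ) : ZMod m) + (m / 2 : ℕ) = 0 := by
  rw [← Nat.cast_add, show m / 2 + m / 2 = m by omega, ZMod.natCast_self]

/-- The elements of order at most two of a dihedral group. -/
theorem card_dihedral_sq_one {m : ℕ} [NeZero m] (hm : 2 ∣ m) :
    Nat.card {z : DihedralGroup m // z * z = 1} = m + 2 := by
  classical
  let f : ZMod m ⊕ {j : ZMod m // j + j = 0} → {z : DihedralGroup m // z * z = 1} :=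
    Sum.elim (fun i => ⟨.sr i, DihedralGroup.sr_mul_self i⟩)
      (fun j => ⟨.r j.1, by rw [DihedralGroup.r_mul_r, j.2]; exact DihedralGroup.one_def.symm⟩)
  have hf : Function.Bijective f := by
    constructor
    · rintro (i | ⟨j, hj⟩) (i' | ⟨j', hj'⟩) h <;>
        simp only [f, Sum.elim_inl, Sum.elim_inr, Subtype.mk.injEq, DihedralGroup.sr.injEq,
          DihedralGroup.r.injEq, reduceCtorEq] at h <;> simp [h]
    · rintro ⟨(j | i), hz⟩
      · rw [DihedralGroup.r_mul_r, DihedralGroup.one_def, DihedralGroup.r.injEq] at hz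
        exact ⟨Sum.inr ⟨j, hz⟩, rfl⟩
      · exact ⟨Sum.inl i, rfl⟩
  rw [← Nat.card_congr (Equiv.ofBijective f hf), Nat.card_sum, Nat.card_zmod]
  congr 1
  rw [Nat.card_eq_fintype_card, Fintype.card_subtype,
    show (Finset.univ.filter fun j : ZMod m => j + j = 0) = {0, ((m / 2 : ℕ) : ZMod m)} from Finset.ext fun j => by
      simp only [Finset.mem_filter, Finset.mem_univ, true_and, Finset.mem_insert, Finset.mem_singleton]
      exact ⟨zmod_double_eq_zero, fun h => by
        rcases h with rfl | rfl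
        · exact add_zero _
        · exact half_add_half hm⟩]
  exact Finset.card_pair (half_ne_zero hm).symm

theorem card_dihedral_invol_ne {m : ℕ} [NeZero m] (hm : 2 ∣ m) {c : DihedralGroup m} (hc : c * c = 1) (hc1 : c ≠ 1) :
    Nat.card {z : DihedralGroup m // z * z = 1 ∧ z ≠ 1 ∧ z ≠ c} = m := by
  classical
  have h := card_dihedral_sq_one (m := m) hm
  rw [Nat.card_eq_fintype_card, Fintype.card_subtype] at h ⊢
  rw [show (Finset.univ.filter fun z : DihedralGroup m => z * z = 1 ∧ z ≠ 1 ∧ z ≠ c) =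
    (Finset.univ.filter fun z : DihedralGroup m => z * z = 1) \ {1, c} from Finset.ext fun z => by simp,
    Finset.card_sdiff_of_subset (fun z hz => by
      simp only [Finset.mem_insert, Finset.mem_singleton] at hz
      rcases hz with rfl | rfl <;> simp [hc]),
    h, Finset.card_pair (Ne.symm hc1)]
  rfl

/-- A central involution of a dihedral group of order at least eight. -/
theorem central_eq_half {m : ℕ} [NeZero m] (hm : 3 ≤ m) {c : DihedralGroup m} (hc : c * c = 1) (hc1 : c ≠ 1)
    (hcen : ∀ z, z * c = c * z) : c = .r ((m / 2 : ℕ) : ZMod m) := by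
  rcases c with j | i
  · rw [DihedralGroup.r_mul_r, DihedralGroup.one_def, DihedralGroup.r.injEq] at hc
    rcases zmod_double_eq_zero hc with rfl | rfl
    · exact absurd DihedralGroup.one_def.symm hc1
    · rfl
  · exfalso
    have h := hcen (.r 1)
    rw [DihedralGroup.r_mul_sr, DihedralGroup.sr_mul_r, DihedralGroup.sr.injEq] at h
    have h2 : ((2 : ℕ) : ZMod m) = 0 := by push_cast; linear_combination -h
    rw [ZMod.natCast_eq_zero_iff] at h2
    have := Nat.le_of_dvd two_pos h2
    omega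

/-- An element swapping a fours group of a dihedral group around its centre. -/
theorem exists_swap {m : ℕ} [NeZero m] (hm : 4 ∣ m) {c y : DihedralGroup m} (hc : c * c = 1) (hc1 : c ≠ 1)
    (hcen : ∀ z, z * c = c * z) (hy : y * y = 1) (hy1 : y ≠ 1) (hyc : y ≠ c) : ∃ w, w * y * w⁻¹ = y * c := by
  have hm0 := NeZero.ne m
  have h4 := Nat.le_of_dvd (by omega) hm
  have hc' := central_eq_half (by omega) hc hc1 hcen
  subst hc'
  rcases y with j | i
  · exfalso
    rw [DihedralGroup.r_mul_r, DihedralGroup.one_def, DihedralGroup.r.injEq] at hy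
    rcases zmod_double_eq_zero hy with rfl | rfl
    · exact hy1 DihedralGroup.one_def.symm
    · exact hyc rfl
  · have hh := half_add_half (m := m) (dvd_trans (by norm_num) hm)
    have hq : ((m / 4 : ℕ) : ZMod m) + (m / 4 : ℕ) = (m / 2 : ℕ) := by
      rw [← Nat.cast_add]; congr 1; omega
    refine ⟨.r ((m / 4 : ℕ) : ZMod m), ?_⟩
    rw [DihedralGroup.inv_r, DihedralGroup.r_mul_sr, DihedralGroup.sr_mul_r, DihedralGroup.sr_mul_r,
      DihedralGroup.sr.injEq]
    linear_combination (-1 : ZMod m) * hq - hh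

/-- A reflection has a small centraliser. -/
theorem card_commute_le {m : ℕ} [NeZero m] {c y : DihedralGroup m} (hm : 3 ≤ m) (hc : c * c = 1) (hc1 : c ≠ 1)
    (hcen : ∀ z, z * c = c * z) (hy : y * y = 1) (hy1 : y ≠ 1) (hyc : y ≠ c) :
    Nat.card {z : DihedralGroup m // z * y = y * z} ≤ 4 := by
  classical
  have hc' := central_eq_half hm hc hc1 hcen
  subst hc'
  rcases y with j | i
  · exfalso
    rw [DihedralGroup.r_mul_r, DihedralGroup.one_def, DihedralGroup.r.injEq] at hy
    rcases zmod_double_eq_zero hy with rfl | rfl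
    · exact hy1 DihedralGroup.one_def.symm
    · exact hyc rfl
  · rw [Nat.card_eq_fintype_card, Fintype.card_subtype]
    refine le_trans (Finset.card_le_card (t := {.r 0, .r ((m / 2 : ℕ) : ZMod m), .sr i,
      .sr (i + (m / 2 : ℕ))}) fun z hz => ?_) ?_
    · simp only [Finset.mem_filter, Finset.mem_univ, true_and] at hz
      simp only [Finset.mem_insert, Finset.mem_singleton]
      rcases z with j | k
      · rw [DihedralGroup.r_mul_sr, DihedralGroup.sr_mul_r, DihedralGroup.sr.injEq] at hz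
        rcases zmod_double_eq_zero (show j + j = 0 by linear_combination -hz) with h | h <;> simp [h]
      · rw [DihedralGroup.sr_mul_sr, DihedralGroup.sr_mul_sr, DihedralGroup.r.injEq] at hz
        rcases zmod_double_eq_zero (show (k - i) + (k - i) = 0 by linear_combination -hz) with h | h
        · simp [sub_eq_zero.mp h]
        · simp [show k = i + ((m / 2 : ℕ) : ZMod m) by linear_combination h]
    · exact le_trans (Finset.card_insert_le _ _) (by
        refine Nat.succ_le_succ (le_trans (Finset.card_insert_le _ _) (Nat.succ_le_succ ?_))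
        exact Finset.card_le_two)

end Dihedral

variable {F : Type*} [Field F] [Fintype F]

local notation "SL2" => Matrix.SpecialLinearGroup (Fin 2) F
local notation "M2" => Matrix (Fin 2) (Fin 2) F
local notation "PSL2" => Matrix.ProjectiveSpecialLinearGroup (Fin 2) F

theorem two_ne_of_odd (hodd : Fintype.card F % 2 = 1) : (2 : F) ≠ 0 := Ring.two_ne_zero fun h => by
  have := FiniteField.even_card_of_char_two h
  omega

/-- An involution lifts to an element of trace zero. -/
theorem exists_lift_invol (hodd : Fintype.card F % 2 = 1) {x : PSL2} (hx : orderOf x = 2) :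
    ∃ X : SL2, toPSL X = x ∧ X ∉ Subgroup.center SL2 ∧ tr X = 0 ∧ tr X ^ 2 ≠ 4 := by
  obtain ⟨X, rfl⟩ := toPSL_surjective x
  have hZ : X ∉ Subgroup.center SL2 := fun h => by
    rw [toPSL_eq_one.mpr (mem_center_iff.mp h), orderOf_one] at hx
    omega
  have h0 := tr_zero_of_sq hZ (by rw [← sq]; exact orderOf_dvd_iff_pow_eq_one.mp (dvd_of_eq hx))
  refine ⟨X, rfl, hZ, h0, fun h => two_ne_of_odd hodd ?_⟩
  rw [h0] at h
  exact mul_self_eq_zero.mp (by linear_combination -h)

theorem centralizer_invol (hodd : Fintype.card F % 2 = 1) {X : SL2} (hX : X ∉ Subgroup.center SL2) (h0 : tr X = 0) :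
    Subgroup.centralizer ({toPSL X} : Set PSL2) = torusNorm X := by
  have ht : tr X ^ 2 ≠ 4 := fun h => two_ne_of_odd hodd (by
    rw [h0] at h; exact mul_self_eq_zero.mp (by linear_combination -h))
  have hneg : X⁻¹ = -X := sl_ext (by
    rw [coe_inv_eq, h0, zero_smul, zero_sub, Matrix.SpecialLinearGroup.coe_neg])
  refine le_antisymm (fun g hg => le_torusNorm_of_conj (M := Subgroup.centralizer ({toPSL X} : Set PSL2)) hX
    (fun h hh => by
      rw [Subgroup.mem_centralizer_singleton_iff] at hh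
      rw [hh, mul_inv_cancel_right]
      exact Subgroup.mem_zpowers _) hg) ?_
  rintro _ ⟨g, hg, rfl⟩
  rw [Subgroup.mem_centralizer_singleton_iff]
  have hcell : g * X * g⁻¹ ∈ cell ⊤ X := by
    have h := ((mem_cellNorm_iff ⊤).mp hg).2
    rw [cell_conj ⊤ (Subgroup.mem_top g)] at h
    exact h ▸ mem_cell_self ⊤ (Subgroup.mem_top _)
  have h : toPSL (g * X * g⁻¹) = toPSL X := by
    rcases eq_or_eq_inv_of_tr hX ht hcell.1 (tr_conj X g) with h | h
    · rw [h]
    · rw [h, hneg, Cfsg.Agent.Lib.SL2Trace.toPSL_neg]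
  rw [map_mul, map_mul, map_inv] at h
  exact mul_inv_eq_iff_eq_mul.mp h

/-- The centraliser of an involution. -/
theorem invol_data (hodd : Fintype.card F % 2 = 1) {x : PSL2} (hx : orderOf x = 2) :
    ∃ m, 2 ∣ m ∧ m ≠ 0 ∧ (2 * m + 1 = Fintype.card F ∨ 2 * m = Fintype.card F + 1) ∧
      (Fintype.card F % 8 = 1 ∨ Fintype.card F % 8 = 7 → 4 ∣ m) ∧
      Nonempty (Subgroup.centralizer ({x} : Set PSL2) ≃* DihedralGroup m) := by
  obtain ⟨X, rfl, hX, h0, ht⟩ := exists_lift_invol hodd hx
  rw [centralizer_invol hodd hX h0]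
  have hd : Nat.gcd 2 (Fintype.card F - 1) = 2 := Nat.gcd_eq_left (Nat.dvd_iff_mod_eq_zero.mpr (by omega))
  have hsq : IsSplit X ↔ Fintype.card F % 4 ≠ 3 := by
    rw [← FiniteField.isSquare_neg_one_iff]
    constructor
    · rintro ⟨r, hr⟩; exact ⟨r, by rw [h0] at hr; linear_combination -hr⟩
    · rintro ⟨r, hr⟩; exact ⟨r, by rw [h0]; linear_combination -hr⟩
  have hq := Fintype.one_lt_card (α := F)
  by_cases hs : IsSplit X
  · have h4 := hsq.mp hs
    refine ⟨_, ?_, ?_, ?_, ?_, (torusNorm_data hX ht (split_half hX ht hs)).1⟩ <;> rw [hd] <;> omega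
  · have h4 : Fintype.card F % 4 = 3 := by by_contra h; exact hs (hsq.mpr h)
    refine ⟨_, ?_, ?_, ?_, ?_, (torusNorm_data hX ht (nonsplit_half hX ht hs)).1⟩ <;> rw [hd] <;> omega

theorem isConj_invol (hodd : Fintype.card F % 2 = 1) {x y : PSL2} (hx : orderOf x = 2) (hy : orderOf y = 2) :
    IsConj x y := by
  obtain ⟨X, rfl, -, hX0, htX⟩ := exists_lift_invol hodd hx
  obtain ⟨Y, rfl, -, hY0, -⟩ := exists_lift_invol hodd hy
  exact Cfsg.Agent.Lib.SL2Trace.isConj_toPSL (Cfsg.Agent.Lib.SL2Trace.isConj_of_tr_eq (hX0.trans hY0.symm) htX)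

theorem card_invol (hodd : Fintype.card F % 2 = 1) {x : PSL2} (hx : orderOf x = 2) :
    Nat.card {y : PSL2 // orderOf y = 2} = (Subgroup.centralizer ({x} : Set PSL2)).index := by
  rw [Subgroup.centralizer_eq_comap_stabilizer]
  refine Eq.trans ?_ (Subgroup.index_comap_of_surjective _
    (show Function.Surjective (ConjAct.toConjAct (G := PSL2)).toMonoidHom from ConjAct.toConjAct.surjective)).symm
  rw [MulAction.index_stabilizer, ← Nat.card_coe_set_eq]
  refine Nat.card_congr (Equiv.subtypeEquivRight fun y => ?_)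
  rw [ConjAct.mem_orbit_conjAct]
  refine ⟨fun hy => (isConj_invol hodd hy hx), fun h => ?_⟩
  obtain ⟨c, hc⟩ := isConj_iff.mp h
  exact Eq.trans (by rw [← hc, ← MulAut.conj_apply c y, MulEquiv.orderOf_eq]) hx

section Four

variable {G : Type*} [Group G]

/-- The fours group on a commuting pair of involutions. -/
def fourOf (x y : G) (hx : x * x = 1) (hy : y * y = 1) (hxy : x * y = y * x) : Subgroup G where
  carrier := {1, x, y, x * y}
  one_mem' := Set.mem_insert _ _
  mul_mem' := by
    have e1 : x * (x * y) = y := by rw [← mul_assoc, hx, one_mul]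
    have e2 : (x * y) * x = y := by rw [hxy, mul_assoc, hx, mul_one]
    have e3 : y * (x * y) = x := by rw [hxy, ← mul_assoc, hy, one_mul]
    have e4 : (x * y) * y = x := by rw [mul_assoc, hy, mul_one]
    have e5 : (x * y) * (x * y) = 1 := by rw [mul_assoc x, e3, hx]
    intro a b ha hb
    simp only [Set.mem_insert_iff, Set.mem_singleton_iff] at ha hb ⊢
    rcases ha with rfl | rfl | rfl | rfl <;> rcases hb with rfl | rfl | rfl | rfl <;>
      simp [hx, hy, e1, e2, e3, e4, e5, ← hxy]
  inv_mem' := by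
    have e3 : y * (x * y) = x := by rw [hxy, ← mul_assoc, hy, one_mul]
    intro a ha
    simp only [Set.mem_insert_iff, Set.mem_singleton_iff] at ha ⊢
    rcases ha with rfl | rfl | rfl | rfl
    · simp
    · exact Or.inr (Or.inl (inv_eq_of_mul_eq_one_right hx))
    · exact Or.inr (Or.inr (Or.inl (inv_eq_of_mul_eq_one_right hy)))
    · exact Or.inr (Or.inr (Or.inr (inv_eq_of_mul_eq_one_right (by rw [mul_assoc x, e3, hx]))))

theorem isKleinFour_fourOf {x y : G} (hx : x * x = 1) (hy : y * y = 1) (hxy : x * y = y * x) (hx1 : x ≠ 1)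
    (hy1 : y ≠ 1) (hne : x ≠ y) : IsKleinFour (fourOf x y hx hy hxy) := by
  classical
  have hxy1 : x * y ≠ 1 := fun h => hne (by
    calc x = x * (y * y) := by rw [hy, mul_one]
      _ = y := by rw [← mul_assoc, h, one_mul])
  have hc : Nat.card (fourOf x y hx hy hxy) = 4 := by
    show Nat.card ({1, x, y, x * y} : Set G) = 4
    rw [Nat.card_coe_set_eq, Set.ncard_insert_of_notMem, Set.ncard_insert_of_notMem, Set.ncard_pair]
    · intro h; exact hx1 (right_eq_mul.mp h)
    · simp [hne, hy1, Ne.symm hy1]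
    · simp [Ne.symm hx1, Ne.symm hy1, Ne.symm hxy1]
  refine ⟨hc, Nat.dvd_antisymm (Monoid.exponent_dvd_of_forall_pow_eq_one fun z => Subtype.ext ?_) ?_⟩
  · obtain ⟨z, hz⟩ := z
    show z ^ 2 = 1
    rcases hz with rfl | rfl | rfl | rfl
    · simp
    · rw [sq, hx]
    · rw [sq, hy]
    · rw [sq, mul_assoc x, hxy, ← mul_assoc y, hy, one_mul, hx]
  · have h := Monoid.order_dvd_exponent (⟨x, Or.inr (Or.inl rfl)⟩ : fourOf x y hx hy hxy)
    haveI : Fact (Nat.Prime 2) := ⟨Nat.prime_two⟩
    rwa [orderOf_eq_prime (p := 2) (Subtype.ext (by rw [Subgroup.coe_pow, sq]; exact hx))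
      (fun e => hx1 (congrArg Subtype.val e))] at h

theorem four_sq {V : Subgroup G} [IsKleinFour V] {x : G} (hx : x ∈ V) : x * x = 1 :=
  congrArg Subtype.val (IsKleinFour.mul_self (⟨x, hx⟩ : V))

theorem four_comm {V : Subgroup G} [IsKleinFour V] {x y : G} (hx : x ∈ V) (hy : y ∈ V) : x * y = y * x :=
  congrArg Subtype.val (mul_comm_of_exponent_two IsKleinFour.exponent_two (⟨x, hx⟩ : V) ⟨y, hy⟩)

theorem four_eq {V : Subgroup G} [IsKleinFour V] {x y : G} (hxV : x ∈ V) (hyV : y ∈ V) (hx1 : x ≠ 1) (hy1 : y ≠ 1)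
    (hne : x ≠ y) : V = fourOf x y (four_sq hxV) (four_sq hyV) (four_comm hxV hyV) := by
  haveI := isKleinFour_fourOf (four_sq hxV) (four_sq hyV) (four_comm hxV hyV) hx1 hy1 hne
  haveI : Finite V := Nat.finite_of_card_ne_zero (by rw [IsKleinFour.card_four (G := V)]; norm_num)
  refine (Subgroup.eq_of_le_of_card_ge ?_ ?_).symm
  · rintro z (rfl | rfl | rfl | rfl)
    · exact V.one_mem
    · exact hxV
    · exact hyV
    · exact V.mul_mem hxV hyV
  · rw [IsKleinFour.card_four (G := V), IsKleinFour.card_four (G := fourOf x y _ _ _)]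

theorem orderOf_eq_two_iff' {x : G} : orderOf x = 2 ↔ x * x = 1 ∧ x ≠ 1 := by
  haveI : Fact (Nat.Prime 2) := ⟨Nat.prime_two⟩
  rw [orderOf_eq_prime_iff, sq]

end Four

/-- The commuting partners of an involution. -/
theorem card_partners (hodd : Fintype.card F % 2 = 1) {x : PSL2} (hx : orderOf x = 2) :
    2 * (Nat.card {y : PSL2 // orderOf y = 2 ∧ y ≠ x ∧ x * y = y * x} *
      Nat.card {y : PSL2 // orderOf y = 2}) = Nat.card PSL2 := by
  obtain ⟨m, hm, hm0, -, -, ⟨e⟩⟩ := invol_data hodd hx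
  haveI : NeZero m := ⟨hm0⟩
  have hx2 := orderOf_eq_two_iff'.mp hx
  set C := Subgroup.centralizer ({x} : Set PSL2) with hC
  have hxC : x ∈ C := Subgroup.mem_centralizer_singleton_iff.mpr rfl
  have hcount : Nat.card {y : PSL2 // orderOf y = 2 ∧ y ≠ x ∧ x * y = y * x} = m := by
    rw [← card_dihedral_invol_ne hm (c := e ⟨x, hxC⟩) (by rw [← map_mul, ← e.map_one]; exact congrArg e (Subtype.ext hx2.1))
      (fun h => hx2.2 (congrArg Subtype.val (e.injective (h.trans e.map_one.symm))))]
    refine Nat.card_congr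
      { toFun := fun y => ⟨e ⟨y.1, Subgroup.mem_centralizer_singleton_iff.mpr y.2.2.2.symm⟩, ?_, ?_, ?_⟩
        invFun := fun z => ⟨(e.symm z.1).1, orderOf_eq_two_iff'.mpr ⟨?_, ?_⟩, ?_, ?_⟩
        left_inv := fun y => by simp
        right_inv := fun z => by simp }
    · rw [← map_mul, ← e.map_one]; exact congrArg e (Subtype.ext (orderOf_eq_two_iff'.mp y.2.1).1)
    · exact fun h => (orderOf_eq_two_iff'.mp y.2.1).2 (congrArg Subtype.val (e.injective (h.trans e.map_one.symm)))
    · exact fun h => y.2.2.1 (congrArg Subtype.val (e.injective h))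
    · rw [← Subgroup.coe_mul, ← map_mul, z.2.1, map_one, Subgroup.coe_one]
    · exact fun h => z.2.2.1 (e.symm.injective ((Subtype.ext h : e.symm z.1 = 1).trans e.symm.map_one.symm))
    · exact fun h => z.2.2.2 (e.symm.injective ((Subtype.ext h : e.symm z.1 = ⟨x, hxC⟩).trans (e.symm_apply_apply _).symm))
    · exact (Subgroup.mem_centralizer_singleton_iff.mp (e.symm z.1).2).symm
  rw [hcount, card_invol hodd hx, ← C.card_mul_index, Nat.card_congr e.toEquiv, DihedralGroup.nat_card, ← hC,
    mul_assoc]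

/-- Twelve times the number of fours groups. -/
theorem card_four_groups (hodd : Fintype.card F % 2 = 1) :
    12 * Nat.card {V : Subgroup PSL2 // IsKleinFour V} = Nat.card PSL2 := by
  classical
  let T := Σ x : {y : PSL2 // orderOf y = 2}, {y : PSL2 // orderOf y = 2 ∧ y ≠ x.1 ∧ x.1 * y = y * x.1}
  let P := fun V : {V : Subgroup PSL2 // IsKleinFour V} => {ab : V.1 × V.1 // ab.1 ≠ 1 ∧ ab.2 ≠ 1 ∧ ab.1 ≠ ab.2}
  let f : (Σ V : {V : Subgroup PSL2 // IsKleinFour V}, P V) → T := fun ⟨V, ab⟩ =>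
    haveI := V.2
    ⟨⟨ab.1.1.1, orderOf_eq_two_iff'.mpr ⟨four_sq ab.1.1.2, fun h => ab.2.1 (Subtype.ext h)⟩⟩,
      ⟨ab.1.2.1, orderOf_eq_two_iff'.mpr ⟨four_sq ab.1.2.2, fun h => ab.2.2.1 (Subtype.ext h)⟩,
        fun h => ab.2.2.2 (Subtype.ext h).symm, four_comm ab.1.1.2 ab.1.2.2⟩⟩
  have hf : Function.Bijective f := by
    constructor
    · rintro ⟨⟨V, hV⟩, ⟨⟨a, ha⟩, ⟨b, hb⟩⟩, h1, h2, h3⟩ ⟨⟨W, hW⟩, ⟨⟨a', ha'⟩, ⟨b', hb'⟩⟩, h1', h2', h3'⟩ h
      have hA : a = a' := congrArg (fun t : T => t.1.1) h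
      have hB : b = b' := congrArg (fun t : T => t.2.1) h
      subst hA hB
      have e : V = W := by
        rw [@four_eq _ _ V hV a b ha hb (fun h => h1 (Subtype.ext h)) (fun h => h2 (Subtype.ext h))
            (fun h => h3 (Subtype.ext h)),
          @four_eq _ _ W hW a b ha' hb' (fun h => h1 (Subtype.ext h)) (fun h => h2 (Subtype.ext h))
            (fun h => h3 (Subtype.ext h))]
      subst e
      rfl
    · rintro ⟨⟨x, hx⟩, ⟨y, hy, hne, hc⟩⟩
      obtain ⟨hx2, hx1⟩ := orderOf_eq_two_iff'.mp hx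
      obtain ⟨hy2, hy1⟩ := orderOf_eq_two_iff'.mp hy
      exact ⟨⟨⟨fourOf x y hx2 hy2 hc, isKleinFour_fourOf hx2 hy2 hc hx1 hy1 (Ne.symm hne)⟩,
        ⟨(⟨x, Or.inr (Or.inl rfl)⟩, ⟨y, Or.inr (Or.inr (Or.inl rfl))⟩),
          fun h => hx1 (congrArg Subtype.val h), fun h => hy1 (congrArg Subtype.val h),
          fun h => hne (congrArg Subtype.val h).symm⟩⟩, rfl⟩
  have hP : ∀ V, Nat.card (P V) = 6 := by
    rintro ⟨V, hV⟩
    haveI := hV
    haveI := Fintype.ofFinite V
    rw [Nat.card_eq_fintype_card, Fintype.card_subtype,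
      show (Finset.univ.filter fun ab : V × V => ab.1 ≠ 1 ∧ ab.2 ≠ 1 ∧ ab.1 ≠ ab.2) =
        ((Finset.univ : Finset V).erase 1).offDiag from Finset.ext fun ab => by simp [Finset.mem_offDiag],
      Finset.offDiag_card, Finset.card_erase_of_mem (Finset.mem_univ _), Finset.card_univ,
      ← Nat.card_eq_fintype_card, IsKleinFour.card_four (G := V)]
  have key := Nat.card_congr (Equiv.ofBijective f hf)
  rw [Nat.card_sigma, Finset.sum_const_nat (m := 6) (fun V _ => hP V), Nat.card_sigma, Finset.card_univ,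
    ← Nat.card_eq_fintype_card] at key
  haveI : Fact (Nat.Prime 2) := ⟨Nat.prime_two⟩
  obtain ⟨x₀, hx₀⟩ := exists_prime_orderOf_dvd_card' (G := PSL2) 2 (by
    have h := card_PSL2_odd (F := F) hodd
    obtain ⟨j, hj⟩ : ∃ j, Fintype.card F = 2 * j + 1 := ⟨Fintype.card F / 2, by omega⟩
    have h4 : 2 * 2 ∣ Fintype.card F * (Fintype.card F ^ 2 - 1) :=
      dvd_mul_of_dvd_right ⟨j * (j + 1), by
        rw [hj, show (2 * j + 1) ^ 2 = 2 * 2 * (j * (j + 1)) + 1 by ring, Nat.add_sub_cancel]⟩ _
    rw [← h] at h4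
    exact Nat.dvd_of_mul_dvd_mul_left two_pos h4)
  have hc₀ := card_partners hodd hx₀
  have hN : 0 < Nat.card {y : PSL2 // orderOf y = 2} := by
    haveI : Nonempty {y : PSL2 // orderOf y = 2} := ⟨⟨x₀, hx₀⟩⟩
    exact Nat.card_pos
  rw [Finset.sum_const_nat (m := Nat.card {y : PSL2 // orderOf y = 2 ∧ y ≠ x₀ ∧ x₀ * y = y * x₀}) (fun x _ => by
    refine Nat.eq_of_mul_eq_mul_right hN (Nat.eq_of_mul_eq_mul_left two_pos ?_)
    rw [card_partners hodd x.2, hc₀]), Finset.card_univ, ← Nat.card_eq_fintype_card] at key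
  rw [← hc₀, show (12 : ℕ) = 2 * 6 from rfl, mul_assoc, mul_comm 6, key]
  ring

/-- The normaliser of a fours group, when `8` divides the group order. -/
theorem card_normalizer_four (hodd : Fintype.card F % 2 = 1) (h8 : Fintype.card F % 8 = 1 ∨ Fintype.card F % 8 = 7)
    {V : Subgroup PSL2} [IsKleinFour V] : Nat.card (Subgroup.normalizer (V : Set PSL2)) = 24 := by
  classical
  set N := Subgroup.normalizer (V : Set PSL2)
  let S := {z : V // z ≠ 1}
  letI : MulAction N S :=
    { smul := fun g z => ⟨⟨g.1 * z.1.1 * g.1⁻¹, (Subgroup.mem_normalizer_iff.mp g.2 _).mp z.1.2⟩, fun h =>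
        z.2 (Subtype.ext (by
          have h' : g.1 * z.1.1 * g.1⁻¹ = 1 := congrArg Subtype.val h
          simpa using h'))⟩
      one_smul := fun z => Subtype.ext (Subtype.ext (by show (1 : PSL2) * z.1.1 * 1⁻¹ = z.1.1; simp))
      mul_smul := fun g h z => Subtype.ext (Subtype.ext (by
        show (g.1 * h.1) * z.1.1 * (g.1 * h.1)⁻¹ = g.1 * (h.1 * z.1.1 * h.1⁻¹) * g.1⁻¹
        group)) }
  haveI := Fintype.ofFinite V
  have hS : Fintype.card S = 3 := by
    rw [Fintype.card_subtype_compl, Fintype.card_subtype_eq, ← Nat.card_eq_fintype_card,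
      IsKleinFour.card_four (G := V)]
  let φ := MulAction.toPermHom N S
  -- for each point, an element moving only the other two
  have hsw : ∀ a : S, ∃ σ ∈ φ.range, σ a = a ∧ σ ≠ 1 := by
    rintro ⟨⟨x, hxV⟩, hx1⟩
    have hx : orderOf x = 2 := orderOf_eq_two_iff'.mpr ⟨four_sq hxV, fun h => hx1 (Subtype.ext h)⟩
    obtain ⟨m, -, hm0, -, hm4, ⟨e⟩⟩ := invol_data hodd hx
    haveI : NeZero m := ⟨hm0⟩
    obtain ⟨⟨y, hy1⟩, hy⟩ := Fintype.exists_ne_of_one_lt_card (by omega : 1 < Fintype.card S) ⟨⟨x, hxV⟩, hx1⟩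
    have hyx : y.1 ≠ x := fun h => hy (Subtype.ext (Subtype.ext h))
    have hxC : x ∈ Subgroup.centralizer ({x} : Set PSL2) := Subgroup.mem_centralizer_singleton_iff.mpr rfl
    have hyC : y.1 ∈ Subgroup.centralizer ({x} : Set PSL2) :=
      Subgroup.mem_centralizer_singleton_iff.mpr (four_comm y.2 hxV)
    obtain ⟨w, hw⟩ := exists_swap (hm4 h8) (c := e ⟨x, hxC⟩) (y := e ⟨y.1, hyC⟩)
      (by rw [← map_mul, ← e.map_one]; exact congrArg e (Subtype.ext (four_sq hxV)))
      (fun h => hx1 (Subtype.ext (by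
        have := congrArg Subtype.val (e.injective (h.trans e.map_one.symm)); simpa using this)))
      (fun z => by
        obtain ⟨z, rfl⟩ := e.surjective z
        rw [← map_mul, ← map_mul]
        exact congrArg e (Subtype.ext (Subgroup.mem_centralizer_singleton_iff.mp z.2)))
      (by rw [← map_mul, ← e.map_one]; exact congrArg e (Subtype.ext (four_sq y.2)))
      (fun h => hy1 (Subtype.ext (by
        have := congrArg Subtype.val (e.injective (h.trans e.map_one.symm)); simpa using this)))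
      (fun h => hyx (congrArg Subtype.val (e.injective h)))
    obtain ⟨w, rfl⟩ := e.surjective w
    rw [← map_inv, ← map_mul, ← map_mul, ← map_mul] at hw
    have hwy : w.1 * y.1 * w.1⁻¹ = y.1 * x := congrArg Subtype.val (e.injective hw)
    have hwx : w.1 * x * w.1⁻¹ = x := by
      rw [Subgroup.mem_centralizer_singleton_iff.mp w.2, mul_inv_cancel_right]
    have hV := four_eq hxV y.2 (fun h => hx1 (Subtype.ext h)) (fun h => hy1 (Subtype.ext h)) (Ne.symm hyx)
    have hfw : V.map (MulAut.conj w.1).toMonoidHom ≤ V := by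
      rintro _ ⟨z, hz, rfl⟩
      show w.1 * z * w.1⁻¹ ∈ V
      rw [hV] at hz
      rcases hz with rfl | rfl | rfl | rfl
      · simp
      · rw [hwx]; exact hxV
      · rw [hwy]; exact V.mul_mem y.2 hxV
      · rw [show w.1 * (x * y.1) * w.1⁻¹ = (w.1 * x * w.1⁻¹) * (w.1 * y.1 * w.1⁻¹) by group, hwx, hwy]
        exact V.mul_mem hxV (V.mul_mem y.2 hxV)
    have heq : V.map (MulAut.conj w.1).toMonoidHom = V := Subgroup.eq_of_le_of_card_ge hfw
      (by rw [← Nat.card_congr (V.equivMapOfInjective _ (MulAut.conj w.1).injective).toEquiv])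
    have hwN : w.1 ∈ N := Subgroup.mem_normalizer_iff.mpr fun z => ⟨fun hz => hfw ⟨z, hz, rfl⟩, fun hz => by
      obtain ⟨z', hz', he⟩ := (heq.symm ▸ hz : w.1 * z * w.1⁻¹ ∈ V.map (MulAut.conj w.1).toMonoidHom)
      rwa [← (MulAut.conj w.1).injective (show MulAut.conj w.1 z' = MulAut.conj w.1 z from he)]⟩
    refine ⟨φ ⟨w.1, hwN⟩, ⟨_, rfl⟩, Subtype.ext (Subtype.ext hwx), fun h => hx1 (Subtype.ext ?_)⟩
    have h' : w.1 * y.1 * w.1⁻¹ = y.1 :=
      congrArg (fun σ : Equiv.Perm S => (σ ⟨y, hy1⟩).1.1) h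
    rw [hwy] at h'
    exact mul_eq_left.mp h'
  have hrange : Nat.card φ.range = 6 := by
    have h6 : Nat.card (Equiv.Perm S) = 6 := by
      rw [Nat.card_perm, Nat.card_eq_fintype_card, hS]; rfl
    have hdvd := h6 ▸ φ.range.card_subgroup_dvd_card
    choose σ hσ hσa hσ1 using hsw
    have hinj : Function.Injective fun o : Option S => o.elim (⟨1, one_mem _⟩ : φ.range) fun a => ⟨σ a, hσ a⟩ := by
      rintro (- | a) (- | b) h
      · rfl
      · exact absurd (congrArg Subtype.val h).symm (hσ1 b)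
      · exact absurd (congrArg Subtype.val h) (hσ1 a)
      · congr 1
        by_contra hab
        have h' : σ a = σ b := congrArg Subtype.val h
        refine hσ1 a (Equiv.ext fun c => ?_)
        by_cases hca : c = a
        · rw [hca, hσa]; rfl
        by_cases hcb : c = b
        · rw [hcb, h', hσa]; rfl
        show σ a c = c
        by_contra hcc
        have hmem : σ a c ∈ ({c} : Finset S) := by
          have huniv : (Finset.univ : Finset S) = {a, b, c} := (Finset.eq_univ_of_card _ (by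
            rw [hS, Finset.card_insert_of_notMem (by simp [hab, Ne.symm hca]),
              Finset.card_pair (Ne.symm hcb)])).symm
          have : σ a c ∈ ({a, b, c} : Finset S) := huniv ▸ Finset.mem_univ _
          simp only [Finset.mem_insert, Finset.mem_singleton] at this ⊢
          rcases this with e | e | e
          · exact absurd ((σ a).injective (e.trans (hσa a).symm)) hca
          · exact absurd ((σ a).injective (e.trans (by rw [h', hσa]))) hcb
          · exact e
        exact hcc (Finset.mem_singleton.mp hmem)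
    have h4 := Nat.card_le_card_of_injective _ hinj
    rw [Nat.card_eq_fintype_card (α := Option S), Fintype.card_option, hS] at h4
    have := Nat.le_of_dvd (by norm_num) hdvd
    interval_cases h : Nat.card φ.range <;> omega
  have hker : Nat.card φ.ker = 4 := by
    refine le_antisymm ?_ ?_
    · obtain ⟨⟨⟨x, hxV⟩, hx1⟩⟩ : Nonempty S := Fintype.card_pos_iff.mp (by omega)
      have hx : orderOf x = 2 := orderOf_eq_two_iff'.mpr ⟨four_sq hxV, fun h => hx1 (Subtype.ext h)⟩
      obtain ⟨m, -, hm0, hmq, hm4, ⟨e⟩⟩ := invol_data hodd hx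
      haveI : NeZero m := ⟨hm0⟩
      have hm3 : 3 ≤ m := by
        have h4 := hm4 h8
        have := Nat.le_of_dvd (by omega) h4
        omega
      obtain ⟨⟨y, hy1⟩, hy⟩ := Fintype.exists_ne_of_one_lt_card (by omega : 1 < Fintype.card S) ⟨⟨x, hxV⟩, hx1⟩
      have hyx : y.1 ≠ x := fun h => hy (Subtype.ext (Subtype.ext h))
      have hyC : y.1 ∈ Subgroup.centralizer ({x} : Set PSL2) :=
        Subgroup.mem_centralizer_singleton_iff.mpr (four_comm y.2 hxV)
      have hxC : x ∈ Subgroup.centralizer ({x} : Set PSL2) := Subgroup.mem_centralizer_singleton_iff.mpr rfl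
      have hk : ∀ g : φ.ker, ∀ z : S, g.1.1 * z.1.1 = z.1.1 * g.1.1 := fun g z => by
        have h : g.1.1 * z.1.1 * g.1.1⁻¹ = z.1.1 :=
          congrArg (fun σ : Equiv.Perm S => (σ z).1.1) (MonoidHom.mem_ker.mp g.2)
        exact mul_inv_eq_iff_eq_mul.mp h
      refine le_trans ?_ (card_commute_le hm3 (c := e ⟨x, hxC⟩) (y := e ⟨y.1, hyC⟩)
        (by rw [← map_mul, ← e.map_one]; exact congrArg e (Subtype.ext (four_sq hxV)))
        (fun h => hx1 (Subtype.ext (by
          have := congrArg Subtype.val (e.injective (h.trans e.map_one.symm)); simpa using this)))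
        (fun z => by
          obtain ⟨z, rfl⟩ := e.surjective z
          rw [← map_mul, ← map_mul]
          exact congrArg e (Subtype.ext (Subgroup.mem_centralizer_singleton_iff.mp z.2)))
        (by rw [← map_mul, ← e.map_one]; exact congrArg e (Subtype.ext (four_sq y.2)))
        (fun h => hy1 (Subtype.ext (by
          have := congrArg Subtype.val (e.injective (h.trans e.map_one.symm)); simpa using this)))
        (fun h => hyx (congrArg Subtype.val (e.injective h))))
      refine Nat.card_le_card_of_injective (fun g => ⟨e ⟨g.1.1, Subgroup.mem_centralizer_singleton_iff.mpr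
        (hk g ⟨⟨x, hxV⟩, hx1⟩)⟩, by rw [← map_mul, ← map_mul]; exact congrArg e (Subtype.ext (hk g ⟨y, hy1⟩))⟩) ?_
      intro g h hgh
      exact Subtype.ext (Subtype.ext (congrArg (fun z : Subgroup.centralizer ({x} : Set PSL2) => z.1) (e.injective (congrArg Subtype.val hgh))))
    · rw [← IsKleinFour.card_four (G := V)]
      refine Nat.card_le_card_of_injective (fun v => ⟨⟨v.1, Subgroup.le_normalizer v.2⟩, ?_⟩) ?_
      · refine MonoidHom.mem_ker.mpr (Equiv.ext fun z => Subtype.ext (Subtype.ext ?_))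
        show v.1 * z.1.1 * v.1⁻¹ = z.1.1
        rw [four_comm v.2 z.1.2, mul_inv_cancel_right]
      · intro v w h
        exact Subtype.ext (congrArg (fun g : φ.ker => g.1.1) h)
  have h := φ.ker.card_mul_index
  rw [Subgroup.index_ker, hker, hrange] at h
  exact h.symm

end Cfsg.Agent.Lib.Geometry.Dickson
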