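import Cfsg.Agent.Lib.Geometry.Dickson.Cases
import Cfsg.Agent.Lib.Classical.OrthTwo
import Cfsg.Agent.S0494

/-!
The images in `PSL₂` of the shapes other than the subfield one.
-/

set_option autoImplicit false

namespace Cfsg.Agent.Lib.Geometry.Dickson

open Matrix
open scoped Matrix MatrixGroups Pointwise
open Cfsg.Agent.Lib.SL2Trace (tr toPSL toPSL_eq toPSL_eq_one mem_center_iff)

variable {F : Type*} [Field F] [Fintype F]

local notation "SL2" => Matrix.SpecialLinearGroup (Fin 2) F
local notation "zz" => Nat.card (Subgroup.center (Matrix.SpecialLinearGroup (Fin 2) F))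

variable (G : Subgroup (Matrix.SpecialLinearGroup (Fin 2) F))

/-- The order of the centre. -/
theorem zz_eq : zz = Nat.gcd 2 (Fintype.card F - 1) := by
  rw [Cfsg.Agent.Lib.Classical.card_center_SL, Fintype.card_fin]

theorem card_image (hZ : Subgroup.center SL2 ≤ G) {g : ℕ} (h : Nat.card G = zz * g) :
    Nat.card (G.map (toPSL : SL2 →* _)) = g := by
  have hm := card_map_toPSL G hZ G hZ le_rfl
  rw [h] at hm
  exact (Nat.eq_of_mul_eq_mul_left Nat.card_pos hm).symm

/-- The projection of `G` onto its image. -/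
def projG : G →* G.map (toPSL : SL2 →* Matrix.ProjectiveSpecialLinearGroup (Fin 2) F) :=
  (toPSL.comp G.subtype).codRestrict _ fun x => ⟨x.1, x.2, rfl⟩

theorem projG_surjective : Function.Surjective (projG G) := fun ⟨_, x, hx, e⟩ => ⟨⟨x, hx⟩, Subtype.ext e⟩

theorem projG_eq_one (x : G) : projG G x = 1 ↔ (x : SL2) ∈ Subgroup.center SL2 := by
  rw [Subtype.ext_iff]
  exact toPSL_eq_one.trans mem_center_iff.symm

theorem dvd_of_torus (hZ : Subgroup.center SL2 ≤ G) {y : SL2} (hy : y ∈ G) (hyZ : y ∉ Subgroup.center SL2)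
    (ht : tr y ^ 2 ≠ 4) {a : ℕ} (ha : Nat.card (cell G y) = zz * a) :
    a ∣ (Fintype.card F + 1) / Nat.gcd 2 (Fintype.card F - 1) ∨
      a ∣ (Fintype.card F - 1) / Nat.gcd 2 (Fintype.card F - 1) := by
  rw [← zz_eq]
  rcases torus_card_dvd G hyZ ht hy with h | h
  · exact Or.inr (Nat.dvd_div_of_mul_dvd (ha ▸ h))
  · exact Or.inl (Nat.dvd_div_of_mul_dvd (ha ▸ h))

theorem cyclic_image {y : SL2} (hy : y ∉ Subgroup.center SL2) (ht : tr y ^ 2 ≠ 4) (h : cell G y = G) :
    IsCyclic (G.map (toPSL : SL2 →* Matrix.ProjectiveSpecialLinearGroup (Fin 2) F)) := by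
  haveI : IsCyclic G := by
    have := torus_isCyclic G hy ht
    rwa [h] at this
  exact isCyclic_of_surjective (projG G) (projG_surjective G)

theorem dihedral_image (hZ : Subgroup.center SL2 ≤ G) {y : SL2} {a : ℕ} (hy : HasData G y a 2)
    (ht : tr y ^ 2 ≠ 4) (h : cellNorm G y = G) :
    Nonempty (G.map (toPSL : SL2 →* Matrix.ProjectiveSpecialLinearGroup (Fin 2) F) ≃* DihedralGroup a) := by
  obtain ⟨hyG, hyZ, hc, hN⟩ := hy
  set N := (cell G y).map (toPSL : SL2 →* Matrix.ProjectiveSpecialLinearGroup (Fin 2) F)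
  haveI : IsCyclic N := by
    haveI := torus_isCyclic G hyZ ht
    exact isCyclic_of_surjective ((toPSL.comp (cell G y).subtype).codRestrict N fun x => ⟨x.1, x.2, rfl⟩)
      fun ⟨_, x, hx, e⟩ => ⟨⟨x, hx⟩, Subtype.ext e⟩
  have hNc : Nat.card N = a := by
    have hm := card_map_toPSL G hZ (cell G y) (center_le_cell G hZ y) inf_le_right
    rw [hc] at hm
    exact (Nat.eq_of_mul_eq_mul_left Nat.card_pos hm).symm
  have ha : 0 < a := hNc ▸ Nat.card_pos
  obtain ⟨g, hg, hgc⟩ : ∃ g ∈ cellNorm G y, g ∉ cell G y := by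
    rcases torus_index G hyG hyZ ht with e | ⟨-, e⟩
    · exfalso
      rw [hc, hN] at e
      have := Nat.eq_of_mul_eq_mul_left Nat.card_pos e
      omega
    · exact e
  have hsq := sq_mem_center_of_inverts G hyG hyZ ht hg hgc
  have hgg : toPSL g * toPSL g = 1 := by rw [← map_mul]; exact toPSL_eq_one.mpr (mem_center_iff.mp hsq)
  refine Cfsg.Agent.Lib.Classical.dihedral_of_rot hNc N.subtype Subtype.val_injective (toPSL g)
    (fun u => Subgroup.map_mono inf_le_right u.2) ⟨g, hg.2, rfl⟩ hgg ?_ ?_ ?_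
  · rintro ⟨_, x, hx, rfl⟩ e
    apply hgc
    rcases toPSL_eq.mp (show toPSL x = toPSL g from e.symm) with rfl | rfl
    · exact hx
    · rw [neg_eq_neg_one_mul]
      exact (cell G y).mul_mem (center_le_cell G hZ y (mem_center_iff.mpr (Or.inr rfl))) hx
  · rintro ⟨_, x, hx, rfl⟩
    show toPSL g * toPSL x * toPSL g = (toPSL x)⁻¹
    rw [← map_inv, ← torus_inverts G hyG hyZ ht hg hgc hx, map_mul (toPSL) (g * x), map_inv,
      inv_eq_of_mul_eq_one_right hgg, map_mul]
  · rintro _ ⟨x, hx, rfl⟩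
    by_cases hxc : x ∈ cell G y
    · exact ⟨⟨toPSL x, x, hxc, rfl⟩, Or.inl rfl⟩
    have hxN : x ∈ cellNorm G y := h.symm ▸ hx
    have hxg : x * g ∈ cell G y := by
      refine ⟨mem_centralizer_iff.mpr ?_, G.mul_mem hx hg.2⟩
      have e1 := torus_inverts G hyG hyZ ht hg hgc (mem_cell_self G hyG)
      have e2 := torus_inverts G hyG hyZ ht hxN hxc ((cell G y).inv_mem (mem_cell_self G hyG))
      rw [inv_inv] at e2
      have e3 : x * g * y * (x * g)⁻¹ = y := by
        calc x * g * y * (x * g)⁻¹ = x * (g * y * g⁻¹) * x⁻¹ := by group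
          _ = y := by rw [e1, e2]
      exact mul_inv_eq_iff_eq_mul.mp e3
    exact ⟨⟨toPSL (x * g), x * g, hxg, rfl⟩, Or.inr (by
      show toPSL x = toPSL (x * g) * toPSL g
      rw [map_mul, mul_assoc, hgg, mul_one])⟩

theorem four_points (hZ : Subgroup.center SL2 ≤ G) {y : SL2} {e : ℕ} (hy : HasData G y 3 e)
    (ht : tr y ^ 2 ≠ 4) (h4 : Nat.card (cls G y) = 4) :
    ∃ f : G.map (toPSL : SL2 →* Matrix.ProjectiveSpecialLinearGroup (Fin 2) F) →* Equiv.Perm (cls G y),
      Function.Injective f := by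
  classical
  obtain ⟨hyG, hyZ, hc, -⟩ := hy
  have hstab : ∀ (g : G) (A : cls G y), MulAut.conj (g : SL2) • (A : Subgroup SL2) ∈ cls G y := by
    rintro g ⟨_, h, rfl⟩
    refine ⟨g * h, ?_⟩
    show cell G (((g : SL2) * h) * y * ((g : SL2) * h)⁻¹) = _
    rw [cell_conj G g.2]
    simp [mul_assoc]
  letI : MulAction G (cls G y) :=
    { smul := fun g A => ⟨MulAut.conj (g : SL2) • (A : Subgroup SL2), hstab g A⟩
      one_smul := fun A => Subtype.ext (by
        show MulAut.conj ((1 : G) : SL2) • (A : Subgroup SL2) = A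
        simp)
      mul_smul := fun g h A => Subtype.ext (by
        show MulAut.conj ((g * h : G) : SL2) • (A : Subgroup SL2) =
          MulAut.conj (g : SL2) • (MulAut.conj (h : SL2) • (A : Subgroup SL2))
        rw [Subgroup.coe_mul, map_mul, mul_smul]) }
  let ρ : G →* Equiv.Perm (cls G y) := MulAction.toPermHom G (cls G y)
  have hmem : ∀ g : G, ρ g = 1 ↔ ∀ x : G, (g : SL2) ∈ cellNorm G ((x : SL2) * y * (x : SL2)⁻¹) := by
    intro g
    constructor
    · intro h1 x
      refine (mem_cellNorm_iff G).mpr ⟨g.2, ?_⟩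
      exact congrArg (fun A : cls G y => (A : Subgroup SL2))
        (Equiv.ext_iff.mp h1 ⟨cell G ((x : SL2) * y * (x : SL2)⁻¹), x, rfl⟩)
    · intro h1
      refine Equiv.ext fun A => Subtype.ext ?_
      obtain ⟨x, hx⟩ := A.2
      show MulAut.conj (g : SL2) • (A : Subgroup SL2) = (A : Subgroup SL2)
      rw [← hx]
      exact ((mem_cellNorm_iff G).mp (h1 x)).2
  have hne : Nontrivial (cls G y) := by
    haveI : Finite (cls G y) := Finite.Set.finite_range _
    exact Finite.one_lt_card_iff_nontrivial.mp (by omega)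
  obtain ⟨B, hB⟩ := exists_ne (⟨cell G y, cell_mem_cls G y⟩ : cls G y)
  obtain ⟨b, hb⟩ := B.2
  have hbG : (b : SL2) * y * (b : SL2)⁻¹ ∈ G := G.mul_mem (G.mul_mem b.2 hyG) (G.inv_mem b.2)
  have hbZ := conj_notMem_center hyZ (b : SL2)
  have hbt : tr ((b : SL2) * y * (b : SL2)⁻¹) ^ 2 ≠ 4 := by rw [Cfsg.Agent.Lib.SL2Trace.tr_conj]; exact ht
  have hbc : Nat.card (cell G ((b : SL2) * y * (b : SL2)⁻¹)) = zz * 3 := by
    rw [(data_of_cls_eq G (cls_eq_of_cell_mem G (y := y) ⟨b, rfl⟩)).1, hc]
  have hdisj : ∀ g : G, ρ g = 1 → (g : SL2) ∈ cell G y → (g : SL2) ∈ Subgroup.center SL2 := by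
    intro g hg hgc
    by_contra hgZ
    have hgB := (hmem g).mp hg b
    by_cases hgbc : (g : SL2) ∈ cell G ((b : SL2) * y * (b : SL2)⁻¹)
    · apply hB
      refine Subtype.ext ?_
      show (B : Subgroup SL2) = cell G y
      rw [← hb]
      show cell G ((b : SL2) * y * (b : SL2)⁻¹) = cell G y
      rw [← cell_eq G hbZ hgZ hgbc, cell_eq G hyZ hgZ hgc]
    · exact hgZ (mem_center_of_sq G hZ (a := 3) (by decide) hc hgc
        (sq_mem_center_of_inverts G hbG hbZ hbt hgB hgbc))
  have hker : ρ.ker = (projG G).ker := by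
    ext g
    rw [MonoidHom.mem_ker, MonoidHom.mem_ker, projG_eq_one]
    constructor
    · intro hg
      by_contra hgZ
      have hgy : (g : SL2) ∈ cellNorm G y := by simpa using (hmem g).mp hg 1
      have hgc : (g : SL2) ∉ cell G y := fun h => hgZ (hdisj g hg h)
      set y' : G := ⟨y, hyG⟩
      have hk : ρ (y' * g * y'⁻¹ * g⁻¹) = 1 := by
        rw [map_mul, map_mul, map_mul, hg, map_inv, map_inv, hg]; simp
      have hval : ((y' * g * y'⁻¹ * g⁻¹ : G) : SL2) = y * y := by
        have e := torus_inverts G hyG hyZ ht hgy hgc ((cell G y).inv_mem (mem_cell_self G hyG))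
        rw [inv_inv] at e
        calc ((y' * g * y'⁻¹ * g⁻¹ : G) : SL2) = y * ((g : SL2) * y⁻¹ * (g : SL2)⁻¹) := by
              simp [y', mul_assoc]
          _ = y * y := by rw [e]
      have := hdisj _ hk (by rw [hval]; exact (cell G y).mul_mem (mem_cell_self G hyG) (mem_cell_self G hyG))
      rw [hval] at this
      exact hyZ (mem_center_of_sq G hZ (a := 3) (by decide) hc (mem_cell_self G hyG) this)
    · intro hg
      refine (hmem g).mpr fun x => ?_
      exact cell_le_cellNorm G _ (center_le_cell G hZ _ hg)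
  let e' := (QuotientGroup.quotientKerEquivOfSurjective (projG G) (projG_surjective G)).symm.trans
    ((QuotientGroup.quotientMulEquivOfEq hker.symm).trans (QuotientGroup.quotientKerEquivRange ρ))
  exact ⟨ρ.range.subtype.comp e'.toMonoidHom, Subtype.val_injective.comp e'.injective⟩

theorem card_cls_of_data {y : SL2} {a e g : ℕ} (hy : HasData G y a e) (hg : Nat.card G = zz * g) :
    Nat.card (cls G y) * (e * a) = g := by
  have h := card_cls_mul G y
  rw [hy.2.2.2, hg, show Nat.card (cls G y) * (zz * (e * a)) = zz * (Nat.card (cls G y) * (e * a)) by ring] at h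
  exact Nat.eq_of_mul_eq_mul_left Nat.card_pos h

theorem tetrahedral_image (hZ : Subgroup.center SL2 ≤ G) {y : SL2} (hy : HasData G y 3 1)
    (ht : tr y ^ 2 ≠ 4) (hg : Nat.card G = zz * 12) :
    Nonempty (G.map (toPSL : SL2 →* Matrix.ProjectiveSpecialLinearGroup (Fin 2) F) ≃* alternatingGroup (Fin 4)) := by
  classical
  have h4 : Nat.card (cls G y) = 4 := by have := card_cls_of_data G hy hg; omega
  obtain ⟨f, hf⟩ := four_points G hZ hy ht h4
  haveI := Fintype.ofFinite (cls G y)
  exact Cfsg.Agent.Lib.Classical.nonempty_mulEquiv_alternating (by rw [← Nat.card_eq_fintype_card, h4]) f hf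
    (by rw [card_image G hZ hg]; decide)

theorem octahedral_image (hZ : Subgroup.center SL2 ≤ G) {y : SL2} (hy : HasData G y 3 2)
    (ht : tr y ^ 2 ≠ 4) (hg : Nat.card G = zz * 24) :
    Nonempty (G.map (toPSL : SL2 →* Matrix.ProjectiveSpecialLinearGroup (Fin 2) F) ≃* Equiv.Perm (Fin 4)) := by
  classical
  have h4 : Nat.card (cls G y) = 4 := by have := card_cls_of_data G hy hg; omega
  obtain ⟨f, hf⟩ := four_points G hZ hy ht h4
  haveI := Fintype.ofFinite (cls G y)
  exact Cfsg.Agent.Lib.Classical.nonempty_mulEquiv_perm (by rw [← Nat.card_eq_fintype_card, h4]) f hf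
    (by rw [card_image G hZ hg]; decide)

theorem icosahedral_image (hZ : Subgroup.center SL2 ≤ G) {y₂ y₃ y₅ : SL2} (h₂ : HasData G y₂ 2 2)
    (h₃ : HasData G y₃ 3 2) (h₅ : HasData G y₅ 5 2)
    (hcover : ∀ x ∈ G, x ∉ Subgroup.center SL2 → cls G x = cls G y₂ ∨ cls G x = cls G y₃ ∨ cls G x = cls G y₅)
    (hg : Nat.card G = zz * 60) :
    Nonempty (G.map (toPSL : SL2 →* Matrix.ProjectiveSpecialLinearGroup (Fin 2) F) ≃* alternatingGroup (Fin 5)) := by
  classical
  set H := G.map (toPSL : SL2 →* Matrix.ProjectiveSpecialLinearGroup (Fin 2) F)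
  have hH : Nat.card H = 60 := card_image G hZ hg
  haveI : Nontrivial H := Finite.one_lt_card_iff_nontrivial.mp (by omega)
  have key : ∀ N : Subgroup H, N.Normal → N = ⊥ ∨ N = ⊤ := by
    intro N hN
    set M := (N.comap (projG G)).map G.subtype with hM
    have hmemM : ∀ x : G, (x : SL2) ∈ M ↔ projG G x ∈ N := fun x =>
      (Subgroup.mem_map_iff_mem Subtype.val_injective).trans Subgroup.mem_comap
    have hfib : ∀ {y : SL2} {a : ℕ}, HasData G y a 2 → a.Prime →
        (∃ x ∈ M, x ∉ Subgroup.center SL2 ∧ cls G x = cls G y) →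
          ∀ x ∈ G, x ∉ Subgroup.center SL2 → cls G x = cls G y → x ∈ M := by
      intro y a hy ha hex x' hx'G hx'Z hx'
      obtain ⟨x, hxM, hxZ, hx⟩ := hex
      obtain ⟨⟨xg, hxg⟩, hxN, rfl⟩ := hxM
      -- some cell conjugate to the cell of `x'` meets `M` outside the centre
      have hm : cell G x' ∈ cls G xg := by rw [show cls G xg = cls G y from hx, ← hx']; exact cell_mem_cls G x'
      obtain ⟨g, hgx⟩ := hm
      set c := (g : SL2) * xg * (g : SL2)⁻¹ with hc
      have hcG : c ∈ G := G.mul_mem (G.mul_mem g.2 hxg) (G.inv_mem g.2)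
      have hcN : projG G ⟨c, hcG⟩ ∈ N := by
        rw [show (⟨c, hcG⟩ : G) = g * ⟨xg, hxg⟩ * g⁻¹ from rfl, map_mul, map_mul, map_inv]
        exact hN.conj_mem _ hxN _
      have hcZ : c ∉ Subgroup.center SL2 := conj_notMem_center hxZ _
      have hcell : cell G c = cell G x' := hgx
      have hcard : Nat.card ((cell G c).map (toPSL : SL2 →* _)) = a := by
        have hm := card_map_toPSL G hZ (cell G c) (center_le_cell G hZ c) inf_le_right
        rw [hcell, (data_of_cls_eq G hx').1, hy.2.2.1] at hm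
        rw [hcell]
        exact (Nat.eq_of_mul_eq_mul_left Nat.card_pos hm).symm
      haveI : Fact a.Prime := ⟨ha⟩
      have hne : (⟨toPSL c, c, mem_cell_self G hcG, rfl⟩ : (cell G c).map (toPSL : SL2 →* _)) ≠ 1 :=
        fun h => hcZ (mem_center_iff.mpr (toPSL_eq_one.mp (congrArg Subtype.val h)))
      obtain ⟨n, hn⟩ := mem_zpowers_of_prime_card hcard
        (g := ⟨toPSL c, c, mem_cell_self G hcG, rfl⟩)
        (g' := ⟨toPSL x', x', hcell ▸ mem_cell_self G hx'G, rfl⟩) hne
      refine (hmemM ⟨x', hx'G⟩).mpr ?_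
      have : projG G ⟨x', hx'G⟩ = projG G ⟨c, hcG⟩ ^ n := Subtype.ext (by
        have := congrArg Subtype.val hn
        exact this.symm)
      rw [this]
      exact N.zpow_mem hcN n
    haveI := Fintype.ofFinite SL2
    let S : SL2 → Finset SL2 := fun y => Finset.univ.filter fun x => x ∈ G ∧ x ∉ Subgroup.center SL2 ∧ cls G x = cls G y
    have hS : ∀ {y : SL2} {a : ℕ}, HasData G y a 2 → (S y).card * (2 * a) = zz * (60 * (a - 1)) := by
      intro y a hy
      have h := card_fibre_mul G hZ hy.1 hy.2.1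
      rw [hy.2.2.1, hy.2.2.2, hg, show zz * a - zz = zz * (a - 1) by rw [Nat.mul_sub, mul_one]] at h
      have e : Nat.card {x : SL2 // x ∈ G ∧ x ∉ Subgroup.center SL2 ∧ cls G x = cls G y} = (S y).card := by
        rw [Nat.card_eq_fintype_card, Fintype.card_subtype]
      rw [e] at h
      refine Nat.eq_of_mul_eq_mul_left (n := zz) Nat.card_pos ?_
      linarith
    let Mf : Finset SL2 := Finset.univ.filter fun x => x ∈ M
    have hdist : ∀ {y y' : SL2} {a a' : ℕ}, HasData G y a 2 → HasData G y' a' 2 → a ≠ a' → cls G y ≠ cls G y' := by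
      intro y y' a a' h h' hne e
      have := (data_of_cls_eq G e).1
      rw [h.2.2.1, h'.2.2.1] at this
      exact hne (Nat.eq_of_mul_eq_mul_left Nat.card_pos this)
    have hMG : ∀ x ∈ M, x ∈ G := by
      rintro x ⟨z, -, rfl⟩; exact z.2
    have hsplit : Mf.card = (Finset.univ.filter fun x => x ∈ Subgroup.center SL2).card +
        (Mf ∩ S y₂).card + (Mf ∩ S y₃).card + (Mf ∩ S y₅).card := by
      rw [← Finset.card_union_of_disjoint, ← Finset.card_union_of_disjoint, ← Finset.card_union_of_disjoint]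
      · congr 1
        ext x
        simp only [Mf, S, Finset.mem_filter, Finset.mem_univ, true_and, Finset.mem_union, Finset.mem_inter]
        constructor
        · intro hx
          by_cases hxZ : x ∈ Subgroup.center SL2
          · exact Or.inl (Or.inl (Or.inl hxZ))
          · rcases hcover x (hMG x hx) hxZ with h | h | h
            · exact Or.inl (Or.inl (Or.inr ⟨hx, hMG x hx, hxZ, h⟩))
            · exact Or.inl (Or.inr ⟨hx, hMG x hx, hxZ, h⟩)
            · exact Or.inr ⟨hx, hMG x hx, hxZ, h⟩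
        · rintro (((h | h) | h) | h)
          · refine (hmemM ⟨x, hZ h⟩).mpr ?_
            rw [(projG_eq_one G ⟨x, hZ h⟩).mpr h]; exact N.one_mem
          all_goals exact h.1
      all_goals
        rw [Finset.disjoint_left]
        simp only [Mf, S, Finset.mem_filter, Finset.mem_univ, true_and, Finset.mem_union, Finset.mem_inter]
      · rintro x ((h | h) | h) h'
        · exact h'.2.2.1 h
        · exact hdist h₂ h₅ (by norm_num) (h.2.2.2.symm.trans h'.2.2.2)
        · exact hdist h₃ h₅ (by norm_num) (h.2.2.2.symm.trans h'.2.2.2)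
      · rintro x (h | h) h'
        · exact h'.2.2.1 h
        · exact hdist h₂ h₃ (by norm_num) (h.2.2.2.symm.trans h'.2.2.2)
      · rintro x h h'
        exact h'.2.2.1 h
    have halt : ∀ {y : SL2} {a : ℕ}, HasData G y a 2 → a.Prime → (Mf ∩ S y).card = 0 ∨ (Mf ∩ S y).card = (S y).card := by
      intro y a hy ha
      rcases (Mf ∩ S y).eq_empty_or_nonempty with h | ⟨x, hx⟩
      · exact Or.inl (by rw [h, Finset.card_empty])
      · refine Or.inr (congrArg Finset.card (Finset.inter_eq_right.mpr fun x' hx' => ?_))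
        simp only [Mf, S, Finset.mem_filter, Finset.mem_univ, true_and, Finset.mem_inter] at hx hx' ⊢
        exact hfib hy ha ⟨x, hx.1, hx.2.2.1, hx.2.2.2⟩ x' hx'.1 hx'.2.1 hx'.2.2
    have hMf : Mf.card = Nat.card M := by rw [Nat.card_eq_fintype_card, Fintype.card_subtype]
    have hzc : (Finset.univ.filter fun x => x ∈ Subgroup.center SL2).card = zz := by
      rw [Nat.card_eq_fintype_card, Fintype.card_subtype]
    have hMc : Nat.card M = zz * Nat.card N := by
      have h1 : Nat.card M = Nat.card (N.comap (projG G)) :=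
        (Nat.card_congr (Subgroup.equivMapOfInjective _ G.subtype Subtype.val_injective).toEquiv).symm
      have h2 : (N.comap (projG G)).index = N.index := Subgroup.index_comap_of_surjective _ (projG_surjective G)
      have h3 := (N.comap (projG G)).card_mul_index
      have h4 := N.card_mul_index
      rw [hH] at h4
      rw [h2, hg, ← h4, ← mul_assoc] at h3
      rw [h1]
      exact Nat.eq_of_mul_eq_mul_right (Nat.pos_of_ne_zero N.index_ne_zero_of_finite) h3
    obtain ⟨k, hk⟩ : Nat.card N ∣ 60 := hH ▸ N.card_subgroup_dvd_card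
    have s₂ := hS h₂
    have s₃ := hS h₃
    have s₅ := hS h₅
    have hz : 0 < zz := Nat.card_pos
    rw [hMf, hMc, hzc] at hsplit
    have hnum : Nat.card N = 1 ∨ Nat.card N = 60 := by
      have hdv : Nat.card N ∈ Nat.divisors 60 := Nat.mem_divisors.mpr ⟨⟨k, hk⟩, by norm_num⟩
      rw [show Nat.divisors 60 = {1, 2, 3, 4, 5, 6, 10, 12, 15, 20, 30, 60} by decide] at hdv
      simp only [Finset.mem_insert, Finset.mem_singleton] at hdv
      rcases halt h₂ Nat.prime_two with a | a <;> rcases halt h₃ Nat.prime_three with b | b <;>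
        rcases halt h₅ Nat.prime_five with c | c <;> rw [a, b, c] at hsplit <;>
        rcases hdv with e | e | e | e | e | e | e | e | e | e | e | e <;> rw [e] at hsplit <;> omega
    rcases hnum with e | e
    · exact Or.inl (N.eq_bot_of_card_eq e)
    · exact Or.inr ((Subgroup.card_eq_iff_eq_top N).mp (e.trans hH.symm))
  haveI : IsSimpleGroup H := ⟨key⟩
  exact Cfsg.Agent.S0494.result hH

end Cfsg.Agent.Lib.Geometry.Dickson
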