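import Cfsg.Agent.Lib.Geometry.Dickson.Model
import Cfsg.Agent.Lib.Geometry.Dickson.Recognize

/-!
`A₄`, `S₄` and `A₅` inside `PSL₂` in odd characteristic.
-/

set_option autoImplicit false

namespace Cfsg.Agent.Lib.Geometry.Dickson

open Matrix
open scoped Matrix MatrixGroups
open Cfsg.Agent.Lib.SL2Trace (tr toPSL toPSL_surjective toPSL_eq toPSL_eq_one mem_center_iff)

variable {F : Type*} [Field F] [Fintype F]

local notation "SL2" => Matrix.SpecialLinearGroup (Fin 2) F
local notation "M2" => Matrix (Fin 2) (Fin 2) F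
local notation "PSL2" => Matrix.ProjectiveSpecialLinearGroup (Fin 2) F

variable (θ al be : F) (s t : ℤ)

/-- The value of a coordinate. -/
def qcVal (a : QC) : F := (a.1 : F) + (a.2 : F) * θ

/-- The matrix of a quaternion given by four coordinates. -/
def quatMat (w x y z : F) : M2 :=
  !![w + y * al + z * be, x + y * be - z * al; -x + y * be - z * al, w - y * al - z * be]

/-- The matrix of twice a quaternion. -/
def qqMat : QQ → M2 := fun ⟨a, b, c, d⟩ =>
  quatMat al be (qcVal θ a) (qcVal θ b) (qcVal θ c) (qcVal θ d)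

theorem quatMat_mul (hab : al * al + be * be = -1) (w x y z w' x' y' z' : F) :
    quatMat al be w x y z * quatMat al be w' x' y' z' =
      quatMat al be (w * w' - x * x' - y * y' - z * z') (w * x' + x * w' + y * z' - z * y')
        (w * y' - x * z' + y * w' + z * x') (w * z' + x * y' - y * x' + z * w') := by
  ext i j
  fin_cases i <;> fin_cases j <;> simp [quatMat, Matrix.mul_apply, Fin.sum_univ_two]
  · linear_combination (y * y' + z * z') * hab
  · linear_combination (z * y' - y * z') * hab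
  · linear_combination (y * z' - z * y') * hab
  · linear_combination (y * y' + z * z') * hab

theorem qcVal_mul (hθ : θ * θ = (s : F) * θ + (t : F)) (a b : QC) :
    qcVal θ (qcMul s t a b) = qcVal θ a * qcVal θ b := by
  simp only [qcVal, qcMul]
  push_cast
  linear_combination (-(a.2 : F) * (b.2 : F)) * hθ

theorem qcVal_add (a b : QC) : qcVal θ (a + b) = qcVal θ a + qcVal θ b := by
  simp only [qcVal, Prod.fst_add, Prod.snd_add]; push_cast; ring

theorem qcVal_sub (a b : QC) : qcVal θ (a - b) = qcVal θ a - qcVal θ b := by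
  simp only [qcVal, Prod.fst_sub, Prod.snd_sub]; push_cast; ring

theorem qqMat_raw (hθ : θ * θ = (s : F) * θ + (t : F)) (hab : al * al + be * be = -1) (u v : QQ) :
    qqMat θ al be (qqRaw s t u v) = qqMat θ al be u * qqMat θ al be v := by
  obtain ⟨a, b, c, d⟩ := u
  obtain ⟨e, f, g, h⟩ := v
  simp only [qqMat, qqRaw]
  rw [quatMat_mul al be hab]
  simp only [qcVal_add, qcVal_sub, qcVal_mul θ s t hθ]

theorem qcVal_half {a : QC} (h : qcExact a = true) : (2 : F) * qcVal θ (qcHalf a) = qcVal θ a := by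
  simp only [qcExact, Bool.and_eq_true, beq_iff_eq] at h
  obtain ⟨h1, h2⟩ := h
  have e1 : (2 : ℤ) * (a.1 / 2) = a.1 := Int.mul_ediv_cancel' (Int.dvd_of_emod_eq_zero h1)
  have e2 : (2 : ℤ) * (a.2 / 2) = a.2 := Int.mul_ediv_cancel' (Int.dvd_of_emod_eq_zero h2)
  have f1 := congrArg (fun z : ℤ => (z : F)) e1
  have f2 := congrArg (fun z : ℤ => (z : F)) e2
  simp only [qcVal, qcHalf]
  push_cast at f1 f2
  linear_combination f1 + θ * f2

/-- The matrix of a quaternion. -/
noncomputable def qqElt (u : QQ) : M2 := (2 : F)⁻¹ • qqMat θ al be u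

theorem qqElt_mul (h2 : (2 : F) ≠ 0) (hθ : θ * θ = (s : F) * θ + (t : F)) (hab : al * al + be * be = -1) {u v : QQ}
    (h : qqExact s t u v = true) : qqElt θ al be (qqMul s t u v) = qqElt θ al be u * qqElt θ al be v := by
  have hraw := qqMat_raw θ al be s t hθ hab u v
  have hhalf : qqMat θ al be (qqRaw s t u v) = (2 : F) • qqMat θ al be (qqMul s t u v) := by
    obtain ⟨⟨a, b, c, d⟩, hR⟩ : ∃ r, qqRaw s t u v = r := ⟨_, rfl⟩
    simp only [qqExact, qqMul, hR] at h ⊢
    simp only [Bool.and_eq_true] at h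
    obtain ⟨⟨⟨ha, hb⟩, hc⟩, hd⟩ := h
    simp only [qqMat, ← qcVal_half θ ha, ← qcVal_half θ hb, ← qcVal_half θ hc, ← qcVal_half θ hd]
    ext i j
    fin_cases i <;> fin_cases j <;> simp [quatMat] <;> ring
  unfold qqElt
  rw [Matrix.smul_mul, Matrix.mul_smul, ← hraw, hhalf, smul_smul (2 : F)⁻¹ (2 : F), inv_mul_cancel₀ h2, one_smul]

theorem qqMat_injective (h2 : (2 : F) ≠ 0) (hθ : θ * θ = (s : F) * θ + (t : F)) (hab : al * al + be * be = -1)
    {u v : QQ} (h : qqApart s t u v = true) : qqMat θ al be u ≠ qqMat θ al be v := by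
  intro he
  obtain ⟨a, b, c, d⟩ := u
  obtain ⟨e, f, g, k⟩ := v
  simp only [qqApart, beq_iff_eq] at h
  have h00 := congrFun (congrFun he 0) 0
  have h01 := congrFun (congrFun he 0) 1
  have h10 := congrFun (congrFun he 1) 0
  have h11 := congrFun (congrFun he 1) 1
  simp [qqMat, quatMat] at h00 h01 h10 h11
  set Y := qcVal θ c - qcVal θ g with hY
  set Z := qcVal θ d - qcVal θ k with hZ
  have hw : qcVal θ a = qcVal θ e := mul_left_cancel₀ h2 (by linear_combination h00 + h11)
  have hx : qcVal θ b = qcVal θ f := mul_left_cancel₀ h2 (by linear_combination h01 - h10)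
  have e1 : Y * al + Z * be = 0 := by rw [hY, hZ]; linear_combination h00 - hw
  have e2 : Y * be - Z * al = 0 := by rw [hY, hZ]; linear_combination h01 - hx
  have hy : Y = 0 := by linear_combination (-al) * e1 - be * e2 + Y * hab
  have hz : Z = 0 := by linear_combination (-be) * e1 + al * e2 + Z * hab
  have hp : ∀ q : QC, qcVal θ q = 0 → ((qcNorm s t q : ℕ) : F) = 0 := by
    intro q hq
    simp only [qcVal] at hq
    have h0 : ((q.1 * q.1 + s * q.1 * q.2 - t * q.2 * q.2 : ℤ) : F) = 0 := by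
      push_cast
      linear_combination ((q.1 : F) + (q.2 : F) * ((s : F) - θ)) * hq + (q.2 : F) * (q.2 : F) * hθ
    rcases Int.natAbs_eq (q.1 * q.1 + s * q.1 * q.2 - t * q.2 * q.2) with hn | hn <;> rw [hn] at h0 <;>
      simp only [Int.cast_natCast, Int.cast_neg] at h0
    · exact h0
    · exact neg_eq_zero.mp h0
  obtain ⟨p, hp'⟩ := CharP.exists F
  have hd : ∀ q : QC, qcVal θ q = 0 → p ∣ qcNorm s t q := fun q hq => (CharP.cast_eq_zero_iff F p _).mp (hp q hq)
  have hdv : p ∣ 2 ^ 20 := (Nat.dvd_gcd (hd _ (by rw [qcVal_sub, hw, sub_self])) (Nat.dvd_gcd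
    (hd _ (by rw [qcVal_sub, hx, sub_self])) (Nat.dvd_gcd (hd _ (by rw [qcVal_sub]; exact hy))
    (hd _ (by rw [qcVal_sub]; exact hz))))).trans (Nat.dvd_of_mod_eq_zero h)
  haveI : Fact p.Prime := ⟨CharP.char_is_prime F p⟩
  obtain rfl : p = 2 := (Nat.prime_dvd_prime_iff_eq Fact.out Nat.prime_two).mp
    ((Fact.out : p.Prime).dvd_of_dvd_pow hdv)
  exact h2 (by exact_mod_cast CharP.cast_eq_zero F 2)

theorem pairsOk_spec {α : Type} {r : α → α → Bool} : ∀ {l : List α}, pairsOk r l = true →
    l.Pairwise fun a b => r a b = true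
  | [], _ => List.Pairwise.nil
  | a :: l, h => by
    simp only [pairsOk, Bool.and_eq_true, List.all_eq_true] at h
    exact List.pairwise_cons.mpr ⟨h.1, pairsOk_spec h.2⟩

/-- Four, as a coordinate, is the sum of the squares. -/
def qqNormFour : QQ → Bool := fun ⟨a, b, c, d⟩ =>
  (qcMul s t a a + qcMul s t b b + qcMul s t c c + qcMul s t d d) == ((4, 0) : QC)

theorem det_qqElt (h2 : (2 : F) ≠ 0) (hθ : θ * θ = (s : F) * θ + (t : F)) (hab : al * al + be * be = -1) {u : QQ}
    (h : qqNormFour s t u = true) : (qqElt θ al be u).det = 1 := by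
  obtain ⟨a, b, c, d⟩ := u
  simp only [qqNormFour, beq_iff_eq] at h
  have h' := congrArg (qcVal θ) h
  simp only [qcVal_add, qcVal_mul θ s t hθ] at h'
  have h4 : qcVal θ ((4, 0) : QC) = 4 := by simp [qcVal]
  rw [h4] at h'
  rw [qqElt, Matrix.det_smul, Fintype.card_fin, Matrix.det_fin_two]
  simp [qqMat, quatMat]
  field_simp
  linear_combination h' - (qcVal θ c * qcVal θ c + qcVal θ d * qcVal θ d) * hab

/-- Side conditions on the generators. -/
def QModel.side (M : QModel) : Bool :=
  qqNormFour M.s M.t M.g₁ && qqNormFour M.s M.t M.g₂ && decide M.p₁.Nodup && decide M.p₂.Nodup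

/-- The subgroup realising a model. -/
theorem model_subgroup (M : QModel) (N : ℕ) (hM : M.check N = true) (hside : M.side = true) (h2 : (2 : F) ≠ 0)
    (hθ : θ * θ = (M.s : F) * θ + (M.t : F)) :
    ∃ (H : Subgroup PSL2) (f : H →* Equiv.Perm (Fin M.n)), Function.Injective f ∧ 2 * Nat.card H = N := by
  classical
  obtain ⟨al, be, hab⟩ : ∃ al be : F, al * al + be * be = -1 := by
    obtain ⟨p, hp⟩ := CharP.exists F
    haveI : Fact p.Prime := ⟨CharP.char_is_prime F p⟩
    obtain ⟨a, b, hab⟩ := ZMod.sq_add_sq p (-1)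
    refine ⟨ZMod.castHom (dvd_refl p) F a, ZMod.castHom (dvd_refl p) F b, ?_⟩
    rw [← map_mul, ← map_mul, ← map_add, ← sq, ← sq, hab, map_neg, map_one]
  set L := M.iter M.steps with hL
  simp only [QModel.check, Bool.and_eq_true, beq_iff_eq, List.all_eq_true, decide_eq_true_eq, ← hL] at hM
  obtain ⟨⟨⟨⟨⟨⟨⟨⟨hlen, hapart⟩, hexact⟩, hclosed⟩, hker⟩, hneg⟩, hlens⟩, hp₁l, hp₁⟩, hp₂l, hp₂⟩ := hM
  simp only [QModel.side, Bool.and_eq_true, decide_eq_true_eq] at hside
  obtain ⟨⟨⟨hn₁, hn₂⟩, hnd₁⟩, hnd₂⟩ := hside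
  set E := qqElt θ al be with hE
  have hone : E qqOne = 1 := by
    ext i j
    fin_cases i <;> fin_cases j <;> simp [hE, qqElt, qqMat, quatMat, qcVal, qqOne, h2]
  have hnegone : E qqNegOne = -1 := by
    ext i j
    fin_cases i <;> fin_cases j <;> simp [hE, qqElt, qqMat, quatMat, qcVal, qqNegOne, h2]
  have hpw := (pairsOk_spec hapart).imp (S := fun a b => qqMat θ al be a ≠ qqMat θ al be b)
    fun {a b} h => qqMat_injective θ al be M.s M.t h2 hθ hab h
  have hinjE : ∀ a ∈ L.map Prod.fst, ∀ b ∈ L.map Prod.fst, E a = E b → a = b := by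
    intro a ha b hb he
    by_contra hne
    haveI : Std.Symm (fun a b => qqMat θ al be a ≠ qqMat θ al be b) := ⟨fun _ _ h => h.symm⟩
    exact (hpw.forall ha hb hne) (smul_right_injective _ (inv_ne_zero h2) he)
  have hndfst : (L.map Prod.fst).Nodup :=
    hpw.imp fun {a b} h e => h (by rw [e])
  have hinjL : ∀ x ∈ L, ∀ y ∈ L, x.1 = y.1 → x = y :=
    fun x hx y hy he => List.inj_on_of_nodup_map hndfst hx hy he
  have hperm : ∀ l : List ℕ, l.length = M.n → (∀ a ∈ l, a < M.n) → l.Nodup →
      ∃ σ : Equiv.Perm (Fin M.n), ∀ i : Fin M.n, (σ i : ℕ) = l.getD i 0 := by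
    intro l hl hlt hnd
    refine ⟨Equiv.ofBijective (fun i => ⟨l.getD i 0, ?_⟩) ?_, fun i => rfl⟩
    · rw [List.getD_eq_getElem _ _ (by omega)]
      exact hlt _ (List.getElem_mem _)
    · refine Finite.injective_iff_bijective.mp fun i j h => ?_
      have h' : l.getD i 0 = l.getD j 0 := congrArg Fin.val h
      rw [List.getD_eq_getElem _ _ (by omega), List.getD_eq_getElem _ _ (by omega)] at h'
      exact Fin.ext ((hnd.getElem_inj_iff).mp h')
  obtain ⟨σ₁, hσ₁⟩ := hperm M.p₁ hp₁l hp₁ hnd₁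
  obtain ⟨σ₂, hσ₂⟩ := hperm M.p₂ hp₂l hp₂ hnd₂
  obtain ⟨γ₁, hγ₁⟩ : ∃ γ : SL2, (γ : M2) = E M.g₁ :=
    ⟨⟨E M.g₁, det_qqElt θ al be M.s M.t h2 hθ hab hn₁⟩, rfl⟩
  obtain ⟨γ₂, hγ₂⟩ : ∃ γ : SL2, (γ : M2) = E M.g₂ :=
    ⟨⟨E M.g₂, det_qqElt θ al be M.s M.t h2 hθ hab hn₂⟩, rfl⟩
  let R : SL2 × Equiv.Perm (Fin M.n) → QQ × List ℕ → Prop := fun g x =>
    (g.1 : M2) = E x.1 ∧ ∀ i : Fin M.n, (g.2 i : ℕ) = x.2.getD i 0
  have hR1 : R 1 (qqOne, List.range M.n) := ⟨by simp [hone], fun i => by
    simp [List.getD_eq_getElem?_getD, List.getElem?_range, i.2]⟩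
  have hRmul : ∀ g x, x ∈ L → R g x → R (g * (γ₁, σ₁)) (qqMul M.s M.t x.1 M.g₁, permComp x.2 M.p₁) ∧
      R (g * (γ₂, σ₂)) (qqMul M.s M.t x.1 M.g₂, permComp x.2 M.p₂) := by
    intro g x hx hgx
    obtain ⟨hg1, hg2⟩ := hgx
    obtain ⟨he1, he2⟩ := hexact x hx
    refine ⟨⟨?_, fun i => ?_⟩, ⟨?_, fun i => ?_⟩⟩
    · rw [Prod.fst_mul, Matrix.SpecialLinearGroup.coe_mul, hg1, hγ₁, hE, qqElt_mul θ al be M.s M.t h2 hθ hab he1]
    · show (g.2 (σ₁ i) : ℕ) = (permComp x.2 M.p₁).getD i 0
      rw [hg2, hσ₁, permComp, List.getD_eq_getElem (M.p₁.map _) _ (by simp [hp₁l]), List.getElem_map,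
        List.getD_eq_getElem M.p₁ _ (by omega)]
    · rw [Prod.fst_mul, Matrix.SpecialLinearGroup.coe_mul, hg1, hγ₂, hE, qqElt_mul θ al be M.s M.t h2 hθ hab he2]
    · show (g.2 (σ₂ i) : ℕ) = (permComp x.2 M.p₂).getD i 0
      rw [hg2, hσ₂, permComp, List.getD_eq_getElem (M.p₂.map _) _ (by simp [hp₂l]), List.getElem_map,
        List.getD_eq_getElem M.p₂ _ (by omega)]
  set P := Subgroup.closure ({(γ₁, σ₁), (γ₂, σ₂)} : Set (SL2 × Equiv.Perm (Fin M.n))) with hP
  have hiterP : ∀ k, ∀ x ∈ M.iter k, x ∈ L → ∃ g ∈ P, R g x := by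
    intro k
    induction k with
    | zero =>
      intro x hx _
      rw [QModel.iter, List.mem_singleton] at hx
      subst hx
      exact ⟨1, P.one_mem, hR1⟩
    | succ k ih =>
      intro x hx hxL
      have hsub : ∀ y ∈ M.iter k, y ∈ L → ∀ z ∈ M.next y, ∃ g ∈ P, R g z := by
        intro y hy hyL z hz
        obtain ⟨g, hg, hgy⟩ := ih y hy hyL
        obtain ⟨r1, r2⟩ := hRmul g y hyL hgy
        simp only [QModel.next, List.mem_cons, List.not_mem_nil, or_false] at hz
        rcases hz with rfl | rfl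
        · exact ⟨_, P.mul_mem hg (Subgroup.subset_closure (Set.mem_insert _ _)), r1⟩
        · exact ⟨_, P.mul_mem hg (Subgroup.subset_closure (Set.mem_insert_of_mem _ rfl)), r2⟩
      have hkL : ∀ j, ∀ y ∈ M.iter j, y ∈ L := by
        intro j
        induction j with
        | zero =>
          intro y hy
          rw [QModel.iter, List.mem_singleton] at hy
          subst hy
          rw [hL]
          generalize M.steps = n
          induction n with
          | zero => simp [QModel.iter]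
          | succ n ihn => simp only [QModel.iter, List.mem_eraseDups, List.mem_append]; exact Or.inl ihn
        | succ j ihj =>
          intro y hy
          simp only [QModel.iter, List.mem_eraseDups, List.mem_append, List.mem_flatMap] at hy
          rcases hy with hy | ⟨z, hz, hy⟩
          · exact ihj y hy
          · simpa [List.contains_iff_mem] using hclosed z (ihj z hz) y hy
      simp only [QModel.iter, List.mem_eraseDups, List.mem_append, List.mem_flatMap] at hx
      rcases hx with hx | ⟨y, hy, hx⟩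
      · exact ih x hx hxL
      · exact hsub y hy (hkL k y hy) x hx
  have hPL : ∀ g ∈ P, ∃ x ∈ L, R g x := by
    intro g hg
    have hg' : g ∈ Submonoid.closure ({(γ₁, σ₁), (γ₂, σ₂)} : Set (SL2 × Equiv.Perm (Fin M.n))) := by
      rw [← Subgroup.closure_toSubmonoid_of_finite]; exact hg
    induction hg' using Submonoid.closure_induction_right with
    | one =>
      refine ⟨_, ?_, hR1⟩
      rw [hL]
      generalize M.steps = n
      induction n with
      | zero => simp [QModel.iter]
      | succ n ihn => simp only [QModel.iter, List.mem_eraseDups, List.mem_append]; exact Or.inl ihn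
    | mul_right a ha y hy ih =>
      obtain ⟨x, hx, hax⟩ := ih (by
        have : (Submonoid.closure ({(γ₁, σ₁), (γ₂, σ₂)} : Set (SL2 × Equiv.Perm (Fin M.n)))) ≤ P.toSubmonoid :=
          Submonoid.closure_le.mpr Subgroup.subset_closure
        exact this ha)
      obtain ⟨r1, r2⟩ := hRmul a x hx hax
      rcases hy with rfl | rfl
      · exact ⟨_, by simpa [List.contains_iff_mem] using hclosed x hx _ (List.mem_cons_self ..), r1⟩
      · exact ⟨_, by
          simpa [List.contains_iff_mem] using hclosed x hx _ (List.mem_cons_of_mem _ (List.mem_cons_self ..)), r2⟩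
  have hRfun : ∀ g g' x, R g x → R g' x → g = g' := fun g g' x h h' =>
    Prod.ext (Subtype.ext (h.1.trans h'.1.symm)) (Equiv.ext fun i => Fin.ext ((h.2 i).trans (h'.2 i).symm))
  have hRfun' : ∀ g, ∀ x ∈ L, ∀ y ∈ L, R g x → R g y → x = y := fun g x hx y hy h h' =>
    hinjL x hx y hy (hinjE _ (List.mem_map_of_mem hx) _ (List.mem_map_of_mem hy) (h.1.symm.trans h'.1))
  choose rep hrepP hrepR using fun x : {x // x ∈ L.toFinset} =>
    hiterP M.steps x.1 (List.mem_toFinset.mp x.2) (List.mem_toFinset.mp x.2)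
  have hPcard : Nat.card P = N := by
    let π : {x // x ∈ L.toFinset} → P := fun x => ⟨rep x, hrepP x⟩
    have hπ : Function.Bijective π := by
      constructor
      · intro a b h
        exact Subtype.ext (hRfun' _ _ (List.mem_toFinset.mp a.2) _ (List.mem_toFinset.mp b.2) (hrepR a)
          (by rw [show rep a = rep b from congrArg Subtype.val h]; exact hrepR b))
      · rintro ⟨g, hg⟩
        obtain ⟨x, hx, hgx⟩ := hPL g hg
        exact ⟨⟨x, List.mem_toFinset.mpr hx⟩, Subtype.ext (hRfun _ _ x (hrepR _) hgx)⟩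
    rw [← Nat.card_congr (Equiv.ofBijective π hπ), Nat.card_eq_finsetCard, List.toFinset_card_of_nodup
      (hndfst.of_map Prod.fst), hlen]
  -- elements above the centre
  have hkerP : ∀ g ∈ P, (g.2 = 1 ↔ g.1 ∈ Subgroup.center SL2) := by
    intro g hg
    obtain ⟨x, hx, hgx⟩ := hPL g hg
    have hrange : x.2 = List.range M.n ↔ g.2 = 1 := by
      constructor
      · intro h
        refine Equiv.ext fun i => Fin.ext ?_
        rw [hgx.2 i, h]
        simp [List.getD_eq_getElem?_getD, List.getElem?_range, i.2]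
      · intro h
        refine List.ext_getElem (by rw [hlens x hx, List.length_range]) fun i h1 h2' => ?_
        rw [List.getElem_range, ← List.getD_eq_getElem x.2 0 h1]
        have := hgx.2 ⟨i, by rwa [List.length_range] at h2'⟩
        rw [h] at this
        exact this.symm
    have hk : x.2 = List.range M.n ↔ x.1 = qqOne ∨ x.1 = qqNegOne := by
      have := hker x hx
      have := congrArg (· = true) this
      simpa using this
    rw [← hrange, hk, mem_center_iff]
    constructor
    · rintro (h | h)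
      · exact Or.inl (Subtype.ext (by rw [hgx.1, h, hone]; rfl))
      · exact Or.inr (Subtype.ext (by rw [hgx.1, h, hnegone]; simp))
    · rintro (h | h)
      · refine Or.inl (hinjE _ (List.mem_map_of_mem hx) _ ?_ ?_)
        · have : (qqOne, List.range M.n) ∈ L := by
            rw [hL]
            generalize M.steps = n
            induction n with
            | zero => simp [QModel.iter]
            | succ n ihn => simp only [QModel.iter, List.mem_eraseDups, List.mem_append]; exact Or.inl ihn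
          exact List.mem_map.mpr ⟨_, this, rfl⟩
        · rw [hone, ← hgx.1, h]; rfl
      · refine Or.inr (hinjE _ (List.mem_map_of_mem hx) _ (by simpa [List.contains_iff_mem] using hneg) ?_)
        rw [hnegone, ← hgx.1, h]; simp
  -- the image in `PSL₂`
  let π1 : P →* SL2 := (MonoidHom.fst _ _).comp P.subtype
  let ρ : P →* Equiv.Perm (Fin M.n) := (MonoidHom.snd _ _).comp P.subtype
  let q : P →* PSL2 := toPSL.comp π1
  have hker : q.ker = ρ.ker := by
    ext g
    rw [MonoidHom.mem_ker, MonoidHom.mem_ker]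
    exact (toPSL_eq_one.trans mem_center_iff.symm).trans (hkerP g g.2).symm
  have hneg' : ∃ g : P, (g : SL2 × Equiv.Perm (Fin M.n)).1 = -1 := by
    obtain ⟨x, hx, hxe⟩ := List.mem_map.mp (by simpa [List.contains_iff_mem] using hneg : qqNegOne ∈ L.map Prod.fst)
    refine ⟨⟨_, hrepP ⟨x, List.mem_toFinset.mpr hx⟩⟩, Subtype.ext ?_⟩
    rw [(hrepR ⟨x, List.mem_toFinset.mpr hx⟩).1]
    show E x.1 = _
    rw [hxe, hnegone]; simp
  have hkc : Nat.card q.ker = 2 := by
    obtain ⟨g0, hg0⟩ := hneg'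
    have hne : (g0 : SL2 × Equiv.Perm (Fin M.n)).1 ≠ 1 := fun h => by
      rw [hg0] at h
      have := congrArg (fun g : SL2 => (g : M2) 0 0) h
      simp at this
      exact h2 (by linear_combination -this)
    rw [Nat.card_eq_two_iff]
    refine ⟨1, ⟨g0, ?_⟩, fun h => hne ?_, ?_⟩
    · rw [MonoidHom.mem_ker]; exact toPSL_eq_one.mpr (Or.inr hg0)
    · have h' : (1 : P) = g0 := congrArg Subtype.val h
      rw [← h']; rfl
    · ext g
      simp only [Set.mem_univ, iff_true, Set.mem_insert_iff, Set.mem_singleton_iff]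
      have hg := g.2
      rw [MonoidHom.mem_ker] at hg
      have hinj : ∀ a b : P, (a : SL2 × Equiv.Perm (Fin M.n)).1 = (b : SL2 × Equiv.Perm (Fin M.n)).1 → a = b := by
        intro a b hab'
        obtain ⟨x, hx, hax⟩ := hPL a a.2
        obtain ⟨y, hy, hby⟩ := hPL b b.2
        have := hinjL x hx y hy (hinjE _ (List.mem_map_of_mem hx) _ (List.mem_map_of_mem hy)
          (hax.1.symm.trans ((congrArg (fun g : SL2 => (g : M2)) hab').trans hby.1)))
        subst this
        exact Subtype.ext (hRfun _ _ _ hax hby)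
      rcases toPSL_eq_one.mp hg with h | h
      · exact Or.inl (Subtype.ext (hinj _ _ h))
      · exact Or.inr (Subtype.ext (hinj _ _ (h.trans hg0.symm)))
  refine ⟨q.range, ρ.range.subtype.comp ((QuotientGroup.quotientKerEquivRange q).symm.trans
    ((QuotientGroup.quotientMulEquivOfEq hker).trans (QuotientGroup.quotientKerEquivRange ρ))).toMonoidHom,
    Subtype.val_injective.comp (MulEquiv.injective _), ?_⟩
  rw [← Subgroup.index_ker, ← hPcard, ← q.ker.card_mul_index, hkc]

theorem exists_altFour (h2 : (2 : F) ≠ 0) :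
    ∃ H : Subgroup PSL2, Nonempty (H ≃* alternatingGroup (Fin 4)) := by
  obtain ⟨H, f, hf, hc⟩ := model_subgroup (0 : F) tetModel 24 tetModel_check (by decide) h2 (by simp [tetModel])
  exact ⟨H, Cfsg.Agent.Lib.Classical.nonempty_mulEquiv_alternating (α := Fin 4) (Fintype.card_fin 4) f hf
    (hc.trans rfl)⟩

theorem exists_symFour (h2 : (2 : F) ≠ 0) (hθ : IsSquare (2 : F)) :
    ∃ H : Subgroup PSL2, Nonempty (H ≃* Equiv.Perm (Fin 4)) := by
  obtain ⟨θ, hθ⟩ := hθ
  obtain ⟨H, f, hf, hc⟩ := model_subgroup θ octModel 48 octModel_check (by decide) h2 (by simp [octModel, ← hθ])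
  exact ⟨H, Cfsg.Agent.Lib.Classical.nonempty_mulEquiv_perm (α := Fin 4) (Fintype.card_fin 4) f hf
    (show Nat.card H = 24 by omega)⟩

theorem exists_altFive (h2 : (2 : F) ≠ 0) (θ : F) (hθ : θ * θ = θ + 1) :
    ∃ H : Subgroup PSL2, Nonempty (H ≃* alternatingGroup (Fin 5)) := by
  obtain ⟨H, f, hf, hc⟩ := model_subgroup θ icoModel 120 icoModel_check (by decide) h2 (by simp [icoModel, hθ])
  exact ⟨H, Cfsg.Agent.Lib.Classical.nonempty_mulEquiv_alternating (α := Fin 5) (Fintype.card_fin 5) f hf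
    (hc.trans rfl)⟩

end Cfsg.Agent.Lib.Geometry.Dickson
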