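import Cfsg.Agent.Lib.Geometry.Dickson.Embed
import Cfsg.Agent.Lib.Geometry.Dickson.Exist

/-!
When `PSL₂` contains `A₅`.
-/

set_option autoImplicit false

namespace Cfsg.Agent.Lib.Geometry.Dickson

open Matrix
open scoped Matrix MatrixGroups
open Cfsg.Agent.Lib.SL2Trace (tr sq_eq mem_center_iff)

variable {F : Type*} [Field F] [Fintype F]

local notation "SL2" => Matrix.SpecialLinearGroup (Fin 2) F
local notation "M2" => Matrix (Fin 2) (Fin 2) F
local notation "PSL2" => Matrix.ProjectiveSpecialLinearGroup (Fin 2) F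

theorem exists_golden (h : 5 ∣ Fintype.card F * (Fintype.card F ^ 2 - 1)) : ∃ θ : F, θ * θ = θ + 1 := by
  haveI : Fact (Nat.Prime 5) := ⟨Nat.prime_five⟩
  rw [← Cfsg.Agent.Lib.Classical.card_SL2] at h
  obtain ⟨g, hg⟩ := exists_prime_orderOf_dvd_card' 5 h
  have hg5 : g ^ 5 = 1 := hg ▸ pow_orderOf_eq_one g
  have hg1 : g ≠ 1 := fun h => by rw [h, orderOf_one] at hg; exact absurd hg (by norm_num)
  have hns : ¬ Cfsg.Agent.Lib.KnownA.IsScal (g : M2) := by
    refine not_isScal_of_notMem_center fun hZ => ?_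
    rcases mem_center_iff.mp hZ with h | h
    · exact hg1 h
    · rw [h, (show Odd 5 by decide).neg_pow, one_pow] at hg5
      exact hg1 (h.trans hg5)
  have hsq := sq_eq g
  set t := tr g
  set A := (g : M2)
  have hM : A * A = t • A - 1 := hsq
  have h3 : A * A * A = (t * t - 1) • A - t • 1 := by
    rw [hM, sub_mul, Matrix.smul_mul, hM, one_mul, smul_sub, smul_smul, sub_smul, one_smul]; abel
  have h5 : A ^ 5 = (t * t * t * t - 3 * (t * t) + 1) • A - (t * t * t - 2 * t) • 1 := by
    rw [show (5 : ℕ) = 2 + 3 from rfl, pow_add, pow_succ A 2, sq, h3, hM, sub_mul, mul_sub, mul_sub,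
      Matrix.smul_mul, Matrix.smul_mul, Matrix.mul_smul, Matrix.mul_smul, hM, one_mul, one_mul, mul_one]
    simp only [smul_sub, smul_smul]
    rw [show t * t * t * t - 3 * (t * t) + 1 = t * ((t * t - 1) * t) - t * t - (t * t - 1) by ring,
      show t * t * t - 2 * t = t * (t * t - 1) - t by ring]
    simp only [sub_smul]
    abel
  have hA5 : A ^ 5 = 1 := by
    rw [← Matrix.SpecialLinearGroup.coe_pow, hg5, Matrix.SpecialLinearGroup.coe_one]
  rw [hA5] at h5
  have h0 : t * t * t * t - 3 * (t * t) + 1 = 0 := by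
    refine (Cfsg.Agent.Lib.KnownA.add_smul_injective hns (a := -(t * t * t - 2 * t))
      (b := t * t * t * t - 3 * (t * t) + 1) (a' := 1) (b' := 0) ?_).2
    rw [one_smul, zero_smul, add_zero, neg_smul]
    rw [sub_eq_add_neg, add_comm] at h5
    exact h5.symm
  rcases mul_eq_zero.mp (show (t * t - t - 1) * (t * t + t - 1) = 0 by linear_combination h0) with h' | h'
  · exact ⟨t, by linear_combination h'⟩
  · exact ⟨-t, by linear_combination h'⟩

theorem exists_altFive_of_dvd (h : 5 ∣ Fintype.card F * (Fintype.card F ^ 2 - 1)) :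
    ∃ H : Subgroup PSL2, Nonempty (H ≃* alternatingGroup (Fin 5)) := by
  obtain ⟨θ, hθ⟩ := exists_golden h
  by_cases h2 : (2 : F) = 0
  · haveI : CharP F 2 := CharTwo.of_one_ne_zero_of_two_eq_zero one_ne_zero h2
    exact exists_altFive_two θ (by linear_combination hθ + (θ + 1) * h2)
  · exact exists_altFive h2 θ hθ

/-- `A₄` is a subgroup of `A₅`. -/
theorem exists_altFour_of_altFive {G : Type*} [Group G] {H : Subgroup G} (e : H ≃* alternatingGroup (Fin 5)) :
    ∃ K : Subgroup G, Nonempty (K ≃* alternatingGroup (Fin 4)) := by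
  classical
  let f : Equiv.Perm (Fin 4) →* Equiv.Perm (Fin 5) :=
    Equiv.Perm.extendDomainHom (finSuccAboveEquiv (Fin.last 4))
  let g : alternatingGroup (Fin 4) →* alternatingGroup (Fin 5) :=
    (f.comp (alternatingGroup (Fin 4)).subtype).codRestrict _ fun x => by
      rw [Equiv.Perm.mem_alternatingGroup]
      show Equiv.Perm.sign (Equiv.Perm.extendDomain _ _) = 1
      rw [Equiv.Perm.sign_extendDomain]
      exact Equiv.Perm.mem_alternatingGroup.mp x.2
  have hg : Function.Injective g := fun a b h => Subtype.ext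
    (Equiv.Perm.extendDomainHom_injective _ (congrArg Subtype.val h))
  let φ : alternatingGroup (Fin 4) →* G := H.subtype.comp (e.symm.toMonoidHom.comp g)
  have hφ : Function.Injective φ := Subtype.val_injective.comp (e.symm.injective.comp hg)
  exact ⟨φ.range, ⟨(MonoidHom.ofInjective hφ).symm⟩⟩

theorem q_mod_eight_iff (q : ℕ) : q ^ 2 % 16 = 1 ↔ (q % 8 = 1 ∨ q % 8 = 7) := by
  have h : q % 8 = q % 16 % 8 := (Nat.mod_mod_of_dvd q (by norm_num)).symm
  rw [Nat.pow_mod, h]
  have := Nat.mod_lt q (show 0 < 16 by norm_num)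
  interval_cases hq : q % 16 <;> norm_num

end Cfsg.Agent.Lib.Geometry.Dickson
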