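import Cfsg.Agent.Lib.Geometry.Dickson.Overgroup
import Cfsg.Agent.Lib.Geometry.Dickson.Golden

/-!
Maximal `A₄`, `S₄` and `A₅`.
-/

set_option autoImplicit false

namespace Cfsg.Agent.Lib.Geometry.Dickson

variable {F : Type*} [Field F] [Fintype F]

local notation "PSL2" => Matrix.ProjectiveSpecialLinearGroup (Fin 2) F

theorem card_alt4 : Nat.card (alternatingGroup (Fin 4)) = 12 := by rw [Nat.card_eq_fintype_card]; decide
theorem card_sym4 : Nat.card (Equiv.Perm (Fin 4)) = 24 := by rw [Nat.card_eq_fintype_card, Fintype.card_perm]; decide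
theorem card_alt5 : Nat.card (alternatingGroup (Fin 5)) = 60 := by rw [Nat.card_eq_fintype_card]; decide

/-- Four times the group order, in odd characteristic. -/
theorem card_PSL2_odd (hodd : Fintype.card F % 2 = 1) :
    2 * Nat.card PSL2 = Fintype.card F * (Fintype.card F ^ 2 - 1) := by
  rw [← Cfsg.Agent.Lib.Classical.card_PSL2_mul (F := F)]
  congr 1
  exact (Nat.gcd_eq_left (Nat.dvd_iff_mod_eq_zero.mpr (by
    have := Fintype.one_lt_card (α := F); omega))).symm

theorem five_dvd_sq_sub_one {p : ℕ} (h : 5 ∣ p * (p ^ 2 - 1)) (hp : p % 5 ≠ 0) : p % 5 = 1 ∨ p % 5 = 4 := by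
  have h5 := (Nat.prime_five.dvd_mul.mp h).resolve_left (fun hd => hp (Nat.mod_eq_zero_of_dvd hd))
  have h1 : p ^ 2 % 5 = (p % 5) ^ 2 % 5 := Nat.pow_mod _ _ _
  have := Nat.mod_lt p (show 5 > 0 by norm_num)
  have hp1 : 1 ≤ p ^ 2 := Nat.one_le_pow _ _ (by omega)
  interval_cases hr : p % 5 <;> norm_num at h1 <;> omega

end Cfsg.Agent.Lib.Geometry.Dickson
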