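import Cfsg.Agent.Lib.Geometry.Dickson.Global

/-!
Overgroups of nearly simple subgroups of `PSL₂`.
-/

set_option autoImplicit false

namespace Cfsg.Agent.Lib.Geometry.Dickson

open Matrix
open scoped Matrix MatrixGroups
open Cfsg.Agent.Lib.SL2Trace (tr sq_eq toPSL toPSL_surjective toPSL_eq_one mem_center_iff)

variable {F : Type*} [Field F] [Fintype F] (p : ℕ) [Fact p.Prime] [CharP F p]

local notation "SL2" => Matrix.SpecialLinearGroup (Fin 2) F
local notation "M2" => Matrix (Fin 2) (Fin 2) F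
local notation "PSL2" => Matrix.ProjectiveSpecialLinearGroup (Fin 2) F

include p in
/-- The normaliser of a Sylow `p`-subgroup fixes a line. -/
theorem exists_line (S : Sylow p PSL2) : ∃ v : Fin 2 → F, v ≠ 0 ∧
    ∀ g : SL2, toPSL g ∈ Subgroup.normalizer ((S : Subgroup PSL2) : Set PSL2) → ∃ d : F, (g : M2) *ᵥ v = d • v := by
  have he0 : (![1, 0] : Fin 2 → F) ≠ 0 := fun h => one_ne_zero (α := F) (congrFun h 0)
  have hZ := upper_notMem_center (one_ne_zero (α := F))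
  obtain ⟨S₀, hS₀⟩ := exists_sylow_cell p hZ (by rw [tr_upper]; norm_num)
  obtain ⟨c', hc⟩ := MulAction.exists_smul_eq PSL2 S₀ S
  obtain ⟨c, rfl⟩ := toPSL_surjective c'
  refine ⟨(c : M2) *ᵥ ![1, 0], smul_ne_zero_vec he0, fun g hg => ?_⟩
  obtain ⟨h, hh⟩ : ∃ h : SL2, h = c⁻¹ * g * c := ⟨_, rfl⟩
  have hm : toPSL (h * upper 1 * h⁻¹) ∈ (cell ⊤ (upper (1 : F))).map toPSL := by
    rw [← hS₀]
    have hu1 : toPSL (upper (1 : F)) ∈ (S₀ : Subgroup PSL2) := by
      rw [hS₀]; exact ⟨_, mem_cell_self ⊤ (Subgroup.mem_top _), rfl⟩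
    have hcu : toPSL c * toPSL (upper (1 : F)) * (toPSL c)⁻¹ ∈ (S : Subgroup PSL2) := by
      rw [← hc, Sylow.coe_subgroup_smul]
      exact Subgroup.smul_mem_pointwise_smul _ (MulAut.conj (toPSL c)) _ hu1
    have h2 := (Subgroup.mem_normalizer_iff.mp hg _).mp hcu
    rw [← hc, Sylow.coe_subgroup_smul, Subgroup.mem_pointwise_smul_iff_inv_smul_mem, MulAut.smul_def,
      MulAut.conj_inv_apply] at h2
    simpa [hh, mul_assoc] using h2
  obtain ⟨x, hx, hxe⟩ := hm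
  have hmem : h * upper 1 * h⁻¹ ∈ Subgroup.centralizer ({upper (1 : F)} : Set SL2) := by
    rcases Cfsg.Agent.Lib.SL2Trace.toPSL_eq.mp hxe with e | e
    · rw [e]; exact hx.1
    · rw [e, neg_eq_neg_one_mul]
      exact Subgroup.mul_mem _ (center_le_centralizer _ (mem_center_iff.mpr (Or.inr rfl))) hx.1
  obtain ⟨d, hd⟩ := fix_line_of_conj_mem hZ he0 (one_mul 1) (by rw [tr_upper, mul_one]) (upper_mulVec 1) hmem
  refine ⟨d, ?_⟩
  have e : g * c = c * h := by rw [hh]; group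
  rw [Matrix.mulVec_mulVec, ← Matrix.SpecialLinearGroup.coe_mul, e, Matrix.SpecialLinearGroup.coe_mul,
    ← Matrix.mulVec_mulVec, hd, Matrix.mulVec_smul]

include p in
/-- Commutators in the normaliser of a Sylow `p`-subgroup have order dividing `p`. -/
theorem orderOf_commutator_dvd (S : Sylow p PSL2) {x y : PSL2}
    (hx : x ∈ Subgroup.normalizer ((S : Subgroup PSL2) : Set PSL2))
    (hy : y ∈ Subgroup.normalizer ((S : Subgroup PSL2) : Set PSL2)) : orderOf (x * y * x⁻¹ * y⁻¹) ∣ p := by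
  obtain ⟨v, hv, hline⟩ := exists_line p S
  obtain ⟨X, rfl⟩ := toPSL_surjective x
  obtain ⟨Y, rfl⟩ := toPSL_surjective y
  obtain ⟨a, ha⟩ := hline X hx
  obtain ⟨b, hb⟩ := hline Y hy
  obtain ⟨Z, hZ⟩ : ∃ Z : SL2, Z = X * Y * X⁻¹ * Y⁻¹ := ⟨_, rfl⟩
  have hZv : (Z : M2) *ᵥ v = v := by
    have e : Z * (Y * X) = X * Y := by rw [hZ]; group
    have h := congrArg (fun g : SL2 => (g : M2) *ᵥ v) e
    simp only [Matrix.SpecialLinearGroup.coe_mul, ← Matrix.mulVec_mulVec, ha, hb, Matrix.mulVec_smul, smul_smul,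
      mul_comm a b] at h
    refine smul_right_injective _ ?_ h
    intro h0
    rcases mul_eq_zero.mp h0 with h0 | h0
    · exact smul_ne_zero_vec (g := Y) hv (by rw [hb, h0, zero_smul])
    · exact smul_ne_zero_vec (g := X) hv (by rw [ha, h0, zero_smul])
  have ht : tr Z = 2 := by
    have h := congrArg (fun A : M2 => A *ᵥ v) (sq_eq Z)
    simp only [← Matrix.mulVec_mulVec, hZv, Matrix.sub_mulVec, Matrix.smul_mulVec, Matrix.one_mulVec] at h
    refine smul_left_cancel_vec hv ?_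
    rw [two_smul, ← eq_sub_iff_add_eq.mp h]
  rw [← map_inv, ← map_inv, ← map_mul, ← map_mul, ← map_mul, ← hZ]
  refine orderOf_dvd_of_pow_eq_one ?_
  rw [← map_pow]
  exact toPSL_eq_one.mpr (Cfsg.Agent.Lib.SL2Trace.pow_char_of_tr p (by rw [ht]; norm_num))

theorem dihedral_squares_commute {k : ℕ} (x y : DihedralGroup k) : Commute (x * x) (y * y) := by
  have h : ∀ z : DihedralGroup k, ∃ i, z * z = DihedralGroup.r i := by
    rintro (i | i)
    · exact ⟨i + i, DihedralGroup.r_mul_r i i⟩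
    · exact ⟨0, (DihedralGroup.sr_mul_self i).trans DihedralGroup.one_def⟩
  obtain ⟨i, hi⟩ := h x
  obtain ⟨j, hj⟩ := h y
  rw [hi, hj]
  show DihedralGroup.r i * DihedralGroup.r j = DihedralGroup.r j * DihedralGroup.r i
  rw [DihedralGroup.r_mul_r, DihedralGroup.r_mul_r, add_comm]

include p in
/-- What can lie above a subgroup that is neither dihedral nor in a Borel subgroup. -/
theorem overgroup_cases {X : Type*} [Group X] {H : Subgroup PSL2} (e : H ≃* X)
    (hsq : ∃ x y : X, ¬ Commute (x * x) (y * y)) (hcomm : ∃ x y : X, ¬ orderOf (x * y * x⁻¹ * y⁻¹) ∣ p)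
    {K : Subgroup PSL2} (hK : H ≤ K) :
    K = ⊤ ∨ Nonempty (K ≃* alternatingGroup (Fin 4)) ∨ Nonempty (K ≃* Equiv.Perm (Fin 4)) ∨
      Nonempty (K ≃* alternatingGroup (Fin 5)) ∨
      ∃ L : Subfield F, L ≠ ⊤ ∧ (Nonempty (K ≃* Matrix.ProjectiveSpecialLinearGroup (Fin 2) L) ∨
        Nonempty (K ≃* Matrix.ProjGenLinGroup (Fin 2) L)) := by
  let ι : X →* K := (Subgroup.inclusion hK).comp e.symm.toMonoidHom
  have hι : Function.Injective ι := (Subgroup.inclusion_injective hK).comp e.symm.injective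
  rcases subType p K with ⟨k, -, hc, -⟩ | ⟨k, -, ⟨f⟩⟩ | ⟨S, h⟩ | h | h | h | ⟨L, hL⟩
  · exfalso
    obtain ⟨x, y, hxy⟩ := hsq
    refine hxy (hι ?_)
    rw [map_mul ι (x * x), map_mul ι (y * y)]
    haveI := hc.commutative
    exact mul_comm' _ _
  · exfalso
    obtain ⟨x, y, hxy⟩ := hsq
    refine hxy ((f.injective.comp hι) ?_)
    show f (ι (x * x * (y * y))) = f (ι (y * y * (x * x)))
    simp only [map_mul]
    exact dihedral_squares_commute (f (ι x)) (f (ι y))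
  · exfalso
    obtain ⟨x, y, hxy⟩ := hcomm
    apply hxy
    rw [← e.symm.orderOf_eq, ← Subgroup.orderOf_coe]
    simp only [map_mul, map_inv, Subgroup.coe_mul, Subgroup.coe_inv]
    exact orderOf_commutator_dvd p S (h (hK (SetLike.coe_mem _))) (h (hK (SetLike.coe_mem _)))
  · exact Or.inr (Or.inl h)
  · exact Or.inr (Or.inr (Or.inl h))
  · exact Or.inr (Or.inr (Or.inr (Or.inl h)))
  · by_cases hLt : L = ⊤
    · exact Or.inl (eq_top_of_subfield_top L hLt hL)
    · exact Or.inr (Or.inr (Or.inr (Or.inr ⟨L, hLt, hL⟩)))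

theorem witnesses_alt4 : (∃ x y : alternatingGroup (Fin 4), ¬ Commute (x * x) (y * y)) ∧
    ∃ x y : alternatingGroup (Fin 4), orderOf (x * y * x⁻¹ * y⁻¹) = 2 := by
  refine ⟨by unfold Commute SemiconjBy; decide +kernel, ?_⟩
  have h : ∃ x y : alternatingGroup (Fin 4),
      (x * y * x⁻¹ * y⁻¹) ^ 2 = 1 ∧ x * y * x⁻¹ * y⁻¹ ≠ 1 := by decide +kernel
  obtain ⟨x, y, h1, h2⟩ := h
  haveI : Fact (Nat.Prime 2) := ⟨Nat.prime_two⟩
  exact ⟨x, y, orderOf_eq_prime h1 h2⟩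

theorem witnesses_sym4 : (∃ x y : Equiv.Perm (Fin 4), ¬ Commute (x * x) (y * y)) ∧
    ∃ x y : Equiv.Perm (Fin 4), orderOf (x * y * x⁻¹ * y⁻¹) = 2 := by
  refine ⟨by unfold Commute SemiconjBy; decide +kernel, ?_⟩
  have h : ∃ x y : Equiv.Perm (Fin 4),
      (x * y * x⁻¹ * y⁻¹) ^ 2 = 1 ∧ x * y * x⁻¹ * y⁻¹ ≠ 1 := by decide +kernel
  obtain ⟨x, y, h1, h2⟩ := h
  haveI : Fact (Nat.Prime 2) := ⟨Nat.prime_two⟩
  exact ⟨x, y, orderOf_eq_prime h1 h2⟩

theorem witnesses_alt5 : (∃ x y : alternatingGroup (Fin 5), ¬ Commute (x * x) (y * y)) ∧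
    (∃ x y : alternatingGroup (Fin 5), orderOf (x * y * x⁻¹ * y⁻¹) = 2) ∧
    ∃ x y : alternatingGroup (Fin 5), orderOf (x * y * x⁻¹ * y⁻¹) = 3 := by
  haveI : Fact (Nat.Prime 2) := ⟨Nat.prime_two⟩
  haveI : Fact (Nat.Prime 3) := ⟨Nat.prime_three⟩
  refine ⟨by unfold Commute SemiconjBy; decide +kernel, ?_, ?_⟩
  · have h : ∃ x y : alternatingGroup (Fin 5),
        (x * y * x⁻¹ * y⁻¹) ^ 2 = 1 ∧ x * y * x⁻¹ * y⁻¹ ≠ 1 := by decide +kernel
    obtain ⟨x, y, h1, h2⟩ := h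
    exact ⟨x, y, orderOf_eq_prime h1 h2⟩
  · have h : ∃ x y : alternatingGroup (Fin 5),
        (x * y * x⁻¹ * y⁻¹) ^ 3 = 1 ∧ x * y * x⁻¹ * y⁻¹ ≠ 1 := by decide +kernel
    obtain ⟨x, y, h1, h2⟩ := h
    exact ⟨x, y, orderOf_eq_prime h1 h2⟩

/-- In a field of prime order there are no proper subfields. -/
theorem subfield_eq_top_of_prime (hF : (Fintype.card F).Prime) (L : Subfield F) : L = ⊤ := by
  classical
  by_contra h
  have h1 := sq_le_of_subfield L h
  haveI := Fintype.ofFinite L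
  have h2 : Fintype.card L ∣ Fintype.card F := by
    rw [Module.card_eq_pow_finrank (K := L) (V := F)]
    exact dvd_pow_self _ (Module.finrank_pos (R := L) (M := F)).ne'
  have hL : 1 < Fintype.card L := Fintype.one_lt_card
  rw [Nat.card_eq_fintype_card, (hF.eq_one_or_self_of_dvd _ h2).resolve_left (by omega)] at h1
  have : 2 ≤ Fintype.card F := hF.two_le
  nlinarith

end Cfsg.Agent.Lib.Geometry.Dickson
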