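import Cfsg.Agent.Lib.KnownA.GL2
import Cfsg.Agent.Lib.SL2Trace.Basic
import Cfsg.Agent.Lib.Classical.SLTwoTorus

/-!
Centralisers, fixed lines and fusion inside maximal abelian subgroups of `SL₂`.
-/

set_option autoImplicit false

namespace Cfsg.Agent.Lib.Geometry.Dickson

open Matrix
open scoped Matrix MatrixGroups
open Cfsg.Agent.Lib.KnownA (IsScal commute_eq_add_smul add_smul_injective det_add_smul)
open Cfsg.Agent.Lib.SL2Trace (tr mem_center_iff sq_eq)

variable {F : Type*} [Field F]

local notation "SL2" => Matrix.SpecialLinearGroup (Fin 2) F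
local notation "M2" => Matrix (Fin 2) (Fin 2) F

theorem sl_ext {g h : SL2} (H : (g : M2) = h) : g = h := Subtype.ext H

theorem not_isScal_of_notMem_center {y : SL2} (hy : y ∉ Subgroup.center SL2) : ¬ IsScal (y : M2) := by
  intro h
  obtain ⟨c, hc⟩ := Cfsg.Agent.Lib.KnownA.isScal_iff.mp h
  refine hy (Subgroup.mem_center_iff.mpr fun g => sl_ext ?_)
  show (g : M2) * y = (y : M2) * g
  rw [hc, Matrix.mul_smul, Matrix.smul_mul, one_mul, mul_one]

theorem mem_centralizer_iff {y x : SL2} :
    x ∈ Subgroup.centralizer ({y} : Set SL2) ↔ x * y = y * x := Subgroup.mem_centralizer_singleton_iff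

/-- An element commuting with a non-central `y` is a combination of `1` and `y`. -/
theorem exists_combination {y x : SL2} (hy : y ∉ Subgroup.center SL2)
    (hx : x ∈ Subgroup.centralizer ({y} : Set SL2)) :
    ∃ a b : F, (x : M2) = a • 1 + b • (y : M2) := by
  have h := congrArg (fun g : SL2 => (g : M2)) (mem_centralizer_iff.mp hx)
  exact commute_eq_add_smul (not_isScal_of_notMem_center hy) h

theorem centralizer_comm {y a b : SL2} (hy : y ∉ Subgroup.center SL2)
    (ha : a ∈ Subgroup.centralizer ({y} : Set SL2)) (hb : b ∈ Subgroup.centralizer ({y} : Set SL2)) :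
    a * b = b * a := by
  obtain ⟨a₁, a₂, hA⟩ := exists_combination hy ha
  obtain ⟨b₁, b₂, hB⟩ := exists_combination hy hb
  refine sl_ext ?_
  show (a : M2) * b = (b : M2) * a
  rw [hA, hB]
  simp only [mul_add, add_mul, Matrix.smul_mul, Matrix.mul_smul, one_mul, mul_one, smul_smul, mul_comm a₂, mul_comm a₁]
  abel

/-- Centralisers of non-central elements meet only in the centre. -/
theorem centralizer_eq {y x : SL2} (hy : y ∉ Subgroup.center SL2) (hx : x ∉ Subgroup.center SL2)
    (hxy : x ∈ Subgroup.centralizer ({y} : Set SL2)) :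
    Subgroup.centralizer ({x} : Set SL2) = Subgroup.centralizer ({y} : Set SL2) := by
  have hyx : y ∈ Subgroup.centralizer ({x} : Set SL2) :=
    mem_centralizer_iff.mpr (mem_centralizer_iff.mp hxy).symm
  refine le_antisymm (fun w hw => ?_) (fun w hw => ?_)
  · exact mem_centralizer_iff.mpr (centralizer_comm hx hw hyx)
  · exact mem_centralizer_iff.mpr (centralizer_comm hy hw hxy)

theorem center_le_centralizer (y : SL2) : Subgroup.center SL2 ≤ Subgroup.centralizer ({y} : Set SL2) :=
  fun z hz => mem_centralizer_iff.mpr (Subgroup.mem_center_iff.mp hz y).symm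

theorem coe_inv_eq (y : SL2) : ((y⁻¹ : SL2) : M2) = tr y • (1 : M2) - (y : M2) := by
  have h' : (y : M2) * (tr y • 1 - (y : M2)) = 1 := by
    rw [mul_sub, Matrix.mul_smul, mul_one, sq_eq y, sub_sub_cancel]
  calc ((y⁻¹ : SL2) : M2) = ((y⁻¹ : SL2) : M2) * ((y : M2) * (tr y • 1 - (y : M2))) := by rw [h', mul_one]
    _ = tr y • 1 - (y : M2) := by
      rw [← mul_assoc, show ((y⁻¹ : SL2) : M2) * (y : M2) = 1 from
        congrArg (fun g : SL2 => (g : M2)) (inv_mul_cancel y), one_mul]

/-- The only candidates for conjugates of `y` inside its centraliser. -/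
theorem eq_or_eq_inv_of_tr {y x : SL2} (hy : y ∉ Subgroup.center SL2) (ht : tr y ^ 2 ≠ 4)
    (hx : x ∈ Subgroup.centralizer ({y} : Set SL2)) (htr : tr x = tr y) : x = y ∨ x = y⁻¹ := by
  obtain ⟨a, b, hX⟩ := exists_combination hy hx
  set Y := (y : M2) with hY
  set t := tr y with ht'
  have htY : Y.trace = t := rfl
  have hdY : Y.det = 1 := y.2
  have h1 : 2 * a + b * t = t := by
    have h := congrArg Matrix.trace hX
    rw [trace_add, trace_smul, trace_smul, trace_one, htY, show (x : M2).trace = t from htr,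
      smul_eq_mul, smul_eq_mul, Fintype.card_fin] at h
    push_cast at h
    linear_combination -h
  have h2 : a * a + a * b * t + b * b = 1 := by
    have h := det_add_smul Y a b
    rw [← hX, x.2, htY, hdY, mul_one] at h
    exact h.symm
  have hb : (b - 1) * (b + 1) = 0 := by
    have h : (b - 1) * (b + 1) * (t ^ 2 - 4) = 0 := by
      linear_combination (2 * a + b * t + t) * h1 - 4 * h2
    exact (mul_eq_zero.mp h).resolve_right (sub_ne_zero.mpr ht)
  have hinv : ((y⁻¹ : SL2) : M2) = t • (1 : M2) - Y := coe_inv_eq y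
  rcases mul_eq_zero.mp hb with h | h
  · obtain rfl : b = 1 := sub_eq_zero.mp h
    have h3 : a * (a + t) = 0 := by linear_combination h2
    rcases mul_eq_zero.mp h3 with h4 | h4
    · exact Or.inl (sl_ext (by rw [hX, h4, zero_smul, zero_add, one_smul]))
    · have ha : a = -t := eq_neg_of_add_eq_zero_left h4
      have ht0 : (2 : F) * t = 0 := by rw [ha] at h1; linear_combination -h1
      rcases mul_eq_zero.mp ht0 with h20 | h20
      · refine Or.inr (sl_ext ?_)
        rw [hinv, hX]
        ext i j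
        simp [ha]
        linear_combination (Y i j - t * (1 : M2) i j) * h20
      · refine Or.inl (sl_ext ?_)
        rw [hX, ha, h20, neg_zero, zero_smul, zero_add, one_smul]
  · have hb' : b = -1 := eq_neg_of_add_eq_zero_left h
    subst hb'
    have h3 : 2 * a = 2 * t := by linear_combination h1
    have h4 : a * (a - t) = 0 := by linear_combination h2
    rcases mul_eq_zero.mp h4 with h5 | h5
    · have ht0 : (2 : F) * t = 0 := by rw [← h3, h5, mul_zero]
      rcases mul_eq_zero.mp ht0 with h20 | h20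
      · refine Or.inl (sl_ext ?_)
        rw [hX, h5, zero_smul, zero_add]
        ext i j
        simp
        linear_combination (-(Y i j)) * h20
      · refine Or.inr (sl_ext ?_)
        rw [hinv, hX, h5, h20]
        simp
    · refine Or.inr (sl_ext ?_)
      rw [hinv, hX, sub_eq_zero.mp h5, sub_eq_add_neg, neg_one_smul]

/-! Unipotent type: trace `± 2`. -/

theorem exists_eps {y : SL2} (h : tr y ^ 2 = 4) : ∃ ε : F, ε * ε = 1 ∧ tr y = 2 * ε := by
  have : (tr y - 2) * (tr y + 2) = 0 := by linear_combination h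
  rcases mul_eq_zero.mp this with h1 | h1
  · exact ⟨1, one_mul 1, by linear_combination h1⟩
  · exact ⟨-1, by ring, by linear_combination h1⟩

/-- A non-central element of trace `±2` fixes a line, on which it is `±1`. -/
theorem exists_fixed_vector {y : SL2} (h : tr y ^ 2 = 4) :
    ∃ (v : Fin 2 → F) (ε : F), v ≠ 0 ∧ ε * ε = 1 ∧ tr y = 2 * ε ∧ (y : M2) *ᵥ v = ε • v := by
  obtain ⟨ε, hε, ht⟩ := exists_eps h
  obtain ⟨v, hv, hyv⟩ : ∃ v : Fin 2 → F, v ≠ 0 ∧ ((y : M2) - ε • (1 : M2)) *ᵥ v = 0 := by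
    refine Matrix.exists_mulVec_eq_zero_iff.mpr ?_
    have hd : (y : M2) 0 0 * (y : M2) 1 1 - (y : M2) 0 1 * (y : M2) 1 0 = 1 :=
      Cfsg.Agent.Lib.SL2Trace.det_eq y
    have htr : (y : M2) 0 0 + (y : M2) 1 1 = 2 * ε := by
      rw [← ht, Cfsg.Agent.Lib.SL2Trace.tr_eq]
    rw [Matrix.det_fin_two]
    simp
    linear_combination hd - ε * htr - hε
  refine ⟨v, ε, hv, hε, ht, ?_⟩
  rwa [Matrix.sub_mulVec, Matrix.smul_mulVec, Matrix.one_mulVec, sub_eq_zero] at hyv

/-- `y` with a fixed line: the vectors with `y u = c u` lie on it. -/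
theorem mem_line_of_eigen {y : SL2} (hy : y ∉ Subgroup.center SL2) {v u : Fin 2 → F} {ε c : F}
    (hv : v ≠ 0) (hε : ε * ε = 1) (ht : tr y = 2 * ε) (hyv : (y : M2) *ᵥ v = ε • v)
    (hyu : (y : M2) *ᵥ u = c • u) : ∃ d : F, u = d • v := by
  rcases eq_or_ne u 0 with rfl | hu
  · exact ⟨0, (zero_smul F v).symm⟩
  have hc : c = ε := by
    have h := congrArg (fun A : M2 => A *ᵥ u) (sq_eq y)
    simp only [← Matrix.mulVec_mulVec, hyu, Matrix.mulVec_smul, Matrix.sub_mulVec, Matrix.smul_mulVec,
      Matrix.one_mulVec, ht, smul_smul] at h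
    have h0 : ((c - ε) * (c - ε)) • u = 0 := by
      rw [show (c - ε) * (c - ε) = c * c - (2 * ε * c - 1) by linear_combination hε, sub_smul,
        sub_smul, one_smul, h, sub_self]
    exact sub_eq_zero.mp (mul_self_eq_zero.mp ((smul_eq_zero.mp h0).resolve_right hu))
  subst hc
  exact Cfsg.Agent.Lib.Classical.eigenvector_smul_of_not_scalar
    (fun r hr => not_isScal_of_notMem_center hy (Cfsg.Agent.Lib.KnownA.isScal_iff.mpr
      ⟨r, by rw [hr, Matrix.smul_one_eq_diagonal]; rfl⟩)) hv hyv hyu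

theorem smul_left_cancel_vec {v : Fin 2 → F} (hv : v ≠ 0) {a b : F} (h : a • v = b • v) : a = b := by
  rw [← sub_eq_zero, ← sub_smul] at h
  exact sub_eq_zero.mp ((smul_eq_zero.mp h).resolve_right hv)

/-- Centraliser of a unipotent type element: the elements acting as `±1` on the fixed line. -/
theorem mem_centralizer_unipotent_iff {y : SL2} (hy : y ∉ Subgroup.center SL2) {v : Fin 2 → F} {ε : F}
    (hv : v ≠ 0) (hε : ε * ε = 1) (ht : tr y = 2 * ε) (hyv : (y : M2) *ᵥ v = ε • v) (g : SL2) :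
    g ∈ Subgroup.centralizer ({y} : Set SL2) ↔ ∃ c : F, c * c = 1 ∧ (g : M2) *ᵥ v = c • v := by
  constructor
  · intro hg
    obtain ⟨a, b, hG⟩ := exists_combination hy hg
    refine ⟨a + b * ε, ?_, ?_⟩
    · have h := det_add_smul (y : M2) a b
      rw [← hG, g.2, show (y : M2).trace = 2 * ε from ht, show (y : M2).det = 1 from y.2] at h
      linear_combination -h + b * b * hε
    · rw [hG, Matrix.add_mulVec, Matrix.smul_mulVec, Matrix.smul_mulVec, Matrix.one_mulVec, hyv,
        smul_smul, add_smul]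
  · rintro ⟨c, hc, hgv⟩
    obtain ⟨w, hw⟩ : ∃ w, LinearIndependent F ![v, w] := by
      obtain ⟨w, hw⟩ : ∃ w : Fin 2 → F, w ∉ F ∙ v := by
        by_contra h
        push Not at h
        have htop : F ∙ v = ⊤ := eq_top_iff.mpr fun x _ => h x
        have hd := finrank_span_singleton (K := F) hv
        rw [htop, finrank_top, Module.finrank_fin_fun] at hd
        omega
      exact ⟨w, (LinearIndependent.pair_iff' hv).mpr fun a ha =>
        hw (Submodule.mem_span_singleton.mpr ⟨a, ha⟩)⟩
    let B := basisOfLinearIndependentOfCardEqFinrank hw (by simp)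
    have key : ∀ (h : SL2) (d : F), d * d = 1 → (h : M2) *ᵥ v = d • v →
        ∃ s : F, (h : M2) *ᵥ w = s • v + d • w := by
      intro h d hd hhv
      have hsum := B.sum_repr ((h : M2) *ᵥ w)
      rw [Fin.sum_univ_two] at hsum
      simp only [B, coe_basisOfLinearIndependentOfCardEqFinrank, Matrix.cons_val_zero,
        Matrix.cons_val_one] at hsum
      generalize B.repr ((h : M2) *ᵥ w) 0 = s at hsum
      generalize B.repr ((h : M2) *ᵥ w) 1 = e at hsum
      refine ⟨s, ?_⟩
      suffices he : e = d by rw [← hsum, he]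
      have hdet : LinearMap.det (Matrix.toLin' (h : M2)) = 1 := by
        rw [LinearMap.det_toLin']; exact h.2
      rw [← LinearMap.det_toMatrix B, Matrix.det_fin_two] at hdet
      have hv0 : Matrix.toLin' (h : M2) (B 0) = d • B 0 := by
        simpa [B, Matrix.toLin'_apply] using hhv
      have hv1 : Matrix.toLin' (h : M2) (B 1) = s • B 0 + e • B 1 := by
        simpa [B, Matrix.toLin'_apply] using hsum.symm
      simp only [LinearMap.toMatrix_apply, hv0, hv1, map_smul, map_add, Finsupp.smul_apply,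
        Finsupp.add_apply, Module.Basis.repr_self, Finsupp.single_eq_same, smul_eq_mul] at hdet
      simp at hdet
      linear_combination d * hdet - e * hd
    obtain ⟨s, hs⟩ := key g c hc hgv
    obtain ⟨r, hr⟩ := key y ε hε hyv
    refine mem_centralizer_iff.mpr (sl_ext ?_)
    show (g : M2) * y = (y : M2) * g
    refine (Matrix.toLin' : M2 ≃ₗ[F] _).injective (B.ext fun i => ?_)
    simp only [B, coe_basisOfLinearIndependentOfCardEqFinrank, Matrix.toLin'_apply]
    fin_cases i
    · simp [← Matrix.mulVec_mulVec, hgv, hyv, Matrix.mulVec_smul, smul_smul, mul_comm]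
    · simp [← Matrix.mulVec_mulVec, hgv, hyv, hs, hr, Matrix.mulVec_smul, Matrix.mulVec_add, smul_smul,
        mul_comm]
      abel

theorem conj_mem_centralizer_iff (g x y : SL2) :
    g * x * g⁻¹ ∈ Subgroup.centralizer ({g * y * g⁻¹} : Set SL2) ↔
      x ∈ Subgroup.centralizer ({y} : Set SL2) := by
  simp only [mem_centralizer_iff]
  constructor <;> intro h
  · have := congrArg (fun e => g⁻¹ * e * g) h
    simpa [mul_assoc] using this
  · have := congrArg (fun e => g * e * g⁻¹) h
    simpa [mul_assoc] using this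

/-- An element normalising the centraliser of a unipotent type element fixes its line. -/
theorem fix_line_of_conj_mem {y g : SL2} (hy : y ∉ Subgroup.center SL2) {v : Fin 2 → F} {ε : F}
    (hv : v ≠ 0) (hε : ε * ε = 1) (ht : tr y = 2 * ε) (hyv : (y : M2) *ᵥ v = ε • v)
    (hg : g * y * g⁻¹ ∈ Subgroup.centralizer ({y} : Set SL2)) : ∃ d : F, (g : M2) *ᵥ v = d • v := by
  obtain ⟨c, -, hc⟩ := (mem_centralizer_unipotent_iff hy hv hε ht hyv _).mp hg
  have hcy : g * y * g⁻¹ ∉ Subgroup.center SL2 := fun h => hy (by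
    have := (inferInstance : (Subgroup.center SL2).Normal).conj_mem _ h g⁻¹
    simpa [mul_assoc] using this)
  have hgv : ((g * y * g⁻¹ : SL2) : M2) *ᵥ ((g : M2) *ᵥ v) = ε • ((g : M2) *ᵥ v) := by
    rw [Matrix.mulVec_mulVec]
    show (((g * y * g⁻¹ * g : SL2)) : M2) *ᵥ v = _
    rw [inv_mul_cancel_right]
    show ((g : M2) * (y : M2)) *ᵥ v = _
    rw [← Matrix.mulVec_mulVec, hyv, Matrix.mulVec_smul]
  have ht' : tr (g * y * g⁻¹) = 2 * ε := by rw [Cfsg.Agent.Lib.SL2Trace.tr_conj, ht]
  have hgv0 : (g : M2) *ᵥ v ≠ 0 := fun h => hv (by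
    have h' := congrArg (fun u => ((g⁻¹ : SL2) : M2) *ᵥ u) h
    simp only [Matrix.mulVec_mulVec, Matrix.mulVec_zero] at h'
    rwa [show ((g⁻¹ : SL2) : M2) * (g : M2) = 1 from congrArg (fun e : SL2 => (e : M2)) (inv_mul_cancel g),
      Matrix.one_mulVec] at h')
  obtain ⟨d, hd⟩ := mem_line_of_eigen hcy hgv0 hε ht' hgv hc
  have hd0 : d ≠ 0 := fun h => hv (by rw [hd, h, zero_smul])
  refine ⟨d⁻¹, ?_⟩
  conv_rhs => rw [hd]
  rw [smul_smul, inv_mul_cancel₀ hd0, one_smul]

theorem conj_mem_of_fix_line {y g : SL2} (hy : y ∉ Subgroup.center SL2) {v : Fin 2 → F} {ε d : F}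
    (hv : v ≠ 0) (hε : ε * ε = 1) (ht : tr y = 2 * ε) (hyv : (y : M2) *ᵥ v = ε • v)
    (hg : (g : M2) *ᵥ v = d • v) {x : SL2} (hx : x ∈ Subgroup.centralizer ({y} : Set SL2)) :
    g * x * g⁻¹ ∈ Subgroup.centralizer ({y} : Set SL2) := by
  obtain ⟨c, hc, hxv⟩ := (mem_centralizer_unipotent_iff hy hv hε ht hyv _).mp hx
  refine (mem_centralizer_unipotent_iff hy hv hε ht hyv _).mpr ⟨c, hc, ?_⟩
  have hginv : ((g⁻¹ : SL2) : M2) *ᵥ v = d⁻¹ • v := by
    have h := congrArg (fun u => ((g⁻¹ : SL2) : M2) *ᵥ u) hg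
    simp only [Matrix.mulVec_mulVec, Matrix.mulVec_smul] at h
    rw [show ((g⁻¹ : SL2) : M2) * (g : M2) = 1 from congrArg (fun e : SL2 => (e : M2)) (inv_mul_cancel g),
      Matrix.one_mulVec] at h
    have hd0 : d ≠ 0 := fun h0 => hv (by rw [h, h0, zero_smul])
    conv_rhs => rw [h]
    rw [smul_smul, inv_mul_cancel₀ hd0, one_smul]
  have hd0 : d ≠ 0 := fun h0 => hv (by
    have h := congrArg (fun u => ((g⁻¹ : SL2) : M2) *ᵥ u) hg
    simp only [Matrix.mulVec_mulVec, h0, zero_smul, Matrix.mulVec_zero] at h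
    rwa [show ((g⁻¹ : SL2) : M2) * (g : M2) = 1 from congrArg (fun e : SL2 => (e : M2)) (inv_mul_cancel g),
      Matrix.one_mulVec] at h)
  show ((g : M2) * (x : M2) * ((g⁻¹ : SL2) : M2)) *ᵥ v = c • v
  rw [← Matrix.mulVec_mulVec, ← Matrix.mulVec_mulVec, hginv, Matrix.mulVec_smul, hxv,
    Matrix.mulVec_smul, Matrix.mulVec_smul, hg, smul_smul, smul_smul, mul_right_comm,
    inv_mul_cancel₀ hd0, one_mul]

end Cfsg.Agent.Lib.Geometry.Dickson
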