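import Cfsg.Agent.Lib.Geometry.Dickson.Unip

/-!
Solutions of the class equation.
-/

set_option autoImplicit false

namespace Cfsg.Agent.Lib.Geometry.Dickson

open Matrix
open scoped Matrix MatrixGroups Pointwise
open Cfsg.Agent.Lib.SL2Trace (tr)

variable {F : Type*} [Field F] [Fintype F]

local notation "SL2" => Matrix.SpecialLinearGroup (Fin 2) F
local notation "zz" => Nat.card (Subgroup.center (Matrix.SpecialLinearGroup (Fin 2) F))

variable (G : Subgroup (Matrix.SpecialLinearGroup (Fin 2) F))

/-- The cell of `y` has order `z·a` and its normaliser order `z·(e·a)`. -/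
def HasData (y : SL2) (a e : ℕ) : Prop :=
  y ∈ G ∧ y ∉ Subgroup.center SL2 ∧ Nat.card (cell G y) = zz * a ∧ Nat.card (cellNorm G y) = zz * (e * a)

/-- The shapes of subgroups. -/
inductive Shape : Prop
  | central (h : G ≤ Subgroup.center SL2)
  | cyclic (y : SL2) (hy : y ∈ G) (hyZ : y ∉ Subgroup.center SL2) (ht : tr y ^ 2 ≠ 4) (h : cell G y = G)
  | dihedral (y : SL2) (a : ℕ) (hy : HasData G y a 2) (ht : tr y ^ 2 ≠ 4) (h : cellNorm G y = G)
  | borel (y : SL2) (hy : y ∈ G) (hyZ : y ∉ Subgroup.center SL2) (ht : tr y ^ 2 = 4) (h : cellNorm G y = G)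
  | tetrahedral (y : SL2) (hy : HasData G y 3 1) (ht : tr y ^ 2 ≠ 4) (h : Nat.card G = zz * 12)
  | octahedral (y : SL2) (hy : HasData G y 3 2) (ht : tr y ^ 2 ≠ 4) (h : Nat.card G = zz * 24)
  | icosahedral (y₂ y₃ y₅ : SL2) (h₂ : HasData G y₂ 2 2) (h₃ : HasData G y₃ 3 2) (h₅ : HasData G y₅ 5 2)
      (hcover : ∀ x ∈ G, x ∉ Subgroup.center SL2 →
        cls G x = cls G y₂ ∨ cls G x = cls G y₃ ∨ cls G x = cls G y₅)
      (h : Nat.card G = zz * 60)
  | subfield (y : SL2) (r k : ℕ) (hy : y ∈ G) (hyZ : y ∉ Subgroup.center SL2) (ht : tr y ^ 2 = 4)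
      (hr : 2 ≤ r) (hc : Nat.card (cell G y) = zz * r) (h : Nat.card (cls G y) = r + 1)

theorem data_of_cls_eq [Finite G] {y y' : SL2} (h : cls G y = cls G y') :
    Nat.card (cell G y) = Nat.card (cell G y') ∧ Nat.card (cellNorm G y) = Nat.card (cellNorm G y') := by
  have hm : cell G y ∈ cls G y' := h ▸ cell_mem_cls G y
  obtain ⟨g, hg⟩ := hm
  have h1 : Nat.card (cell G y) = Nat.card (cell G y') := by
    rw [← hg]
    show Nat.card (cell G ((g : SL2) * y' * (g : SL2)⁻¹)) = _
    rw [← cell_conj G g.2 y']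
    exact (Nat.card_congr (Subgroup.equivSMul (MulAut.conj (g : SL2)) (cell G y')).toEquiv).symm
  refine ⟨h1, ?_⟩
  have e1 := card_cls_mul G y
  have e2 := card_cls_mul G y'
  rw [h, ← e2] at e1
  haveI : Finite (cls G y') := Finite.Set.finite_range _
  haveI : Nonempty (cls G y') := ⟨⟨_, cell_mem_cls G y'⟩⟩
  exact Nat.eq_of_mul_eq_mul_left Nat.card_pos e1

theorem weight_of_data {y : SL2} {a e : ℕ} (h : HasData G y a e) :
    weight G y = ((a : ℚ) - 1) / ((e : ℚ) * a) := by
  have hz : (zz : ℚ) ≠ 0 := by exact_mod_cast Nat.card_pos.ne'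
  rw [weight, h.2.2.1, h.2.2.2]
  push_cast
  rw [show (zz : ℚ) * a - zz = zz * ((a : ℚ) - 1) by ring, mul_div_mul_left _ _ hz]

theorem data_le [Finite G] {y : SL2} {a e g : ℕ} (h : HasData G y a e) (hg : Nat.card G = zz * g) :
    e * a ∣ g ∧ (e * a = g → cellNorm G y = G) := by
  have hd : zz * (e * a) ∣ zz * g := by
    rw [← h.2.2.2, ← hg]; exact Subgroup.card_dvd_of_le inf_le_right
  refine ⟨Nat.dvd_of_mul_dvd_mul_left Nat.card_pos hd, fun he => ?_⟩
  exact Subgroup.eq_of_le_of_card_ge inf_le_right (by rw [hg, h.2.2.2, he])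

theorem torus_data [Finite G] (hZ : Subgroup.center SL2 ≤ G) {y : SL2} (hy : y ∈ G)
    (hyZ : y ∉ Subgroup.center SL2) (ht : tr y ^ 2 ≠ 4) :
    ∃ a e, (e = 1 ∨ e = 2) ∧ 2 ≤ a ∧ HasData G y a e := by
  obtain ⟨a, ha2, ha⟩ := two_le_of_notMem G hZ hy hyZ
  rcases torus_index G hy hyZ ht with h | ⟨h, -⟩
  · exact ⟨a, 1, Or.inl rfl, ha2, hy, hyZ, ha, by rw [h, ha, one_mul]⟩
  · exact ⟨a, 2, Or.inr rfl, ha2, hy, hyZ, ha, by rw [h, ha]; ring⟩

theorem sq_mem_center_of_inverts [Finite G] {y g : SL2} (hy : y ∈ G) (hyZ : y ∉ Subgroup.center SL2)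
    (ht : tr y ^ 2 ≠ 4) (hg : g ∈ cellNorm G y) (hgc : g ∉ cell G y) : g * g ∈ Subgroup.center SL2 := by
  have hinv := torus_inverts G hy hyZ ht hg hgc (mem_cell_self G hy)
  have hg2 : g * g ∈ cell G y := by
    refine ⟨mem_centralizer_iff.mpr ?_, G.mul_mem hg.2 hg.2⟩
    have : g * (g * y * g⁻¹) * g⁻¹ = y := by
      rw [hinv, show g * y⁻¹ * g⁻¹ = (g * y * g⁻¹)⁻¹ by group, hinv, inv_inv]
    calc g * g * y = g * (g * y * g⁻¹) * g⁻¹ * (g * g) := by group
      _ = y * (g * g) := by rw [this]
  have h := torus_inverts G hy hyZ ht hg hgc hg2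
  have h2 : (g * g) * (g * g) = 1 := by
    rw [show g * (g * g) * g⁻¹ = g * g by group] at h
    exact mul_eq_one_iff_eq_inv.mpr h
  by_contra hne
  have hcomm : g * (g * g) = g * g * g := (mul_assoc g g g).symm
  refine hgc ?_
  rw [← cell_eq G hyZ hne hg2]
  exact ⟨mem_centralizer_iff.mpr hcomm, hg.2⟩

theorem mem_center_of_sq [Finite G] (hZ : Subgroup.center SL2 ≤ G) {u x : SL2} {a : ℕ} (ha : Odd a)
    (hc : Nat.card (cell G u) = zz * a) (hx : x ∈ cell G u) (hsq : x * x ∈ Subgroup.center SL2) :
    x ∈ Subgroup.center SL2 := by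
  open Cfsg.Agent.Lib.SL2Trace (toPSL toPSL_eq_one mem_center_iff) in
  have hm := card_map_toPSL G hZ (cell G u) (center_le_cell G hZ u) inf_le_right
  open Cfsg.Agent.Lib.SL2Trace (toPSL) in
  have h2 : (⟨toPSL x, x, hx, rfl⟩ : (cell G u).map (toPSL : SL2 →* _)) ^ 2 = 1 := Subtype.ext (by
    show toPSL x ^ 2 = 1
    rw [sq, ← map_mul]
    exact Cfsg.Agent.Lib.SL2Trace.toPSL_eq_one.mpr (Cfsg.Agent.Lib.SL2Trace.mem_center_iff.mp hsq))
  open Cfsg.Agent.Lib.SL2Trace (toPSL) in
  have hcard : Nat.card ((cell G u).map (toPSL : SL2 →* _)) = a := by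
    rw [hc] at hm
    exact (Nat.eq_of_mul_eq_mul_left Nat.card_pos hm).symm
  open Cfsg.Agent.Lib.SL2Trace (toPSL) in
  have h1 : orderOf (⟨toPSL x, x, hx, rfl⟩ : (cell G u).map (toPSL : SL2 →* _)) = 1 := by
    refine Nat.eq_one_of_dvd_coprimes (a := 2) (b := a) ha.coprime_two_left ?_ (hcard ▸ orderOf_dvd_natCard _)
    exact orderOf_dvd_of_pow_eq_one h2
  exact Cfsg.Agent.Lib.SL2Trace.mem_center_iff.mpr (Cfsg.Agent.Lib.SL2Trace.toPSL_eq_one.mp
    (congrArg Subtype.val (orderOf_eq_one_iff.mp h1)))

/-- No two classes of tori of order three in a group of order twelve. -/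
theorem no_double_three [Finite G] (hZ : Subgroup.center SL2 ≤ G) (hg : Nat.card G = zz * 12) {y : SL2} (ht : tr y ^ 2 ≠ 4)
    (hy : HasData G y 3 2) : False := by
  obtain ⟨hyG, hyZ, hc, hN⟩ := hy
  set K := (cellNorm G y).subgroupOf G with hK
  have hidx : K.index = 2 := by
    have h := K.card_mul_index
    have hKc : Nat.card K = Nat.card (cellNorm G y) :=
      Nat.card_congr (Subgroup.subgroupOfEquivOfLe inf_le_right).toEquiv
    rw [hKc, hN, hg] at h
    have hz : 0 < zz := Nat.card_pos
    nlinarith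
  haveI := Subgroup.normal_of_index_eq_two hidx
  haveI : Finite (cell G y) := Finite.of_injective (Subgroup.inclusion (inf_le_right : cell G y ≤ G))
    (Subgroup.inclusion_injective _)
  have hall : ∀ h : G, (h : SL2) ∈ cellNorm G y := by
    intro h
    have hmem : (h : SL2) * y * (h : SL2)⁻¹ ∈ cellNorm G y := by
      have := (inferInstance : K.Normal).conj_mem ⟨y, hyG⟩
        (Subgroup.mem_subgroupOf.mpr (cell_le_cellNorm G y (mem_cell_self G hyG))) h
      exact this
    by_cases hc' : (h : SL2) * y * (h : SL2)⁻¹ ∈ cell G y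
    · refine (mem_cellNorm_iff G).mpr ⟨h.2, ?_⟩
      rw [cell_conj G h.2]
      exact cell_eq G hyZ (conj_notMem_center hyZ _) hc'
    · exfalso
      have hsq := sq_mem_center_of_inverts G hyG hyZ ht hmem hc'
      have hyy : y * y ∈ Subgroup.center SL2 := by
        have := (inferInstance : (Subgroup.center SL2).Normal).conj_mem _ hsq (h : SL2)⁻¹
        simpa [mul_assoc] using this
      exact hyZ (mem_center_of_sq G hZ (a := 3) (by decide) hc (mem_cell_self G hyG) hyy)
  have := Subgroup.index_eq_one.mpr (show K = ⊤ from eq_top_iff.mpr fun h _ => hall h)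
  omega

section Arith

theorem inv_le_half {a : ℕ} (ha : 2 ≤ a) : (1 : ℚ) / a ≤ 1 / 2 :=
  one_div_le_one_div_of_le (by norm_num) (by exact_mod_cast ha)

theorem quarter_le {a e : ℕ} (he : e = 1 ∨ e = 2) (ha : 2 ≤ a) : (1 : ℚ) / 4 ≤ ((a : ℚ) - 1) / ((e : ℚ) * a) := by
  have ha' : (2 : ℚ) ≤ a := by exact_mod_cast ha
  have hpos : (0 : ℚ) < (e : ℚ) * a := by
    rcases he with rfl | rfl <;> push_cast <;> linarith
  rw [div_le_div_iff₀ (by norm_num) hpos]
  rcases he with rfl | rfl <;> push_cast <;> linarith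

theorem three_solutions {a b c g : ℕ} (ha : 2 ≤ a) (hab : a ≤ b) (hbc : b ≤ c) (hc : 2 * c ∣ g) (hg : 0 < g)
    (h : (1 : ℚ) / a + 1 / b + 1 / c = 1 + 2 / g) :
    a = 2 ∧ ((b = 2 ∧ g = 2 * c) ∨ (b = 3 ∧ ((c = 3 ∧ g = 12) ∨ (c = 4 ∧ g = 24) ∨ (c = 5 ∧ g = 60)))) := by
  have h' : g * (b * c + a * c + a * b) = a * b * c * (g + 2) := by
    have e : ((g : ℚ) * (b * c + a * c + a * b)) = a * b * c * (g + 2) := by
      have : (0 : ℚ) < a := by exact_mod_cast (show 0 < a by omega)
      have : (0 : ℚ) < b := by exact_mod_cast (show 0 < b by omega)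
      have : (0 : ℚ) < c := by exact_mod_cast (show 0 < c by omega)
      have : (0 : ℚ) < g := by exact_mod_cast hg
      field_simp at h
      linear_combination h
    exact_mod_cast e
  have ha2 : a = 2 := by
    by_contra hne
    have h3 : 3 ≤ a := by omega
    have : b * c + a * c + a * b ≤ a * b * c := by
      have e1 : 3 * (b * c) ≤ a * (b * c) := Nat.mul_le_mul_right _ h3
      have e2 : 3 * (a * c) ≤ b * (a * c) := Nat.mul_le_mul_right _ (h3.trans hab)
      have e3 : 3 * (a * b) ≤ c * (a * b) := Nat.mul_le_mul_right _ (h3.trans (hab.trans hbc))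
      nlinarith
    have : a * b * c * (g + 2) ≤ g * (a * b * c) := h' ▸ Nat.mul_le_mul_left g this
    have : 0 < a * b * c := Nat.mul_pos (Nat.mul_pos (by omega) (by omega)) (by omega)
    nlinarith
  subst ha2
  refine ⟨rfl, ?_⟩
  have hb : b ≤ 3 := by
    by_contra hne
    have h4 : 4 ≤ b := by omega
    have : b * c + 2 * c + 2 * b ≤ 2 * b * c := by
      have e1 : 4 * c ≤ b * c := Nat.mul_le_mul_right _ h4
      have e2 : 4 * b ≤ c * b := Nat.mul_le_mul_right _ (h4.trans hbc)
      nlinarith
    have : 2 * b * c * (g + 2) ≤ g * (2 * b * c) := h' ▸ Nat.mul_le_mul_left g this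
    have : 0 < 2 * b * c := Nat.mul_pos (Nat.mul_pos (by omega) (by omega)) (by omega)
    nlinarith
  obtain rfl | rfl : b = 2 ∨ b = 3 := by omega
  · exact Or.inl ⟨rfl, by nlinarith⟩
  · refine Or.inr ⟨rfl, ?_⟩
    have hc5 : c < 6 := by
      by_contra hne
      nlinarith
    interval_cases c <;> omega

theorem p_two_term {r k n a g : ℕ} (hr : 2 ≤ r) (hk : 2 ≤ k) (hkr : k ∣ r - 1) (hn : r ∣ n - 1) (hn1 : 2 ≤ n)
    (hg : g = n * (r * k)) (ha : 2 ≤ a)
    (h : 1 - (1 : ℚ) / g = ((k : ℚ) - 1) / (2 * k) + ((r : ℚ) - 1) / (r * k) + ((a : ℚ) - 1) / (2 * a)) :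
    n = r + 1 ∨ (r = 3 ∧ k = 2 ∧ n = 10 ∧ a = 5) := by
  subst hg
  obtain ⟨f, hf⟩ := hn
  have hn' : n = 1 + r * f := by omega
  have h' : r * k * n = a * (n * (r - 2) + 2) := by
    have hr' : (r : ℚ) ≠ 0 := by exact_mod_cast (show r ≠ 0 by omega)
    have hk' : (k : ℚ) ≠ 0 := by exact_mod_cast (show k ≠ 0 by omega)
    have ha' : (a : ℚ) ≠ 0 := by exact_mod_cast (show a ≠ 0 by omega)
    have hn0 : (n : ℚ) ≠ 0 := by exact_mod_cast (show n ≠ 0 by omega)
    have e : ((r : ℚ) * k * n) = a * (n * ((r : ℚ) - 2) + 2) := by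
      push_cast at h
      field_simp at h
      linear_combination h
    have h2 : ((r - 2 : ℕ) : ℚ) = (r : ℚ) - 2 := by
      rw [Nat.cast_sub hr]; norm_num
    rw [← h2] at e
    exact_mod_cast e
  have hk1 : k ≤ r - 1 := Nat.le_of_dvd (by omega) hkr
  obtain ⟨j, rfl⟩ : ∃ j, r = j + 2 := ⟨r - 2, by omega⟩
  simp only [Nat.add_sub_cancel] at h'
  rw [show (j + 2) * k * n = (j + 2) * (k * n) by ring,
    show n * j + 2 = (j + 2) * (1 + j * f) by rw [hn']; ring, show a * ((j + 2) * (1 + j * f)) = (j + 2) * (a * (1 + j * f)) by ring] at h'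
  have h2 : k * n = a * (1 + j * f) := Nat.eq_of_mul_eq_mul_left (by omega) h'
  -- `n = (1 + j f) + 2 f`
  have hnf : n = (1 + j * f) + 2 * f := by rw [hn']; ring
  have hdvd : 1 + j * f ∣ k * (2 * f) := by
    have h3 : 1 + j * f ∣ k * n := h2 ▸ dvd_mul_left _ _
    rw [hnf, mul_add] at h3
    exact (Nat.dvd_add_right (dvd_mul_left _ _)).mp h3
  have hdvd2 : 1 + j * f ∣ 2 * k := by
    rw [show k * (2 * f) = f * (2 * k) by ring] at hdvd
    refine (Nat.Coprime.dvd_of_dvd_mul_left ?_ hdvd)
    rw [Nat.coprime_comm]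
    exact (Nat.coprime_add_mul_right_right f 1 j).mpr (Nat.coprime_one_right f)
  have hle : 1 + j * f ≤ 2 * k := Nat.le_of_dvd (by omega) hdvd2
  rcases Nat.lt_or_ge f 2 with hf2 | hf2
  · interval_cases f
    · exfalso
      omega
    · exact Or.inl (by omega)
  · right
    have hkj : k ≤ j + 1 := by omega
    have hj : j * 2 ≤ j * f := Nat.mul_le_mul_left j hf2
    rcases Nat.eq_zero_or_pos j with rfl | hj0
    · omega
    -- `k = j + 1`
    have hk' : k = j + 1 := by
      have h2j : 1 + 2 * j ≤ 2 * k := by omega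
      omega
    subst hk'
    have hj1 : j = 1 := by
      by_contra hne
      obtain ⟨m, hm⟩ := hdvd2
      have hlt : 1 + j * f > j + 1 := by
        have : j * 2 ≤ j * f := hj
        omega
      rcases Nat.lt_or_ge m 2 with hm2 | hm2
      · interval_cases m
        · omega
        · -- `j f = 2 j + 1`
          have : j ∣ 1 := (Nat.dvd_add_right (dvd_mul_left j 2)).mp ⟨f, by omega⟩
          exact hne (Nat.dvd_one.mp this)
      · have : (1 + j * f) * 2 ≤ (1 + j * f) * m := Nat.mul_le_mul_left _ hm2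
        omega
    subst hj1
    have hf3 : f = 3 := by
      have hff : f ≤ 3 := by omega
      interval_cases f
      · exact absurd hdvd2 (by decide)
      · rfl
    subst hf3
    refine ⟨rfl, rfl, by omega, ?_⟩
    have hn10 : n = 10 := by omega
    subst hn10
    omega

end Arith

/-- The class equation forces one of the classical shapes. -/
theorem shape [Finite G] (p : ℕ) [Fact p.Prime] [CharP F p] (hZ : Subgroup.center SL2 ≤ G) : Shape G := by
  classical
  obtain ⟨g, hg⟩ : zz ∣ Nat.card G := Subgroup.card_dvd_of_le hZ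
  have hz : 0 < zz := Nat.card_pos
  have hg0 : 0 < g := by
    rcases Nat.eq_zero_or_pos g with rfl | h
    · rw [mul_zero] at hg; exact absurd hg Nat.card_pos.ne'
    · exact h
  have hgq : (0 : ℚ) < g := by exact_mod_cast hg0
  obtain ⟨O, hO, hOinj, hOcov, hsum⟩ := exists_reps G hZ
  have hrhs : 1 - (zz : ℚ) / Nat.card G = 1 - 1 / g := by
    rw [hg]; push_cast; field_simp
  rw [hrhs] at hsum
  choose! A E hE hA hAE using fun y (hy : y ∈ O.filter fun y => tr y ^ 2 ≠ 4) =>
    torus_data G hZ (hO y (Finset.mem_filter.mp hy).1).1 (hO y (Finset.mem_filter.mp hy).1).2 (Finset.mem_filter.mp hy).2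
  set T := O.filter fun y => tr y ^ 2 ≠ 4 with hT
  have hTt : ∀ y ∈ T, tr y ^ 2 ≠ 4 := fun y hy => (Finset.mem_filter.mp hy).2
  have hTO : ∀ y ∈ T, y ∈ O := fun y hy => (Finset.mem_filter.mp hy).1
  have hTq : ∀ y ∈ T, (1 : ℚ) / 4 ≤ weight G y := fun y hy => by
    rw [weight_of_data G (hAE y hy)]; exact quarter_le (hE y hy) (hA y hy)
  by_cases hU : ∃ y ∈ O, tr y ^ 2 = 4
  swap
  · push Not at hU
    have hTeq : T = O := Finset.filter_eq_self.mpr hU
    rw [← hTeq] at hsum
    have hcard : T.card ≤ 3 := by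
      by_contra hne
      have h4 : (4 : ℚ) ≤ T.card := by exact_mod_cast (show 4 ≤ T.card by omega)
      have h := Finset.card_nsmul_le_sum T (weight G) (1 / 4) hTq
      rw [nsmul_eq_mul, hsum] at h
      have : (0 : ℚ) < 1 / g := by positivity
      linarith
    have hdiv : ∀ y ∈ T, E y * A y ∣ g := fun y hy => (data_le G (hAE y hy) hg).1
    have hw : ∀ y ∈ T, weight G y = ((A y : ℚ) - 1) / ((E y : ℚ) * A y) := fun y hy => weight_of_data G (hAE y hy)
    interval_cases hn : T.card
    · rw [Finset.card_eq_zero.mp hn, Finset.sum_empty] at hsum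
      have hg1 : g = 1 := by
        have : (g : ℚ) = 1 := by field_simp at hsum; linarith
        exact_mod_cast this
      refine Shape.central (le_of_eq (Subgroup.eq_of_le_of_card_ge hZ ?_).symm)
      rw [hg, hg1, mul_one]
    · obtain ⟨y, hy⟩ := Finset.card_eq_one.mp hn
      have hyT : y ∈ T := by rw [hy]; exact Finset.mem_singleton_self y
      rw [hy, Finset.sum_singleton, hw y hyT] at hsum
      have haq : (2 : ℚ) ≤ A y := by exact_mod_cast hA y hyT
      rcases hE y hyT with he | he
      · rw [he] at hsum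
        have : (A y : ℚ) = g := by push_cast at hsum; field_simp at hsum; linarith
        have hag : A y = g := by exact_mod_cast this
        exact Shape.cyclic y (hAE y hyT).1 (hAE y hyT).2.1 (hTt y hyT)
          (Subgroup.eq_of_le_of_card_ge inf_le_right (by rw [hg, (hAE y hyT).2.2.1, hag]))
      · exfalso
        have h4 : (2 : ℚ) * A y ≤ g := by
          have := Nat.le_of_dvd hg0 (hdiv y hyT)
          rw [he] at this
          exact_mod_cast this
        rw [he] at hsum
        push_cast at hsum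
        field_simp at hsum
        nlinarith
    · obtain ⟨y₁, y₂, hne, hy⟩ := Finset.card_eq_two.mp hn
      have h₁ : y₁ ∈ T := by rw [hy]; simp
      have h₂ : y₂ ∈ T := by rw [hy]; simp
      rw [hy, Finset.sum_pair hne, hw _ h₁, hw _ h₂] at hsum
      have a1 : (2 : ℚ) ≤ A y₁ := by exact_mod_cast hA _ h₁
      have a2 : (2 : ℚ) ≤ A y₂ := by exact_mod_cast hA _ h₂
      have aux : ∀ u v, u ∈ T → v ∈ T → E u = 1 → E v = 2 →
          ((A u : ℚ) - 1) / ((E u : ℚ) * A u) + ((A v : ℚ) - 1) / ((E v : ℚ) * A v) = 1 - 1 / g → Shape G := by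
        intro u v hu hv hu1 hv2 hs
        have au : (2 : ℚ) ≤ A u := by exact_mod_cast hA _ hu
        have av : (2 : ℚ) ≤ A v := by exact_mod_cast hA _ hv
        rw [hu1, hv2] at hs
        have hN : g * (2 * A v + A u) = A u * A v * g + 2 * A u * A v := by
          have e : (g : ℚ) * (2 * A v + A u) = A u * A v * g + 2 * A u * A v := by
            push_cast at hs; field_simp at hs; linear_combination -hs
          exact_mod_cast e
        have hvg : 2 * A v ∣ g := hv2 ▸ hdiv v hv
        obtain ⟨c, hc⟩ := hvg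
        have hc0 : 0 < c := by
          rcases Nat.eq_zero_or_pos c with rfl | h
          · omega
          · exact h
        have hu2 := hA _ hu
        have hv2' := hA _ hv
        rcases Nat.lt_or_ge (A u) 3 with hu3 | hu3
        · have hu' : A u = 2 := by omega
          rw [hu'] at hN
          have hg2 : g = 2 * A v := by nlinarith
          refine Shape.dihedral v (A v) (hv2 ▸ hAE v hv) (hTt v hv) ((data_le G (hAE v hv) hg).2 ?_)
          rw [hv2, hg2]
        · have hu' : A u = 3 := by
            by_contra hne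
            have : 4 ≤ A u := by omega
            nlinarith [Nat.mul_le_mul_right (A v * g) this, Nat.mul_le_mul_left (A u * g) hv2']
          rw [hu'] at hN
          have hv' : A v = 2 := by nlinarith
          rw [hv'] at hN
          have hg12 : g = 12 := by omega
          refine Shape.tetrahedral u ?_ (hTt u hu) (by rw [hg, hg12])
          have := hAE u hu
          rw [hu1, hu'] at this
          exact this
      rcases hE _ h₁ with e1 | e1 <;> rcases hE _ h₂ with e2 | e2
      · exfalso
        rw [e1, e2] at hsum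
        push_cast at hsum
        have i1 := inv_le_half (hA _ h₁)
        have i2 := inv_le_half (hA _ h₂)
        have : (0 : ℚ) < 1 / g := by positivity
        rw [one_mul, one_mul, sub_div, sub_div, div_self (by linarith), div_self (by linarith)] at hsum
        linarith
      · exact aux y₁ y₂ h₁ h₂ e1 e2 hsum
      · exact aux y₂ y₁ h₂ h₁ e2 e1 (by rw [add_comm]; exact hsum)
      · exfalso
        have d1 : (2 : ℚ) * A y₁ ≤ g := by
          have := Nat.le_of_dvd hg0 (hdiv _ h₁); rw [e1] at this; exact_mod_cast this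
        have d2 : (2 : ℚ) * A y₂ ≤ g := by
          have := Nat.le_of_dvd hg0 (hdiv _ h₂); rw [e2] at this; exact_mod_cast this
        rw [e1, e2] at hsum
        push_cast at hsum
        have j1 : (1 : ℚ) / g ≤ 1 / (2 * A y₁) := one_div_le_one_div_of_le (by linarith) d1
        have p2 : (0 : ℚ) < 1 / (2 * A y₂) := by positivity
        rw [sub_div, sub_div, show (A y₁ : ℚ) / (2 * A y₁) = 1 / 2 by field_simp,
          show (A y₂ : ℚ) / (2 * A y₂) = 1 / 2 by field_simp] at hsum
        linarith
    · obtain ⟨y₁, y₂, y₃, h12, h13, h23, hy⟩ := Finset.card_eq_three.mp hn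
      have h₁ : y₁ ∈ T := by rw [hy]; simp
      have h₂ : y₂ ∈ T := by rw [hy]; simp
      have h₃ : y₃ ∈ T := by rw [hy]; simp
      rw [hy, Finset.sum_insert (by simp [h12, h13]), Finset.sum_pair h23] at hsum
      have hall : ∀ u v w : SL2, u ∈ T → v ∈ T → w ∈ T →
          weight G u + weight G v + weight G w = 1 - 1 / g → E u = 2 := by
        intro u v w hu hv hw' hs
        rcases hE u hu with h | h
        · exfalso
          have q2 := hTq v hv
          have q3 := hTq w hw'
          have q1 := inv_le_half (hA u hu)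
          have : (0 : ℚ) < 1 / g := by positivity
          have hau : (2 : ℚ) ≤ A u := by exact_mod_cast hA u hu
          rw [hw u hu, h] at hs
          push_cast at hs
          rw [one_mul, sub_div, div_self (by linarith)] at hs
          linarith
        · exact h
      have e1 := hall y₁ y₂ y₃ h₁ h₂ h₃ (by linear_combination hsum)
      have e2 := hall y₂ y₁ y₃ h₂ h₁ h₃ (by linear_combination hsum)
      have e3 := hall y₃ y₁ y₂ h₃ h₁ h₂ (by linear_combination hsum)
      have hkey : (1 : ℚ) / A y₁ + 1 / A y₂ + 1 / A y₃ = 1 + 2 / g := by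
        have a1 : (2 : ℚ) ≤ A y₁ := by exact_mod_cast hA _ h₁
        have a2 : (2 : ℚ) ≤ A y₂ := by exact_mod_cast hA _ h₂
        have a3 : (2 : ℚ) ≤ A y₃ := by exact_mod_cast hA _ h₃
        rw [hw _ h₁, hw _ h₂, hw _ h₃, e1, e2, e3] at hsum
        push_cast at hsum
        field_simp at hsum ⊢
        linear_combination -hsum
      have fin : ∀ u v w : SL2, u ∈ T → v ∈ T → w ∈ T → E u = 2 → E v = 2 → E w = 2 →
          A u ≤ A v → A v ≤ A w → (∀ x ∈ T, x = u ∨ x = v ∨ x = w) →
          (1 : ℚ) / A u + 1 / A v + 1 / A w = 1 + 2 / g → Shape G := by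
        intro u v w hu hv hw' eu ev ew huv hvw hx hs
        have hd : 2 * A w ∣ g := ew ▸ hdiv w hw'
        obtain ⟨hau, h | h⟩ := three_solutions (hA u hu) huv hvw hd hg0 hs
        · refine Shape.dihedral w (A w) (ew ▸ hAE w hw') (hTt w hw') ((data_le G (hAE w hw') hg).2 ?_)
          rw [ew, h.2]
        obtain ⟨hav, h | h | h⟩ := h
        · exact (no_double_three G hZ (by rw [hg, h.2]) (hTt v hv) (by have := hAE v hv; rwa [ev, hav] at this)).elim
        · refine Shape.octahedral v ?_ (hTt v hv) (by rw [hg, h.2])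
          have := hAE v hv; rwa [ev, hav] at this
        · refine Shape.icosahedral u v w ?_ ?_ ?_ (fun x hxG hxZ => ?_) (by rw [hg, h.2])
          · have := hAE u hu; rwa [eu, hau] at this
          · have := hAE v hv; rwa [ev, hav] at this
          · have := hAE w hw'; rwa [ew, h.1] at this
          · obtain ⟨x', hx', hcls⟩ := hOcov x hxG hxZ
            rcases hx x' (hTeq ▸ hx') with rfl | rfl | rfl
            · exact Or.inl hcls
            · exact Or.inr (Or.inl hcls)
            · exact Or.inr (Or.inr hcls)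
      have hx : ∀ x ∈ T, x = y₁ ∨ x = y₂ ∨ x = y₃ := fun x hxT => by rw [hy] at hxT; simpa using hxT
      rcases le_total (A y₁) (A y₂) with o12 | o12 <;> rcases le_total (A y₂) (A y₃) with o23 | o23 <;>
        rcases le_total (A y₁) (A y₃) with o13 | o13
      · exact fin y₁ y₂ y₃ h₁ h₂ h₃ e1 e2 e3 o12 o23 hx hkey
      · exact fin y₁ y₂ y₃ h₁ h₂ h₃ e1 e2 e3 o12 o23 hx hkey
      · exact fin y₁ y₃ y₂ h₁ h₃ h₂ e1 e3 e2 o13 o23 (fun x hxT => by rcases hx x hxT with h | h | h <;> simp [h])
          (by linear_combination hkey)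
      · exact fin y₃ y₁ y₂ h₃ h₁ h₂ e3 e1 e2 o13 o12 (fun x hxT => by rcases hx x hxT with h | h | h <;> simp [h])
          (by linear_combination hkey)
      · exact fin y₂ y₁ y₃ h₂ h₁ h₃ e2 e1 e3 o12 o13 (fun x hxT => by rcases hx x hxT with h | h | h <;> simp [h])
          (by linear_combination hkey)
      · exact fin y₂ y₃ y₁ h₂ h₃ h₁ e2 e3 e1 o23 o13 (fun x hxT => by rcases hx x hxT with h | h | h <;> simp [h])
          (by linear_combination hkey)
      · exact fin y₃ y₂ y₁ h₃ h₂ h₁ e3 e2 e1 o23 o12 (fun x hxT => by rcases hx x hxT with h | h | h <;> simp [h])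
          (by linear_combination hkey)
      · exact fin y₃ y₂ y₁ h₃ h₂ h₁ e3 e2 e1 o23 o12 (fun x hxT => by rcases hx x hxT with h | h | h <;> simp [h])
          (by linear_combination hkey)
  -- a class of unipotent type
  obtain ⟨u, huO, htu⟩ := hU
  obtain ⟨huG, huZ⟩ := hO u huO
  obtain ⟨r, k, hr, hk, ⟨s, hrs⟩, hkr, hcell, hnorm, hcomp⟩ := unipotent_norm_data G p hZ huG huZ htu
  have hdata : HasData G u r k := ⟨huG, huZ, hcell, by rw [hnorm, mul_comm r k]⟩
  have hrest : O = insert u T := by
    ext y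
    rw [Finset.mem_insert]
    constructor
    · intro hy
      by_cases ht : tr y ^ 2 = 4
      · exact Or.inl (hOinj y hy u huO (unipotent_cls_eq G p hZ (hO y hy).1 huG (hO y hy).2 huZ ht htu))
      · exact Or.inr (Finset.mem_filter.mpr ⟨hy, ht⟩)
    · rintro (rfl | hy)
      · exact huO
      · exact hTO y hy
  have huT : u ∉ T := fun h => hTt u h htu
  rw [hrest, Finset.sum_insert huT, weight_of_data G hdata] at hsum
  have hrq : (2 : ℚ) ≤ r := by exact_mod_cast hr
  have hkq : (1 : ℚ) ≤ k := by exact_mod_cast hk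
  obtain ⟨n, hn⟩ : r * k ∣ g := by
    have := (data_le G hdata hg).1
    rwa [mul_comm k r] at this
  have hn1 : 1 ≤ n := by
    rcases Nat.eq_zero_or_pos n with rfl | h
    · omega
    · exact h
  have hcls : Nat.card (cls G u) = n := by
    have h := card_cls_mul G u
    rw [hnorm, hg, hn, show zz * (r * k * n) = n * (zz * (r * k)) by ring] at h
    exact Nat.eq_of_mul_eq_mul_right (Nat.mul_pos hz (Nat.mul_pos (by omega) (by omega))) h
  by_cases hn_one : n = 1
  · exact Shape.borel u huG huZ htu ((data_le G hdata hg).2 (by rw [hn, hn_one, mul_one, mul_comm]))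
  have hgpos : (0 : ℚ) < 1 / g := by positivity
  have hTsum : ∀ S ⊆ T, ∑ y ∈ S, weight G y ≤ ∑ y ∈ T, weight G y := fun S hS =>
    Finset.sum_le_sum_of_subset_of_nonneg hS fun y hy _ => le_trans (by norm_num) (hTq y hy)
  rcases Nat.lt_or_ge k 2 with hk2 | hk2
  · obtain rfl : k = 1 := by omega
    push_cast at hsum
    rw [mul_one] at hn hnorm
    rw [one_mul, sub_div, div_self (by linarith)] at hsum
    have hTle : T.card ≤ 1 := by
      by_contra hne
      have h2 : (2 : ℚ) ≤ T.card := by exact_mod_cast (show 2 ≤ T.card by omega)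
      have h := Finset.card_nsmul_le_sum T (weight G) (1 / 4) hTq
      rw [nsmul_eq_mul] at h
      have := inv_le_half hr
      linarith
    interval_cases hTc : T.card
    · exfalso
      rw [Finset.card_eq_zero.mp hTc, Finset.sum_empty] at hsum
      apply hn_one
      have : (g : ℚ) = r := by field_simp at hsum; linarith
      have hgr : g = r := by exact_mod_cast this
      rw [hgr] at hn
      exact (Nat.mul_eq_left (by omega : r ≠ 0)).mp hn.symm
    · obtain ⟨y, hy⟩ := Finset.card_eq_one.mp hTc
      have hyT : y ∈ T := by rw [hy]; exact Finset.mem_singleton_self y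
      have hay : (2 : ℚ) ≤ A y := by exact_mod_cast hA y hyT
      rw [hy, Finset.sum_singleton, weight_of_data G (hAE y hyT)] at hsum
      rcases hE y hyT with he | he
      · exfalso
        rw [he] at hsum
        push_cast at hsum
        rw [one_mul, sub_div, div_self (by linarith)] at hsum
        have := inv_le_half hr
        have := inv_le_half (hA y hyT)
        linarith
      · rw [he] at hsum
        push_cast at hsum
        have hN : (2 * A y + r) * g = r * A y * g + 2 * r * A y := by
          have e : ((2 : ℚ) * A y + r) * g = r * A y * g + 2 * r * A y := by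
            field_simp at hsum; linear_combination -hsum
          exact_mod_cast e
        have hdy : 2 * A y ∣ g := by
          have := (data_le G (hAE y hyT) hg).1
          rwa [he] at this
        have hy2 := hA y hyT
        rcases Nat.lt_or_ge r 3 with hr3 | hr3
        · obtain rfl : r = 2 := by omega
          refine Shape.dihedral y (A y) (he ▸ hAE y hyT) (hTt y hyT) ((data_le G (hAE y hyT) hg).2 ?_)
          rw [he]
          nlinarith
        · have hr' : r = 3 := by
            by_contra hne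
            have : 4 ≤ r := by omega
            nlinarith [Nat.mul_le_mul_right (A y * g) this, Nat.mul_le_mul_left (r * g) hy2]
          subst hr'
          have hay2 : A y = 2 := by
            rcases Nat.lt_or_ge (A y) 3 with h | h
            · omega
            · nlinarith
          rw [hay2] at hN
          refine Shape.subfield u 3 1 huG huZ htu (by norm_num) hcell ?_
          rw [hcls]
          have : g = 12 := by omega
          omega
  · obtain ⟨c, hcG, hcZ, htc, -, hcc⟩ := hcomp hk2
    obtain ⟨c', hc'O, hcls'⟩ := hOcov c hcG hcZ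
    have hc'T : c' ∈ T := by
      refine Finset.mem_filter.mpr ⟨hc'O, fun h => ?_⟩
      obtain ⟨w, hw⟩ := (hcls' ▸ cell_mem_cls G c : cell G c ∈ cls G c')
      have hwm : c ∈ cell G ((w : SL2) * c' * (w : SL2)⁻¹) := by
        show c ∈ (fun g : G => cell G ((g : SL2) * c' * (g : SL2)⁻¹)) w
        rw [hw]; exact mem_cell_self G hcG
      exact htc (tr_sq_of_mem (conj_notMem_center (hO c' hc'O).2 _) (by rw [Cfsg.Agent.Lib.SL2Trace.tr_conj]; exact h) hwm.1)
    have hAk : A c' = k := by
      have h := (data_of_cls_eq G hcls').1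
      rw [hcc, (hAE c' hc'T).2.2.1] at h
      exact (Nat.eq_of_mul_eq_mul_left hz h).symm
    have hspl : ∑ y ∈ T, weight G y = weight G c' + ∑ y ∈ T.erase c', weight G y :=
      (Finset.add_sum_erase T (weight G) hc'T).symm
    rw [hspl, weight_of_data G (hAE c' hc'T), hAk] at hsum
    have hk2q : (2 : ℚ) ≤ k := by exact_mod_cast hk2
    have hkle : k ≤ r - 1 := Nat.le_of_dvd (by omega) hkr
    have hrk : 6 ≤ r * k := by nlinarith [show 3 ≤ r by omega]
    have hrkq : (6 : ℚ) ≤ (r : ℚ) * k := by exact_mod_cast hrk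
    rcases hE c' hc'T with he | he
    · exfalso
      rw [he] at hsum
      push_cast at hsum
      rw [show ((k : ℚ) - 1) / (1 * k) = 1 - 1 / k by field_simp,
        show ((r : ℚ) - 1) / (k * r) = 1 / k - 1 / (k * r) by field_simp] at hsum
      rcases (T.erase c').eq_empty_or_nonempty with h0 | ⟨y, hy⟩
      · rw [h0, Finset.sum_empty] at hsum
        apply hn_one
        have : (g : ℚ) = k * r := by field_simp at hsum; linarith
        have hgr : g = k * r := by exact_mod_cast this
        rw [hgr, mul_comm k r] at hn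
        exact (Nat.mul_eq_left (by positivity : r * k ≠ 0)).mp hn.symm
      · have h1 : (1 : ℚ) / 4 ≤ ∑ y ∈ T.erase c', weight G y :=
          le_trans (hTq y (Finset.mem_of_mem_erase hy)) (Finset.single_le_sum
            (fun z hz => le_trans (by norm_num) (hTq z (Finset.mem_of_mem_erase hz))) hy)
        have h2 : (1 : ℚ) / (k * r) ≤ 1 / 6 := one_div_le_one_div_of_le (by norm_num) (by linarith)
        linarith
    · rw [he] at hsum
      push_cast at hsum
      have hTle : (T.erase c').card ≤ 1 := by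
        by_contra hne
        have h2 : (2 : ℚ) ≤ (T.erase c').card := by exact_mod_cast (show 2 ≤ (T.erase c').card by omega)
        have h := Finset.card_nsmul_le_sum (T.erase c') (weight G) (1 / 4) fun y hy => hTq y (Finset.mem_of_mem_erase hy)
        rw [nsmul_eq_mul] at h
        rw [show ((k : ℚ) - 1) / (2 * k) = 1 / 2 - 1 / (2 * k) by field_simp,
          show ((r : ℚ) - 1) / (k * r) = 1 / k - 1 / (k * r) by field_simp] at hsum
        have h3 : (1 : ℚ) / (k * r) ≤ 1 / (2 * k) := one_div_le_one_div_of_le (by linarith) (by nlinarith)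
        have h4 : (1 : ℚ) / k = 1 / (2 * k) + 1 / (2 * k) := by field_simp; ring
        linarith
      interval_cases hTc : (T.erase c').card
      · exfalso
        rw [Finset.card_eq_zero.mp hTc, Finset.sum_empty] at hsum
        have hg6 : (6 : ℚ) ≤ g := by
          have := Nat.le_of_dvd hg0 (⟨n, hn⟩ : r * k ∣ g)
          exact_mod_cast hrk.trans this
        rw [show ((k : ℚ) - 1) / (2 * k) = 1 / 2 - 1 / (2 * k) by field_simp,
          show ((r : ℚ) - 1) / (k * r) = 1 / k - 1 / (k * r) by field_simp] at hsum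
        have h4 : (1 : ℚ) / k = 1 / (2 * k) + 1 / (2 * k) := by field_simp; ring
        have h5 : (1 : ℚ) / g ≤ 1 / 6 := one_div_le_one_div_of_le (by norm_num) hg6
        have h6 : (1 : ℚ) / (2 * k) ≤ 1 / 4 := one_div_le_one_div_of_le (by norm_num) (by linarith)
        have h7 : (0 : ℚ) < 1 / (k * r) := by positivity
        linarith
      · obtain ⟨y, hy⟩ := Finset.card_eq_one.mp hTc
        have hye : y ∈ T.erase c' := by rw [hy]; exact Finset.mem_singleton_self y
        have hyT := Finset.mem_of_mem_erase hye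
        rw [hy, Finset.sum_singleton, weight_of_data G (hAE y hyT)] at hsum
        have hay : (2 : ℚ) ≤ A y := by exact_mod_cast hA y hyT
        have he' : E y = 2 := by
          rcases hE y hyT with h | h
          · exfalso
            rw [h] at hsum
            push_cast at hsum
            rw [show ((A y : ℚ) - 1) / (1 * A y) = 1 - 1 / A y by field_simp,
              show ((k : ℚ) - 1) / (2 * k) = 1 / 2 - 1 / (2 * k) by field_simp,
              show ((r : ℚ) - 1) / (k * r) = 1 / k - 1 / (k * r) by field_simp] at hsum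
            have h3 : (1 : ℚ) / (k * r) ≤ 1 / (2 * k) := one_div_le_one_div_of_le (by linarith) (by nlinarith)
            have h4 : (1 : ℚ) / k = 1 / (2 * k) + 1 / (2 * k) := by field_simp; ring
            have := inv_le_half (hA y hyT)
            linarith
          · exact h
        rw [he'] at hsum
        push_cast at hsum
        have hrn : r ∣ n - 1 := by
          have h := unipotent_cls_card_mod G p hZ huG huZ htu hcell
          rwa [hcls] at h
        rcases p_two_term hr hk2 hkr hrn (by omega) (hn.trans (mul_comm _ _)) (hA y hyT)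
          (by rw [← hsum, mul_comm (k : ℚ) r]; ring) with h | ⟨h1, h2, h3, h4⟩
        · exact Shape.subfield u r k huG huZ htu hr hcell (by rw [hcls, h])
        · subst h1 h2 h3
          refine Shape.icosahedral c' u y ?_ hdata ?_ (fun x hxG hxZ => ?_) (by rw [hg, hn])
          · have := hAE c' hc'T; rwa [he, hAk] at this
          · have := hAE y hyT; rwa [he', h4] at this
          · obtain ⟨x', hx', hx''⟩ := hOcov x hxG hxZ
            rw [hrest, Finset.mem_insert] at hx'
            rcases hx' with rfl | hx'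
            · exact Or.inr (Or.inl hx'')
            · by_cases hxc : x' = c'
              · exact Or.inl (hxc ▸ hx'')
              · have : x' ∈ T.erase c' := Finset.mem_erase.mpr ⟨hxc, hx'⟩
                rw [hy, Finset.mem_singleton] at this
                exact Or.inr (Or.inr (this ▸ hx''))

end Cfsg.Agent.Lib.Geometry.Dickson
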