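import Cfsg.Agent.Lib.Geometry.Dickson.Basic

/-!
The class equation of the partition of a subgroup of `SL₂` by its maximal abelian subgroups.
-/

set_option autoImplicit false

namespace Cfsg.Agent.Lib.Geometry.Dickson

open Matrix
open scoped Matrix MatrixGroups Pointwise

variable {F : Type*} [Field F]

local notation "SL2" => Matrix.SpecialLinearGroup (Fin 2) F

variable (G : Subgroup (Matrix.SpecialLinearGroup (Fin 2) F))

/-- The maximal abelian subgroup of `G` through `y`. -/
def cell (y : SL2) : Subgroup SL2 := Subgroup.centralizer ({y} : Set SL2) ⊓ G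

/-- The normaliser in `G` of the cell of `y`. -/
def cellNorm (y : SL2) : Subgroup SL2 := Subgroup.normalizer ((cell G y : Subgroup SL2) : Set SL2) ⊓ G

theorem mem_cell_self {y : SL2} (hy : y ∈ G) : y ∈ cell G y :=
  ⟨mem_centralizer_iff.mpr rfl, hy⟩

theorem center_le_cell (hZ : Subgroup.center SL2 ≤ G) (y : SL2) : Subgroup.center SL2 ≤ cell G y :=
  le_inf (center_le_centralizer y) hZ

theorem cell_eq {y x : SL2} (hy : y ∉ Subgroup.center SL2) (hx : x ∉ Subgroup.center SL2)
    (h : x ∈ cell G y) : cell G x = cell G y := by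
  rw [cell, cell, centralizer_eq hy hx h.1]

theorem cell_conj {g : SL2} (hg : g ∈ G) (y : SL2) :
    MulAut.conj g • cell G y = cell G (g * y * g⁻¹) := by
  ext x
  rw [Subgroup.mem_pointwise_smul_iff_inv_smul_mem, MulAut.smul_def, MulAut.conj_inv_apply]
  have h1 : x ∈ Subgroup.centralizer ({g * y * g⁻¹} : Set SL2) ↔
      g⁻¹ * x * g ∈ Subgroup.centralizer ({y} : Set SL2) := by
    rw [← conj_mem_centralizer_iff g (g⁻¹ * x * g) y]
    simp [mul_assoc]
  have h2 : x ∈ G ↔ g⁻¹ * x * g ∈ G := by
    constructor <;> intro h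
    · exact G.mul_mem (G.mul_mem (G.inv_mem hg) h) hg
    · have := G.mul_mem (G.mul_mem hg h) (G.inv_mem hg)
      simpa [mul_assoc] using this
  exact (and_congr h1 h2).symm

theorem mem_cellNorm_iff {g y : SL2} :
    g ∈ cellNorm G y ↔ g ∈ G ∧ MulAut.conj g • cell G y = cell G y := by
  rw [cellNorm, Subgroup.mem_inf, and_comm]
  refine and_congr_right fun _ => ?_
  rw [Subgroup.mem_normalizer_iff, SetLike.ext_iff]
  constructor
  · intro h x
    rw [Subgroup.mem_pointwise_smul_iff_inv_smul_mem, MulAut.smul_def, MulAut.conj_inv_apply,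
      h (g⁻¹ * x * g)]
    simp [mul_assoc]
  · intro h x
    have h' := h (g * x * g⁻¹)
    rw [Subgroup.mem_pointwise_smul_iff_inv_smul_mem, MulAut.smul_def, MulAut.conj_inv_apply] at h'
    simpa [mul_assoc] using h'

theorem cell_le_cellNorm (y : SL2) : cell G y ≤ cellNorm G y :=
  le_inf Subgroup.le_normalizer inf_le_right

/-- The class of the cell of `y`. -/
def cls (y : SL2) : Set (Subgroup SL2) := Set.range fun g : G => cell G ((g : SL2) * y * (g : SL2)⁻¹)

theorem cls_eq_of_cell_mem {y x : SL2} (hx : cell G x ∈ cls G y) : cls G x = cls G y := by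
  obtain ⟨g, hg⟩ := hx
  have hcomp : ∀ h : SL2, h ∈ G →
      cell G (h * x * h⁻¹) = cell G (h * ((g : SL2) * y * (g : SL2)⁻¹) * h⁻¹) := fun h hh => by
    rw [← cell_conj G hh x, ← cell_conj G hh ((g : SL2) * y * (g : SL2)⁻¹)]
    exact congrArg (MulAut.conj h • ·) hg.symm
  ext A
  constructor
  · rintro ⟨h, rfl⟩
    exact ⟨h * g, by
      show _ = cell G ((h : SL2) * x * (h : SL2)⁻¹)
      rw [hcomp h h.2]; simp [mul_assoc]⟩
  · rintro ⟨h, rfl⟩
    exact ⟨h * g⁻¹, by
      show cell G (((h : SL2) * (g : SL2)⁻¹) * x * ((h : SL2) * (g : SL2)⁻¹)⁻¹) = _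
      rw [hcomp _ (G.mul_mem h.2 (G.inv_mem g.2))]; simp [mul_assoc]⟩

theorem cell_mem_cls (y : SL2) : cell G y ∈ cls G y := ⟨1, by simp⟩

variable [Finite G]

theorem card_cls_mul (y : SL2) : Nat.card (cls G y) * Nat.card (cellNorm G y) = Nat.card G := by
  letI : MulAction G (Subgroup SL2) := MulAction.compHom _ (MulAut.conj.comp G.subtype)
  have hsmul : ∀ (g : G) (A : Subgroup SL2), g • A = MulAut.conj (g : SL2) • A := fun _ _ => rfl
  have horb : cls G y = MulAction.orbit G (cell G y) := by
    ext A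
    simp only [cls, MulAction.orbit, Set.mem_range, hsmul, cell_conj G (SetLike.coe_mem _)]
  let e : MulAction.stabilizer G (cell G y) ≃ cellNorm G y :=
    { toFun := fun g => ⟨g.1.1, (mem_cellNorm_iff G).mpr ⟨g.1.2, g.2⟩⟩
      invFun := fun g => ⟨⟨g.1, g.2.2⟩, ((mem_cellNorm_iff G).mp g.2).2⟩
      left_inv := fun _ => rfl
      right_inv := fun _ => rfl }
  haveI := Fintype.ofFinite G
  rw [horb, ← Nat.card_congr e, ← Nat.card_prod]
  exact Nat.card_congr (MulAction.orbitProdStabilizerEquivGroup G (cell G y))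

theorem card_fibre_mul (hZ : Subgroup.center SL2 ≤ G) {y : SL2} (hy : y ∈ G)
    (hyZ : y ∉ Subgroup.center SL2) :
    Nat.card {x : SL2 // x ∈ G ∧ x ∉ Subgroup.center SL2 ∧ cls G x = cls G y} *
        Nat.card (cellNorm G y) =
      Nat.card G * (Nat.card (cell G y) - Nat.card (Subgroup.center SL2)) := by
  classical
  haveI : Finite (cls G y) := Finite.Set.finite_range _
  haveI := Fintype.ofFinite (cls G y)
  let e : {x : SL2 // x ∈ G ∧ x ∉ Subgroup.center SL2 ∧ cls G x = cls G y} ≃
      Σ A : cls G y, {x : SL2 // x ∈ (A : Subgroup SL2) ∧ x ∉ Subgroup.center SL2} :=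
    { toFun := fun x => ⟨⟨cell G x.1, (have h : cls G x.1 = cls G y := x.2.2.2; h.subset (cell_mem_cls G x.1))⟩, x.1, mem_cell_self G x.2.1, x.2.2.1⟩
      invFun := fun p => ⟨p.2.1, by
        obtain ⟨⟨A, g, hA⟩, x, hxA, hxZ⟩ := p
        subst hA
        refine ⟨hxA.2, hxZ, cls_eq_of_cell_mem G ⟨g, ?_⟩⟩
        have hne : (g : SL2) * y * (g : SL2)⁻¹ ∉ Subgroup.center SL2 := fun h => hyZ (by
          have := (inferInstance : (Subgroup.center SL2).Normal).conj_mem _ h (g : SL2)⁻¹
          simpa [mul_assoc] using this)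
        exact (cell_eq G hne hxZ hxA).symm⟩
      left_inv := fun x => rfl
      right_inv := fun p => by
        obtain ⟨⟨A, g, hA⟩, x, hxA, hxZ⟩ := p
        subst hA
        have hne : (g : SL2) * y * (g : SL2)⁻¹ ∉ Subgroup.center SL2 := fun h => hyZ (by
          have := (inferInstance : (Subgroup.center SL2).Normal).conj_mem _ h (g : SL2)⁻¹
          simpa [mul_assoc] using this)
        exact Sigma.subtype_ext (Subtype.ext (cell_eq G hne hxZ hxA)) rfl }
  have hfib : ∀ A : cls G y, Nat.card {x : SL2 // x ∈ (A : Subgroup SL2) ∧ x ∉ Subgroup.center SL2} =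
      Nat.card (cell G y) - Nat.card (Subgroup.center SL2) := by
    rintro ⟨A, g, hA⟩
    subst hA
    set g' := ((g : SL2) * y * (g : SL2)⁻¹)
    haveI : Finite (cell G g') := Finite.of_injective (Subgroup.inclusion (inf_le_right : cell G g' ≤ G))
      (Subgroup.inclusion_injective _)
    haveI := Fintype.ofFinite (cell G g')
    have hc : Nat.card (cell G g') = Nat.card (cell G y) := by
      rw [← cell_conj G g.2 y]
      exact (Nat.card_congr (Subgroup.equivSMul (MulAut.conj (g : SL2)) (cell G y)).toEquiv).symm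
    let f : {x : SL2 // x ∈ cell G g' ∧ x ∉ Subgroup.center SL2} ≃
        {x : cell G g' // x ∉ (Subgroup.center SL2).subgroupOf (cell G g')} :=
      { toFun := fun x => ⟨⟨x.1, x.2.1⟩, fun h => x.2.2 h⟩
        invFun := fun x => ⟨x.1.1, x.1.2, fun h => x.2 h⟩
        left_inv := fun _ => rfl
        right_inv := fun _ => rfl }
    show Nat.card {x : SL2 // x ∈ cell G g' ∧ x ∉ Subgroup.center SL2} = _
    rw [Nat.card_congr f, ← hc, ← Nat.card_congr (Subgroup.subgroupOfEquivOfLe (center_le_cell G hZ g')).toEquiv,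
      Nat.card_eq_fintype_card, Nat.card_eq_fintype_card, Nat.card_eq_fintype_card, Fintype.card_subtype_compl]
  haveI : ∀ A : cls G y, Finite {x : SL2 // x ∈ (A : Subgroup SL2) ∧ x ∉ Subgroup.center SL2} := by
    rintro ⟨A, g, hA⟩
    subst hA
    exact Finite.of_injective (fun x => (⟨x.1, x.2.1.2⟩ : G)) fun a b h =>
      Subtype.ext (congrArg (fun z : G => (z : SL2)) h)
  rw [Nat.card_congr e, Nat.card_sigma, Finset.sum_congr rfl fun A _ => hfib A, Finset.sum_const,
    Finset.card_univ, smul_eq_mul, ← Nat.card_eq_fintype_card (α := cls G y), mul_right_comm, card_cls_mul]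

/-- The weight of the class of `y`. -/
noncomputable def weight (y : SL2) : ℚ :=
  ((Nat.card (cell G y) : ℚ) - Nat.card (Subgroup.center SL2)) / Nat.card (cellNorm G y)

/-- The class equation. -/
theorem exists_reps (hZ : Subgroup.center SL2 ≤ G) :
    ∃ O : Finset SL2, (∀ y ∈ O, y ∈ G ∧ y ∉ Subgroup.center SL2) ∧
      (∀ y ∈ O, ∀ y' ∈ O, cls G y = cls G y' → y = y') ∧
      (∀ y ∈ G, y ∉ Subgroup.center SL2 → ∃ y' ∈ O, cls G y = cls G y') ∧
      ∑ y ∈ O, weight G y = 1 - (Nat.card (Subgroup.center SL2) : ℚ) / Nat.card G := by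
  classical
  haveI := Fintype.ofFinite G
  let S : Finset SL2 := (G : Set SL2).toFinite.toFinset.filter fun y => y ∉ Subgroup.center SL2
  have hS : ∀ y, y ∈ S ↔ y ∈ G ∧ y ∉ Subgroup.center SL2 := fun y => by simp [S]
  have hex : ∀ K ∈ S.image (cls G), ∃ y, cls G y = K ∧ y ∈ S := fun K hK => by
    obtain ⟨y, hy, hyK⟩ := Finset.mem_image.mp hK
    exact ⟨y, hyK, hy⟩
  choose! rep hrep hrepS using hex
  refine ⟨(S.image (cls G)).image rep, ?_, ?_, ?_, ?_⟩
  · intro y hy
    obtain ⟨K, hK, rfl⟩ := Finset.mem_image.mp hy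
    exact (hS _).mp (hrepS K hK)
  · intro y hy y' hy' h
    obtain ⟨K, hK, rfl⟩ := Finset.mem_image.mp hy
    obtain ⟨K', hK', rfl⟩ := Finset.mem_image.mp hy'
    rw [hrep K hK, hrep K' hK'] at h
    rw [h]
  · intro y hy hyZ
    have hK : cls G y ∈ S.image (cls G) := Finset.mem_image.mpr ⟨y, (hS y).mpr ⟨hy, hyZ⟩, rfl⟩
    exact ⟨rep (cls G y), Finset.mem_image.mpr ⟨_, hK, rfl⟩, (hrep _ hK).symm⟩
  · rw [Finset.sum_image (fun K hK K' hK' h => by rw [← hrep K hK, ← hrep K' hK', h])]
    have hgpos : (0 : ℚ) < Nat.card G := by exact_mod_cast Nat.card_pos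
    have hw : ∀ K ∈ S.image (cls G), weight G (rep K) =
        ((S.filter fun x => cls G x = K).card : ℚ) / Nat.card G := by
      intro K hK
      obtain ⟨hyG, hyZ⟩ := (hS _).mp (hrepS K hK)
      have h := card_fibre_mul G hZ hyG hyZ
      rw [hrep K hK] at h
      have he : Nat.card {x : SL2 // x ∈ G ∧ x ∉ Subgroup.center SL2 ∧ cls G x = K} =
          (S.filter fun x => cls G x = K).card := by
        rw [← Nat.card_eq_finsetCard]
        exact Nat.card_congr (Equiv.subtypeEquivRight fun x => by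
          rw [Finset.mem_filter, hS, and_assoc])
      rw [he] at h
      haveI : Finite (cell G (rep K)) := Finite.of_injective
        (Subgroup.inclusion (inf_le_right : cell G (rep K) ≤ G)) (Subgroup.inclusion_injective _)
      haveI : Finite (cellNorm G (rep K)) := Finite.of_injective
        (Subgroup.inclusion (inf_le_right : cellNorm G (rep K) ≤ G)) (Subgroup.inclusion_injective _)
      have hle : Nat.card (Subgroup.center SL2) ≤ Nat.card (cell G (rep K)) :=
        Nat.card_le_card_of_injective _ (Subgroup.inclusion_injective (center_le_cell G hZ (rep K)))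
      have hn0 : (Nat.card (cellNorm G (rep K)) : ℚ) ≠ 0 := by exact_mod_cast Nat.card_pos.ne'
      have h' := congrArg (fun n : ℕ => (n : ℚ)) h
      simp only [Nat.cast_mul, Nat.cast_sub hle] at h'
      rw [weight, div_eq_div_iff hn0 hgpos.ne']
      linear_combination -h'
    rw [Finset.sum_congr rfl hw, ← Finset.sum_div]
    have hsum : ((S.card : ℕ) : ℚ) = ∑ K ∈ S.image (cls G), ((S.filter fun x => cls G x = K).card : ℚ) := by
      rw [Finset.card_eq_sum_card_fiberwise (fun x hx => Finset.mem_image_of_mem (cls G) hx), Nat.cast_sum]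
    rw [← hsum]
    have hScard : S.card + Nat.card (Subgroup.center SL2) = Nat.card G := by
      have hpart := Finset.card_filter_add_card_filter_not (s := (G : Set SL2).toFinite.toFinset)
        (p := fun y => y ∉ Subgroup.center SL2)
      rw [show ((G : Set SL2).toFinite.toFinset).card = Nat.card G from
        (Nat.card_eq_card_finite_toFinset _).symm] at hpart
      rw [← hpart]
      congr 1
      rw [← Nat.card_eq_finsetCard]
      exact Nat.card_congr (Equiv.subtypeEquivRight fun x => by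
        simp only [Finset.mem_filter, Set.Finite.mem_toFinset, SetLike.mem_coe, not_not]
        exact ⟨fun h => ⟨hZ h, h⟩, fun h => h.2⟩)
    rw [eq_sub_iff_add_eq, ← add_div, div_eq_one_iff_eq hgpos.ne']
    exact_mod_cast hScard

end Cfsg.Agent.Lib.Geometry.Dickson
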