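import Cfsg.Agent.Lib.Geometry.Dickson.Exist
import Cfsg.Agent.Lib.Geometry.Dickson.Solv
import Mathlib.Algebra.CharP.Basic

/-!
The icosahedral subgroups of `PSL(2, 11)`: two classes of eleven, each permuted doubly transitively.
-/

set_option autoImplicit false

namespace Cfsg.Agent.Lib.Geometry.Dickson.Eleven

/-- A matrix as a quadruple of residues. -/
abbrev Code : Type := ℕ × ℕ × ℕ × ℕ

/-- The representative with small leading entry. -/
def canon : Code → Code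
  | (a, b, c, d) => if 5 < a ∨ (a = 0 ∧ 5 < b) then ((11 - a) % 11, (11 - b) % 11, (11 - c) % 11, (11 - d) % 11)
      else (a, b, c, d)

/-- Product. -/
def mulC : Code → Code → Code
  | (a, b, c, d), (e, f, g, h) =>
    canon ((a * e + b * g) % 11, (a * f + b * h) % 11, (c * e + d * g) % 11, (c * f + d * h) % 11)

/-- Inverse. -/
def invC : Code → Code
  | (a, b, c, d) => canon (d, (11 - b) % 11, (11 - c) % 11, a)

/-- Conjugate. -/
def conjC (g x : Code) : Code := mulC (mulC g x) (invC g)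

/-- Determinant condition. -/
def okC : Code → Bool
  | (a, b, c, d) => (a * d + 10 * (b * c)) % 11 == 1

/-- The elements. -/
def elems : List Code :=
  (List.range 6).flatMap fun a => (List.range 11).flatMap fun b => (List.range 11).flatMap fun c =>
    ((List.range 11).map fun d => (a, b, c, d)).filter fun x => okC x && canon x == x

/-- The identity. -/
def one' : Code := (1, 0, 0, 1)

/-- An involution. -/
def x0 : Code := (0, 1, 10, 0)

/-- An element of order three. -/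
def y0 : Code := (3, 2, 10, 7)

/-- An element outside the first icosahedral subgroup. -/
def g1 : Code := (0, 1, 10, 1)

/-- The first icosahedral subgroup. -/
def listH : List Code := [(0, 1, 10, 0), (0, 2, 5, 0), (0, 3, 7, 0), (0, 4, 8, 0), (0, 5, 2, 0), (1, 0, 0, 1),
  (1, 1, 1, 2), (1, 2, 10, 10), (1, 3, 4, 2), (1, 4, 3, 2), (1, 5, 9, 2), (1, 6, 7, 10),
  (1, 7, 6, 10), (1, 8, 8, 10), (1, 9, 5, 2), (1, 10, 2, 10), (2, 0, 0, 6), (2, 1, 9, 5),
  (2, 2, 6, 1), (2, 3, 3, 5), (2, 4, 5, 5), (2, 5, 4, 5), (2, 6, 2, 1), (2, 7, 8, 1),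
  (2, 8, 7, 1), (2, 9, 1, 5), (2, 10, 10, 1), (3, 0, 0, 4), (3, 1, 1, 8), (3, 2, 10, 7),
  (3, 3, 4, 8), (3, 4, 3, 8), (3, 5, 9, 8), (3, 6, 7, 7), (3, 7, 6, 7), (3, 8, 8, 7),
  (3, 9, 5, 8), (3, 10, 2, 7), (4, 0, 0, 3), (4, 1, 1, 6), (4, 2, 10, 8), (4, 3, 4, 6),
  (4, 4, 3, 6), (4, 5, 9, 6), (4, 6, 7, 8), (4, 7, 6, 8), (4, 8, 8, 8), (4, 9, 5, 6),
  (4, 10, 2, 8), (5, 0, 0, 9), (5, 1, 1, 7), (5, 2, 10, 2), (5, 3, 4, 7), (5, 4, 3, 7),
  (5, 5, 9, 7), (5, 6, 7, 2), (5, 7, 6, 2), (5, 8, 8, 2), (5, 9, 5, 7), (5, 10, 2, 2)]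

/-- The second icosahedral subgroup. -/
def listK : List Code := [(0, 1, 10, 0), (0, 2, 5, 0), (0, 3, 7, 0), (0, 4, 8, 0), (0, 5, 2, 0), (1, 0, 0, 1),
  (1, 1, 9, 10), (1, 2, 6, 2), (1, 3, 3, 10), (1, 4, 5, 10), (1, 5, 4, 10), (1, 6, 2, 2),
  (1, 7, 8, 2), (1, 8, 7, 2), (1, 9, 1, 10), (1, 10, 10, 2), (2, 0, 0, 6), (2, 1, 1, 1),
  (2, 2, 10, 5), (2, 3, 4, 1), (2, 4, 3, 1), (2, 5, 9, 1), (2, 6, 7, 5), (2, 7, 6, 5),
  (2, 8, 8, 5), (2, 9, 5, 1), (2, 10, 2, 5), (3, 0, 0, 4), (3, 1, 9, 7), (3, 2, 6, 8),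
  (3, 3, 3, 7), (3, 4, 5, 7), (3, 5, 4, 7), (3, 6, 2, 8), (3, 7, 8, 8), (3, 8, 7, 8),
  (3, 9, 1, 7), (3, 10, 10, 8), (4, 0, 0, 3), (4, 1, 9, 8), (4, 2, 6, 6), (4, 3, 3, 8),
  (4, 4, 5, 8), (4, 5, 4, 8), (4, 6, 2, 6), (4, 7, 8, 6), (4, 8, 7, 6), (4, 9, 1, 8),
  (4, 10, 10, 6), (5, 0, 0, 9), (5, 1, 9, 2), (5, 2, 6, 7), (5, 3, 3, 2), (5, 4, 5, 2),
  (5, 5, 4, 2), (5, 6, 2, 7), (5, 7, 8, 7), (5, 8, 7, 7), (5, 9, 1, 2), (5, 10, 10, 7)]

/-- The subgroup attached to a flag. -/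
def pick : Bool → List Code
  | false => listH
  | true => listK

/-- Conjugating elements. -/
def cover : List (Code × Bool) := [((0, 1, 10, 3), true), ((0, 1, 10, 8), false), ((0, 1, 10, 1), false), ((0, 1, 10, 10), true), ((0, 1, 10, 0), true), ((0, 1, 10, 0), false)]

theorem pick_closed : ∀ f, (pick f).all (fun a => (pick f).all fun b => (pick f).contains (mulC a b)) = true := by
  decide +kernel

theorem pick_sub : ∀ f, (pick f).all (fun a => okC a && canon a == a) = true := by decide +kernel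

theorem pick_card : ∀ f, (pick f).length = 60 ∧ (pick f).Nodup ∧ one' ∈ pick f := by decide +kernel

theorem elems_scalar :
    elems.all (fun c => !(c.2.1 == 0 && c.2.2.1 == 0 && c.1 == c.2.2.2) || c == one') = true := by decide +kernel

theorem cover_ok :
    elems.all (fun y => y == one' || !(mulC (mulC y y) y == one') || mulC x0 y == one' ||
      !(mulC (mulC (mulC (mulC (mulC x0 y) (mulC x0 y)) (mulC x0 y)) (mulC x0 y)) (mulC x0 y) == one') ||
      cover.any fun w => (pick w.2).contains (conjC w.1 x0) && (pick w.2).contains (conjC w.1 y)) = true := by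
  decide +kernel

theorem cover_sub : cover.all (fun w => okC w.1 && canon w.1 == w.1) = true := by decide +kernel

theorem base_ok : (x0 ∈ listH ∧ y0 ∈ listH) ∧ okC g1 = true ∧ canon g1 = g1 ∧ g1 ∉ listH := by decide +kernel

theorem not_conj_ok :
    elems.all (fun g => !((listK.contains (conjC g x0)) && listK.contains (conjC g y0))) = true := by decide +kernel

theorem trans_ok :
    elems.all (fun g => listH.contains g ||
      listH.any fun h => listH.contains (mulC (invC g1) (mulC h g))) = true := by decide +kernel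

end Cfsg.Agent.Lib.Geometry.Dickson.Eleven
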