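import Cfsg.Agent.Lib.Geometry.Dickson.Eleven
import Cfsg.Agent.Lib.Geometry.Dickson.FourGroups
import Mathlib.GroupTheory.GroupAction.MultiplePrimitivity
import Mathlib.GroupTheory.SpecificGroups.Alternating

/-!
Icosahedral subgroups of `PSL(2, 11)`: the groups behind the certificates.
-/

set_option autoImplicit false

namespace Cfsg.Agent.Lib.Geometry.Dickson.Eleven

open Matrix
open scoped MatrixGroups Pointwise
open Cfsg.Agent.Lib.SL2Trace (toPSL toPSL_surjective toPSL_eq toPSL_neg)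

variable {F : Type*} [Field F]

local notation "SL2" => Matrix.SpecialLinearGroup (Fin 2) F
local notation "PSL2" => Matrix.ProjectiveSpecialLinearGroup (Fin 2) F

/-- Entries below eleven and determinant one. -/
def Good (c : Code) : Prop :=
  okC c = true ∧ c.1 < 11 ∧ c.2.1 < 11 ∧ c.2.2.1 < 11 ∧ c.2.2.2 < 11

theorem cast_mod [CharP F 11] (x : ℕ) : ((x % 11 : ℕ) : F) = x :=
  (CharP.natCast_eq_natCast F 11).mpr (Nat.mod_modEq x 11)

theorem cast_neg [CharP F 11] (x : ℕ) (hx : x ≤ 11) : (((11 - x) % 11 : ℕ) : F) = -(x : F) := by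
  have h : ((11 : ℕ) : F) = 0 := CharP.cast_eq_zero F 11
  rw [cast_mod, Nat.cast_sub hx, h, zero_sub]

/-- The matrix of a code. -/
noncomputable def valSL (c : Code) : SL2 :=
  @dite _ (Matrix.det !![(c.1 : F), c.2.1; c.2.2.1, c.2.2.2] = 1) (Classical.propDecidable _)
    (fun h => ⟨_, h⟩) (fun _ => 1)

/-- The element of a code. -/
noncomputable def val (c : Code) : PSL2 := toPSL (valSL c)

theorem det_good [CharP F 11] {c : Code} (h : Good c) :
    Matrix.det !![(c.1 : F), c.2.1; c.2.2.1, c.2.2.2] = 1 := by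
  obtain ⟨a, b, x, d⟩ := c
  have h1 : (((a * d + 10 * (b * x)) % 11 : ℕ) : F) = 1 := by
    rw [show (a * d + 10 * (b * x)) % 11 = 1 by simpa [okC] using h.1, Nat.cast_one]
  rw [cast_mod] at h1
  push_cast at h1
  have h11 : (11 : F) = 0 := by exact_mod_cast CharP.cast_eq_zero F 11
  rw [Matrix.det_fin_two_of]
  linear_combination h1 - (b : F) * x * h11

theorem valSL_coe [CharP F 11] {c : Code} (h : Good c) :
    ((valSL c : SL2) : Matrix (Fin 2) (Fin 2) F) = !![(c.1 : F), c.2.1; c.2.2.1, c.2.2.2] := by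
  have e : (valSL c : SL2) = ⟨_, det_good h⟩ := @dif_pos _ (Classical.propDecidable _) (det_good h) _ _ _
  rw [e]

theorem canon_good {c : Code} (h : Good c) : Good (canon c) := by
  obtain ⟨a, b, x, d⟩ := c
  obtain ⟨h0, ha, hb, hx, hd⟩ := h
  simp only [canon]
  split_ifs
  · refine ⟨?_, Nat.mod_lt _ (by norm_num), Nat.mod_lt _ (by norm_num), Nat.mod_lt _ (by norm_num),
      Nat.mod_lt _ (by norm_num)⟩
    simp only [okC, beq_iff_eq] at h0 ⊢
    rw [← h0]
    have key : ∀ a b : ℕ, a < 11 → b < 11 → ((11 - a) % 11) * ((11 - b) % 11) % 11 = a * b % 11 := by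
      intro a b ha hb
      interval_cases a <;> interval_cases b <;> rfl
    rw [Nat.add_mod, Nat.mul_mod 10, key a d ha hd, key b x hb hx, ← Nat.mul_mod, ← Nat.add_mod]
  · exact ⟨h0, ha, hb, hx, hd⟩

theorem val_canon [CharP F 11] {c : Code} (h : Good c) : (val (canon c) : PSL2) = val c := by
  by_cases hc : 5 < c.1 ∨ (c.1 = 0 ∧ 5 < c.2.1)
  · have e : canon c = ((11 - c.1) % 11, (11 - c.2.1) % 11, (11 - c.2.2.1) % 11, (11 - c.2.2.2) % 11) := by
      obtain ⟨a, b, x, d⟩ := c; exact if_pos hc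
    rw [val, val, ← toPSL_neg (valSL c)]
    refine congrArg toPSL (Subtype.ext ?_)
    rw [Matrix.SpecialLinearGroup.coe_neg, valSL_coe h, valSL_coe (canon_good h), e]
    ext i j
    fin_cases i <;> fin_cases j <;>
      simp [cast_neg (F := F) _ h.2.1.le, cast_neg (F := F) _ h.2.2.1.le, cast_neg (F := F) _ h.2.2.2.1.le,
        cast_neg (F := F) _ h.2.2.2.2.le]
  · rw [show canon c = c by obtain ⟨a, b, x, d⟩ := c; exact if_neg hc]

theorem raw_good [CharP F 11] {u v : Code} (hu : Good u) (hv : Good v) :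
    Good ((u.1 * v.1 + u.2.1 * v.2.2.1) % 11, (u.1 * v.2.1 + u.2.1 * v.2.2.2) % 11,
      (u.2.2.1 * v.1 + u.2.2.2 * v.2.2.1) % 11, (u.2.2.1 * v.2.1 + u.2.2.2 * v.2.2.2) % 11) ∧
    ((valSL u * valSL v : SL2) : Matrix (Fin 2) (Fin 2) F) =
      !![(((u.1 * v.1 + u.2.1 * v.2.2.1) % 11 : ℕ) : F), (((u.1 * v.2.1 + u.2.1 * v.2.2.2) % 11 : ℕ) : F);
        (((u.2.2.1 * v.1 + u.2.2.2 * v.2.2.1) % 11 : ℕ) : F), (((u.2.2.1 * v.2.1 + u.2.2.2 * v.2.2.2) % 11 : ℕ) : F)] := by
  have hm : ((valSL u * valSL v : SL2) : Matrix (Fin 2) (Fin 2) F) =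
      !![(((u.1 * v.1 + u.2.1 * v.2.2.1) % 11 : ℕ) : F), (((u.1 * v.2.1 + u.2.1 * v.2.2.2) % 11 : ℕ) : F);
        (((u.2.2.1 * v.1 + u.2.2.2 * v.2.2.1) % 11 : ℕ) : F),
          (((u.2.2.1 * v.2.1 + u.2.2.2 * v.2.2.2) % 11 : ℕ) : F)] := by
    rw [Matrix.SpecialLinearGroup.coe_mul, valSL_coe hu, valSL_coe hv, Matrix.mul_fin_two]
    simp only [cast_mod, Nat.cast_add, Nat.cast_mul]
  refine ⟨⟨?_, Nat.mod_lt _ (by norm_num), Nat.mod_lt _ (by norm_num), Nat.mod_lt _ (by norm_num),
    Nat.mod_lt _ (by norm_num)⟩, hm⟩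
  have hd := (valSL u * valSL v : SL2).2
  rw [hm, Matrix.det_fin_two_of] at hd
  simp only [okC, beq_iff_eq]
  refine ((CharP.natCast_eq_natCast F 11).mp ?_ : _ % 11 = 1 % 11)
  push_cast
  have h11 : (11 : F) = 0 := by exact_mod_cast CharP.cast_eq_zero F 11
  linear_combination hd + (((u.1 * v.2.1 + u.2.1 * v.2.2.2) % 11 : ℕ) : F) *
    (((u.2.2.1 * v.1 + u.2.2.2 * v.2.2.1) % 11 : ℕ) : F) * h11

theorem mul_good [CharP F 11] {u v : Code} (hu : Good u) (hv : Good v) : Good (mulC u v) :=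
  canon_good (raw_good (F := F) hu hv).1

theorem val_mul [CharP F 11] {u v : Code} (hu : Good u) (hv : Good v) :
    (val (mulC u v) : PSL2) = val u * val v := by
  obtain ⟨h1, h2⟩ := raw_good (F := F) hu hv
  refine (val_canon h1).trans ?_
  rw [val, val, val, ← map_mul]
  exact congrArg toPSL (Subtype.ext ((valSL_coe h1).trans h2.symm))

theorem inv_raw [CharP F 11] {c : Code} (h : Good c) :
    Good (c.2.2.2, (11 - c.2.1) % 11, (11 - c.2.2.1) % 11, c.1) ∧
      (val (c.2.2.2, (11 - c.2.1) % 11, (11 - c.2.2.1) % 11, c.1) : PSL2) = (val c)⁻¹ := by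
  have hg : Good (c.2.2.2, (11 - c.2.1) % 11, (11 - c.2.2.1) % 11, c.1) := by
    refine ⟨?_, h.2.2.2.2, Nat.mod_lt _ (by norm_num), Nat.mod_lt _ (by norm_num), h.2.1⟩
    have hd := det_good (F := F) h
    rw [Matrix.det_fin_two_of] at hd
    simp only [okC, beq_iff_eq]
    refine ((CharP.natCast_eq_natCast F 11).mp ?_ : _ % 11 = 1 % 11)
    push_cast
    rw [cast_neg _ h.2.2.1.le, cast_neg _ h.2.2.2.1.le]
    have h11 : (11 : F) = 0 := by exact_mod_cast CharP.cast_eq_zero F 11
    linear_combination hd + (c.2.1 : F) * (c.2.2.1 : F) * h11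
  refine ⟨hg, eq_inv_of_mul_eq_one_left ?_⟩
  rw [val, val, ← map_mul, ← map_one (toPSL (F := F))]
  refine congrArg toPSL (Subtype.ext ?_)
  rw [Matrix.SpecialLinearGroup.coe_mul, valSL_coe h, valSL_coe hg, Matrix.SpecialLinearGroup.coe_one]
  have hd := det_good (F := F) h
  rw [Matrix.det_fin_two_of] at hd
  ext i j
  fin_cases i <;> fin_cases j <;>
    simp [Matrix.mul_apply, Fin.sum_univ_two, cast_neg (F := F) _ h.2.2.1.le, cast_neg (F := F) _ h.2.2.2.1.le] <;>
    first | linear_combination hd | ring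

theorem inv_good [CharP F 11] {c : Code} (h : Good c) : Good (invC c) := canon_good (inv_raw (F := F) h).1

theorem val_inv [CharP F 11] {c : Code} (h : Good c) : (val (invC c) : PSL2) = (val c)⁻¹ := by
  exact (val_canon (inv_raw (F := F) h).1).trans (inv_raw h).2

theorem val_conjC [CharP F 11] {g x : Code} (hg : Good g) (hx : Good x) :
    (val (conjC g x) : PSL2) = val g * val x * (val g)⁻¹ := by
  rw [conjC, val_mul (mul_good (F := F) hg hx) (inv_good (F := F) hg), val_mul hg hx, val_inv hg]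

theorem conjC_good [CharP F 11] {g x : Code} (hg : Good g) (hx : Good x) : Good (conjC g x) :=
  mul_good (F := F) (mul_good (F := F) hg hx) (inv_good (F := F) hg)

theorem good_of_lt {L : List Code} (h : L.all (fun a => okC a && canon a == a) = true)
    (hlt : L.all (fun a => a.1 < 11 && a.2.1 < 11 && a.2.2.1 < 11 && a.2.2.2 < 11) = true) {c : Code}
    (hc : c ∈ L) : Good c := by
  have h1 := List.all_eq_true.mp h c hc
  have h2 := List.all_eq_true.mp hlt c hc
  simp only [Bool.and_eq_true, decide_eq_true_eq] at h1 h2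
  exact ⟨h1.1, h2.1.1.1, h2.1.1.2, h2.1.2, h2.2⟩

theorem pick_lt : ∀ f, (pick f).all (fun a => a.1 < 11 && a.2.1 < 11 && a.2.2.1 < 11 && a.2.2.2 < 11) = true := by
  decide +kernel

theorem pick_good {f : Bool} {c : Code} (hc : c ∈ pick f) : Good c := good_of_lt (pick_sub f) (pick_lt f) hc

theorem mem_elems {c : Code} (h : Good c) : canon c ∈ elems := by
  have hg := canon_good h
  have hc6 : (canon c).1 < 6 ∧ canon (canon c) = canon c := by
    obtain ⟨a, b, x, d⟩ := c
    obtain ⟨h0, ha, hb, -, -⟩ := h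
    have hb0 : a = 0 → b ≠ 0 := fun e e' => by
      subst e e'
      simp [okC] at h0
    by_cases hc : 5 < a ∨ (a = 0 ∧ 5 < b)
    · have e : canon (a, b, x, d) = ((11 - a) % 11, (11 - b) % 11, (11 - x) % 11, (11 - d) % 11) := if_pos hc
      rw [e]
      refine ⟨?_, if_neg ?_⟩
      · show (11 - a) % 11 < 6
        omega
      · show ¬ (5 < (11 - a) % 11 ∨ ((11 - a) % 11 = 0 ∧ 5 < (11 - b) % 11))
        omega
    · rw [show canon (a, b, x, d) = (a, b, x, d) from if_neg hc]
      refine ⟨?_, if_neg hc⟩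
      show a < 6
      omega
  obtain ⟨hg0, hga, hgb, hgx, hgd⟩ := hg
  simp only [elems, List.mem_flatMap, List.mem_range, List.mem_filter, List.mem_map]
  exact ⟨_, hc6.1, _, hgb, _, hgx, ⟨_, hgd, rfl⟩, by rw [hg0, hc6.2]; simp⟩

theorem elems_good {c : Code} (hc : c ∈ elems) : Good c ∧ canon c = c := by
  simp only [elems, List.mem_flatMap, List.mem_range, List.mem_filter, List.mem_map] at hc
  obtain ⟨a, ha, b, hb, x, hx, ⟨d, hd, rfl⟩, h⟩ := hc
  simp only [Bool.and_eq_true, beq_iff_eq] at h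
  exact ⟨⟨h.1, by show a < 11; omega, hb, hx, hd⟩, h.2⟩

include F in
theorem mul_elems [CharP F 11] {u v : Code} (hu : Good u) (hv : Good v) : mulC u v ∈ elems :=
  mem_elems (raw_good (F := F) hu hv).1

theorem val_one [CharP F 11] : (val one' : PSL2) = 1 := by
  rw [val, ← map_one (toPSL (F := F))]
  refine congrArg toPSL (Subtype.ext ?_)
  rw [valSL_coe ⟨rfl, by decide, by decide, by decide, by decide⟩, Matrix.SpecialLinearGroup.coe_one]
  ext i j; fin_cases i <;> fin_cases j <;> simp [one']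

theorem val_eq_one [CharP F 11] {c : Code} (hc : c ∈ elems) (h : (val c : PSL2) = 1) : c = one' := by
  obtain ⟨hg, -⟩ := elems_good hc
  have hinj : ∀ {x y : ℕ}, x < 11 → y < 11 → (x : F) = y → x = y := fun hx hy e =>
    Nat.ModEq.eq_of_lt_of_lt ((CharP.natCast_eq_natCast F 11).mp e) hx hy
  have h1 := List.all_eq_true.mp elems_scalar c hc
  obtain ⟨a, b, x, d⟩ := c
  obtain ⟨-, ha, hb, hx, hd⟩ := hg
  have hval := valSL_coe (F := F) (elems_good hc).1
  rcases Cfsg.Agent.Lib.SL2Trace.toPSL_eq_one.mp h with e | e <;>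
    rw [e] at hval <;>
    [rw [Matrix.SpecialLinearGroup.coe_one] at hval;
      rw [Matrix.SpecialLinearGroup.coe_neg, Matrix.SpecialLinearGroup.coe_one] at hval] <;>
  · have e00 := congrFun (congrFun hval 0) 0
    have e01 := congrFun (congrFun hval 0) 1
    have e10 := congrFun (congrFun hval 1) 0
    have e11 := congrFun (congrFun hval 1) 1
    simp at e00 e01 e10 e11
    have hb0 : b = 0 := hinj hb (by norm_num) (by simpa using e01.symm)
    have hx0 : x = 0 := hinj hx (by norm_num) (by simpa using e10.symm)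
    have had : a = d := hinj ha hd (e00.symm.trans e11)
    simpa [hb0, hx0, had] using h1

theorem val_inj [CharP F 11] {a b : Code} (ha : a ∈ elems) (hb : b ∈ elems) (h : (val a : PSL2) = val b) :
    a = b := by
  obtain ⟨⟨-, hga, hgb, hgx, hgd⟩, hca⟩ := elems_good ha
  obtain ⟨⟨-, hla, hlb, hlx, hld⟩, hcb⟩ := elems_good hb
  have hinj : ∀ {x y : ℕ}, x < 11 → y < 11 → (x : F) = y → x = y := fun hx hy e =>
    Nat.ModEq.eq_of_lt_of_lt ((CharP.natCast_eq_natCast F 11).mp e) hx hy
  rcases toPSL_eq.mp h with e | e <;> have hv := congrArg (fun z : SL2 => (z : Matrix (Fin 2) (Fin 2) F)) e <;>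
    simp only [valSL_coe (elems_good hb).1, Matrix.SpecialLinearGroup.coe_neg, valSL_coe (elems_good ha).1] at hv
  all_goals
    have e00 := congrFun (congrFun hv 0) 0
    have e01 := congrFun (congrFun hv 0) 1
    have e10 := congrFun (congrFun hv 1) 0
    have e11 := congrFun (congrFun hv 1) 1
    simp at e00 e01 e10 e11
  · exact Prod.ext (hinj hga hla e00.symm) (Prod.ext (hinj hgb hlb e01.symm)
      (Prod.ext (hinj hgx hlx e10.symm) (hinj hgd hld e11.symm)))
  · exfalso
    have key : ∀ {x y : ℕ}, x < 11 → y < 11 → (y : F) = -(x : F) → y = (11 - x) % 11 := fun hx hy e => by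
      rw [← cast_neg _ hx.le] at e
      exact hinj hy (Nat.mod_lt _ (by norm_num)) e
    have k0 := key hga hla e00
    have k1 := key hgb hlb e01
    have hb0 : a.1 = 0 → a.2.1 ≠ 0 := by
      intro e0 e1
      have h0 := (elems_good ha).1.1
      obtain ⟨a1, a2, a3, a4⟩ := a
      simp only at e0 e1
      subst e0 e1
      simp [okC] at h0
    have hcond : ∀ c : Code, Good c → canon c = c → ¬ (5 < c.1 ∨ (c.1 = 0 ∧ 5 < c.2.1)) := by
      rintro ⟨a1, a2, a3, a4⟩ ⟨h0, h1, h2, -, -⟩ hc hcond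
      rw [show canon (a1, a2, a3, a4) = _ from if_pos hcond] at hc
      have e1 : (11 - a1) % 11 = a1 := congrArg Prod.fst hc
      have e2 : (11 - a2) % 11 = a2 := congrArg (fun z : Code => z.2.1) hc
      simp only at hcond h1 h2
      omega
    have c1 := hcond a (elems_good ha).1 hca
    have c2 := hcond b (elems_good hb).1 hcb
    omega

variable [Fintype F] (hF : Fintype.card F = 11)

include hF in
theorem charP_eleven : CharP F 11 := by
  haveI : Fact (Nat.Prime 11) := ⟨by norm_num⟩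
  exact charP_of_card_eq_prime_pow (f := 1) (by rw [hF, pow_one])

include hF in
theorem val_surjective (g : PSL2) : ∃ c ∈ elems, val c = g := by
  haveI := charP_eleven hF
  obtain ⟨A, rfl⟩ := toPSL_surjective g
  have hsurj : ∀ x : F, ∃ n : ℕ, n < 11 ∧ (n : F) = x := by
    have hb : Function.Bijective fun n : Fin 11 => ((n : ℕ) : F) := by
      refine (Fintype.bijective_iff_injective_and_card _).mpr ⟨fun a b e => Fin.ext ?_, by rw [Fintype.card_fin, hF]⟩
      exact Nat.ModEq.eq_of_lt_of_lt ((CharP.natCast_eq_natCast F 11).mp e) a.2 b.2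
    intro x
    obtain ⟨n, rfl⟩ := hb.2 x
    exact ⟨n, n.2, rfl⟩
  obtain ⟨a, ha, ea⟩ := hsurj (A.1 0 0)
  obtain ⟨b, hb, eb⟩ := hsurj (A.1 0 1)
  obtain ⟨x, hx, ex⟩ := hsurj (A.1 1 0)
  obtain ⟨d, hd, ed⟩ := hsurj (A.1 1 1)
  have hg : Good (a, b, x, d) := by
    refine ⟨?_, ha, hb, hx, hd⟩
    have hdet := A.2
    rw [Matrix.det_fin_two, ← ea, ← eb, ← ex, ← ed] at hdet
    simp only [okC, beq_iff_eq]
    refine ((CharP.natCast_eq_natCast F 11).mp ?_ : _ % 11 = 1 % 11)
    push_cast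
    have h11 : (11 : F) = 0 := by exact_mod_cast CharP.cast_eq_zero F 11
    linear_combination hdet + (b : F) * (x : F) * h11
  refine ⟨_, mem_elems hg, ?_⟩
  rw [val_canon hg, val]
  refine congrArg toPSL (Subtype.ext ?_)
  rw [valSL_coe hg]
  ext i j; fin_cases i <;> fin_cases j <;> simp [ea, eb, ex, ed]

theorem pick_mem_elems {f : Bool} {c : Code} (hc : c ∈ pick f) : c ∈ elems := by
  have h := List.all_eq_true.mp (pick_sub f) c hc
  simp only [Bool.and_eq_true, beq_iff_eq] at h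
  have := mem_elems (pick_good hc)
  rwa [h.2] at this

/-- The subgroup of a flag. -/
noncomputable def ico [CharP F 11] (f : Bool) : Subgroup PSL2 where
  carrier := {g | ∃ c ∈ pick f, val c = g}
  one_mem' := ⟨one', (pick_card f).2.2, val_one⟩
  mul_mem' := by
    rintro _ _ ⟨a, ha, rfl⟩ ⟨b, hb, rfl⟩
    exact ⟨_, List.contains_iff_mem.mp (List.all_eq_true.mp (List.all_eq_true.mp (pick_closed f) a ha) b hb),
      val_mul (pick_good ha) (pick_good hb)⟩
  inv_mem' := by
    rintro g ⟨a, ha, rfl⟩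
    have hpow : ∀ n : ℕ, ∃ c ∈ pick f, (val c : PSL2) = val a ^ n := by
      intro n
      induction n with
      | zero => exact ⟨one', (pick_card f).2.2, by rw [val_one, pow_zero]⟩
      | succ n ih =>
        obtain ⟨c, hc, e⟩ := ih
        exact ⟨_, List.contains_iff_mem.mp (List.all_eq_true.mp (List.all_eq_true.mp (pick_closed f) c hc) a ha),
          by rw [val_mul (pick_good hc) (pick_good ha), e, pow_succ]⟩
    obtain ⟨c, hc, e⟩ := hpow (orderOf (val a : PSL2) - 1)
    refine ⟨c, hc, e.trans ?_⟩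
    refine eq_inv_of_mul_eq_one_left ?_
    rw [← pow_succ, Nat.sub_add_cancel (orderOf_pos _), pow_orderOf_eq_one]

theorem mem_ico [CharP F 11] {f : Bool} {g : PSL2} : g ∈ ico f ↔ ∃ c ∈ pick f, val c = g := Iff.rfl

theorem mem_ico_code [CharP F 11] {f : Bool} {c : Code} (hc : c ∈ elems) :
    (val c : PSL2) ∈ ico f ↔ c ∈ pick f := by
  refine ⟨fun ⟨a, ha, e⟩ => ?_, fun h => ⟨c, h, rfl⟩⟩
  rwa [← val_inj (pick_mem_elems ha) hc e]

theorem card_ico [CharP F 11] (f : Bool) : Nat.card (ico (F := F) f) = 60 := by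
  classical
  have e : (ico (F := F) f : Set PSL2) = (((pick f).toFinset.image (val (F := F)) : Finset PSL2) : Set PSL2) := by
    ext g; simp [mem_ico]
  rw [← SetLike.coe_sort_coe, Nat.card_coe_set_eq, e, Set.ncard_coe_finset,
    Finset.card_image_of_injOn (fun a ha b hb h => val_inj (pick_mem_elems (List.mem_toFinset.mp ha))
      (pick_mem_elems (List.mem_toFinset.mp hb)) h), List.toFinset_card_of_nodup (pick_card f).2.1, (pick_card f).1]

end Cfsg.Agent.Lib.Geometry.Dickson.Eleven
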