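import Cfsg.Agent.Lib.Geometry.Dickson.ElevenIco
import Cfsg.Agent.Lib.Classical.LinearSimple
import Cfsg.Agent.Lib.Classical.AutPSp.Elements

/-!
Icosahedral subgroups of `PSL(2, 11)`: classification, count and double transitivity.
-/

set_option autoImplicit false

namespace Cfsg.Agent.Lib.Geometry.Dickson.Eleven

open Matrix
open scoped MatrixGroups Pointwise

variable {F : Type*} [Field F] [Fintype F] [CharP F 11] (hF : Fintype.card F = 11)

local notation "SL2" => Matrix.SpecialLinearGroup (Fin 2) F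
local notation "PSL2" => Matrix.ProjectiveSpecialLinearGroup (Fin 2) F

include hF in
theorem finite_psl : Finite PSL2 :=
  Finite.of_surjective (fun c : {c // c ∈ elems.toFinset} => (val c.1 : PSL2)) fun g => by
    obtain ⟨c, hc, e⟩ := val_surjective hF g
    exact ⟨⟨c, List.mem_toFinset.mpr hc⟩, e⟩

theorem alt_five_pair : ∀ x : alternatingGroup (Fin 5), x * x = 1 → x ≠ 1 →
    ∃ y, y * y * y = 1 ∧ y ≠ 1 ∧ x * y ≠ 1 ∧ x * y * (x * y) * (x * y) * (x * y) * (x * y) = 1 := by
  decide +kernel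

theorem no_small (Y : Subgroup (alternatingGroup (Fin 5))) (h : 30 ∣ Nat.card Y) : Y = ⊤ := by
  have h60 : Nat.card (alternatingGroup (Fin 5)) = 60 := by
    rw [Nat.card_eq_fintype_card]; decide +kernel
  refine Subgroup.eq_top_of_card_eq Y ?_
  rw [h60]
  have hd : Nat.card Y ∣ 60 := h60 ▸ Y.card_subgroup_dvd_card
  obtain ⟨k, hk⟩ := h
  have hk2 : k ≤ 2 := by have := Nat.le_of_dvd (by norm_num) hd; omega
  interval_cases k
  · simp only [mul_zero] at hk; exact absurd hk Nat.card_pos.ne'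
  · exfalso
    have hidx : Y.index = 2 := by
      have := Y.card_mul_index; rw [h60, hk] at this; omega
    haveI := Subgroup.normal_of_index_eq_two hidx
    haveI := alternatingGroup.isSimpleGroup_five
    rcases (inferInstance : Y.Normal).eq_bot_or_eq_top with e | e <;> subst e
    · rw [Subgroup.card_bot] at hk; omega
    · rw [Subgroup.card_top, h60] at hk; omega
  · omega

theorem closure_eq {L : Subgroup PSL2} [Finite L] (e : L ≃* alternatingGroup (Fin 5)) {x y : PSL2} (hx : x ∈ L)
    (hy : y ∈ L) (h2 : orderOf x = 2) (h3 : orderOf y = 3) (h5 : orderOf (x * y) = 5) :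
    Subgroup.closure {x, y} = L := by
  have hle : Subgroup.closure {x, y} ≤ L := by
    rw [Subgroup.closure_le]; rintro z (rfl | rfl) <;> assumption
  set Y := Subgroup.closure {x, y}
  have hxY : x ∈ Y := Subgroup.subset_closure (Set.mem_insert _ _)
  have hyY : y ∈ Y := Subgroup.subset_closure (Set.mem_insert_of_mem _ rfl)
  let Y' := (Y.subgroupOf L).map e.toMonoidHom
  have hc : Nat.card Y' = Nat.card Y :=
    (Nat.card_congr ((Y.subgroupOf L).equivMapOfInjective e.toMonoidHom e.injective).toEquiv).symm.trans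
      (Nat.card_congr (Subgroup.subgroupOfEquivOfLe hle).toEquiv)
  have hd : ∀ z ∈ Y, orderOf z ∣ Nat.card Y := fun z hz => by
    rw [← Subgroup.orderOf_mk z hz]; exact orderOf_dvd_natCard _
  have h30 : 30 ∣ Nat.card Y' := by
    have a := hd x hxY; have b := hd y hyY; have c := hd _ (mul_mem hxY hyY)
    rw [h2] at a; rw [h3] at b; rw [h5] at c; rw [hc]
    exact Nat.Coprime.mul_dvd_of_dvd_of_dvd (show Nat.Coprime 6 5 by decide)
      (Nat.Coprime.mul_dvd_of_dvd_of_dvd (show Nat.Coprime 2 3 by decide) a b) c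
  refine le_antisymm hle fun z hz => ?_
  have : e ⟨z, hz⟩ ∈ Y' := by rw [no_small Y' h30]; exact Subgroup.mem_top _
  obtain ⟨w, hw, ew⟩ := this
  rw [show w = ⟨z, hz⟩ from e.injective ew] at hw
  exact hw

theorem mem_conj_iff {g z : PSL2} {H : Subgroup PSL2} : z ∈ MulAut.conj g • H ↔ g⁻¹ * z * g ∈ H := by
  rw [Subgroup.mem_pointwise_smul_iff_inv_smul_mem, ← map_inv]
  simp [MulAut.smul_def]

include hF in
theorem classify {L : Subgroup PSL2} (e : L ≃* alternatingGroup (Fin 5)) :
    ∃ (g : PSL2) (f : Bool), MulAut.conj g • L = ico f := by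
  haveI := finite_psl (F := F) hF
  have hodd : Fintype.card F % 2 = 1 := by rw [hF]
  obtain ⟨x, hx⟩ := exists_prime_orderOf_dvd_card' (G := L) 2
    (by rw [Nat.card_congr e.toEquiv, Nat.card_eq_fintype_card]; decide +kernel)
  obtain ⟨hx0g, hx0⟩ : Good x0 ∧ x0 ∈ elems :=
    ⟨pick_good (f := false) base_ok.1.1, pick_mem_elems (f := false) base_ok.1.1⟩
  have ho0 : orderOf (val x0 : PSL2) = 2 := by
    refine orderOf_eq_prime ?_ fun h => absurd (val_eq_one hx0 h) (by decide)
    rw [sq, ← val_mul hx0g hx0g, show mulC x0 x0 = one' from rfl, val_one]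
  obtain ⟨a, ha⟩ := isConj_iff.mp (isConj_invol hodd ((Subgroup.orderOf_coe x).trans hx) ho0)
  set M := MulAut.conj a • L with hM
  have eM : M ≃* alternatingGroup (Fin 5) := (Subgroup.equivSMul (MulAut.conj a) L).symm.trans e
  have hxM : (val x0 : PSL2) ∈ M := by
    rw [hM, mem_conj_iff, ← ha]; simp [mul_assoc]
  obtain ⟨y', h3, hy1, hxy, h5⟩ := alt_five_pair (eM ⟨_, hxM⟩)
    (by rw [← map_mul, ← map_one eM]; congr 1
        exact Subtype.ext (by rw [Subgroup.coe_mul, ← val_mul hx0g hx0g, show mulC x0 x0 = one' from rfl, val_one]; rfl))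
    (fun h => by
      rw [← map_one eM] at h
      have := congrArg Subtype.val (eM.injective h)
      rw [Subgroup.coe_one] at this
      exact absurd (val_eq_one hx0 this) (by decide))
  set yM := eM.symm y' with hyM
  obtain ⟨c, hc, hcy⟩ := val_surjective hF (yM : PSL2)
  obtain ⟨hcg, -⟩ := elems_good hc
  have hxy' : eM (⟨_, hxM⟩ * yM) = eM ⟨_, hxM⟩ * y' := by rw [map_mul, hyM, eM.apply_symm_apply]
  have hyo : orderOf (yM : PSL2) = 3 := by
    haveI : Fact (Nat.Prime 3) := ⟨by norm_num⟩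
    rw [Subgroup.orderOf_coe, hyM, MulEquiv.orderOf_eq]
    exact orderOf_eq_prime (by rw [pow_three, ← mul_assoc]; exact h3) hy1
  have hpo : orderOf ((val x0 : PSL2) * yM) = 5 := by
    haveI : Fact (Nat.Prime 5) := ⟨by norm_num⟩
    rw [show (val x0 : PSL2) * yM = ((⟨_, hxM⟩ * yM : M) : PSL2) from rfl, Subgroup.orderOf_coe,
      ← MulEquiv.orderOf_eq eM, hxy']
    exact orderOf_eq_prime (by simp only [pow_succ, pow_zero, one_mul]; exact h5) hxy
  have hc2 := mul_elems (F := F) hx0g hcg
  have g2 := mul_good (F := F) hx0g hcg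
  have g22 := mul_good (F := F) g2 g2
  have g23 := mul_good (F := F) g22 g2
  have g24 := mul_good (F := F) g23 g2
  have hone : one' ∈ elems := pick_mem_elems (f := false) (pick_card false).2.2
  have k1 : c ≠ one' := fun h => by
    rw [← hcy, h, val_one, orderOf_one] at hyo; omega
  have k3 : mulC (mulC c c) c = one' := val_inj (F := F) (mul_elems (F := F) (mul_good (F := F) hcg hcg) hcg) hone (by
    rw [val_mul (mul_good (F := F) hcg hcg) hcg, val_mul hcg hcg, val_one, hcy, mul_assoc, ← pow_three, ← hyo,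
      pow_orderOf_eq_one])
  have k2 : mulC x0 c ≠ one' := fun h => by
    rw [← hcy, ← val_mul hx0g hcg, h, val_one, orderOf_one] at hpo; omega
  have k5 : mulC (mulC (mulC (mulC (mulC x0 c) (mulC x0 c)) (mulC x0 c)) (mulC x0 c)) (mulC x0 c) = one' :=
    val_inj (F := F) (mul_elems (F := F) g24 g2) hone (by
      rw [val_mul g24 g2, val_mul g23 g2, val_mul g22 g2, val_mul g2 g2, val_mul hx0g hcg, val_one, hcy]
      have := pow_orderOf_eq_one ((val x0 : PSL2) * yM)
      rw [hpo] at this
      simpa only [pow_succ, pow_zero, one_mul] using this)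
  have hcov := List.all_eq_true.mp cover_ok c hc
  simp only [Bool.or_eq_true, beq_iff_eq, Bool.not_eq_true', beq_eq_false_iff_ne, ne_eq, List.any_eq_true,
    Bool.and_eq_true, List.contains_iff_mem, k1, k2, k3, k5, not_true, false_or] at hcov
  obtain ⟨⟨w, f⟩, hw, hw1, hw2⟩ := hcov
  have hwg : Good w := by
    have h := List.all_eq_true.mp cover_sub (w, f) hw
    have hlt : ∀ z ∈ cover, z.1.1 < 11 ∧ z.1.2.1 < 11 ∧ z.1.2.2.1 < 11 ∧ z.1.2.2.2 < 11 := by decide +kernel
    simp only [Bool.and_eq_true] at h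
    exact ⟨h.1, hlt _ hw⟩
  refine ⟨val w * a, f, ?_⟩
  rw [map_mul, mul_smul, ← hM]
  set N := MulAut.conj (val w : PSL2) • M with hN
  have hNc : Nat.card N = Nat.card (ico (F := F) f) := by
    rw [card_ico, hN, Nat.card_congr ((Subgroup.equivSMul (MulAut.conj (val w : PSL2)) M).symm.trans eM).toEquiv,
      Nat.card_eq_fintype_card]
    decide +kernel
  have hcl := closure_eq eM hxM yM.2 ho0 hyo hpo
  refine Subgroup.eq_of_le_of_card_ge (fun z hz => ?_) hNc.ge
  rw [hN, mem_conj_iff, ← hcl] at hz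
  have key : ∀ t ∈ Subgroup.closure ({(val x0 : PSL2), (yM : PSL2)} : Set PSL2),
      val w * t * (val w)⁻¹ ∈ ico (F := F) f := by
    intro t ht
    induction ht using Subgroup.closure_induction with
    | mem u hu =>
      rcases hu with rfl | rfl
      · exact ⟨_, hw1, val_conjC hwg hx0g⟩
      · exact ⟨_, hw2, by rw [val_conjC hwg hcg, hcy]⟩
    | one => rw [mul_one, mul_inv_cancel]; exact one_mem _
    | mul u v _ _ hu hv =>
      have := mul_mem hu hv
      rwa [show val w * u * (val w)⁻¹ * (val w * v * (val w)⁻¹) = val w * (u * v) * (val w)⁻¹ by group] at this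
    | inv u _ hu =>
      have := inv_mem hu
      rwa [show (val w * u * (val w)⁻¹)⁻¹ = val w * u⁻¹ * (val w)⁻¹ by group] at this
  have := key _ hz
  rwa [show val w * ((val w)⁻¹ * z * val w) * (val w)⁻¹ = z by group] at this

include hF in
theorem not_conj (g : PSL2) : MulAut.conj g • ico (F := F) false ≠ ico true := fun h => by
  obtain ⟨c, hc, rfl⟩ := val_surjective hF g
  have key : ∀ {x : Code}, x ∈ listH → conjC c x ∈ listK := fun {x} hx => by
    obtain ⟨hcg, -⟩ := elems_good hc
    have hxg := pick_good (f := false) hx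
    refine (mem_ico_code (F := F) (f := true) (mul_elems (F := F) (mul_good (F := F) hcg hxg) (inv_good (F := F) hcg))).mp ?_
    rw [← h, mem_conj_iff]
    show (val c)⁻¹ * val (conjC c x) * val c ∈ _
    rw [val_conjC hcg hxg]
    exact ⟨x, hx, by group⟩
  have h1 := List.all_eq_true.mp not_conj_ok c hc
  simp [key base_ok.1.1, key base_ok.1.2] at h1

include hF in
theorem ico_ne_bot_top (f : Bool) : ico (F := F) f ≠ ⊥ ∧ ico (F := F) f ≠ ⊤ ∧ (ico (F := F) f).index = 11 := by
  have hidx : (ico (F := F) f).index = 11 := by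
    have h := (ico (F := F) f).card_mul_index
    have hc := card_PSL2 (F := F)
    rw [hF] at hc
    rw [card_ico] at h
    norm_num at hc
    omega
  refine ⟨fun h => ?_, fun h => ?_, hidx⟩
  · have := card_ico (F := F) f; rw [h, Subgroup.card_bot] at this; omega
  · rw [h, Subgroup.index_top] at hidx; omega

include hF in
theorem normalizer_ico (f : Bool) : Subgroup.normalizer ((ico (F := F) f : Subgroup PSL2) : Set PSL2) = ico f := by
  haveI := finite_psl (F := F) hF
  obtain ⟨hb, ht, hidx⟩ := ico_ne_bot_top hF f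
  refine le_antisymm ?_ Subgroup.le_normalizer
  set N := Subgroup.normalizer ((ico (F := F) f : Subgroup PSL2) : Set PSL2)
  have hdvd : N.index ∣ 11 := hidx ▸ Subgroup.index_dvd_of_le Subgroup.le_normalizer
  rcases (Nat.dvd_prime (by norm_num)).mp hdvd with h | h
  · exfalso
    haveI := Subgroup.normalizer_eq_top_iff.mp (Subgroup.index_eq_one.mp h)
    haveI := Cfsg.Agent.Lib.Classical.isSimpleGroup_PSL_fin (F := F) (n := 2) le_rfl
      (fun _ => by rw [Nat.card_eq_fintype_card, hF]; norm_num)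
    exact ((inferInstance : (ico (F := F) f).Normal).eq_bot_or_eq_top).elim hb ht
  · exact (Subgroup.eq_of_le_of_card_ge Subgroup.le_normalizer (by
      have h1 := N.card_mul_index
      have h2 := (ico (F := F) f).card_mul_index
      rw [h] at h1; rw [hidx] at h2
      exact Nat.le_of_mul_le_mul_right (h1.trans h2.symm).le (by norm_num : 0 < 11))).ge

include hF in
theorem card_orbit (f : Bool) :
    Nat.card {L : Subgroup PSL2 // ∃ g : PSL2, MulAut.conj g • ico (F := F) f = L} = 11 := by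
  haveI := finite_psl (F := F) hF
  rw [← (ico_ne_bot_top hF f).2.2, Subgroup.index]
  refine (Nat.card_congr (Equiv.ofBijective (Quotient.lift
    (fun g => (⟨MulAut.conj g • ico (F := F) f, g, rfl⟩ : {L : Subgroup PSL2 // ∃ g : PSL2, MulAut.conj g • ico (F := F) f = L}))
    fun a b hab => ?_) ⟨?_, ?_⟩)).symm
  · have hn : a⁻¹ * b ∈ ico (F := F) f := QuotientGroup.leftRel_apply.mp hab
    refine Subtype.ext ?_
    show MulAut.conj a • _ = MulAut.conj b • _
    conv_rhs => rw [show b = a * (a⁻¹ * b) by group, map_mul, mul_smul]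
    rw [Subgroup.conj_smul_eq_self_of_mem hn]
  · intro a b h
    induction a using Quotient.inductionOn with | _ a => ?_
    induction b using Quotient.inductionOn with | _ b => ?_
    refine Quotient.sound (QuotientGroup.leftRel_apply.mpr ?_)
    rw [← normalizer_ico hF f, Subgroup.mem_normalizer_iff]
    intro z
    have e := SetLike.ext_iff.mp (congrArg Subtype.val h) (b * z * b⁻¹)
    simp only [Quotient.lift_mk, mem_conj_iff] at e
    rw [show b⁻¹ * (b * z * b⁻¹) * b = z by group] at e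
    rw [← e, show a⁻¹ * b * z * (a⁻¹ * b)⁻¹ = a⁻¹ * (b * z * b⁻¹) * a by group]
  · rintro ⟨_, g, rfl⟩
    exact ⟨Quotient.mk _ g, rfl⟩

include hF in
theorem ico_iso (f : Bool) : Nonempty (ico (F := F) f ≃* alternatingGroup (Fin 5)) := by
  haveI := finite_psl (F := F) hF
  have h11 : (11 : F) = 0 := by exact_mod_cast CharP.cast_eq_zero F 11
  have h2 : (2 : F) ≠ 0 := fun h => one_ne_zero (α := F) (by linear_combination h11 - 5 * h)
  obtain ⟨E, ⟨eE⟩⟩ := exists_altFive h2 (8 : F) (by linear_combination 5 * h11)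
  obtain ⟨g, f₀, hg⟩ := classify hF eE
  have h0 : Nonempty (ico (F := F) f₀ ≃* alternatingGroup (Fin 5)) :=
    ⟨(MulEquiv.subgroupCongr hg.symm).trans ((Subgroup.equivSMul (MulAut.conj g) E).symm.trans eE)⟩
  let P : GL (Fin 2) F := Matrix.GeneralLinearGroup.mkOfDetNeZero !![1, 0; 0, 2]
    (by simp [Matrix.det_fin_two, h2])
  let δ : MulAut PSL2 := Cfsg.Agent.Lib.Classical.AutPSp.pAut (glConj P)
  have hP : ((P⁻¹ : GL (Fin 2) F) : Matrix (Fin 2) (Fin 2) F) = !![1, 0; 0, 6] := by
    refine Units.inv_eq_of_mul_eq_one_right ?_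
    show !![(1 : F), 0; 0, 2] * !![1, 0; 0, 6] = 1
    ext i j; fin_cases i <;> fin_cases j <;> simp [Matrix.mul_apply, Fin.sum_univ_two]
    linear_combination h11
  have htw : ∀ c ∈ listH, δ (val c) ∈ ico (F := F) true := by
    intro c hc
    have hg := pick_good (f := false) hc
    have hok : ∀ z ∈ listH, (canon (z.1, 2 * z.2.1 % 11, 6 * z.2.2.1 % 11, z.2.2.2)) ∈ listK ∧
        okC (z.1, 2 * z.2.1 % 11, 6 * z.2.2.1 % 11, z.2.2.2) = true := by decide +kernel
    have hg' : Good (c.1, 2 * c.2.1 % 11, 6 * c.2.2.1 % 11, c.2.2.2) :=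
      ⟨(hok c hc).2, hg.2.1, Nat.mod_lt _ (by norm_num), Nat.mod_lt _ (by norm_num), hg.2.2.2.2⟩
    refine ⟨_, (hok c hc).1, ?_⟩
    rw [val_canon hg']
    show Cfsg.Agent.Lib.SL2Trace.toPSL _ = Cfsg.Agent.Lib.SL2Trace.toPSL (glConj P (valSL c))
    refine congrArg _ (Subtype.ext ?_)
    show _ = ((P⁻¹ : GL (Fin 2) F) : Matrix (Fin 2) (Fin 2) F) * (valSL c : SL2).1 * (P : Matrix (Fin 2) (Fin 2) F)
    rw [hP, valSL_coe hg', valSL_coe hg, show (P : Matrix (Fin 2) (Fin 2) F) = !![1, 0; 0, 2] from rfl]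
    ext i j
    fin_cases i <;> fin_cases j <;> simp [Matrix.mul_apply, Fin.sum_univ_two, cast_mod] <;>
      first | ring1 | linear_combination -(c.2.2.2 : F) * h11
  have hK : δ • ico (F := F) false = ico true := by
    refine Subgroup.eq_of_le_of_card_ge ?_ ?_
    · intro z hz
      rw [Subgroup.mem_pointwise_smul_iff_inv_smul_mem] at hz
      obtain ⟨c, hc, e⟩ := hz
      have := htw c hc
      rwa [e, MulAut.smul_def, MulAut.apply_inv_self] at this
    · rw [Nat.card_congr (Subgroup.equivSMul δ (ico (F := F) false)).symm.toEquiv, card_ico, card_ico]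
  obtain ⟨e0⟩ := h0
  have e := (Subgroup.equivSMul δ (ico (F := F) false)).trans (MulEquiv.subgroupCongr hK)
  rcases f <;> rcases f₀
  · exact ⟨e0⟩
  · exact ⟨e.trans e0⟩
  · exact ⟨e.symm.trans e0⟩
  · exact ⟨e0⟩

include hF in
theorem count_ico : Nat.card {L : Subgroup PSL2 // Nonempty (L ≃* alternatingGroup (Fin 5))} = 22 := by
  haveI := finite_psl (F := F) hF
  let O : Bool → Type _ := fun f => {L : Subgroup PSL2 // ∃ g : PSL2, MulAut.conj g • ico (F := F) f = L}
  have e : {L : Subgroup PSL2 // Nonempty (L ≃* alternatingGroup (Fin 5))} ≃ Σ f : Bool, O f :=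
    (Equiv.ofBijective (fun z : Σ f : Bool, O f => (⟨z.2.1, by
      obtain ⟨g, hg⟩ := z.2.2
      obtain ⟨e⟩ := ico_iso hF z.1
      exact ⟨(MulEquiv.subgroupCongr hg.symm).trans ((Subgroup.equivSMul (MulAut.conj g) _).symm.trans e)⟩⟩ :
        {L : Subgroup PSL2 // Nonempty (L ≃* alternatingGroup (Fin 5))})) ⟨by
      rintro ⟨f, L, g, hg⟩ ⟨f', L', g', hg'⟩ h
      obtain rfl : L = L' := congrArg Subtype.val h
      rcases f <;> rcases f'
      · rfl
      · exact absurd (by rw [map_mul, mul_smul, hg, ← hg', map_inv, inv_smul_smul] :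
          MulAut.conj (g'⁻¹ * g) • ico (F := F) false = ico true) (not_conj hF _)
      · exact absurd (by rw [map_mul, mul_smul, hg', ← hg, map_inv, inv_smul_smul] :
          MulAut.conj (g⁻¹ * g') • ico (F := F) false = ico true) (not_conj hF _)
      · rfl, by
      rintro ⟨L, ⟨e⟩⟩
      obtain ⟨g, f, hg⟩ := classify hF e
      exact ⟨⟨f, L, g⁻¹, by rw [← hg, map_inv, inv_smul_smul]⟩, rfl⟩⟩).symm
  rw [Nat.card_congr e, Nat.card_sigma, Fintype.sum_bool, card_orbit hF, card_orbit hF]

include hF in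
theorem two_transitive : MulAction.IsMultiplyPretransitive PSL2 (PSL2 ⧸ ico (F := F) false) 2 := by
  obtain ⟨-, -, hg1c, hg1⟩ := base_ok
  have hg1g : Good g1 := ⟨base_ok.2.1, by decide, by decide, by decide, by decide⟩
  have key : ∀ x : PSL2, x ∉ ico (F := F) false →
      ∃ h ∈ ico (F := F) false, (val g1 : PSL2)⁻¹ * (h * x) ∈ ico false := by
    intro x hx
    obtain ⟨c, hc, rfl⟩ := val_surjective hF x
    have h := List.all_eq_true.mp trans_ok c hc
    simp only [Bool.or_eq_true, List.contains_iff_mem, List.any_eq_true] at h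
    rcases h with h | ⟨z, hz, hzc⟩
    · exact absurd ⟨c, h, rfl⟩ hx
    · have hzg := pick_good (f := false) hz
      have hcg := (elems_good hc).1
      exact ⟨val z, ⟨z, hz, rfl⟩, _, hzc, by
        rw [val_mul (inv_good (F := F) hg1g) (mul_good (F := F) hzg hcg), val_inv hg1g, val_mul hzg hcg]⟩
  rw [MulAction.is_two_pretransitive_iff]
  have norm : ∀ {a b : PSL2 ⧸ ico (F := F) false}, a ≠ b →
      ∃ g : PSL2, g • ((1 : PSL2) : PSL2 ⧸ ico (F := F) false) = a ∧ g • ((val g1 : PSL2) : PSL2 ⧸ ico false) = b := by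
    intro a b hab
    induction a using QuotientGroup.induction_on with | _ x => ?_
    induction b using QuotientGroup.induction_on with | _ y => ?_
    obtain ⟨h, hh, hmem⟩ := key (x⁻¹ * y) fun h => hab (QuotientGroup.eq.mpr h)
    refine ⟨x * h⁻¹, QuotientGroup.eq.mpr ?_, QuotientGroup.eq.mpr ?_⟩
    · simpa using hh
    · show ((x * h⁻¹) * val g1)⁻¹ * y ∈ _
      rwa [show (x * h⁻¹ * val g1)⁻¹ * y = (val g1)⁻¹ * (h * (x⁻¹ * y)) by group]
  intro a b c d hab hcd
  obtain ⟨g, rfl, rfl⟩ := norm hab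
  obtain ⟨g', rfl, rfl⟩ := norm hcd
  exact ⟨g' * g⁻¹, by rw [mul_smul, inv_smul_smul], by rw [mul_smul, inv_smul_smul]⟩

end Cfsg.Agent.Lib.Geometry.Dickson.Eleven
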