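import Cfsg.Agent.Lib.Geometry.Dickson.Tori

/-!
Subfield subgroups and element orders.
-/

set_option autoImplicit false

namespace Cfsg.Agent.Lib.Geometry.Dickson

open Matrix
open scoped Matrix MatrixGroups
open Cfsg.Agent.Lib.SL2Trace (tr toPSL toPSL_surjective toPSL_eq toPSL_eq_one mem_center_iff)

variable {F : Type*} [Field F] [Fintype F]

local notation "SL2" => Matrix.SpecialLinearGroup (Fin 2) F
local notation "M2" => Matrix (Fin 2) (Fin 2) F
local notation "PSL2" => Matrix.ProjectiveSpecialLinearGroup (Fin 2) F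

theorem exists_ringHom {K : Type*} [Field K] [Fintype K] (m : ℕ)
    (h : Fintype.card K ^ m = Fintype.card F) : Nonempty (K →+* F) := by
  obtain ⟨p, hp⟩ := CharP.exists F
  haveI : Fact p.Prime := ⟨CharP.char_is_prime F p⟩
  obtain ⟨p', hp'⟩ := CharP.exists K
  haveI : Fact p'.Prime := ⟨CharP.char_is_prime K p'⟩
  obtain ⟨n, -, hn⟩ := FiniteField.card F p
  obtain ⟨e, -, he⟩ := FiniteField.card K p'
  rw [he, hn, ← pow_mul] at h
  obtain rfl : p' = p := by
    have h1 : p ∣ p' ^ ((e : ℕ) * m) := h.symm ▸ dvd_pow_self p n.ne_zero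
    exact ((Nat.prime_dvd_prime_iff_eq Fact.out Fact.out).mp ((Fact.out : p.Prime).dvd_of_dvd_pow h1)).symm
  letI := ZMod.algebra K p'
  letI := ZMod.algebra F p'
  have hK : Module.finrank (ZMod p') K = e := Nat.pow_right_injective (Fact.out : p'.Prime).two_le (by
    show p' ^ Module.finrank (ZMod p') K = p' ^ (e : ℕ)
    have := Module.card_eq_pow_finrank (K := ZMod p') (V := K)
    rw [ZMod.card] at this
    rw [← this, he])
  have hF : Module.finrank (ZMod p') F = n := Nat.pow_right_injective (Fact.out : p'.Prime).two_le (by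
    show p' ^ Module.finrank (ZMod p') F = p' ^ (n : ℕ)
    have := Module.card_eq_pow_finrank (K := ZMod p') (V := F)
    rw [ZMod.card] at this
    rw [← this, hn])
  obtain ⟨f⟩ := FiniteField.nonempty_algHom_of_finrank_dvd (F := ZMod p') (K := K) (L := F)
    (by rw [hK, hF]; exact ⟨m, (Nat.pow_right_injective (Fact.out : p'.Prime).two_le h).symm⟩)
  exact ⟨f.toRingHom⟩

variable {K : Type*} [Field K]

omit [Fintype F] in
theorem map_eq_one_or {σ : K →+* F} {A : Matrix.SpecialLinearGroup (Fin 2) K} :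
    (Matrix.SpecialLinearGroup.map σ A = 1 ∨ Matrix.SpecialLinearGroup.map σ A = -1) ↔ A = 1 ∨ A = -1 := by
  have hinj : Function.Injective (Matrix.SpecialLinearGroup.map (n := Fin 2) σ) := fun A B h => Subtype.ext
    (Matrix.ext fun i j => σ.injective (congrArg (fun g : SL2 => (g : M2) i j) h))
  have hneg : Matrix.SpecialLinearGroup.map (n := Fin 2) σ (-1) = -1 := by
    refine Subtype.ext (Matrix.ext fun i j => ?_)
    show σ ((-1 : Matrix.SpecialLinearGroup (Fin 2) K) i j) = ((-1 : SL2) : M2) i j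
    rw [Matrix.SpecialLinearGroup.coe_neg, Matrix.SpecialLinearGroup.coe_neg]
    fin_cases i <;> fin_cases j <;> simp
  refine or_congr ?_ ?_
  · exact ⟨fun h => hinj (h.trans (map_one _).symm), fun h => by rw [h, map_one]⟩
  · exact ⟨fun h => hinj (h.trans hneg.symm), fun h => by rw [h, hneg]⟩

/-- `PSL₂` of a subfield, as the image of `SL₂`. -/
def pslRange (σ : K →+* F) : Subgroup PSL2 := ((toPSL (F := F)).comp (Matrix.SpecialLinearGroup.map σ)).range

theorem pslRange_equiv (σ : K →+* F) :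
    Nonempty (pslRange σ ≃* Matrix.ProjectiveSpecialLinearGroup (Fin 2) K) := by
  have hker : ((toPSL (F := F)).comp (Matrix.SpecialLinearGroup.map σ)).ker =
      Subgroup.center (Matrix.SpecialLinearGroup (Fin 2) K) := by
    ext A
    rw [MonoidHom.mem_ker, MonoidHom.comp_apply, toPSL_eq_one, mem_center_iff, map_eq_one_or]
  exact ⟨((QuotientGroup.quotientMulEquivOfEq hker.symm).trans (QuotientGroup.quotientKerEquivRange _)).symm⟩

/-- `PGL₂` of a subfield whose elements are squares. -/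
theorem exists_pgl_range (σ : K →+* F) (hsq : ∀ d : K, IsSquare (σ d)) :
    ∃ H : Subgroup PSL2, pslRange σ ≤ H ∧ Nonempty (H ≃* Matrix.ProjGenLinGroup (Fin 2) K) := by
  classical
  let R : GL (Fin 2) K → SL2 → Prop := fun A B =>
    ∃ c : F, (B : M2) = c • (A : Matrix (Fin 2) (Fin 2) K).map σ
  have hdetF : ∀ A : GL (Fin 2) K, ((A : Matrix (Fin 2) (Fin 2) K).map σ).det =
      σ ((A : Matrix (Fin 2) (Fin 2) K).det) := fun A => (RingHom.map_det σ _).symm
  have huniq : ∀ A B B', R A B → R A B' → toPSL B = toPSL B' := by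
    rintro A B B' ⟨c, hc⟩ ⟨c', hc'⟩
    have h1 := B.2
    have h2 := B'.2
    rw [hc, Matrix.det_smul, Fintype.card_fin, hdetF] at h1
    rw [hc', Matrix.det_smul, Fintype.card_fin, hdetF] at h2
    have h3 : c' * c' = c * c := by linear_combination (c * c) * h2 - (c' * c') * h1
    refine toPSL_eq.mpr ?_
    rcases mul_self_eq_mul_self_iff.mp h3 with h | h
    · exact Or.inl (sl_ext (by rw [hc, hc', h]))
    · exact Or.inr (sl_ext (by rw [Matrix.SpecialLinearGroup.coe_neg, hc, hc', h, neg_smul]))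
  have hex : ∀ A : GL (Fin 2) K, ∃ B, R A B := by
    intro A
    obtain ⟨c, hc⟩ := hsq (A : Matrix (Fin 2) (Fin 2) K).det
    have hc0 : c ≠ 0 := fun h => A.det_ne_zero (σ.injective (by rw [hc, h, mul_zero, map_zero]))
    refine ⟨⟨c⁻¹ • (A : Matrix (Fin 2) (Fin 2) K).map σ, ?_⟩, c⁻¹, rfl⟩
    rw [Matrix.det_smul, Fintype.card_fin, hdetF, hc]
    field_simp
  choose B hBR using hex
  let f : GL (Fin 2) K →* PSL2 := MonoidHom.mk' (fun A => toPSL (B A)) (fun A A' => by
    rw [← map_mul]
    refine huniq (A * A') _ _ (hBR _) ?_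
    obtain ⟨c, hc⟩ := hBR A
    obtain ⟨c', hc'⟩ := hBR A'
    refine ⟨c * c', ?_⟩
    rw [Matrix.SpecialLinearGroup.coe_mul, hc, hc', Units.val_mul, Matrix.map_mul, Matrix.smul_mul,
      Matrix.mul_smul, smul_smul])
  have hker : f.ker = Subgroup.center (GL (Fin 2) K) := by
    ext A
    rw [MonoidHom.mem_ker, Matrix.GeneralLinearGroup.mem_center_iff_val_mem_range_scalar]
    show toPSL (B A) = 1 ↔ _
    obtain ⟨c, hc⟩ := hBR A
    constructor
    · intro h
      have hd : ∃ e : F, (B A : M2) = e • 1 := by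
        rcases toPSL_eq_one.mp h with h | h
        · exact ⟨1, by rw [h]; simp⟩
        · exact ⟨-1, by rw [h]; simp⟩
      obtain ⟨e, he⟩ := hd
      have hc0 : c ≠ 0 := by
        intro h0
        have := (B A).2
        rw [hc, h0, zero_smul, Matrix.det_zero] at this
        exact zero_ne_one this
      have hentry : ∀ i j, c * σ ((A : Matrix (Fin 2) (Fin 2) K) i j) = (e • (1 : M2)) i j := fun i j => by
        rw [← he, hc]; rfl
      refine ⟨(A : Matrix (Fin 2) (Fin 2) K) 0 0, ?_⟩
      ext i j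
      fin_cases i <;> fin_cases j
      · simp
      · have := hentry 0 1; simp [hc0] at this; simp [this]
      · have := hentry 1 0; simp [hc0] at this; simp [this]
      · simp
        exact σ.injective (mul_left_cancel₀ hc0 ((hentry 0 0).trans
          ((by simp : (e • (1 : M2)) 0 0 = (e • (1 : M2)) 1 1).trans (hentry 1 1).symm)))
    · rintro ⟨t, ht⟩
      rw [← map_one (toPSL (F := F))]
      refine huniq A _ _ (hBR A) ⟨(σ t)⁻¹, ?_⟩
      have ht0 : σ t ≠ 0 := by
        intro h
        have h' := A.det_ne_zero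
        rw [← ht] at h'
        apply h'
        simp [show t = 0 from σ.injective (h.trans (map_zero σ).symm)]
      rw [← ht]
      ext i j
      fin_cases i <;> fin_cases j <;> simp [ht0]
  refine ⟨f.range, ?_, ⟨((QuotientGroup.quotientMulEquivOfEq hker.symm).trans
    (QuotientGroup.quotientKerEquivRange f)).symm⟩⟩
  rintro _ ⟨A, rfl⟩
  refine ⟨Matrix.SpecialLinearGroup.toGL A, huniq _ _ _ (hBR _) ⟨1, ?_⟩⟩
  rw [one_smul]
  rfl

/-- Element orders in `PSL₂`. -/
theorem orderOf_cases (p : ℕ) [Fact p.Prime] [CharP F p] (x : PSL2) :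
    orderOf x ∣ p ∨ orderOf x ∣ (Fintype.card F - 1) / Nat.gcd 2 (Fintype.card F - 1) ∨
      orderOf x ∣ (Fintype.card F + 1) / Nat.gcd 2 (Fintype.card F - 1) := by
  obtain ⟨X, rfl⟩ := toPSL_surjective x
  by_cases hZ : X ∈ Subgroup.center SL2
  · exact Or.inl (by rw [toPSL_eq_one.mpr (mem_center_iff.mp hZ), orderOf_one]; exact one_dvd _)
  by_cases ht : tr X ^ 2 = 4
  · refine Or.inl (orderOf_dvd_of_pow_eq_one ?_)
    rw [← map_pow]
    exact toPSL_eq_one.mpr (Cfsg.Agent.Lib.SL2Trace.pow_char_of_tr p ht)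
  right
  have key : ∀ h, Nat.card (cell ⊤ X) = Nat.card (Subgroup.center SL2) * h → orderOf (toPSL X) ∣ h := by
    intro h hc
    have hm := card_map_toPSL ⊤ le_top (cell ⊤ X) (center_le_cell ⊤ le_top X) le_top
    rw [hc] at hm
    rw [Nat.eq_of_mul_eq_mul_left Nat.card_pos hm]
    exact Subgroup.orderOf_dvd_natCard _ ⟨X, mem_cell_self ⊤ (Subgroup.mem_top X), rfl⟩
  by_cases hs : IsSplit X
  · exact Or.inl (key _ (split_half hZ ht hs))
  · exact Or.inr (key _ (nonsplit_half hZ ht hs))

/-- A cube root of unity other than one gives `A₅` in even characteristic. -/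
theorem exists_altFive_two [CharP F 2] (w : F) (hw : w * w + w + 1 = 0) :
    ∃ H : Subgroup PSL2, Nonempty (H ≃* alternatingGroup (Fin 5)) := by
  classical
  haveI : Fact (Nat.Prime 2) := ⟨Nat.prime_two⟩
  haveI := Fintype.ofFinite (GaloisField 2 2)
  have hK : Fintype.card (GaloisField 2 2) = 4 := by
    rw [← Nat.card_eq_fintype_card, GaloisField.card 2 2 two_ne_zero]; rfl
  have h2 : (2 : F) = 0 := CharTwo.two_eq_zero
  have hw0 : w ≠ 0 := by rintro rfl; simp at hw
  have hord : orderOf (Units.mk0 w hw0) = 3 := by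
    haveI : Fact (Nat.Prime 3) := ⟨Nat.prime_three⟩
    refine orderOf_eq_prime (Units.ext ?_) fun h => ?_
    · rw [Units.val_pow_eq_pow_val, Units.val_mk0, Units.val_one]
      linear_combination (w - 1) * hw
    · have h1 : w = 1 := congrArg Units.val h
      rw [h1] at hw
      exact one_ne_zero (α := F) (by linear_combination hw - h2)
  have h3 : 3 ∣ Fintype.card F - 1 := by
    rw [← hord, ← Fintype.card_units]; exact orderOf_dvd_card
  obtain ⟨n, -, hn⟩ := FiniteField.card F 2
  have heven : ∀ k, 3 ∣ 2 ^ k - 1 → ∃ j, k = 2 * j := by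
    intro k hk
    refine ⟨k / 2, ?_⟩
    have h4 : ∀ j, 4 ^ j % 3 = 1 := fun j => by rw [Nat.pow_mod]; simp
    rcases Nat.even_or_odd' k with ⟨j, rfl | rfl⟩
    · omega
    · exfalso
      have := h4 j
      rw [pow_succ, pow_mul] at hk
      norm_num at hk
      omega
  obtain ⟨j, hj⟩ := heven n (hn ▸ h3)
  obtain ⟨σ⟩ := exists_ringHom (K := GaloisField 2 2) (F := F) j (by rw [hK, hn, hj, pow_mul]; norm_num)
  obtain ⟨e⟩ := pslRange_equiv σ
  obtain ⟨e'⟩ := Cfsg.Agent.Lib.Classical.nonempty_PSL2_small (F := GaloisField 2 2) (n := 5) (by rw [hK])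
    (by rw [hK]; decide)
  exact ⟨pslRange σ, ⟨e.trans e'⟩⟩

end Cfsg.Agent.Lib.Geometry.Dickson
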