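import Cfsg.Agent.Lib.Geometry.Dickson.Tori
import Cfsg.Agent.Lib.Geometry.Dickson.Generate

/-!
`PSL(2, 2^t) = ABA` with `A` a nonsplit torus and `B` a root group.
-/

set_option autoImplicit false

namespace Cfsg.Agent.Lib.Geometry.Dickson.EvenABA

open Matrix
open scoped Matrix MatrixGroups
open Cfsg.Agent.Lib.SL2Trace (toPSL toPSL_surjective tr tr_eq)

variable {F : Type*} [Field F] [Fintype F] [CharP F 2]

local notation "SL2" => Matrix.SpecialLinearGroup (Fin 2) F
local notation "M2" => Matrix (Fin 2) (Fin 2) F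
local notation "PSL2" => Matrix.ProjectiveSpecialLinearGroup (Fin 2) F

/-- The norm form of a torus. -/
def nform (y : SL2) (v : Fin 2 → F) : F := v 0 * ((y : M2) *ᵥ v) 1 + v 1 * ((y : M2) *ᵥ v) 0

omit [Fintype F] in
theorem toPSL_injective : Function.Injective (toPSL (F := F)) := by
  intro a b h
  rcases Cfsg.Agent.Lib.SL2Trace.toPSL_eq.mp h with e | e
  · exact e.symm
  · rw [e]
    refine sl_ext ?_
    rw [Matrix.SpecialLinearGroup.coe_neg]
    ext i j
    rw [Matrix.neg_apply, CharTwo.neg_eq]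

omit [Fintype F] in
theorem nform_ne_zero {y : SL2} (hs : ¬ IsSplit y) {v : Fin 2 → F} (hv : v ≠ 0) : nform y v ≠ 0 := by
  intro h
  apply hs
  have hd := y.2
  rw [Matrix.det_fin_two] at hd
  simp [nform, Matrix.mulVec, dotProduct, Fin.sum_univ_two] at h
  have h2 : (2 : F) = 0 := CharTwo.two_eq_zero
  by_cases h1 : v 1 = 0
  · have h0 : v 0 ≠ 0 := fun e => hv (funext fun i => by fin_cases i <;> assumption)
    have hc : (y : M2) 1 0 = 0 := by
      rw [h1] at h
      simp at h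
      rcases h with h | h
      · exact absurd h h0
      · rcases h with h | h
        · exact h
        · exact absurd h h0
    refine ⟨(y : M2) 0 0, ?_⟩
    rw [tr_eq]
    linear_combination -hd - ((y : M2) 0 1) * hc
  · refine ⟨((y : M2) 1 0 * v 0 + (y : M2) 1 1 * v 1) / v 1, ?_⟩
    rw [tr_eq]
    field_simp
    linear_combination ((y : M2) 1 0) * h + (-(v 1 * v 1)) * hd -
      ((y : M2) 1 0 * v 0 * v 1 * (y : M2) 0 0 + (y : M2) 1 0 * (y : M2) 0 1 * v 1 * v 1) * h2

/-- The torus moves a vector to any other of equal norm. -/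
theorem exists_mem_cell {y : SL2} (hs : ¬ IsSplit y) {v w : Fin 2 → F} (hv : v ≠ 0)
    (h : nform y w = nform y v) : ∃ a ∈ cell (⊤ : Subgroup SL2) y, (a : M2) *ᵥ v = w := by
  have h2 : (2 : F) = 0 := CharTwo.two_eq_zero
  have hN := nform_ne_zero hs hv
  let P : (Fin 2 → F) → M2 := fun v => !![v 0, ((y : M2) *ᵥ v) 0; v 1, ((y : M2) *ᵥ v) 1]
  have hdP : ∀ v, (P v).det = nform y v := fun v => by
    simp only [P, Matrix.det_fin_two_of, nform]
    linear_combination (-(v 1 * ((y : M2) *ᵥ v) 0)) * h2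
  let C : M2 := !![0, -1; 1, tr y]
  have hyP : ∀ v, (y : M2) * P v = P v * C := by
    intro v
    have hd := y.2
    rw [Matrix.det_fin_two] at hd
    ext i j
    fin_cases i <;> fin_cases j <;>
      simp [P, C, Matrix.mul_apply, Fin.sum_univ_two, Matrix.mulVec, dotProduct, tr_eq]
    · linear_combination (-(v 0)) * hd
    · linear_combination (-(v 1)) * hd
  let A : M2 := P w * (P v)⁻¹
  have hu : IsUnit (P v).det := by rw [hdP]; exact hN.isUnit
  have hdA : A.det = 1 := by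
    rw [Matrix.det_mul, Matrix.det_nonsing_inv, hdP, hdP, h, Ring.inverse_eq_inv, mul_inv_cancel₀ hN]
  refine ⟨⟨A, hdA⟩, ⟨mem_centralizer_iff.mpr (sl_ext ?_), Subgroup.mem_top _⟩, ?_⟩
  · show A * (y : M2) = (y : M2) * A
    have e1 : (P v)⁻¹ * (y : M2) = C * (P v)⁻¹ := by
      calc (P v)⁻¹ * (y : M2) = (P v)⁻¹ * ((y : M2) * P v) * (P v)⁻¹ := by
            rw [mul_assoc, mul_assoc, Matrix.mul_nonsing_inv _ hu, mul_one]
        _ = _ := by rw [hyP, ← mul_assoc, Matrix.nonsing_inv_mul _ hu, one_mul]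
    calc A * (y : M2) = P w * (C * (P v)⁻¹) := by rw [← e1]; simp only [A, mul_assoc]
      _ = (y : M2) * A := by simp only [A]; rw [← mul_assoc, ← hyP, mul_assoc]
  · show A *ᵥ v = w
    have e1 : ∀ z, P z *ᵥ ![1, 0] = z := fun z => by
      ext i; fin_cases i <;> simp [P, Matrix.mulVec, dotProduct, Fin.sum_univ_two]
    conv_lhs => rw [← e1 v, Matrix.mulVec_mulVec]
    rw [show A * P v = P w by simp only [A]; rw [mul_assoc, Matrix.nonsing_inv_mul _ hu, mul_one], e1]

theorem exists_factor {y : SL2} (hs : ¬ IsSplit y) (g : SL2) :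
    ∃ a ∈ cell (⊤ : Subgroup SL2) y, ∃ x : F, ∃ c ∈ cell (⊤ : Subgroup SL2) y, g = a * upper x * c := by
  have h2 : (2 : F) = 0 := CharTwo.two_eq_zero
  set e : Fin 2 → F := ![1, 0]
  have he : e ≠ 0 := fun h => one_ne_zero (α := F) (congrFun h 0)
  have sqrtF : ∀ x : F, ∃ r, x = r * r := fun x => FiniteField.isSquare_of_char_two (ringChar.eq F 2) x
  -- a vector whose image has the same norm
  obtain ⟨v, hv, hvg⟩ : ∃ v : Fin 2 → F, v ≠ 0 ∧ nform y ((g : M2) *ᵥ v) = nform y v := by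
    obtain ⟨A', hA'⟩ : ∃ A' : F, A' = nform y ((g : M2) *ᵥ ![1, 0]) - nform y ![1, 0] := ⟨_, rfl⟩
    obtain ⟨B', hB'⟩ : ∃ B' : F, B' = nform y ((g : M2) *ᵥ ![0, 1]) - nform y ![0, 1] := ⟨_, rfl⟩
    obtain ⟨r, hr⟩ := sqrtF A'
    obtain ⟨s, hs'⟩ := sqrtF B'
    have hd := g.2
    rw [Matrix.det_fin_two] at hd
    have key : ∀ a b : F, nform y ((g : M2) *ᵥ ![a, b]) - nform y ![a, b] = a * a * A' + b * b * B' := by
      intro a b
      rw [hA', hB']
      simp [nform, Matrix.mulVec, dotProduct, Fin.sum_univ_two]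
      linear_combination (a * b * ((y : M2) 0 0 + (y : M2) 1 1)) * hd +
        (a * b * ((y : M2) 1 0 * (g : M2) 0 0 * (g : M2) 0 1 + (y : M2) 0 1 * (g : M2) 1 0 * (g : M2) 1 1 +
          ((y : M2) 0 0 + (y : M2) 1 1) * (g : M2) 0 1 * (g : M2) 1 0)) * h2
    by_cases h0 : r = 0 ∧ s = 0
    · refine ⟨e, he, sub_eq_zero.mp ?_⟩
      rw [key, hr, hs', h0.1, h0.2]; ring
    · refine ⟨![s, r], fun h => h0 ⟨congrFun h 1, congrFun h 0⟩, sub_eq_zero.mp ?_⟩
      rw [key, hr, hs']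
      linear_combination (s * s * r * r) * h2
  -- scale
  have hsmul : ∀ (k : F) (w : Fin 2 → F), nform y (k • w) = k * k * nform y w := fun k w => by
    simp only [nform, Matrix.mulVec_smul, Pi.smul_apply, smul_eq_mul]; ring
  obtain ⟨k, hk⟩ := sqrtF (nform y e / nform y v)
  have hkk : nform y (k • v) = nform y e := by
    rw [hsmul, ← hk, div_mul_cancel₀ _ (nform_ne_zero hs hv)]
  have hgk : nform y ((g : M2) *ᵥ (k • v)) = nform y e := by
    rw [Matrix.mulVec_smul, hsmul, hvg, ← hsmul, hkk]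
  have hkv : (g : M2) *ᵥ (k • v) ≠ 0 := fun h => nform_ne_zero hs he (by
    rw [← hgk, h]; simp [nform])
  obtain ⟨a, ha, hae⟩ := exists_mem_cell hs he hkk
  obtain ⟨b, hb, hbe⟩ := exists_mem_cell hs hkv hgk.symm
  obtain ⟨x, hx⟩ := exists_eq_upper_of_fix (g := b * g * a) (c := 1) (one_mul 1) (by
    rw [one_smul, Matrix.SpecialLinearGroup.coe_mul, Matrix.SpecialLinearGroup.coe_mul, ← Matrix.mulVec_mulVec, hae,
      ← Matrix.mulVec_mulVec, hbe])
  refine ⟨b⁻¹, inv_mem hb, x, a⁻¹, inv_mem ha, ?_⟩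
  have hup : b * g * a = upper x := by
    rcases hx with h | h
    · exact h
    · rw [h]; refine sl_ext ?_; simp [CharTwo.neg_eq]
  rw [← hup]; group

theorem exists_aba : ∃ A B : Subgroup PSL2, IsCyclic A ∧ Nat.card A = Fintype.card F + 1 ∧ IsMulCommutative B ∧
    (∀ b ∈ B, b * b = 1) ∧ Nat.card B = Fintype.card F ∧ ∀ g : PSL2, ∃ a ∈ A, ∃ b ∈ B, ∃ c ∈ A, g = a * b * c := by
  obtain ⟨y, hs, ht, hy⟩ := exists_nonsplit (F := F)
  let u : Multiplicative F →* SL2 := MonoidHom.mk' (fun x => upper x.toAdd) fun a b => (upper_mul _ _).symm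
  haveI : IsCyclic (cell (⊤ : Subgroup SL2) y) := torus_isCyclic (⊤ : Subgroup SL2) hy ht
  refine ⟨(cell ⊤ y).map toPSL, (toPSL.comp u).range, ?_, ?_, ?_, ?_, ?_, ?_⟩
  · exact isCyclic_of_surjective _ ((cell (⊤ : Subgroup SL2) y).equivMapOfInjective _ toPSL_injective).surjective
  · rw [← Nat.card_congr ((cell (⊤ : Subgroup SL2) y).equivMapOfInjective _ toPSL_injective).toEquiv,
      card_cell_nonsplit hy ht hs]
  · infer_instance
  · rintro _ ⟨x, rfl⟩
    rw [← map_mul, show x * x = 1 from Multiplicative.toAdd.injective (CharTwo.add_self_eq_zero x.toAdd), map_one]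
  · rw [Nat.card_congr (MonoidHom.ofInjective (f := toPSL.comp u)
      (fun a b h => Multiplicative.toAdd.injective (toPSL_upper_injective h))).toEquiv.symm,
      Nat.card_congr Multiplicative.toAdd, Nat.card_eq_fintype_card]
  · intro g
    obtain ⟨g, rfl⟩ := toPSL_surjective g
    obtain ⟨a, ha, x, c, hc, rfl⟩ := exists_factor hs g
    exact ⟨_, Subgroup.mem_map_of_mem _ ha, _, ⟨Multiplicative.ofAdd x, rfl⟩, _, Subgroup.mem_map_of_mem _ hc,
      by rw [map_mul, map_mul]; rfl⟩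

end Cfsg.Agent.Lib.Geometry.Dickson.EvenABA
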