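import Cfsg.Agent.Lib.Geometry.Dickson.Main
import Cfsg.Agent.Lib.Classical.LinearCard

/-!
Orders of the subgroups in Dickson's list.
-/

set_option autoImplicit false

namespace Cfsg.Agent.Lib.Geometry.Dickson

open Matrix
open scoped Matrix MatrixGroups
open Cfsg.Agent.Lib.SL2Trace (tr toPSL toPSL_surjective toPSL_eq_one mem_center_iff)

variable {F : Type*} [Field F] [Fintype F]

local notation "SL2" => Matrix.SpecialLinearGroup (Fin 2) F
local notation "M2" => Matrix (Fin 2) (Fin 2) F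
local notation "PSL2" => Matrix.ProjectiveSpecialLinearGroup (Fin 2) F

theorem mem_borel_iff (g : SL2) : g ∈ cellNorm ⊤ (upper (1 : F)) ↔ (g : M2) 1 0 = 0 := by
  rw [mem_cellNorm_unipotent_iff ⊤ (Subgroup.mem_top _) (upper_notMem_center one_ne_zero)
    (show (![1, 0] : Fin 2 → F) ≠ 0 from fun h => one_ne_zero (α := F) (congrFun h 0)) (one_mul 1)
    (by rw [tr_upper, mul_one]) (upper_mulVec 1)]
  constructor
  · rintro ⟨-, d, hd⟩
    simpa [Matrix.mulVec, dotProduct, Fin.sum_univ_two] using congrFun hd 1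
  · intro h
    refine ⟨Subgroup.mem_top g, (g : M2) 0 0, ?_⟩
    ext i
    fin_cases i <;> simp [Matrix.mulVec, dotProduct, Fin.sum_univ_two, h]

theorem card_borel : Nat.card (cellNorm ⊤ (upper (1 : F))) = (Fintype.card F - 1) * Fintype.card F := by
  classical
  let e : cellNorm ⊤ (upper (1 : F)) ≃ Fˣ × F :=
    { toFun := fun g => (Units.mk0 ((g.1 : M2) 0 0) (by
        have hd := Cfsg.Agent.Lib.SL2Trace.det_eq g.1
        rw [show (g.1 : M2) 1 0 = 0 from (mem_borel_iff g.1).mp g.2, mul_zero, sub_zero] at hd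
        exact left_ne_zero_of_mul_eq_one hd), (g.1 : M2) 0 1)
      invFun := fun ab => ⟨⟨!![(ab.1 : F), ab.2; 0, ((ab.1 : F))⁻¹], by simp [Matrix.det_fin_two]⟩,
        (mem_borel_iff _).mpr rfl⟩
      left_inv := fun g => by
        have h10 := (mem_borel_iff g.1).mp g.2
        have hd := Cfsg.Agent.Lib.SL2Trace.det_eq g.1
        rw [h10, mul_zero, sub_zero] at hd
        refine Subtype.ext (sl_ext ?_)
        show (!![(g.1 : M2) 0 0, (g.1 : M2) 0 1; 0, ((g.1 : M2) 0 0)⁻¹] : M2) = (g.1 : M2)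
        ext i j
        fin_cases i <;> fin_cases j <;> simp [h10]
        exact inv_eq_of_mul_eq_one_right hd
      right_inv := fun ab => Prod.ext (Units.ext rfl) rfl }
  rw [Nat.card_congr e, Nat.card_prod, Cfsg.Agent.Lib.Classical.natCard_units, Nat.card_eq_fintype_card]

theorem index_borel : (cellNorm ⊤ (upper (1 : F))).index = Fintype.card F + 1 := by
  have h := (cellNorm ⊤ (upper (1 : F))).card_mul_index
  rw [card_borel, Cfsg.Agent.Lib.Classical.card_SL2] at h
  have hq : 2 ≤ Fintype.card F := Fintype.one_lt_card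
  obtain ⟨j, hj⟩ : ∃ j, Fintype.card F = j + 2 := ⟨Fintype.card F - 2, by omega⟩
  rw [hj] at h ⊢
  rw [show (j + 2) ^ 2 - 1 = (j + 1) * (j + 3) by
    have : (j + 2) ^ 2 = (j + 1) * (j + 3) + 1 := by ring
    omega, show j + 2 - 1 = j + 1 from rfl,
    show (j + 2) * ((j + 1) * (j + 3)) = (j + 1) * (j + 2) * (j + 3) by ring] at h
  exact Nat.eq_of_mul_eq_mul_left (Nat.mul_pos (by omega) (by omega)) h

variable (p : ℕ) [Fact p.Prime] [CharP F p]

/-- The normaliser of a Sylow `p`-subgroup has index `q + 1`. -/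
theorem index_normalizer_sylow (P : Sylow p PSL2) :
    (Subgroup.normalizer ((P : Subgroup PSL2) : Set PSL2)).index = Fintype.card F + 1 := by
  have hZ := upper_notMem_center (one_ne_zero (α := F))
  have ht : tr (upper (1 : F)) ^ 2 = 4 := by rw [tr_upper]; norm_num
  obtain ⟨S, hS⟩ := exists_sylow_cell p hZ ht
  refine P.card_eq_index_normalizer.symm.trans ?_
  rw [S.card_eq_index_normalizer, ← index_borel (F := F),
    ← Subgroup.index_comap_of_surjective _ (toPSL_surjective (F := F))]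
  congr 1
  ext g
  rw [Subgroup.mem_comap, show (S : Set PSL2) = ((S : Subgroup PSL2) : Set PSL2) from rfl, hS]
  constructor
  · intro h
    rw [mem_cellNorm_unipotent_iff ⊤ (Subgroup.mem_top _) hZ
      (show (![1, 0] : Fin 2 → F) ≠ 0 from fun h => one_ne_zero (α := F) (congrFun h 0)) (one_mul 1)
      (by rw [tr_upper, mul_one]) (upper_mulVec 1)]
    refine ⟨Subgroup.mem_top g, fix_line_of_conj_mem hZ
      (show (![1, 0] : Fin 2 → F) ≠ 0 from fun h => one_ne_zero (α := F) (congrFun h 0)) (one_mul 1)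
      (by rw [tr_upper, mul_one]) (upper_mulVec 1) ?_⟩
    have hm : toPSL (g * upper 1 * g⁻¹) ∈ (cell ⊤ (upper (1 : F))).map toPSL := by
      rw [map_mul, map_mul, map_inv]
      exact (Subgroup.mem_normalizer_iff.mp h _).mp ⟨_, mem_cell_self ⊤ (Subgroup.mem_top _), rfl⟩
    obtain ⟨x, hx, hxe⟩ := hm
    rcases Cfsg.Agent.Lib.SL2Trace.toPSL_eq.mp hxe with e | e
    · rw [e]; exact hx.1
    · rw [e, neg_eq_neg_one_mul]
      exact Subgroup.mul_mem _ (center_le_centralizer _ (mem_center_iff.mpr (Or.inr rfl))) hx.1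
  · intro h
    exact Subgroup.le_normalizer_map (f := (toPSL : SL2 →* _)) ⟨g, h.1, rfl⟩

include p in
theorem exists_index_eq : ∃ H : Subgroup PSL2, H.index = Fintype.card F + 1 := by
  obtain ⟨S⟩ : Nonempty (Sylow p PSL2) := inferInstance
  exact ⟨_, index_normalizer_sylow p S⟩

/-- The order of `PSL₂`. -/
theorem card_PSL2 : Nat.gcd 2 (Fintype.card F - 1) * Nat.card PSL2 =
    Fintype.card F * ((Fintype.card F - 1) * (Fintype.card F + 1)) := by
  rw [Cfsg.Agent.Lib.Classical.card_PSL2_mul]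
  congr 1
  have := Nat.sq_sub_sq (Fintype.card F) 1
  rw [one_pow] at this
  rw [this, mul_comm]

/-- A proper subfield has order at most the square root. -/
theorem sq_le_of_subfield (K : Subfield F) (hK : K ≠ ⊤) : Nat.card K ^ 2 ≤ Fintype.card F := by
  classical
  haveI := Fintype.ofFinite K
  have h : Fintype.card F = Fintype.card K ^ Module.finrank K F := Module.card_eq_pow_finrank
  rw [Nat.card_eq_fintype_card]
  by_cases h2 : 2 ≤ Module.finrank K F
  · rw [h]; exact Nat.pow_le_pow_right Fintype.card_pos h2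
  · exfalso
    have h1 : Module.finrank K F = 1 := by
      have := Module.finrank_pos (R := K) (M := F)
      omega
    rw [h1, pow_one] at h
    have hb : Function.Bijective (fun x : K => (x : F)) :=
      (Fintype.bijective_iff_injective_and_card _).mpr ⟨Subtype.val_injective, h.symm⟩
    refine hK (eq_top_iff.mpr fun x _ => ?_)
    obtain ⟨y, rfl⟩ := hb.2 x
    exact y.2

/-- The orders of `PSL₂` and `PGL₂` of a subfield are at most `r (r - 1) (r + 1)`. -/
theorem card_le_of_subfield {H : Subgroup PSL2} (K : Subfield F)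
    (h : Nonempty (H ≃* Matrix.ProjectiveSpecialLinearGroup (Fin 2) K) ∨
      Nonempty (H ≃* Matrix.ProjGenLinGroup (Fin 2) K)) :
    Nat.card H ≤ Nat.card K * (Nat.card K ^ 2 - 1) := by
  classical
  haveI := Fintype.ofFinite K
  rw [Nat.card_eq_fintype_card (α := K), ← Cfsg.Agent.Lib.Classical.card_SL2]
  rcases h with ⟨⟨e⟩⟩ | ⟨⟨e⟩⟩ <;> rw [Nat.card_congr e.toEquiv]
  · exact Nat.card_le_card_of_surjective _ (toPSL_surjective (F := K))
  · exact (Cfsg.Agent.Lib.Classical.card_PGL (F := K) (n := Fin 2)).le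

/-- `PSL₂` or `PGL₂` of the whole field fills the group. -/
theorem eq_top_of_subfield_top {H : Subgroup PSL2} (K : Subfield F) (hK : K = ⊤)
    (h : Nonempty (H ≃* Matrix.ProjectiveSpecialLinearGroup (Fin 2) K) ∨
      Nonempty (H ≃* Matrix.ProjGenLinGroup (Fin 2) K)) : H = ⊤ := by
  classical
  subst hK
  haveI := Fintype.ofFinite (⊤ : Subfield F)
  have hcard : Fintype.card (⊤ : Subfield F) = Fintype.card F :=
    Fintype.card_congr (Subfield.topEquiv (K := F)).toEquiv
  refine Subgroup.eq_top_of_le_card H ?_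
  rcases h with ⟨⟨e⟩⟩ | ⟨⟨e⟩⟩ <;> rw [Nat.card_congr e.toEquiv]
  · exact (Nat.card_congr (Cfsg.Agent.Lib.Classical.pslCongr (n := Fin 2)
      (Subfield.topEquiv (K := F))).toEquiv).ge
  · rw [Cfsg.Agent.Lib.Classical.card_PGL, Cfsg.Agent.Lib.Classical.card_SL2, hcard,
      ← Cfsg.Agent.Lib.Classical.card_SL2]
    exact Nat.card_le_card_of_surjective _ (toPSL_surjective (F := F))

include p in
/-- Proper subgroups have index at least `q + 1`, apart from the small exceptions. -/
theorem card_le_borel (hq : Fintype.card F ∉ ({2, 3, 5, 7, 9, 11} : Finset ℕ)) {H : Subgroup PSL2}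
    (hH : H ≠ ⊤) :
    Nat.gcd 2 (Fintype.card F - 1) * Nat.card H ≤ Fintype.card F * (Fintype.card F - 1) := by
  classical
  set q := Fintype.card F with hqdef
  set d := Nat.gcd 2 (q - 1)
  simp only [Finset.mem_insert, Finset.mem_singleton, not_or] at hq
  have hq2 : 2 ≤ q := Fintype.one_lt_card
  have hd : d = 1 ∨ d = 2 := by
    have := Nat.le_of_dvd two_pos (Nat.gcd_dvd_left 2 (q - 1))
    have : 0 < d := Nat.gcd_pos_of_pos_left _ two_pos
    omega
  have hG : d * Nat.card PSL2 = q * ((q - 1) * (q + 1)) := card_PSL2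
  have hq4 : 4 ≤ q := by omega
  have hbig : 4 * (q - 1) ≤ q * (q - 1) := Nat.mul_le_mul_right _ hq4
  have hk : ∀ k, (k ∣ (q + 1) / d ∨ k ∣ (q - 1) / d) → d * k ≤ q + 1 := by
    intro k hk
    have h1 : 0 < (q + 1) / d ∧ 0 < (q - 1) / d := by
      constructor <;> refine Nat.div_pos ?_ (by omega) <;> omega
    have hdm := Nat.div_mul_le_self (q + 1) d
    have hdm' := Nat.div_mul_le_self (q - 1) d
    rcases hk with hk | hk
    · exact (Nat.mul_le_mul_left d (Nat.le_of_dvd h1.1 hk)).trans (by rw [mul_comm]; exact hdm)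
    · exact (Nat.mul_le_mul_left d (Nat.le_of_dvd h1.2 hk)).trans (by rw [mul_comm]; omega)
  have hlt : Nat.card H < Nat.card PSL2 := by
    by_contra hle
    exact hH (Subgroup.eq_top_of_le_card H (by omega))
  have hdpar : (q % 2 = 1 → d = 2) ∧ (q % 2 = 0 → d = 1) := by
    constructor
    · intro h
      exact Nat.gcd_eq_left (Nat.dvd_iff_mod_eq_zero.mpr (by omega))
    · intro h
      rcases hd with h' | h'
      · exact h'
      · have h2 : 2 ∣ q - 1 := h' ▸ Nat.gcd_dvd_right 2 (q - 1)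
        omega
  have hsmall : Nat.card H = 12 ∨ Nat.card H = 24 ∨ Nat.card H = 60 → d * Nat.card H ≤ q * (q - 1) := by
    intro hc
    obtain ⟨j, hj⟩ := H.card_subgroup_dvd_card
    rcases Nat.lt_or_ge q 13 with h13 | h13
    · generalize Nat.card PSL2 = n at hG hlt hj
      generalize Nat.card H = c at hc hlt hj ⊢
      have hcases : q = 4 ∨ q = 6 ∨ q = 8 ∨ q = 10 ∨ q = 12 := by omega
      rcases hd with e | e <;> rw [e] at hG hdpar ⊢ <;>
      rcases hcases with h | h | h | h | h <;> rw [h] at hG hdpar ⊢ <;>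
      rcases hc with rfl | rfl | rfl <;> omega
    · have h2 : d * Nat.card H ≤ 2 * 60 := Nat.mul_le_mul (by omega) (by omega)
      have : 13 * 12 ≤ q * (q - 1) := Nat.mul_le_mul h13 (by omega)
      omega
  rcases subType p H with ⟨k, hkd, -, h⟩ | ⟨k, hkd, ⟨e⟩⟩ | ⟨S, h⟩ | ⟨⟨e⟩⟩ | ⟨⟨e⟩⟩ | ⟨⟨e⟩⟩ | ⟨K, hK⟩
  · rw [h]
    have := hk k hkd
    omega
  · rw [Nat.card_congr e.toEquiv, DihedralGroup.nat_card]
    have := hk k hkd
    rw [mul_left_comm]
    omega
  · have hN := index_normalizer_sylow p S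
    have hc := (Subgroup.normalizer ((S : Subgroup PSL2) : Set PSL2)).card_mul_index
    rw [hN, ← hqdef] at hc
    have h1 : d * Nat.card (Subgroup.normalizer ((S : Subgroup PSL2) : Set PSL2)) = q * (q - 1) := by
      refine Nat.eq_of_mul_eq_mul_right (show 0 < q + 1 by omega) ?_
      rw [mul_assoc, hc, hG]
      ring
    rw [← h1]
    exact Nat.mul_le_mul_left d (Nat.card_le_card_of_injective _ (Subgroup.inclusion_injective h))
  · exact hsmall (Or.inl (by rw [Nat.card_congr e.toEquiv, Nat.card_eq_fintype_card]; decide))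
  · exact hsmall (Or.inr (Or.inl (by rw [Nat.card_congr e.toEquiv, Nat.card_eq_fintype_card, Fintype.card_perm]; decide)))
  · exact hsmall (Or.inr (Or.inr (by rw [Nat.card_congr e.toEquiv, Nat.card_eq_fintype_card]; decide)))
  · by_cases hKt : K = ⊤
    · exact absurd (eq_top_of_subfield_top K hKt hK) hH
    have h1 := sq_le_of_subfield K hKt
    rw [← hqdef] at h1
    have h2 := card_le_of_subfield K hK
    set r := Nat.card K with hr
    have hr2 : 2 ≤ r := by
      haveI : Nontrivial K := inferInstance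
      exact Finite.one_lt_card
    have h3 : r * (r ^ 2 - 1) * 2 ≤ r ^ 2 * (r ^ 2 - 1) := by
      rw [show r * (r ^ 2 - 1) * 2 = (2 * r) * (r ^ 2 - 1) by ring]
      exact Nat.mul_le_mul_right _ (by rw [sq]; exact Nat.mul_le_mul_right r hr2)
    have h4 : r ^ 2 * (r ^ 2 - 1) ≤ q * (q - 1) := Nat.mul_le_mul h1 (Nat.sub_le_sub_right h1 1)
    calc d * Nat.card H ≤ 2 * (r * (r ^ 2 - 1)) := Nat.mul_le_mul (by omega) h2
      _ ≤ q * (q - 1) := by rw [mul_comm]; exact h3.trans h4

end Cfsg.Agent.Lib.Geometry.Dickson
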