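import Cfsg.Agent.Lib.Geometry.Dickson.FourGroups
import Cfsg.Agent.Lib.Geometry.Dickson.MaxExist
import Cfsg.Prelude.Def_OddOrderLocal

/-!
Hall `{2,3}`-subgroups of `PSL₂(q)`.
-/

set_option autoImplicit false

namespace Cfsg.Agent.Lib.Geometry.Dickson.HallTwoThree

open Matrix
open scoped MatrixGroups
open Cfsg.Agent.Lib.SL2Trace (toPSL toPSL_surjective tr)

/-- The `{2,3}`-part. -/
def part (m : ℕ) : ℕ := 2 ^ m.factorization 2 * 3 ^ m.factorization 3

theorem part_dvd (m : ℕ) : part m ∣ m :=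
  (Nat.Coprime.pow _ _ (by norm_num : Nat.Coprime 2 3)).mul_dvd_of_dvd_of_dvd
    (Nat.ordProj_dvd m 2) (Nat.ordProj_dvd m 3)

theorem part_pos (m : ℕ) : 0 < part m := by unfold part; positivity

theorem fact_part_two (m : ℕ) : (part m).factorization 2 = m.factorization 2 := by
  rw [part, Nat.factorization_mul (by positivity) (by positivity), Finsupp.add_apply,
    Nat.Prime.factorization_pow Nat.prime_two, Nat.Prime.factorization_pow Nat.prime_three,
    Finsupp.single_eq_same, Finsupp.single_eq_of_ne (by norm_num), add_zero]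

theorem fact_part_three (m : ℕ) : (part m).factorization 3 = m.factorization 3 := by
  rw [part, Nat.factorization_mul (by positivity) (by positivity), Finsupp.add_apply,
    Nat.Prime.factorization_pow Nat.prime_two, Nat.Prime.factorization_pow Nat.prime_three,
    Finsupp.single_eq_same, Finsupp.single_eq_of_ne (by norm_num), zero_add]

theorem prime_dvd_part {m r : ℕ} (hr : r.Prime) (h : r ∣ part m) : r = 2 ∨ r = 3 := by
  rcases hr.dvd_mul.mp h with h | h
  · exact Or.inl ((Nat.prime_dvd_prime_iff_eq hr Nat.prime_two).mp (hr.dvd_of_dvd_pow h))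
  · exact Or.inr ((Nat.prime_dvd_prime_iff_eq hr Nat.prime_three).mp (hr.dvd_of_dvd_pow h))

theorem hall_iff {G : Type*} [Group G] [Finite G] (H : Subgroup G) :
    Cfsg.IsPiHall ({2, 3} : Set ℕ) H ↔ Nat.card H = part (Nat.card G) := by
  have hm := H.card_mul_index
  have hH : Nat.card H ≠ 0 := Nat.card_pos.ne'
  have hi : H.index ≠ 0 := Subgroup.index_ne_zero_of_finite
  have hf : ∀ r, (Nat.card G).factorization r = (Nat.card H).factorization r + H.index.factorization r := fun r => by
    rw [← hm, Nat.factorization_mul hH hi, Finsupp.add_apply]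
  constructor
  · rintro ⟨h1, h2⟩
    refine Nat.eq_of_factorization_eq hH (part_pos _).ne' fun r => ?_
    by_cases hr2 : r = 2
    · subst hr2
      rw [fact_part_two, hf, Nat.factorization_eq_zero_of_not_dvd (h2 2 Nat.prime_two (by simp)), add_zero]
    by_cases hr3 : r = 3
    · subst hr3
      rw [fact_part_three, hf, Nat.factorization_eq_zero_of_not_dvd (h2 3 Nat.prime_three (by simp)), add_zero]
    by_cases hr : r.Prime
    · rw [Nat.factorization_eq_zero_of_not_dvd fun h => ?_, Nat.factorization_eq_zero_of_not_dvd fun h => ?_]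
      · rcases prime_dvd_part hr h with e | e
        · exact hr2 e
        · exact hr3 e
      · rcases h1 r hr h with e | e
        · exact hr2 e
        · exact hr3 e
    · rw [Nat.factorization_eq_zero_of_not_prime _ hr, Nat.factorization_eq_zero_of_not_prime _ hr]
  · intro h
    refine ⟨fun r hr hd => ?_, fun r hr hmem hd => ?_⟩
    · rw [h] at hd
      rcases prime_dvd_part hr hd with rfl | rfl <;> simp
    · have hp := hr.factorization_pos_of_dvd hi hd
      have hfr := hf r
      rw [h] at hfr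
      rcases hmem with rfl | hmem
      · rw [fact_part_two] at hfr; omega
      · obtain rfl : r = 3 := hmem
        rw [fact_part_three] at hfr; omega

/-- The dihedral group of degree `a` inside that of degree `a * j`. -/
theorem exists_dihedral_sub (a j : ℕ) [NeZero a] [NeZero j] :
    ∃ f : DihedralGroup a →* DihedralGroup (a * j), Function.Injective f := by
  have h0 : (Int.castAddHom (ZMod (a * j))).comp (AddMonoidHom.mulLeft (j : ℤ)) (a : ℤ) = 0 := by
    show (((j : ℤ) * (a : ℤ) : ℤ) : ZMod (a * j)) = 0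
    rw [ZMod.intCast_zmod_eq_zero_iff_dvd]
    exact ⟨1, by push_cast; ring⟩
  let φ : ZMod a →+ ZMod (a * j) := ZMod.lift a ⟨_, h0⟩
  have hφ : Function.Injective φ := by
    rw [ZMod.lift_injective]
    intro x hx
    have hx' : ((((j : ℤ) * x : ℤ)) : ZMod (a * j)) = 0 := hx
    rw [ZMod.intCast_zmod_eq_zero_iff_dvd, Nat.cast_mul, mul_comm (a : ℤ)] at hx'
    rw [ZMod.intCast_zmod_eq_zero_iff_dvd]
    exact (mul_dvd_mul_iff_left (Int.natCast_ne_zero.mpr (NeZero.ne j))).mp hx'
  let g : DihedralGroup a → DihedralGroup (a * j) := fun z => match z with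
    | .r i => .r (φ i)
    | .sr i => .sr (φ i)
  refine ⟨MonoidHom.mk' g ?_, ?_⟩
  · rintro (x | x) (y | y) <;> simp [g]
  · rintro (x | x) (y | y) h <;>
      simp [g] at h ⊢ <;> exact hφ h

variable {F : Type*} [Field F] [Fintype F] {p : ℕ} [Fact p.Prime] [CharP F p]

local notation "SL2" => Matrix.SpecialLinearGroup (Fin 2) F
local notation "PSL2" => Matrix.ProjectiveSpecialLinearGroup (Fin 2) F

theorem char_dvd (hp : 5 ≤ p) {H : Subgroup PSL2} (K : Subfield F)
    (h : Nonempty (H ≃* Matrix.ProjectiveSpecialLinearGroup (Fin 2) K) ∨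
      Nonempty (H ≃* Matrix.ProjGenLinGroup (Fin 2) K)) : p ∣ Nat.card H := by
  classical
  haveI := Fintype.ofFinite K
  haveI : CharP K p := K.subtype.charP K.subtype.injective p
  obtain ⟨n, -, hn⟩ := FiniteField.card K p
  have hpc : p ∣ Fintype.card K * (Fintype.card K ^ 2 - 1) :=
    Dvd.dvd.mul_right (hn ▸ dvd_pow_self p n.ne_zero) _
  rcases h with ⟨⟨e⟩⟩ | ⟨⟨e⟩⟩ <;> rw [Nat.card_congr e.toEquiv]
  · rw [← Cfsg.Agent.Lib.Classical.card_PSL2_mul] at hpc
    rcases (Fact.out : p.Prime).dvd_mul.mp hpc with h | h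
    · have := Nat.le_of_dvd (Nat.gcd_pos_of_pos_left _ two_pos) h
      have := Nat.le_of_dvd two_pos (Nat.gcd_dvd_left 2 (Fintype.card K - 1))
      omega
    · exact h
  · rwa [Cfsg.Agent.Lib.Classical.card_PGL, Cfsg.Agent.Lib.Classical.card_SL2]

include p in
theorem main (hp : 5 ≤ p) (q : ℕ) (hq : Fintype.card F = q) :
    (∃ H : Subgroup PSL2, Cfsg.IsPiHall ({2, 3} : Set ℕ) H) ↔
      (3 ∣ q - 1 ∧ q % 4 = 1) ∨ (3 ∣ q + 1 ∧ q % 4 = 3) ∨
        2 ^ (q ^ 2 - 1).factorization 2 * 3 ^ (q ^ 2 - 1).factorization 3 = 24 ∨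
        2 ^ (q ^ 2 - 1).factorization 2 * 3 ^ (q ^ 2 - 1).factorization 3 = 48 := by
  classical
  obtain ⟨e₀, -, he₀⟩ := FiniteField.card F p
  rw [hq] at he₀
  have hpr : p.Prime := Fact.out
  have h2F : (2 : F) ≠ 0 := by
    intro h
    have := (CharP.cast_eq_zero_iff F p 2).mp (by exact_mod_cast h)
    have := Nat.le_of_dvd two_pos this
    omega
  have hq2 : ¬ 2 ∣ q := fun h => by
    have := (Nat.prime_dvd_prime_iff_eq Nat.prime_two hpr).mp (Nat.prime_two.dvd_of_dvd_pow (he₀ ▸ h))
    omega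
  have hq3 : ¬ 3 ∣ q := fun h => by
    have := (Nat.prime_dvd_prime_iff_eq Nat.prime_three hpr).mp (Nat.prime_three.dvd_of_dvd_pow (he₀ ▸ h))
    omega
  have hodd : Fintype.card F % 2 = 1 := by rw [hq]; omega
  have hq5 : 5 ≤ q := he₀ ▸ hp.trans (Nat.le_self_pow e₀.ne_zero p)
  haveI : Finite PSL2 := Nat.finite_of_card_ne_zero fun h => by
    have := card_PSL2_odd (F := F) hodd
    rw [h, hq, mul_zero] at this
    have h1 : 0 < q ^ 2 - 1 := by
      have : 2 ≤ q ^ 2 := le_trans (by omega) (Nat.le_self_pow two_ne_zero q)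
      omega
    have := Nat.mul_pos (show 0 < q by omega) h1
    omega
  set N := Nat.card PSL2 with hNdef
  have hN : 2 * N = q * (q ^ 2 - 1) := hq ▸ card_PSL2_odd (F := F) hodd
  set T := q ^ 2 - 1 with hT
  have hN0 : N ≠ 0 := Nat.card_pos.ne'
  have hT0 : T ≠ 0 := fun h => by rw [h, mul_zero] at hN; omega
  have hfac : ∀ r, (2 * N).factorization r = q.factorization r + T.factorization r := fun r => by
    rw [hN, Nat.factorization_mul (by omega) hT0, Finsupp.add_apply]
  have hTn : 2 ^ T.factorization 2 * 3 ^ T.factorization 3 = 2 * part N := by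
    have h2 := hfac 2
    have h3 := hfac 3
    rw [Nat.factorization_mul (by norm_num) hN0, Finsupp.add_apply, Nat.Prime.factorization_self Nat.prime_two,
      Nat.factorization_eq_zero_of_not_dvd hq2, zero_add] at h2
    rw [Nat.factorization_mul (by norm_num) hN0, Finsupp.add_apply,
      Nat.factorization_eq_zero_of_not_dvd (n := 2) (by norm_num), Nat.factorization_eq_zero_of_not_dvd hq3,
      zero_add, zero_add] at h3
    rw [part, ← h2, ← h3, pow_add, pow_one, mul_assoc]
  rw [hTn]
  set n := part N with hn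
  have hd2 : Nat.gcd 2 (q - 1) = 2 := Nat.gcd_eq_left (Nat.dvd_iff_mod_eq_zero.mpr (by omega))
  have hqq : T = (q - 1) * (q + 1) := by rw [hT, mul_comm, ← Nat.sq_sub_sq, one_pow]
  have h3T : 3 ∣ T := by
    rw [hqq]
    have : 3 ∣ q - 1 ∨ 3 ∣ q + 1 := by
      have := hq3
      rcases (show q % 3 = 1 ∨ q % 3 = 2 by omega) with h | h
      · exact Or.inl (Nat.dvd_of_mod_eq_zero (by omega))
      · exact Or.inr (Nat.dvd_of_mod_eq_zero (by omega))
    rcases this with h | h
    · exact h.mul_right _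
    · exact h.mul_left _
  have h3n : 3 ∣ n := by
    have h : 3 ∣ N := (Nat.Coprime.dvd_of_dvd_mul_left (by norm_num : Nat.Coprime 3 2)) (hN ▸ h3T.mul_left q)
    exact Dvd.dvd.mul_left (dvd_pow_self 3 (Nat.Prime.factorization_pos_of_dvd Nat.prime_three hN0 h).ne') _
  obtain ⟨x, hx⟩ : ∃ x : PSL2, orderOf x = 2 := by
    refine exists_prime_orderOf_dvd_card' 2 ?_
    have h : 4 ∣ T := by
      rw [hqq]
      exact Nat.mul_dvd_mul (show 2 ∣ q - 1 by omega) (show 2 ∣ q + 1 by omega)
    have h' : 2 * 2 ∣ 2 * N := hN ▸ h.mul_left q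
    exact (Nat.mul_dvd_mul_iff_left two_pos).mp h'
  obtain ⟨m, hm2, hm0, hm, -, ⟨eC⟩⟩ := invol_data (F := F) hodd hx
  rw [hq] at hm
  have hCc : Nat.card (Subgroup.centralizer ({x} : Set PSL2)) = 2 * m := by
    rw [Nat.card_congr eC.toEquiv, DihedralGroup.nat_card]
  have h4n : 4 ∣ n := by
    have h4 : 2 ^ 2 ∣ N := (show 2 ^ 2 ∣ 2 * m by omega).trans (hCc ▸ Subgroup.card_subgroup_dvd_card _)
    refine Dvd.dvd.mul_right ?_ _
    exact pow_dvd_pow 2 ((Nat.prime_two.pow_dvd_iff_le_factorization hN0).mp h4)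
  constructor
  · rintro ⟨H, hH⟩
    rw [hall_iff, ← hNdef, ← hn] at hH
    rcases subType p H with ⟨k, hk, hc, hcard⟩ | ⟨k, hk, ⟨e⟩⟩ | ⟨S, hS⟩ | ⟨⟨e⟩⟩ | ⟨⟨e⟩⟩ | ⟨⟨e⟩⟩ | ⟨K, hK⟩
    · rw [hq, hd2] at hk
      rw [hcard] at hH
      have h2k : 2 ∣ k := hH ▸ (show 2 ∣ n by omega)
      have h3k : 3 ∣ k := hH ▸ h3n
      rcases hk with hk | hk <;> have a := h2k.trans hk <;> have b := h3k.trans hk <;> omega
    · rw [hq, hd2] at hk
      rw [Nat.card_congr e.toEquiv, DihedralGroup.nat_card] at hH
      have h2k : 2 ∣ k := by omega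
      have h3k : 3 ∣ k := by omega
      rcases hk with hk | hk <;> have a := h2k.trans hk <;> have b := h3k.trans hk <;> omega
    · have h := (Subgroup.normalizer ((S : Subgroup PSL2) : Set PSL2)).card_mul_index
      rw [index_normalizer_sylow p S, hq, ← hNdef] at h
      set c := Nat.card (Subgroup.normalizer ((S : Subgroup PSL2) : Set PSL2))
      have h' : n ∣ c := hH ▸ Subgroup.card_dvd_of_le hS
      have e : 2 * c = q * (q - 1) := by
        refine Nat.eq_of_mul_eq_mul_right (show 0 < q + 1 by omega) ?_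
        rw [mul_assoc 2 c, h, hN, hqq, mul_assoc]
      have h24 : 8 ∣ q * (q - 1) ∧ 3 ∣ q * (q - 1) := by
        rw [← e]
        exact ⟨Nat.mul_dvd_mul_left 2 (h4n.trans h'), (h3n.trans h').mul_left 2⟩
      have a : 8 ∣ q - 1 := ((Nat.Prime.coprime_iff_not_dvd Nat.prime_two).mpr hq2).pow_left 3 |>.dvd_of_dvd_mul_left h24.1
      have b : 3 ∣ q - 1 := ((Nat.Prime.coprime_iff_not_dvd Nat.prime_three).mpr hq3).dvd_of_dvd_mul_left h24.2
      omega
    · rw [Nat.card_congr e.toEquiv, card_alt4] at hH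
      omega
    · rw [Nat.card_congr e.toEquiv, card_sym4] at hH
      omega
    · rw [Nat.card_congr e.toEquiv, card_alt5] at hH
      rcases prime_dvd_part (m := N) Nat.prime_five (hn ▸ hH ▸ (by norm_num)) with h | h <;> omega
    · rcases prime_dvd_part (m := N) hpr (hn ▸ hH ▸ char_dvd hp K hK) with h | h <;> omega
  · intro hcase
    suffices ∃ H : Subgroup PSL2, Nat.card H = n by
      obtain ⟨H, hH⟩ := this
      exact ⟨H, (hall_iff H).mpr hH⟩
    have tor : 3 ∣ m → ∃ H : Subgroup PSL2, Nat.card H = n := by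
      intro h3m
      -- the `{2,3}`-part of `2 * m` is the whole of `n`
      obtain ⟨u, hu⟩ : ∃ u, 2 * N = 2 * m * u ∧ ¬ 3 ∣ u ∧ u % 4 = 2 := by
        rcases hm with e | e
        · refine ⟨q * (q + 1), ?_, ?_, ?_⟩
          · rw [hN, hqq, show q - 1 = 2 * m by omega]; ring
          · intro h
            rcases Nat.prime_three.dvd_mul.mp h with h | h
            · exact hq3 h
            · omega
          · rw [Nat.mul_mod]
            rcases (show q % 4 = 1 by omega) with h
            rw [h, show (q + 1) % 4 = 2 by omega]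
        · refine ⟨q * (q - 1), ?_, ?_, ?_⟩
          · rw [hN, hqq, show q + 1 = 2 * m by omega]; ring
          · intro h
            rcases Nat.prime_three.dvd_mul.mp h with h | h
            · exact hq3 h
            · omega
          · rw [Nat.mul_mod, show q % 4 = 3 by omega, show (q - 1) % 4 = 2 by omega]
      obtain ⟨hu1, hu3, hu4⟩ := hu
      obtain ⟨u', rfl⟩ : 2 ∣ u := by omega
      have hNm : N = 2 * m * u' := by
        have : 2 * N = 2 * (2 * m * u') := by rw [hu1]; ring
        omega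
      have hu0 : u' ≠ 0 := by omega
      have hpart : ∀ r, r = 2 ∨ r = 3 → N.factorization r = (2 * m).factorization r := fun r hr => by
        rw [hNm, Nat.factorization_mul (by omega) hu0, Finsupp.add_apply,
          Nat.factorization_eq_zero_of_not_dvd (show ¬ r ∣ u' by rcases hr with rfl | rfl <;> omega), add_zero]
      have hnm : n = part (2 * m) := by rw [hn, part, part, hpart 2 (Or.inl rfl), hpart 3 (Or.inr rfl)]
      have hdm : n ∣ 2 * m := hnm ▸ part_dvd _
      obtain ⟨a, ha⟩ : 2 ∣ n := by omega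
      rw [ha] at hdm
      obtain ⟨j, rfl⟩ := (Nat.mul_dvd_mul_iff_left two_pos).mp hdm
      haveI : NeZero a := ⟨fun h => hm0 (by rw [h, zero_mul])⟩
      haveI : NeZero j := ⟨fun h => hm0 (by rw [h, mul_zero])⟩
      obtain ⟨f, hf⟩ := exists_dihedral_sub a j
      let g := (Subgroup.centralizer ({x} : Set PSL2)).subtype.comp (eC.symm.toMonoidHom.comp f)
      have hg : Function.Injective g := (Subgroup.subtype_injective _).comp (eC.symm.injective.comp hf)
      refine ⟨g.range, ?_⟩
      rw [← Nat.card_congr (MonoidHom.ofInjective hg).toEquiv, DihedralGroup.nat_card, ha]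
    rcases hcase with ⟨h3, h4⟩ | ⟨h3, h4⟩ | h | h
    · exact tor (by omega)
    · exact tor (by omega)
    · obtain ⟨H, ⟨e⟩⟩ := exists_altFour (F := F) h2F
      exact ⟨H, by rw [Nat.card_congr e.toEquiv, card_alt4]; omega⟩
    · have h8 : q % 8 = 1 ∨ q % 8 = 7 := by
        have h16 : 16 ∣ T := by
          have := h ▸ hTn
          exact (Dvd.intro 3 rfl : (16 : ℕ) ∣ 48) |>.trans (this ▸ part_dvd T)
        rw [hqq] at h16
        obtain ⟨a, ha⟩ : ∃ a, q = 2 * a + 1 := ⟨q / 2, by omega⟩
        subst ha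
        rw [show 2 * a + 1 - 1 = 2 * a by omega] at h16
        have h16' : 4 * 4 ∣ 4 * (a * (a + 1)) := by
          have : 4 * (a * (a + 1)) = 2 * a * (2 * a + 1 + 1) := by ring
          rwa [this]
        have h4a := (Nat.mul_dvd_mul_iff_left (by norm_num : 0 < 4)).mp h16'
        have hcases : a % 4 = 0 ∨ a % 4 = 3 := by
          have := Nat.mod_eq_zero_of_dvd h4a
          rw [Nat.mul_mod, Nat.add_mod] at this
          have := Nat.mod_lt a (show 0 < 4 by norm_num)
          interval_cases hmod : a % 4 <;> simp_all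
        omega
      obtain ⟨H, ⟨e⟩⟩ := exists_symFour (F := F) h2F (FiniteField.isSquare_two_iff.mpr (by rw [hq]; omega))
      exact ⟨H, by rw [Nat.card_congr e.toEquiv, card_sym4]; omega⟩

end Cfsg.Agent.Lib.Geometry.Dickson.HallTwoThree
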