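import Cfsg.Agent.Lib.Geometry.Dickson.FourGroups

/-!
The odd product graph on the involutions of `PSL₂(q)`.
-/

set_option autoImplicit false

namespace Cfsg.Agent.Lib.Geometry.Dickson.InvolGraph

open Matrix
open scoped MatrixGroups
open Cfsg.Agent.Lib.SL2Trace (toPSL toPSL_surjective toPSL_eq_one mem_center_iff tr)

variable {F : Type*} [Field F] [Fintype F]

local notation "SL2" => Matrix.SpecialLinearGroup (Fin 2) F
local notation "M2" => Matrix (Fin 2) (Fin 2) F
local notation "PSL2" => Matrix.ProjectiveSpecialLinearGroup (Fin 2) F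

theorem tr_eq (A : SL2) : tr A = (A : M2) 0 0 + (A : M2) 1 1 := Matrix.trace_fin_two (A : M2)

theorem tr_mul (A B : SL2) : tr (A * B) = (A : M2) 0 0 * (B : M2) 0 0 + (A : M2) 0 1 * (B : M2) 1 0 +
    ((A : M2) 1 0 * (B : M2) 0 1 + (A : M2) 1 1 * (B : M2) 1 1) := by
  rw [tr_eq, Matrix.SpecialLinearGroup.coe_mul, Matrix.mul_apply, Matrix.mul_apply, Fin.sum_univ_two, Fin.sum_univ_two]

theorem tr_mul_comm (A B : SL2) : tr (A * B) = tr (B * A) := by rw [tr_mul, tr_mul]; ring

/-- Elements with trace `± 2` have odd order unless the characteristic is two. -/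
theorem odd_of_tr_four (p : ℕ) [Fact p.Prime] [CharP F p] (hp : p ≠ 2) {R : SL2} (h : tr R ^ 2 = 4) :
    Odd (orderOf (toPSL R)) := by
  have h1 : toPSL R ^ p = 1 := by
    rw [← map_pow]
    exact toPSL_eq_one.mpr (Cfsg.Agent.Lib.SL2Trace.pow_char_of_tr p h)
  rcases (Nat.dvd_prime (Fact.out : p.Prime)).mp (orderOf_dvd_of_pow_eq_one h1) with e | e <;> rw [e]
  · exact odd_one
  · exact (Fact.out : p.Prime).odd_of_ne_two hp

theorem notMem_center_of_tr {R : SL2} (h : tr R ^ 2 ≠ 4) : R ∉ Subgroup.center SL2 := by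
  intro hc
  apply h
  rcases mem_center_iff.mp hc with rfl | rfl <;> simp [tr_eq] <;> norm_num

/-- The order of a semisimple element divides that of its torus. -/
theorem order_dvd_torus {R : SL2} (ht : tr R ^ 2 ≠ 4) {m : ℕ}
    (hm : Nat.card (cell ⊤ R) = Nat.card (Subgroup.center SL2) * m) : orderOf (toPSL R) ∣ m := by
  have h := card_map_toPSL ⊤ le_top (cell ⊤ R) (center_le_cell ⊤ le_top R) le_top
  rw [hm] at h
  rw [Nat.eq_of_mul_eq_mul_left Nat.card_pos h]
  exact Subgroup.orderOf_dvd_natCard _ ⟨R, mem_cell_self ⊤ (Subgroup.mem_top R), rfl⟩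

theorem odd_of_split (h4 : Fintype.card F % 4 = 3) {R : SL2} (ht : tr R ^ 2 ≠ 4)
    (hs : IsSquare (tr R ^ 2 - 4)) : Odd (orderOf (toPSL R)) := by
  have h2 : (2 : F) ≠ 0 := two_ne_of_odd (by omega)
  obtain ⟨u, hu⟩ := hs
  have hsplit : IsSplit R := ⟨(tr R + u) / 2, by field_simp; linear_combination -hu⟩
  have hR := notMem_center_of_tr ht
  refine Odd.of_dvd_nat ?_ (order_dvd_torus ht (split_half hR ht hsplit))
  rw [Nat.gcd_eq_left (Nat.dvd_iff_mod_eq_zero.mpr (by omega)), Nat.odd_iff]
  omega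

theorem invol_lift {x : PSL2} (hx : orderOf x = 2) :
    ∃ X : SL2, toPSL X = x ∧ tr X = 0 ∧ X ∉ Subgroup.center SL2 := by
  obtain ⟨X, rfl⟩ := toPSL_surjective x
  have hZ : X ∉ Subgroup.center SL2 := fun h => by
    rw [toPSL_eq_one.mpr (mem_center_iff.mp h), orderOf_one] at hx
    omega
  exact ⟨X, rfl, tr_zero_of_sq hZ (by rw [← sq]; exact orderOf_dvd_iff_pow_eq_one.mp (dvd_of_eq hx)), hZ⟩

theorem orderOf_of_tr_zero {Z : SL2} (h : tr Z = 0) (hZ : Z ∉ Subgroup.center SL2) : orderOf (toPSL Z) = 2 := by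
  haveI : Fact (Nat.Prime 2) := ⟨Nat.prime_two⟩
  refine orderOf_eq_prime ?_ fun e => hZ (mem_center_iff.mpr (toPSL_eq_one.mp e))
  rw [← map_pow]
  refine toPSL_eq_one.mpr (Or.inr ?_)
  ext i j
  rw [pow_two, Matrix.SpecialLinearGroup.coe_mul, Cfsg.Agent.Lib.SL2Trace.sq_eq, h, zero_smul, zero_sub,
    Matrix.SpecialLinearGroup.coe_neg, Matrix.SpecialLinearGroup.coe_one]

/-- An element with prescribed inner products with two given involutions. -/
theorem exists_with_traces (h2 : (2 : F) ≠ 0) {X Y : SL2} (hX : tr X = 0) (hY : tr Y = 0) {c s t w : F}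
    (hc : tr (X * Y) = -(2 * c)) (hd : 1 - c ^ 2 ≠ 0)
    (hw : w ^ 2 = 1 - c ^ 2 - s ^ 2 - t ^ 2 + 2 * c * s * t) :
    ∃ Z : SL2, tr Z = 0 ∧ tr (X * Z) = -(2 * s) ∧ tr (Z * Y) = -(2 * t) := by
  set a := (X : M2) 0 0 with ha
  set b := (X : M2) 0 1 with hb
  set g := (X : M2) 1 0 with hg
  set a' := (Y : M2) 0 0 with ha'
  set b' := (Y : M2) 0 1 with hb'
  set g' := (Y : M2) 1 0 with hg'
  have hX1 : (X : M2) 1 1 = -a := by rw [tr_eq] at hX; linear_combination hX
  have hY1 : (Y : M2) 1 1 = -a' := by rw [tr_eq] at hY; linear_combination hY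
  have hdX : -a * a - b * g = 1 := by
    have := X.2
    rw [Matrix.det_fin_two, hX1] at this
    linear_combination this
  have hdY : -a' * a' - b' * g' = 1 := by
    have := Y.2
    rw [Matrix.det_fin_two, hY1] at this
    linear_combination this
  rw [tr_mul, hX1, hY1] at hc
  obtain ⟨al, hal⟩ : ∃ al, al = (s - c * t) / (1 - c ^ 2) := ⟨_, rfl⟩
  obtain ⟨be, hbe⟩ : ∃ be, be = (t - c * s) / (1 - c ^ 2) := ⟨_, rfl⟩
  obtain ⟨ga, hga⟩ : ∃ ga, ga = w / (1 - c ^ 2) := ⟨_, rfl⟩
  -- `P = XY + c`, a trace zero matrix orthogonal to both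
  obtain ⟨pa, hpa⟩ : ∃ pa, pa = a * a' + b * g' + c := ⟨_, rfl⟩
  obtain ⟨pb, hpb⟩ : ∃ pb, pb = a * b' - b * a' := ⟨_, rfl⟩
  obtain ⟨pg, hpg⟩ : ∃ pg, pg = g * a' - a * g' := ⟨_, rfl⟩
  have hcc : 2 * a * a' + b * g' + g * b' = -(2 * c) := by linear_combination hc
  have hdP : -pa * pa - pb * pg = 1 - c ^ 2 := by
    subst hpa hpb hpg
    linear_combination (-a' * a' - b' * g') * hdX + hdY - (b * g' + a * a') * hcc
  let Zm : M2 := !![al * a + be * a' + ga * pa, al * b + be * b' + ga * pb;
    al * g + be * g' + ga * pg, -(al * a + be * a' + ga * pa)]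
  have hperpX : 2 * a * pa + b * pg + g * pb = 0 := by subst hpa hpb hpg; linear_combination a * hcc
  have hperpY : 2 * a' * pa + b' * pg + g' * pb = 0 := by subst hpa hpb hpg; linear_combination a' * hcc
  have hdet : Zm.det = 1 := by
    have e : Zm.det = al ^ 2 * (-a * a - b * g) + be ^ 2 * (-a' * a' - b' * g') + ga ^ 2 * (-pa * pa - pb * pg)
        - al * be * (2 * a * a' + b * g' + g * b') - al * ga * (2 * a * pa + b * pg + g * pb)
        - be * ga * (2 * a' * pa + b' * pg + g' * pb) := by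
      simp [Zm, Matrix.det_fin_two]; ring
    rw [e, hdX, hdY, hdP, hcc, hperpX, hperpY, hal, hbe, hga]
    field_simp
    linear_combination (1 - c ^ 2) * hw
  obtain ⟨Z, hZ⟩ : ∃ Z : SL2, (Z : M2) = Zm := ⟨⟨Zm, hdet⟩, rfl⟩
  have z00 : (Z : M2) 0 0 = al * a + be * a' + ga * pa := by rw [hZ]; rfl
  have z01 : (Z : M2) 0 1 = al * b + be * b' + ga * pb := by rw [hZ]; rfl
  have z10 : (Z : M2) 1 0 = al * g + be * g' + ga * pg := by rw [hZ]; rfl
  have z11 : (Z : M2) 1 1 = -(al * a + be * a' + ga * pa) := by rw [hZ]; rfl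
  refine ⟨Z, ?_, ?_, ?_⟩
  · rw [tr_eq, z00, z11]; ring
  · rw [tr_mul, hX1, z00, z01, z10, z11, ← ha, ← hb, ← hg]
    have h1 : al + be * c = s := by rw [hal, hbe]; field_simp; ring
    linear_combination (-2 * al) * hdX + be * hcc + ga * hperpX - 2 * h1
  · rw [tr_mul, hY1, z00, z01, z10, z11, ← ha', ← hb', ← hg']
    have h1 : be + al * c = t := by rw [hal, hbe]; field_simp; ring
    linear_combination (-2 * be) * hdY + al * hcc + ga * hperpY - 2 * h1

/-- Two values on the conics have a common projection. -/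
theorem exists_st (h4 : Fintype.card F % 4 = 3) (hq : 4 ≤ Fintype.card F) {c : F}
    (hc : ¬ IsSquare (c ^ 2 - 1)) :
    ∃ s t w : F, (2 * s) ^ 2 ≠ 4 ∧ IsSquare ((2 * s) ^ 2 - 4) ∧ (2 * t) ^ 2 ≠ 4 ∧ IsSquare ((2 * t) ^ 2 - 4) ∧
      w ^ 2 = 1 - c ^ 2 - s ^ 2 - t ^ 2 + 2 * c * s * t := by
  classical
  have h2 : (2 : F) ≠ 0 := two_ne_of_odd (by omega)
  have hneg : ¬ IsSquare (-1 : F) := fun h => by
    have := FiniteField.isSquare_neg_one_iff.mp h
    omega
  obtain ⟨d, hd⟩ : IsSquare (1 - c ^ 2) := by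
    by_contra h
    apply hc
    rw [show c ^ 2 - 1 = -1 * (1 - c ^ 2) by ring, ← quadraticChar_one_iff_isSquare (by
      intro e; exact h ⟨0, by rw [mul_zero]; linear_combination -e⟩), map_mul,
      quadraticChar_neg_one_iff_not_isSquare.mpr hneg, quadraticChar_neg_one_iff_not_isSquare.mpr h]
    norm_num
  have hd0 : d ≠ 0 := fun e => hc ⟨0, by rw [e] at hd; linear_combination -hd⟩
  obtain ⟨r, hr0, hr1, hr2⟩ : ∃ r : F, r ≠ 0 ∧ r ≠ 1 ∧ r ≠ -1 := by
    have hlt : ({0, 1, -1} : Finset F).card < Fintype.card F :=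
      lt_of_le_of_lt Finset.card_le_three (by omega)
    obtain ⟨r, -, hr⟩ := Finset.exists_mem_notMem_of_card_lt_card (s := ({0, 1, -1} : Finset F)) (t := (Finset.univ : Finset F)) (show ({0, 1, -1} : Finset F).card < (Finset.univ : Finset F).card by rw [Finset.card_univ]; exact hlt)
    simp at hr
    exact ⟨r, hr.1, hr.2.1, hr.2.2⟩
  obtain ⟨s, hs⟩ : ∃ s, s = (r + r⁻¹) / 2 := ⟨_, rfl⟩
  obtain ⟨u, hu⟩ : ∃ u, u = (r - r⁻¹) / 2 := ⟨_, rfl⟩
  have hsu : s ^ 2 - 1 = u ^ 2 := by rw [hs, hu]; field_simp; ring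
  have hu0 : u ≠ 0 := by
    intro e
    rw [hu] at e
    have e' : r ^ 2 = 1 := by
      field_simp at e
      linear_combination e
    rcases (sq_eq_one_iff).mp e' with h | h
    · exact hr1 h
    · exact hr2 h
  have hK : (Polynomial.X ^ 2 - Polynomial.C (1 : F)).degree = 2 := Polynomial.degree_X_pow_sub_C (by norm_num) _
  obtain ⟨t, w, v, ht, hv⟩ : ∃ t w v : F,
      w ^ 2 = 1 - c ^ 2 - s ^ 2 - t ^ 2 + 2 * c * s * t ∧ t ^ 2 - 1 = v ^ 2 := by
    -- both conics cover more than half of the field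
    let T := (Finset.univ.filter fun v : F => IsSquare (v ^ 2 - 1))
    let W := (Finset.univ.filter fun x : F => IsSquare (-(d * u) ^ 2 - x ^ 2))
    by_contra hno
    push Not at hno
    have hdisj : ∀ t ∈ T, t - c * s ∉ W := by
      intro t ht hw
      simp [T] at ht
      simp [W] at hw
      obtain ⟨v, hv⟩ := ht
      obtain ⟨w, hw⟩ := hw
      refine hno t w v ?_ (by rw [hv]; ring)
      have hd' : 1 - c ^ 2 = d * d := hd
      linear_combination -hw + (u ^ 2) * hd' + (1 - c ^ 2) * hsu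
    have hcardT : Fintype.card F + 1 ≤ 2 * T.card := by
      let f : Fˣ → F := fun x => ((x : F) + (x : F)⁻¹) / 2
      have hmem : ∀ x, f x ∈ T := fun x => by
        simp only [T, Finset.mem_filter, Finset.mem_univ, true_and, f]
        refine ⟨((x : F) - (x : F)⁻¹) / 2, ?_⟩
        have := x.ne_zero
        field_simp
        ring
      have hinv : ∀ x y, f x = f y → y = x ∨ y = x⁻¹ := fun x y h => by
        have hx := x.ne_zero
        have hy := y.ne_zero
        simp only [f] at h
        field_simp at h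
        have : ((y : F) - x) * ((y : F) * x - 1) = 0 := by linear_combination -h
        rcases mul_eq_zero.mp this with e | e
        · exact Or.inl (Units.ext (sub_eq_zero.mp e))
        · exact Or.inr (eq_inv_of_mul_eq_one_left (Units.ext (sub_eq_zero.mp e)))
      have h1 : f (1 : Fˣ) = 1 := by simp [f]; field_simp; norm_num
      have h1' : f (-1 : Fˣ) = -1 := by simp [f]; field_simp; norm_num
      have hcard := Finset.card_le_mul_card_image_of_maps_to (s := ((Finset.univ.erase (1 : Fˣ)).erase (-1)))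
        (t := (T.erase 1).erase (-1)) (f := f) (fun x hx => by
          simp only [Finset.mem_erase] at hx ⊢
          refine ⟨fun e => ?_, fun e => ?_, hmem x⟩
          · rcases hinv x (-1) (e.trans h1'.symm) with e' | e'
            · exact hx.1 e'.symm
            · exact hx.1 (by rw [← inv_inv x, ← e']; simp)
          · rcases hinv x 1 (e.trans h1.symm) with e' | e'
            · exact hx.2.1 e'.symm
            · exact hx.2.1 (by rw [← inv_inv x, ← e']; simp)) 2 (fun y _ => by
          by_contra hgt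
          push Not at hgt
          obtain ⟨x, hx⟩ := Finset.card_pos.mp (lt_trans Nat.zero_lt_two hgt)
          simp only [Finset.mem_filter] at hx
          refine absurd (Finset.card_le_card (s := _) (t := ({x, x⁻¹} : Finset Fˣ)) fun z hz => ?_)
            (not_le.mpr (lt_of_le_of_lt Finset.card_le_two hgt))
          simp only [Finset.mem_filter] at hz
          rcases hinv x z (hx.2.trans hz.2.symm) with e | e <;> simp [e])
      have hne : (-1 : F) ≠ 1 := fun e => h2 (by linear_combination -e)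
      have hne' : (-1 : Fˣ) ≠ 1 := fun e => hne (congrArg Units.val e)
      have hT1 : (1 : F) ∈ T := h1 ▸ hmem 1
      have hT2 : (-1 : F) ∈ T := h1' ▸ hmem (-1)
      rw [Finset.card_erase_of_mem (by simp [hne']), Finset.card_erase_of_mem (Finset.mem_univ _),
        Finset.card_erase_of_mem (by simp [hne, hT2]), Finset.card_erase_of_mem hT1, Finset.card_univ,
        Fintype.card_units] at hcard
      have : 2 ≤ T.card := Finset.one_lt_card.mpr ⟨_, hT1, _, hT2, hne.symm⟩
      omega
    have hcardW : Fintype.card F ≤ 2 * W.card := by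
      obtain ⟨x0, w0, h0⟩ := FiniteField.exists_root_sum_quadratic
        (Polynomial.degree_X_pow_sub_C (by norm_num : 0 < 2) (-(d * u) ^ 2))
        (Polynomial.degree_X_pow (R := F) 2) (by omega)
      simp only [Polynomial.eval_sub, Polynomial.eval_pow, Polynomial.eval_X, Polynomial.eval_C] at h0
      have hw0 : w0 ≠ 0 := by
        intro e
        subst e
        refine hneg ⟨x0 / (d * u), ?_⟩
        have := mul_ne_zero hd0 hu0
        field_simp
        linear_combination -h0
      have hm : ∀ m : F, 1 + m ^ 2 ≠ 0 := fun m e => hneg ⟨m, by linear_combination -e⟩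
      let f : F → F × F := fun m =>
        (x0 + -(2 * (x0 + m * w0)) / (1 + m ^ 2), w0 + m * (-(2 * (x0 + m * w0)) / (1 + m ^ 2)))
      have hinj : Function.Injective f := by
        intro m n h
        obtain ⟨h1, h2'⟩ := Prod.mk.injEq .. ▸ h
        have h1' := add_left_cancel h1
        have h2'' := add_left_cancel h2'
        rw [← h1'] at h2''
        rcases eq_or_ne (-(2 * (x0 + m * w0)) / (1 + m ^ 2)) 0 with e | e
        · have e' := e
          rw [h1'] at e'
          rw [div_eq_zero_iff, neg_eq_zero, mul_eq_zero] at e e'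
          have a1 := (e.resolve_right (hm m)).resolve_left h2
          have a2 := (e'.resolve_right (hm n)).resolve_left h2
          exact mul_right_cancel₀ hw0 (by linear_combination a1 - a2)
        · exact mul_right_cancel₀ e h2''
      have hon : ∀ m, (f m).1 ^ 2 + (f m).2 ^ 2 = -(d * u) ^ 2 := fun m => by
        simp only [f]
        have := hm m
        field_simp
        linear_combination ((1 + m ^ 2) ^ 2) * h0
      have hcard := Finset.card_le_mul_card_image_of_maps_to (s := (Finset.univ : Finset F)) (t := W)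
        (f := fun m => (f m).1) (fun m _ => by
          simp only [W, Finset.mem_filter, Finset.mem_univ, true_and]
          exact ⟨(f m).2, by linear_combination -hon m⟩) 2 (fun y _ => by
          by_contra hgt
          push Not at hgt
          obtain ⟨x, hx⟩ := Finset.card_pos.mp (lt_trans Nat.zero_lt_two hgt)
          simp only [Finset.mem_filter] at hx
          refine absurd (Finset.card_le_card (s := (Finset.univ.filter fun m => (f m).1 = y).image f)
            (t := ({(y, (f x).2), (y, -(f x).2)} : Finset (F × F))) fun z hz => ?_) ?_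
          · obtain ⟨m, hm', rfl⟩ := Finset.mem_image.mp hz
            simp only [Finset.mem_filter] at hm'
            have e : (f m).2 * (f m).2 = (f x).2 * (f x).2 := by
              have h1 := hon m
              rw [hm'.2] at h1
              have h3 := hon x
              rw [hx.2] at h3
              linear_combination h1 - h3
            simp only [Finset.mem_insert, Finset.mem_singleton, Prod.ext_iff]
            rcases mul_self_eq_mul_self_iff.mp e with e | e
            · exact Or.inl ⟨hm'.2, e⟩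
            · exact Or.inr ⟨hm'.2, e⟩
          · rw [Finset.card_image_of_injective _ hinj]
            exact not_le.mpr (lt_of_le_of_lt Finset.card_le_two hgt))
      rw [Finset.card_univ] at hcard
      omega
    have hsum : (T.image fun t => t - c * s).card + W.card ≤ Fintype.card F := by
      rw [← Finset.card_union_of_disjoint (Finset.disjoint_left.mpr fun x hx => by
        obtain ⟨t, ht, rfl⟩ := Finset.mem_image.mp hx
        exact hdisj t ht)]
      exact Finset.card_le_univ _
    rw [Finset.card_image_of_injective _ (sub_left_injective)] at hsum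
    omega
  have hns : ∀ z : F, z ^ 2 = 1 → t ≠ z := by
    intro z hz e
    subst e
    refine hneg ⟨w / (c * t - s), ?_⟩
    have h3 : c * t - s ≠ 0 := by
      intro e
      exact hc ⟨u, by linear_combination hsu - (c ^ 2) * hz + (c * t + s) * e⟩
    field_simp
    linear_combination -ht + (1 - c ^ 2) * hz
  refine ⟨s, t, w, ?_, ⟨2 * u, by linear_combination 4 * hsu⟩, ?_, ⟨2 * v, by linear_combination 4 * hv⟩, ht⟩
  · intro e
    exact hu0 (pow_eq_zero_iff two_ne_zero |>.mp (mul_left_cancel₀ (show (4 : F) ≠ 0 by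
      rw [show (4 : F) = 2 * 2 by norm_num]; exact mul_ne_zero h2 h2) (by linear_combination e - 4 * hsu)))
  · intro e
    refine hns t ?_ rfl
    exact mul_left_cancel₀ (show (4 : F) ≠ 0 by
      rw [show (4 : F) = 2 * 2 by norm_num]; exact mul_ne_zero h2 h2) (by linear_combination e)

/-- In odd characteristic two involutions whose product has even order have a common neighbour. -/
theorem exists_middle_odd (hodd : Fintype.card F % 2 = 1) (hq : 4 ≤ Fintype.card F) {x y : PSL2}
    (hx : orderOf x = 2) (hy : orderOf y = 2) (hxy : ¬ Odd (orderOf (x * y))) :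
    ∃ z : PSL2, orderOf z = 2 ∧ Odd (orderOf (x * z)) ∧ Odd (orderOf (z * y)) := by
  classical
  obtain ⟨X, rfl, hX, -⟩ := invol_lift hx
  obtain ⟨Y, rfl, hY, -⟩ := invol_lift hy
  obtain ⟨p, hc⟩ := CharP.exists F
  haveI : Fact p.Prime := ⟨CharP.char_is_prime F p⟩
  have h2 : (2 : F) ≠ 0 := two_ne_of_odd hodd
  have hp : p ≠ 2 := by
    rintro rfl
    exact h2 (by exact_mod_cast CharP.cast_eq_zero F 2)
  obtain ⟨c, hc'⟩ : ∃ c, tr (X * Y) = -(2 * c) :=
    ⟨-(tr (X * Y)) / 2, by field_simp⟩
  have hne : tr (X * Y) ^ 2 ≠ 4 := fun e => hxy (by rw [← map_mul]; exact odd_of_tr_four p hp e)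
  have hd : 1 - c ^ 2 ≠ 0 := fun e => hne (by rw [hc']; linear_combination -4 * e)
  have hinv : ∀ {Z : SL2}, tr Z = 0 → orderOf (toPSL Z) = 2 := fun {Z} h =>
    orderOf_of_tr_zero h (notMem_center_of_tr (by
      rw [h]; intro e
      exact mul_ne_zero h2 h2 (by linear_combination -e)))
  by_cases h4 : Fintype.card F % 4 = 3
  · have hns : ¬ IsSquare (c ^ 2 - 1) := fun ⟨u, hu⟩ => hxy (by
      rw [← map_mul]
      exact odd_of_split h4 hne ⟨2 * u, by rw [hc']; linear_combination 4 * hu⟩)
    obtain ⟨s, t, w, hs, hs', ht, ht', hw⟩ := exists_st h4 hq hns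
    obtain ⟨Z, hZ, h1, h2'⟩ := exists_with_traces h2 hX hY hc' hd hw
    refine ⟨toPSL Z, hinv hZ, ?_, ?_⟩ <;> rw [← map_mul]
    · exact odd_of_split h4 (by rw [h1, neg_sq]; exact hs) (by rw [h1, neg_sq]; exact hs')
    · exact odd_of_split h4 (by rw [h2', neg_sq]; exact ht) (by rw [h2', neg_sq]; exact ht')
  · obtain ⟨i, hi⟩ : IsSquare (-1 : F) := FiniteField.isSquare_neg_one_iff.mpr h4
    obtain ⟨Z, hZ, h1, h2'⟩ := exists_with_traces h2 hX hY hc' hd (s := 1) (t := 1) (w := i * (1 - c))
      (by linear_combination -(1 - c) ^ 2 * hi)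
    refine ⟨toPSL Z, hinv hZ, ?_, ?_⟩ <;> rw [← map_mul] <;> refine odd_of_tr_four p hp ?_
    · rw [h1]; ring
    · rw [h2']; ring

/-- In characteristic two. -/
theorem sqrt_two (heven : Fintype.card F % 2 = 0) (x : F) : ∃ r : F, r * r = x := by
  obtain ⟨r, hr⟩ := FiniteField.isSquare_of_char_two ((FiniteField.even_card_iff_char_two (F := F)).mpr heven) x
  exact ⟨r, hr.symm⟩

theorem two_eq_zero (heven : Fintype.card F % 2 = 0) : (2 : F) = 0 := by
  have h := (FiniteField.even_card_iff_char_two (F := F)).mpr heven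
  haveI : CharP F 2 := h ▸ ringChar.charP F
  exact CharTwo.two_eq_zero

theorem char2_shape (heven : Fintype.card F % 2 = 0) {X : SL2} (hX : tr X = 0) (hc : X ∉ Subgroup.center SL2) :
    (X : M2) 1 1 = (X : M2) 0 0 ∧ ((X : M2) 0 1 ≠ 0 ∨ (X : M2) 1 0 ≠ 0) := by
  have h2 := two_eq_zero (F := F) heven
  have e : (X : M2) 1 1 = (X : M2) 0 0 := by
    rw [tr_eq] at hX
    linear_combination hX - (X : M2) 0 0 * h2
  refine ⟨e, ?_⟩
  by_contra h
  push Not at h
  exact hc (mem_center_iff.mpr (Cfsg.Agent.Lib.SL2Trace.eq_scalar_of_entries h.2 h.1 e.symm))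

theorem mk_invol (heven : Fintype.card F % 2 = 0) {b g : F} (h : b ≠ 0 ∨ g ≠ 0) :
    ∃ X : SL2, tr X = 0 ∧ X ∉ Subgroup.center SL2 ∧ (X : M2) 0 1 = b ∧ (X : M2) 1 0 = g := by
  obtain ⟨a, ha⟩ := sqrt_two heven (1 + b * g)
  have hdet : (!![a, b; g, a] : M2).det = 1 := by
    rw [Matrix.det_fin_two_of]; linear_combination ha
  refine ⟨⟨_, hdet⟩, ?_, fun hc => ?_, rfl, rfl⟩
  · refine (Matrix.trace_fin_two (!![a, b; g, a] : M2)).trans ?_
    show a + a = 0
    linear_combination a * two_eq_zero (F := F) heven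
  · rcases mem_center_iff.mp hc with e | e
    · have h1 := congrFun (congrFun (congrArg (fun A : SL2 => (A : M2)) e) 0) 1
      have h2 := congrFun (congrFun (congrArg (fun A : SL2 => (A : M2)) e) 1) 0
      simp at h1 h2
      rcases h with h | h
      · exact h h1
      · exact h h2
    · have h1 := congrFun (congrFun (congrArg (fun A : SL2 => (A : M2)) e) 0) 1
      have h2 := congrFun (congrFun (congrArg (fun A : SL2 => (A : M2)) e) 1) 0
      simp at h1 h2
      rcases h with h | h
      · exact h h1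
      · exact h h2

theorem coe_upper (b : F) : ((upper b : SL2) : M2) = !![1, b; 0, 1] := rfl

theorem isConj_upper (heven : Fintype.card F % 2 = 0) {X : SL2} (hX : tr X = 0) (hc : X ∉ Subgroup.center SL2) :
    IsConj (upper (1 : F)) X := by
  have h2 := two_eq_zero (F := F) heven
  obtain ⟨e, hne⟩ := char2_shape heven hX hc
  set a := (X : M2) 0 0 with ha
  have hd : a * a - (X : M2) 0 1 * (X : M2) 1 0 = 1 := by
    have := X.2
    rw [Matrix.det_fin_two, e] at this
    exact this
  by_cases hg : (X : M2) 1 0 = 0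
  · have hb := hne.resolve_right (not_not.mpr hg)
    rw [hg, mul_zero, sub_zero] at hd
    have ha1 : a = 1 := by
      have : (a - 1) * (a - 1) = 0 := by linear_combination hd + (1 - a) * h2
      exact sub_eq_zero.mp (mul_self_eq_zero.mp this)
    obtain ⟨l, hl⟩ := sqrt_two heven ((X : M2) 0 1)⁻¹
    have hlb : l * l * (X : M2) 0 1 = 1 := by rw [hl]; exact inv_mul_cancel₀ hb
    have hdet : (!![l * (X : M2) 0 1, 0; 0, l] : M2).det = 1 := by
      rw [Matrix.det_fin_two_of]; linear_combination hlb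
    obtain ⟨G, hG⟩ : ∃ G : SL2, (G : M2) = !![l * (X : M2) 0 1, 0; 0, l] := ⟨⟨_, hdet⟩, rfl⟩
    refine isConj_iff.mpr ⟨G, mul_inv_eq_iff_eq_mul.mpr ?_⟩
    ext i j
    fin_cases i <;> fin_cases j <;>
      simp [Matrix.SpecialLinearGroup.coe_mul, coe_upper, Matrix.mul_apply, Fin.sum_univ_two, hG, hg, e, ← ha, ha1] <;> ring
  · obtain ⟨l, hl⟩ := sqrt_two heven ((X : M2) 1 0)⁻¹
    have hlb : l * l * (X : M2) 1 0 = 1 := by rw [hl]; exact inv_mul_cancel₀ hg
    have hdet : (!![l * (a + 1), l; l * (X : M2) 1 0, 0] : M2).det = 1 := by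
      rw [Matrix.det_fin_two_of]; linear_combination hlb - l * l * (X : M2) 1 0 * h2
    obtain ⟨G, hG⟩ : ∃ G : SL2, (G : M2) = !![l * (a + 1), l; l * (X : M2) 1 0, 0] := ⟨⟨_, hdet⟩, rfl⟩
    refine isConj_iff.mpr ⟨G, mul_inv_eq_iff_eq_mul.mpr ?_⟩
    ext i j
    fin_cases i <;> fin_cases j <;>
      simp [Matrix.SpecialLinearGroup.coe_mul, coe_upper, Matrix.mul_apply, Fin.sum_univ_two, hG, e, ← ha]
    · linear_combination -l * hd - (l * (X : M2) 0 1 * (X : M2) 1 0) * h2
    · linear_combination l * h2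
    · linear_combination (-l * (X : M2) 1 0 * a) * h2
    · linear_combination 0

/-- All involutions are conjugate. -/
theorem isConj_any {x y : PSL2} (hx : orderOf x = 2) (hy : orderOf y = 2) : IsConj x y := by
  rcases Nat.mod_two_eq_zero_or_one (Fintype.card F) with h | h
  · obtain ⟨X, rfl, hX, hXc⟩ := invol_lift hx
    obtain ⟨Y, rfl, hY, hYc⟩ := invol_lift hy
    exact Cfsg.Agent.Lib.SL2Trace.isConj_toPSL ((isConj_upper h hX hXc).symm.trans (isConj_upper h hY hYc))
  · exact isConj_invol h hx hy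

/-- The product of two involutions in characteristic two. -/
theorem odd_iff_even_field (heven : Fintype.card F % 2 = 0) {X Y : SL2} (hX : tr X = 0) (hY : tr Y = 0)
    (hXc : X ∉ Subgroup.center SL2) (hYc : Y ∉ Subgroup.center SL2) :
    ((X : M2) 0 1 * (Y : M2) 1 0 + (X : M2) 1 0 * (Y : M2) 0 1 ≠ 0 → Odd (orderOf (toPSL X * toPSL Y))) ∧
    ((X : M2) 0 1 * (Y : M2) 1 0 + (X : M2) 1 0 * (Y : M2) 0 1 = 0 → toPSL X ≠ toPSL Y →
      ¬ Odd (orderOf (toPSL X * toPSL Y))) := by
  have h2 := two_eq_zero (F := F) heven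
  have h2' : (4 : F) = 0 := by linear_combination (2 : F) * h2
  have htr : tr (X * Y) = (X : M2) 0 1 * (Y : M2) 1 0 + (X : M2) 1 0 * (Y : M2) 0 1 := by
    rw [tr_mul, (char2_shape heven hX hXc).1, (char2_shape heven hY hYc).1]
    linear_combination ((X : M2) 0 0 * (Y : M2) 0 0) * h2
  constructor
  · intro hne
    have ht : tr (X * Y) ^ 2 ≠ 4 := by rw [h2', htr]; exact pow_ne_zero 2 hne
    have hR := notMem_center_of_tr ht
    rw [← map_mul]
    have hg : Nat.gcd 2 (Fintype.card F - 1) = 1 :=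
      Nat.Coprime.gcd_eq_one ((Nat.Prime.coprime_iff_not_dvd Nat.prime_two).mpr (by
        have := Fintype.card_pos (α := F)
        omega))
    have := Fintype.one_lt_card (α := F)
    by_cases hs : IsSplit (X * Y)
    · refine Odd.of_dvd_nat ?_ (order_dvd_torus ht (split_half hR ht hs))
      rw [hg, Nat.div_one, Nat.odd_iff]; omega
    · refine Odd.of_dvd_nat ?_ (order_dvd_torus ht (nonsplit_half hR ht hs))
      rw [hg, Nat.div_one, Nat.odd_iff]; omega
  · intro h0 hne hodd
    haveI : CharP F 2 := ((FiniteField.even_card_iff_char_two (F := F)).mpr heven) ▸ ringChar.charP F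
    haveI : Fact (Nat.Prime 2) := ⟨Nat.prime_two⟩
    have h1 : (toPSL X * toPSL Y) ^ 2 = 1 := by
      rw [← map_mul, ← map_pow]
      exact toPSL_eq_one.mpr (Cfsg.Agent.Lib.SL2Trace.pow_char_of_tr 2 (by rw [htr, h0, h2']; ring))
    rcases (Nat.dvd_prime Nat.prime_two).mp (orderOf_dvd_of_pow_eq_one h1) with e | e
    · have hinv : (toPSL Y)⁻¹ = toPSL Y := inv_eq_of_mul_eq_one_left (by
        have := pow_orderOf_eq_one (toPSL Y)
        rwa [orderOf_of_tr_zero hY hYc, pow_two] at this)
      exact hne (by rw [← hinv]; exact mul_eq_one_iff_eq_inv.mp (orderOf_eq_one_iff.mp e))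
    · rw [e] at hodd; exact absurd hodd (by decide)

theorem exists_middle_even (heven : Fintype.card F % 2 = 0) {x y : PSL2} (hx : orderOf x = 2) (hy : orderOf y = 2) :
    ∃ z : PSL2, orderOf z = 2 ∧ Odd (orderOf (x * z)) ∧ Odd (orderOf (z * y)) := by
  have h2 := two_eq_zero (F := F) heven
  obtain ⟨X, rfl, hX, hXc⟩ := invol_lift hx
  obtain ⟨Y, rfl, hY, hYc⟩ := invol_lift hy
  have hneg : ∀ a : F, -a = a := fun a => by linear_combination (-a) * h2
  obtain ⟨b, g, hbg, h1, h1'⟩ : ∃ b g : F, (b ≠ 0 ∨ g ≠ 0) ∧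
      (X : M2) 0 1 * g + (X : M2) 1 0 * b ≠ 0 ∧ b * (Y : M2) 1 0 + g * (Y : M2) 0 1 ≠ 0 := by
    have hx' := (char2_shape heven hX hXc).2
    have hy' := (char2_shape heven hY hYc).2
    by_contra hno
    push Not at hno
    have t1 := hno 1 0 (Or.inl one_ne_zero)
    have t2 := hno 0 1 (Or.inr one_ne_zero)
    have t3 := hno 1 1 (Or.inl one_ne_zero)
    simp only [mul_zero, mul_one, zero_add, zero_mul, one_mul, add_zero] at t1 t2 t3
    by_cases a1 : (X : M2) 1 0 = 0
    · have a2 : (X : M2) 0 1 ≠ 0 := hx'.resolve_right (not_not.mpr a1)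
      have a3 := t2 a2
      have a4 : (Y : M2) 1 0 ≠ 0 := hy'.resolve_left (not_not.mpr a3)
      refine a4 ?_
      have := t3 (by rw [a1, add_zero]; exact a2)
      rwa [a3, add_zero] at this
    · have a3 := t1 a1
      have a4 : (Y : M2) 0 1 ≠ 0 := hy'.resolve_right (not_not.mpr a3)
      by_cases a2 : (X : M2) 0 1 = 0
      · have := t3 (by rw [a2, zero_add]; exact a1)
        rw [a3, zero_add] at this
        exact a4 this
      · exact a4 (t2 a2)
  obtain ⟨Z, hZ, hZc, rfl, rfl⟩ := mk_invol heven hbg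
  exact ⟨toPSL Z, orderOf_of_tr_zero hZ hZc, (odd_iff_even_field heven hX hZ hXc hZc).1 h1,
    (odd_iff_even_field heven hZ hY hZc hYc).1 (by exact h1')⟩

/-- Any involution has another one whose product with it has even order. -/
theorem exists_far (hq : 4 ≤ Fintype.card F) {x : PSL2} (hx : orderOf x = 2) :
    ∃ y : PSL2, orderOf y = 2 ∧ x ≠ y ∧ ¬ Odd (orderOf (x * y)) := by
  classical
  rcases Nat.mod_two_eq_zero_or_one (Fintype.card F) with h | h
  · obtain ⟨X, rfl, hX, hXc⟩ := invol_lift hx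
    obtain ⟨l, l0, l1⟩ : ∃ l : F, l ≠ 0 ∧ l ≠ 1 := by
      obtain ⟨l, -, hl⟩ := Finset.exists_mem_notMem_of_card_lt_card (s := ({0, 1} : Finset F))
        (t := (Finset.univ : Finset F))
        (lt_of_le_of_lt Finset.card_le_two (by rw [Finset.card_univ]; omega))
      simp at hl
      exact ⟨l, hl.1, hl.2⟩
    have hne := (char2_shape h hX hXc).2
    obtain ⟨Y, hY, hYc, hb, hg⟩ := mk_invol h (b := l * (X : M2) 0 1) (g := l * (X : M2) 1 0)
      (hne.imp (mul_ne_zero l0) (mul_ne_zero l0))
    have hxy : toPSL X ≠ toPSL Y := by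
      intro e
      have h2 := two_eq_zero (F := F) h
      have hneg : ∀ a : F, -a = a := fun a => by linear_combination (-a) * h2
      have hYX : ∀ i j, (Y : M2) i j = (X : M2) i j := by
        intro i j
        rcases Cfsg.Agent.Lib.SL2Trace.toPSL_eq.mp e with e' | e'
        · rw [e']
        · rw [e', Matrix.SpecialLinearGroup.coe_neg, Matrix.neg_apply, hneg]
      rcases hne with hh | hh
      · exact l1 (mul_right_cancel₀ hh (by rw [one_mul, ← hb, hYX]))
      · exact l1 (mul_right_cancel₀ hh (by rw [one_mul, ← hg, hYX]))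
    refine ⟨toPSL Y, orderOf_of_tr_zero hY hYc, hxy, (odd_iff_even_field h hX hY hXc hYc).2 ?_ hxy⟩
    rw [hb, hg]
    linear_combination ((X : M2) 0 1 * l * (X : M2) 1 0) * two_eq_zero (F := F) h
  · obtain ⟨m, h2m, hm0, -, -, ⟨e⟩⟩ := invol_data (F := F) h hx
    haveI : NeZero m := ⟨hm0⟩
    haveI : Fact (1 < m) := ⟨by omega⟩
    have key : ∀ i : ZMod m, x ≠ (e.symm (DihedralGroup.sr i) : PSL2) →
        ∃ y : PSL2, orderOf y = 2 ∧ x ≠ y ∧ ¬ Odd (orderOf (x * y)) := by
      intro i hi
      set y := e.symm (DihedralGroup.sr i) with hydef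
      have hy2 : orderOf (y : PSL2) = 2 := by
        rw [Subgroup.orderOf_coe, hydef, MulEquiv.orderOf_eq, DihedralGroup.orderOf_sr]
      refine ⟨y, hy2, hi, fun hodd => ?_⟩
      have hc : (y : PSL2) * x = x * y := Subgroup.mem_centralizer_singleton_iff.mp y.2
      have h1 : (x * (y : PSL2)) ^ 2 = 1 := by
        rw [(show Commute x (y : PSL2) from hc.symm).mul_pow, orderOf_dvd_iff_pow_eq_one.mp (dvd_of_eq hy2),
          orderOf_dvd_iff_pow_eq_one.mp (dvd_of_eq hx), mul_one]
      rcases (Nat.dvd_prime Nat.prime_two).mp (orderOf_dvd_of_pow_eq_one h1) with e' | e'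
      · have hyy : (y : PSL2)⁻¹ = y := inv_eq_of_mul_eq_one_left (by
          have := pow_orderOf_eq_one (y : PSL2); rwa [hy2, pow_two] at this)
        exact hi (by rw [← hyy]; exact mul_eq_one_iff_eq_inv.mp (orderOf_eq_one_iff.mp e'))
      · rw [e'] at hodd; exact absurd hodd (by decide)
    by_cases h0 : x = (e.symm (DihedralGroup.sr 0) : PSL2)
    · refine key 1 fun h1 => ?_
      have := e.symm.injective (Subtype.ext (h0.symm.trans h1))
      exact zero_ne_one (DihedralGroup.sr.inj this)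
    · exact key 0 h0

theorem main (hq : 4 ≤ Fintype.card F) (t : PSL2) (ht : orderOf t = 2) :
    (SimpleGraph.fromRel fun x y : {x : PSL2 // IsConj t x} => Odd (orderOf (x.1 * y.1))).Connected ∧
    (SimpleGraph.fromRel fun x y : {x : PSL2 // IsConj t x} => Odd (orderOf (x.1 * y.1))).diam = 2 := by
  classical
  set G := SimpleGraph.fromRel fun x y : {x : PSL2 // IsConj t x} => Odd (orderOf (x.1 * y.1)) with hG
  haveI : Nonempty {x : PSL2 // IsConj t x} := ⟨⟨t, IsConj.refl t⟩⟩
  have hord : ∀ a : {x : PSL2 // IsConj t x}, orderOf a.1 = 2 := fun a => by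
    obtain ⟨g, hg⟩ := isConj_iff.mp a.2
    rw [← hg]
    exact (orderOf_injective (MulAut.conj g).toMonoidHom (MulAut.conj g).injective t).trans ht
  have hsymm : ∀ a b : PSL2, orderOf a = 2 → orderOf b = 2 → orderOf (a * b) = orderOf (b * a) := by
    intro a b ha hb
    have ha' : a⁻¹ = a := inv_eq_of_mul_eq_one_left (by
      have := pow_orderOf_eq_one a; rwa [ha, pow_two] at this)
    have hb' : b⁻¹ = b := inv_eq_of_mul_eq_one_left (by
      have := pow_orderOf_eq_one b; rwa [hb, pow_two] at this)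
    rw [← orderOf_inv, _root_.mul_inv_rev, ha', hb']
  have hle : ∀ a b, G.edist a b ≤ 2 := by
    intro a b
    by_cases hab : a = b
    · subst hab; simp
    by_cases hodd : Odd (orderOf (a.1 * b.1))
    · have hadj : G.Adj a b := ⟨hab, Or.inl hodd⟩
      rw [SimpleGraph.edist_eq_one_iff_adj.mpr hadj]
      norm_num
    · obtain ⟨z, hz, h1, h2⟩ : ∃ z : PSL2, orderOf z = 2 ∧ Odd (orderOf (a.1 * z)) ∧ Odd (orderOf (z * b.1)) := by
        rcases Nat.mod_two_eq_zero_or_one (Fintype.card F) with h | h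
        · exact exists_middle_even h (hord a) (hord b)
        · exact exists_middle_odd h hq (hord a) (hord b) hodd
      have hne1 : a.1 ≠ z := fun e => hodd (by rw [← e] at h2; exact h2)
      have hne2 : z ≠ b.1 := fun e => hodd (by rw [e] at h1; exact h1)
      let c : {x : PSL2 // IsConj t x} := ⟨z, isConj_any ht hz⟩
      have had1 : G.Adj a c := ⟨fun e => hne1 (congrArg Subtype.val e), Or.inl h1⟩
      have had2 : G.Adj c b := ⟨fun e => hne2 (congrArg Subtype.val e), Or.inl h2⟩
      exact SimpleGraph.edist_le (had1.toWalk.append had2.toWalk)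
  have htop : G.ediam ≠ ⊤ := ne_top_of_le_ne_top (by simp) (SimpleGraph.ediam_le_of_edist_le hle)
  refine ⟨SimpleGraph.connected_of_ediam_ne_top htop, ?_⟩
  obtain ⟨y, hy, hne, hyo⟩ := exists_far hq ht
  let u : {x : PSL2 // IsConj t x} := ⟨t, IsConj.refl t⟩
  let v : {x : PSL2 // IsConj t x} := ⟨y, isConj_any ht hy⟩
  have hnadj : ¬ G.Adj u v := by
    rintro ⟨-, h | h⟩
    · exact hyo h
    · exact hyo (hsymm _ _ ht hy ▸ h)
  have h2e : (2 : ℕ∞) ≤ G.edist u v := by
    by_contra hlt
    push Not at hlt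
    have h01 : G.edist u v = 0 ∨ G.edist u v = 1 := by
      cases he : G.edist u v with
      | top => rw [he] at hlt; exact absurd hlt (by simp)
      | coe n =>
        rw [he] at hlt
        have : n < 2 := by exact_mod_cast hlt
        interval_cases n <;> simp
    rcases h01 with h | h
    · exact hne (congrArg Subtype.val (SimpleGraph.edist_eq_zero_iff.mp h))
    · exact hnadj (SimpleGraph.edist_eq_one_iff_adj.mp h)
  have : G.ediam = 2 := le_antisymm (SimpleGraph.ediam_le_of_edist_le hle) (h2e.trans SimpleGraph.edist_le_ediam)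
  rw [SimpleGraph.diam, this]
  rfl

end Cfsg.Agent.Lib.Geometry.Dickson.InvolGraph
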