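import Mathlib

/-!
Criteria showing that small local subgroups are not maximal.
-/

set_option autoImplicit false

namespace Cfsg.Agent.Lib.Geometry.Dickson

open Subgroup

variable {G : Type*} [Group G]

theorem normalizer_ne_top_of_simple [IsSimpleGroup G] {P : Subgroup G} (h1 : P ≠ ⊥) (h2 : P ≠ ⊤) :
    normalizer (P : Set G) ≠ ⊤ := fun h => by
  rcases (normalizer_eq_top_iff.mp h).eq_bot_or_eq_top with h' | h'
  · exact h1 h'
  · exact h2 h'

variable [Finite G]

/-- A maximal subgroup containing a Sylow normally contains a conjugate of any such subgroup. -/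
theorem not_max_conj {m : ℕ} [Fact m.Prime] {M H J : Subgroup G} (hM : IsCoatom M) (P P' : Sylow m G)
    (hP : M ≤ normalizer ((P : Subgroup G) : Set G)) (hPtop : normalizer ((P : Subgroup G) : Set G) ≠ ⊤)
    (hJ : J ≤ normalizer ((P' : Subgroup G) : Set G)) (hJc : Nat.card M ≤ Nat.card J) (hJH : J ≤ H)
    (hH : H ≠ ⊤) (hlt : Nat.card M < Nat.card H) : False := by
  have hNM : normalizer ((P : Subgroup G) : Set G) = M := (hM.le_iff.mp hP).resolve_left hPtop
  obtain ⟨g, hg⟩ := MulAction.exists_smul_eq G P' P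
  set φ := MulAut.conj g
  have hPmap : (P' : Subgroup G).map φ.toMonoidHom = (P : Subgroup G) := by
    rw [← hg, Sylow.coe_subgroup_smul]; rfl
  have hJM : J.map φ.toMonoidHom ≤ M := by
    refine (Subgroup.map_mono hJ).trans (le_of_eq ?_)
    rw [Subgroup.map_equiv_normalizer_eq, hPmap, hNM]
  have hcard : ∀ S : Subgroup G, Nat.card (S.map φ.toMonoidHom) = Nat.card S := fun S =>
    (Nat.card_congr (S.equivMapOfInjective _ φ.injective).toEquiv).symm
  have heq : J.map φ.toMonoidHom = M := eq_of_le_of_card_ge hJM (by rw [hcard]; exact hJc)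
  rcases hM.le_iff.mp (heq ▸ Subgroup.map_mono hJH : M ≤ H.map φ.toMonoidHom) with h | h
  · apply hH
    rw [← Subgroup.comap_map_eq_self_of_injective (f := φ.toMonoidHom) φ.injective H, h, Subgroup.comap_top]
  · rw [← h, hcard] at hlt
    exact lt_irrefl _ hlt

/-- A subgroup with a normal fours group is not maximal when eight divides the order. -/
theorem not_max_twelve [IsSimpleGroup G] {M V : Subgroup G} (hM : IsCoatom M) (hc : Nat.card M = 12)
    (hVc : Nat.card V = 4) (hV : M ≤ normalizer (V : Set G)) (h8 : 8 ∣ Nat.card G) : False := by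
  haveI : Fact (Nat.Prime 2) := ⟨Nat.prime_two⟩
  obtain ⟨K, hK, hVK⟩ := Sylow.exists_subgroup_card_pow_succ (p := 2) (n := 2) h8 hVc
  have hbot : V ≠ ⊥ := fun h => by rw [h, Subgroup.card_bot] at hVc; omega
  have htop : V ≠ ⊤ := fun h => by
    rw [h, Subgroup.card_top] at hVc
    have := Nat.le_of_dvd (by omega) h8
    omega
  have hNM := (hM.le_iff.mp hV).resolve_left (normalizer_ne_top_of_simple hbot htop)
  haveI : (V.subgroupOf K).Normal := by
    refine Subgroup.normal_of_index_eq_two ?_
    have h := (V.subgroupOf K).card_mul_index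
    rw [Nat.card_congr (Subgroup.subgroupOfEquivOfLe hVK).toEquiv, hVc, hK] at h
    omega
  have h : 8 ∣ Nat.card M := by
    rw [show (8 : ℕ) = Nat.card K by rw [hK]; rfl]
    exact Subgroup.card_dvd_of_le (hNM ▸ Subgroup.le_normalizer_of_normal_subgroupOf hVK)
  omega

/-- The fours group of a subgroup isomorphic to `A₄`. -/
theorem exists_normal_four {M : Subgroup G} (e : M ≃* alternatingGroup (Fin 4)) :
    ∃ V : Subgroup G, V ≤ M ∧ Nat.card V = 4 ∧ M ≤ normalizer (V : Set G) := by
  have h4 : Nat.card (Fin 4) = 4 := Nat.card_fin 4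
  haveI := alternatingGroup.normal_kleinFour (α := Fin 4) h4
  let f : alternatingGroup (Fin 4) →* G := M.subtype.comp e.symm.toMonoidHom
  have hf : Function.Injective f := Subtype.val_injective.comp e.symm.injective
  refine ⟨(alternatingGroup.kleinFour (Fin 4)).map f, ?_, ?_, ?_⟩
  · rintro _ ⟨x, -, rfl⟩
    exact SetLike.coe_mem _
  · rw [← Nat.card_congr ((alternatingGroup.kleinFour (Fin 4)).equivMapOfInjective f hf).toEquiv,
      alternatingGroup.kleinFour_card_of_card_eq_four h4]
  · intro x hx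
    refine Subgroup.le_normalizer_map f ⟨e ⟨x, hx⟩, ?_, ?_⟩
    · rw [Subgroup.normalizer_eq_top]; exact Subgroup.mem_top _
    · show ((e.symm (e ⟨x, hx⟩) : M) : G) = x
      rw [e.symm_apply_apply]

/-- A maximal normaliser of a Sylow subgroup of prime order, and a bigger subgroup with few Sylow subgroups. -/
theorem not_max_dihedral [IsSimpleGroup G] {m : ℕ} [Fact m.Prime] (hm : m ≠ 2) {M H : Subgroup G} (hM : IsCoatom M)
    (e : M ≃* DihedralGroup m) (hsq : ¬ m ^ 2 ∣ Nat.card G) (hH : H ≠ ⊤) (hlt : 2 * m < Nat.card H)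
    (hdvd : m ∣ Nat.card H)
    (hn : ∀ n, n ∣ Nat.card H / m → n % m = 1 → n = 1 ∨ n * (2 * m) = Nat.card H) : False := by
  have hp : m.Prime := Fact.out
  have hMc : Nat.card M = 2 * m := by rw [Nat.card_congr e.toEquiv, DihedralGroup.nat_card]
  obtain ⟨x, hx⟩ : ∃ x : M, orderOf x = m :=
    ⟨e.symm (DihedralGroup.r 1), by rw [MulEquiv.orderOf_eq, DihedralGroup.orderOf_r_one]⟩
  have hfac : (Nat.card G).factorization m = 1 := by
    have h0 : Nat.card G ≠ 0 := Nat.card_pos.ne'
    have h1 : m ∣ Nat.card G := hdvd.trans H.card_subgroup_dvd_card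
    have h2 := (hp.pow_dvd_iff_le_factorization h0 (k := 1)).mp (by rwa [pow_one])
    by_contra h3
    exact hsq ((hp.pow_dvd_iff_le_factorization h0).mpr (by omega))
  have hPc : Nat.card (Subgroup.zpowers (x : G)) = m ^ (Nat.card G).factorization m := by
    rw [Nat.card_zpowers, Subgroup.orderOf_coe, hx, hfac, pow_one]
  let P : Sylow m G := Sylow.ofCard _ hPc
  have hPle : (P : Subgroup G) ≤ M := Subgroup.zpowers_le.mpr x.2
  have hPc' : Nat.card (P : Subgroup G) = m := by
    rw [show (P : Subgroup G) = Subgroup.zpowers (x : G) from rfl, hPc, hfac, pow_one]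
  haveI : ((P : Subgroup G).subgroupOf M).Normal := by
    refine Subgroup.normal_of_index_eq_two ?_
    have h := ((P : Subgroup G).subgroupOf M).card_mul_index
    rw [Nat.card_congr (Subgroup.subgroupOfEquivOfLe hPle).toEquiv, hPc', hMc, mul_comm 2 m] at h
    exact Nat.eq_of_mul_eq_mul_left hp.pos h
  have hP : M ≤ normalizer ((P : Subgroup G) : Set G) := Subgroup.le_normalizer_of_normal_subgroupOf hPle
  have hPtop : normalizer ((P : Subgroup G) : Set G) ≠ ⊤ := by
    refine normalizer_ne_top_of_simple (fun h => ?_) fun h => ?_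
    · rw [h, Subgroup.card_bot] at hPc'; exact hp.ne_one hPc'.symm
    · exact hM.1 (eq_top_iff.mpr (h ▸ hPle))
  obtain ⟨Q⟩ : Nonempty (Sylow m H) := inferInstance
  have hQc : Nat.card (Q : Subgroup H) = m := by
    obtain ⟨k, hk⟩ := IsPGroup.iff_card.mp Q.isPGroup'
    have h1 : m ^ 1 ∣ Nat.card (Q : Subgroup H) := Q.pow_dvd_card_of_pow_dvd_card (by rwa [pow_one])
    rw [hk] at h1 ⊢
    rcases Nat.lt_or_ge k 2 with h | h
    · have := (Nat.pow_dvd_pow_iff_le_right hp.one_lt).mp h1
      rw [show k = 1 by omega, pow_one]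
    · exact absurd ((pow_dvd_pow m h).trans (hk ▸ (Q : Subgroup H).card_subgroup_dvd_card.trans
        H.card_subgroup_dvd_card)) hsq
  have hQc' : Nat.card ((Q : Subgroup H).map H.subtype) = m ^ (Nat.card G).factorization m := by
    rw [← Nat.card_congr ((Q : Subgroup H).equivMapOfInjective _ H.subtype_injective).toEquiv, hQc, hfac, pow_one]
  refine not_max_conj (J := (normalizer ((Q : Subgroup H) : Set H)).map H.subtype) hM P (Sylow.ofCard _ hQc') hP
    hPtop ?_ ?_ ?_ hH (hMc ▸ hlt)
  · rw [Sylow.coe_ofCard, Subgroup.coe_map]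
    exact Subgroup.le_normalizer_map _
  · rw [← Nat.card_congr ((normalizer ((Q : Subgroup H) : Set H)).equivMapOfInjective _ H.subtype_injective).toEquiv,
      hMc]
    have h := (normalizer ((Q : Subgroup H) : Set H)).card_mul_index
    have hidx : (Q : Subgroup H).index = Nat.card H / m := by
      have h' := (Q : Subgroup H).card_mul_index
      rw [hQc] at h'
      rw [← h', Nat.mul_div_cancel_left _ hp.pos]
    have h2 : Nat.card (Sylow m H) % m = 1 := by
      have := card_sylow_modEq_one m H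
      rw [Nat.ModEq, Nat.mod_eq_of_lt hp.one_lt] at this
      exact this
    rw [show (normalizer ((Q : Subgroup H) : Set H)).index = Nat.card (Sylow m H) from
      (Sylow.card_eq_index_normalizer Q).symm] at h
    rcases hn _ (hidx ▸ Q.card_dvd_index) h2 with h1 | h1
    · rw [h1, mul_one] at h; omega
    · rw [← h] at h1
      have : 0 < Nat.card (Sylow m H) := Nat.card_pos
      exact le_of_eq (Nat.eq_of_mul_eq_mul_left this (h1.trans (mul_comm _ _)))
  · exact Subgroup.map_subtype_le _

/-- A maximal subgroup that is a Sylow subgroup. -/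
theorem not_max_sylow [IsSimpleGroup G] {m : ℕ} [Fact m.Prime] {k : ℕ} (hk : 1 ≤ k) {M H : Subgroup G}
    (hM : IsCoatom M) (hMc : Nat.card M = m ^ k) (hG : m ^ k ∣ Nat.card G) (hG' : ¬ m ^ (k + 1) ∣ Nat.card G)
    (hH : H ≠ ⊤) (hlt : m ^ k < Nat.card H) (hdvd : m ^ k ∣ Nat.card H) : False := by
  have hfac : (Nat.card G).factorization m = k := by
    have hp : m.Prime := Fact.out
    have h1 := (hp.pow_dvd_iff_le_factorization Nat.card_pos.ne').mp hG
    have h2 : ¬ k + 1 ≤ (Nat.card G).factorization m := fun h =>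
      hG' ((hp.pow_dvd_iff_le_factorization Nat.card_pos.ne').mpr h)
    omega
  obtain ⟨J, hJ⟩ := Sylow.exists_subgroup_card_pow_prime (G := H) m hdvd
  have hJc : Nat.card (J.map H.subtype) = m ^ k := by
    rw [← Nat.card_congr (J.equivMapOfInjective _ H.subtype_injective).toEquiv, hJ]
  refine not_max_conj (J := J.map H.subtype) hM (Sylow.ofCard M (hfac.symm ▸ hMc))
    (Sylow.ofCard _ (hfac.symm ▸ hJc)) ?_ ?_ ?_ (le_of_eq (hMc.trans hJc.symm)) (Subgroup.map_subtype_le _) hH
    (hMc ▸ hlt)
  · rw [Sylow.coe_ofCard]; exact Subgroup.le_normalizer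
  · rw [Sylow.coe_ofCard]
    refine normalizer_ne_top_of_simple (fun h => ?_) hM.1
    rw [h, Subgroup.card_bot] at hMc
    exact absurd hMc.symm (Nat.one_lt_pow (by omega) (Fact.out : m.Prime).one_lt).ne'
  · rw [Sylow.coe_ofCard]; exact Subgroup.le_normalizer

end Cfsg.Agent.Lib.Geometry.Dickson
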