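import Cfsg.Agent.Lib.Geometry.Dickson.MaxSubfield
import Cfsg.Agent.Lib.Geometry.Dickson.MaxExist
import Cfsg.Agent.Lib.Geometry.Dickson.MaxLocal
import Cfsg.Agent.Lib.Geometry.Dickson.Maximal
import Cfsg.Agent.S0803

/-!
The candidates for maximal subgroups of `PSL₂`.
-/

set_option autoImplicit false

namespace Cfsg.Agent.Lib.Geometry.Dickson

open Matrix
open scoped Matrix MatrixGroups
open Cfsg.Agent.Lib.SL2Trace (tr sq_eq tr_neg toPSL toPSL_surjective toPSL_eq toPSL_eq_one mem_center_iff)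

variable {F : Type*} [Field F] [Fintype F] (p : ℕ) [Fact p.Prime] [CharP F p]

local notation "SL2" => Matrix.SpecialLinearGroup (Fin 2) F
local notation "M2" => Matrix (Fin 2) (Fin 2) F
local notation "PSL2" => Matrix.ProjectiveSpecialLinearGroup (Fin 2) F

/-- Conjugate into the group of a proper subfield. -/
def InSubfield (M : Subgroup PSL2) : Prop :=
  ∃ (K : Subfield F) (ψ : SL2 ≃* SL2), K ≠ ⊤ ∧ (M.comap toPSL).map ψ.toMonoidHom ≤ projSub K

theorem center_le_comap (M : Subgroup PSL2) : Subgroup.center SL2 ≤ M.comap toPSL := fun z hz => by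
  rw [Subgroup.mem_comap, show toPSL z = 1 from toPSL_eq_one.mpr (mem_center_iff.mp hz)]
  exact M.one_mem

theorem le_torusNorm_of_conj {M : Subgroup PSL2} {X : SL2} (hX : X ∉ Subgroup.center SL2)
    (h : ∀ g ∈ M, g * toPSL X * g⁻¹ ∈ Subgroup.zpowers (toPSL X)) : M ≤ torusNorm X := by
  intro g hg
  obtain ⟨G, rfl⟩ := toPSL_surjective g
  refine ⟨G, (mem_cellNorm_iff ⊤).mpr ⟨Subgroup.mem_top G, ?_⟩, rfl⟩
  rw [cell_conj ⊤ (Subgroup.mem_top G)]
  refine cell_eq ⊤ hX (conj_notMem_center hX G) ?_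
  obtain ⟨i, hi⟩ := Subgroup.mem_zpowers_iff.mp (h _ hg)
  rw [← map_zpow, ← map_inv, ← map_mul, ← map_mul] at hi
  have hi' : X ^ i ∈ cell ⊤ X := Subgroup.zpow_mem _ (mem_cell_self ⊤ (Subgroup.mem_top X)) i
  rcases toPSL_eq.mp hi with e | e
  · exact e ▸ hi'
  · rw [e, neg_eq_neg_one_mul]
    exact (cell ⊤ X).mul_mem (center_le_cell ⊤ le_top X (mem_center_iff.mpr (Or.inr rfl))) hi'

theorem sylow_zpowers {X : SL2} (ht : tr X ^ 2 = 4) :
    ∃ S : Sylow p PSL2, Subgroup.zpowers (toPSL X) ≤ (S : Subgroup PSL2) := by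
  refine IsPGroup.exists_le_sylow ?_
  rintro ⟨_, i, rfl⟩
  refine ⟨1, Subtype.ext ?_⟩
  show (toPSL X ^ i) ^ (p ^ 1) = 1
  rw [pow_one, ← zpow_natCast, ← _root_.zpow_mul, mul_comm, _root_.zpow_mul, zpow_natCast, ← map_pow,
    toPSL_eq_one.mpr (Cfsg.Agent.Lib.SL2Trace.pow_char_of_tr p ht), _root_.one_zpow]

/-- The data of the normaliser of a maximal torus. -/
theorem torus_data_top {y : SL2} (hy : y ∉ Subgroup.center SL2) (ht : tr y ^ 2 ≠ 4) :
    ∃ m, (Nat.gcd 2 (Fintype.card F - 1) * m = Fintype.card F - 1 ∨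
        Nat.gcd 2 (Fintype.card F - 1) * m = Fintype.card F + 1) ∧
      Nonempty (torusNorm y ≃* DihedralGroup m) := by
  have hq := Fintype.card_pos (α := F)
  by_cases hs : IsSplit y
  · exact ⟨_, Or.inl (Nat.mul_div_cancel' (Nat.gcd_dvd_right _ _)), (torusNorm_data hy ht (split_half hy ht hs)).1⟩
  · refine ⟨_, Or.inr (Nat.mul_div_cancel' ?_), (torusNorm_data hy ht (nonsplit_half hy ht hs)).1⟩
    have h2 := Nat.gcd_dvd_left 2 (Fintype.card F - 1)
    have h3 := Nat.gcd_dvd_right 2 (Fintype.card F - 1)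
    rw [show Fintype.card F + 1 = (Fintype.card F - 1) + 2 by omega]
    exact Nat.dvd_add h3 h2

theorem torusNorm_ne_top (h4 : 4 ≤ Fintype.card F) {y : SL2} (hy : y ∉ Subgroup.center SL2) (ht : tr y ^ 2 ≠ 4) :
    torusNorm y ≠ ⊤ := by
  intro h
  obtain ⟨m, hm, ⟨e⟩⟩ := torus_data_top hy ht
  have hc := Nat.card_congr e.toEquiv
  rw [DihedralGroup.nat_card, h, Subgroup.card_top] at hc
  have hG := card_PSL2 (F := F)
  rw [hc] at hG
  obtain ⟨j, hj⟩ : ∃ j, Fintype.card F = j + 4 := ⟨Fintype.card F - 4, by omega⟩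
  rw [hj] at hG hm
  rw [show Nat.gcd 2 (j + 4 - 1) * (2 * m) = 2 * (Nat.gcd 2 (j + 4 - 1) * m) by ring,
    show j + 4 - 1 = j + 3 by omega] at hG
  rw [show j + 4 - 1 = j + 3 by omega] at hm
  rcases hm with h | h <;> rw [h] at hG <;> nlinarith [Nat.mul_le_mul (show 4 ≤ j + 4 by omega) (Nat.mul_le_mul (show 3 ≤ j + 3 by omega) (le_refl (j + 4 + 1)))]

/-- The first two kinds of maximal subgroups. -/
def IsClassical (M : Subgroup PSL2) : Prop :=
  (Nat.gcd 2 (Fintype.card F - 1) * Nat.card M = Fintype.card F * (Fintype.card F - 1)) ∨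
    ∃ m, (Nat.gcd 2 (Fintype.card F - 1) * m = Fintype.card F - 1 ∨
        Nat.gcd 2 (Fintype.card F - 1) * m = Fintype.card F + 1) ∧ Nonempty (M ≃* DihedralGroup m)

theorem classical_of_borel {M : Subgroup PSL2} (hM : IsCoatom M) (S : Sylow p PSL2)
    (h : M ≤ Subgroup.normalizer ((S : Subgroup PSL2) : Set PSL2)) : IsClassical M := by
  have hidx := index_normalizer_sylow p S
  have hne : Subgroup.normalizer ((S : Subgroup PSL2) : Set PSL2) ≠ ⊤ := fun h' => by
    rw [h', Subgroup.index_top] at hidx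
    have := Fintype.card_pos (α := F)
    omega
  refine Or.inl ?_
  have hc := (Subgroup.normalizer ((S : Subgroup PSL2) : Set PSL2)).card_mul_index
  rw [hidx, (hM.le_iff.mp h).resolve_left hne] at hc
  refine Nat.eq_of_mul_eq_mul_right (show 0 < Fintype.card F + 1 by omega) ?_
  rw [mul_assoc, hc, card_PSL2]
  ring

theorem classical_of_torus (h4 : 4 ≤ Fintype.card F) {M : Subgroup PSL2} (hM : IsCoatom M) {y : SL2}
    (hy : y ∉ Subgroup.center SL2) (ht : tr y ^ 2 ≠ 4) (h : M ≤ torusNorm y) : IsClassical M := by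
  obtain ⟨m, hm, he⟩ := torus_data_top hy ht
  exact Or.inr ⟨m, hm, (hM.le_iff.mp h).resolve_left (torusNorm_ne_top h4 hy ht) ▸ he⟩

include p in
/-- A maximal subgroup with a normal cyclic subgroup is classical. -/
theorem classical_of_normal_zpowers (h4 : 4 ≤ Fintype.card F) {M : Subgroup PSL2} (hM : IsCoatom M) {x : PSL2}
    (hx1 : x ≠ 1) (hn : ∀ g ∈ M, g * x * g⁻¹ ∈ Subgroup.zpowers x)
    (hc : M ≤ Subgroup.zpowers x ∨ ¬ p ∣ orderOf x) : IsClassical M := by
  obtain ⟨X, rfl⟩ := toPSL_surjective x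
  have hX : X ∉ Subgroup.center SL2 := fun h => hx1 (toPSL_eq_one.mpr (mem_center_iff.mp h))
  by_cases ht : tr X ^ 2 = 4
  · rcases hc with hc | hc
    · obtain ⟨S, hS⟩ := sylow_zpowers p ht
      exact classical_of_borel p hM S (hc.trans (hS.trans Subgroup.le_normalizer))
    · exfalso
      apply hc
      have h : orderOf (toPSL X) ∣ p := orderOf_dvd_of_pow_eq_one (by
        rw [← map_pow]; exact toPSL_eq_one.mpr (Cfsg.Agent.Lib.SL2Trace.pow_char_of_tr p ht))
      rcases (Fact.out : p.Prime).eq_one_or_self_of_dvd _ h with h' | h'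
      · exact absurd (orderOf_eq_one_iff.mp h') hx1
      · rw [h']
  · exact classical_of_torus h4 hM hX ht (le_torusNorm_of_conj hX hn)

include p in
theorem classical_of_cyclic (h4 : 4 ≤ Fintype.card F) {M : Subgroup PSL2} (hM : IsCoatom M) [IsCyclic M] :
    IsClassical M := by
  obtain ⟨⟨x, hxM⟩, hx⟩ := IsCyclic.exists_generator (α := M)
  have hle : M ≤ Subgroup.zpowers x := fun g hg => by
    obtain ⟨i, hi⟩ := Subgroup.mem_zpowers_iff.mp (hx ⟨g, hg⟩)
    exact Subgroup.mem_zpowers_iff.mpr ⟨i, congrArg Subtype.val hi⟩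
  by_cases hx1 : x = 1
  · obtain ⟨y, -, ht, hy⟩ := exists_nonsplit (F := F)
    refine classical_of_torus h4 hM hy ht (hle.trans ?_)
    rw [hx1, Subgroup.zpowers_one_eq_bot]
    exact bot_le
  exact classical_of_normal_zpowers p h4 hM hx1
    (fun g hg => hle (M.mul_mem (M.mul_mem hg hxM) (M.inv_mem hg))) (Or.inl hle)

include p in
theorem classical_of_dihedral (h4 : 4 ≤ Fintype.card F) {M : Subgroup PSL2} (hM : IsCoatom M) {k : ℕ}
    (hk : k ∣ (Fintype.card F + 1) / Nat.gcd 2 (Fintype.card F - 1) ∨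
      k ∣ (Fintype.card F - 1) / Nat.gcd 2 (Fintype.card F - 1)) (e : M ≃* DihedralGroup k) : IsClassical M := by
  have hc := Nat.card_congr e.toEquiv
  rw [DihedralGroup.nat_card] at hc
  have hk0 : 0 < k := by have : 0 < Nat.card M := Nat.card_pos; omega
  rcases Nat.lt_or_ge k 2 with h | h
  · haveI : Fact (Nat.Prime 2) := ⟨Nat.prime_two⟩
    haveI : IsCyclic M := isCyclic_of_prime_card (p := 2) (by omega)
    exact classical_of_cyclic p h4 hM
  have hpq : p ∣ Fintype.card F := by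
    obtain ⟨n, -, hn⟩ := FiniteField.card F p
    rw [hn]; exact dvd_pow_self p n.ne_zero
  have hq := Fintype.card_pos (α := F)
  have hpk : ¬ p ∣ k := fun hd => by
    have h1 : p ∣ 1 := by
      rcases hk with hk | hk
      · have h1 : p ∣ Fintype.card F + 1 := (hd.trans hk).trans (Nat.div_dvd_of_dvd (by
          have h2 := Nat.gcd_dvd_left 2 (Fintype.card F - 1)
          have h3 := Nat.gcd_dvd_right 2 (Fintype.card F - 1)
          rw [show Fintype.card F + 1 = (Fintype.card F - 1) + 2 by omega]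
          exact Nat.dvd_add h3 h2))
        exact (Nat.dvd_add_right hpq).mp h1
      · have h1 : p ∣ Fintype.card F - 1 := (hd.trans hk).trans (Nat.div_dvd_of_dvd (Nat.gcd_dvd_right _ _))
        rw [show (1 : ℕ) = Fintype.card F - (Fintype.card F - 1) by omega]
        exact Nat.dvd_sub hpq h1
    exact (Fact.out : p.Prime).ne_one (Nat.dvd_one.mp h1)
  set x : PSL2 := ((e.symm (DihedralGroup.r 1) : M) : PSL2)
  have hxo : orderOf x = k := by rw [Subgroup.orderOf_coe, MulEquiv.orderOf_eq, DihedralGroup.orderOf_r_one]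
  refine classical_of_normal_zpowers p h4 hM (x := x) (fun h1 => by rw [h1, orderOf_one] at hxo; omega) ?_
    (Or.inr (hxo ▸ hpk))
  intro g hg
  have key : ∀ z : DihedralGroup k, z * DihedralGroup.r 1 * z⁻¹ ∈ Subgroup.zpowers (DihedralGroup.r (1 : ZMod k)) := by
    rintro (i | i)
    · refine Subgroup.mem_zpowers_iff.mpr ⟨1, ?_⟩
      simp
    · refine Subgroup.mem_zpowers_iff.mpr ⟨-1, ?_⟩
      simp
  obtain ⟨i, hi⟩ := Subgroup.mem_zpowers_iff.mp (key (e ⟨g, hg⟩))
  refine Subgroup.mem_zpowers_iff.mpr ⟨i, ?_⟩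
  have := congrArg (fun z => ((e.symm z : M) : PSL2)) hi
  rw [show x ^ i = (((e.symm (DihedralGroup.r 1)) ^ i : M) : PSL2) from (SubgroupClass.coe_zpow _ _).symm, ← map_zpow]
  simpa [x] using this

theorem char_two_of_eq (h2 : p = 2) : (2 : F) = 0 := by
  subst h2
  exact CharTwo.two_eq_zero

theorem tr_zero_of_sq {X : SL2} (hX : X ∉ Subgroup.center SL2) (h : toPSL X * toPSL X = 1) : tr X = 0 := by
  rw [← map_mul] at h
  have hns := not_isScal_of_notMem_center hX
  rcases toPSL_eq_one.mp h with h | h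
  all_goals
    have h' := congrArg (fun g : SL2 => (g : M2)) h
    simp only [Matrix.SpecialLinearGroup.coe_mul, sq_eq, Matrix.SpecialLinearGroup.coe_one,
      Matrix.SpecialLinearGroup.coe_neg] at h'
  · exact (Cfsg.Agent.Lib.KnownA.add_smul_injective hns (a := 0) (b := tr X) (a' := 2) (b' := 0) (by
      rw [zero_smul, zero_add, zero_smul, add_zero, two_smul]; exact sub_eq_iff_eq_add.mp h')).2
  · exact (Cfsg.Agent.Lib.KnownA.add_smul_injective hns (a := 0) (b := tr X) (a' := 0) (b' := 0) (by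
      rw [zero_smul, zero_add, zero_smul, add_zero]
      rw [sub_eq_iff_eq_add] at h'
      rw [h', neg_add_cancel])).2

include p in
theorem classical_of_altFour_two (hp : p = 2) {M : Subgroup PSL2} (hM : IsCoatom M)
    (e : M ≃* alternatingGroup (Fin 4)) : IsClassical M := by
  have h2 := char_two_of_eq (F := F) p hp
  obtain ⟨x, hx2, hx1, hx⟩ : ∃ x : alternatingGroup (Fin 4), x * x = 1 ∧ x ≠ 1 ∧
      ∀ g : alternatingGroup (Fin 4), g * x * g⁻¹ * x = x * (g * x * g⁻¹) := by decide +kernel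
  obtain ⟨X, hX⟩ := toPSL_surjective ((e.symm x : M) : PSL2)
  have hXZ : X ∉ Subgroup.center SL2 := fun h => hx1 (by
    have h1 := toPSL_eq_one.mpr (mem_center_iff.mp h)
    rw [hX, OneMemClass.coe_eq_one] at h1
    exact e.symm.injective (h1.trans e.symm.map_one.symm))
  have ht0 : tr X = 0 := tr_zero_of_sq hXZ (by
    rw [hX, ← Subgroup.coe_mul, ← map_mul, hx2, map_one, Subgroup.coe_one])
  have hXG : X ∈ M.comap toPSL := Subgroup.mem_comap.mpr (hX ▸ SetLike.coe_mem _)
  have ht : tr X ^ 2 = 4 := by rw [ht0]; linear_combination (-2) * h2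
  have hneg : ∀ A : SL2, -A = A := fun A => sl_ext (by
    rw [Matrix.SpecialLinearGroup.coe_neg]
    ext i j
    simp
    linear_combination (-(A : M2) i j) * h2)
  obtain ⟨v, ε, hv, hε, hte, hXv⟩ := exists_fixed_vector ht
  obtain ⟨S, hS⟩ := borel_image p (M.comap toPSL) hXG hXZ ht (le_antisymm inf_le_right fun g hg => by
    refine (mem_cellNorm_unipotent_iff _ hXG hXZ hv hε hte hXv g).mpr ⟨hg, ?_⟩
    refine fix_line_of_conj_mem hXZ hv hε hte hXv (mem_centralizer_iff.mpr ?_)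
    have h := congrArg (fun z => ((e.symm z : M) : PSL2)) (hx (e ⟨toPSL g, Subgroup.mem_comap.mp hg⟩))
    simp only [map_mul, map_inv, MulEquiv.symm_apply_apply, Subgroup.coe_mul, Subgroup.coe_inv, ← hX] at h
    simp only [← map_inv, ← map_mul] at h
    rcases toPSL_eq.mp h with h' | h'
    · exact h'.symm
    · rw [hneg] at h'; exact h'.symm)
  rw [Subgroup.map_comap_eq_self_of_surjective toPSL_surjective] at hS
  exact classical_of_borel p hM S hS

include p in
/-- Traces of preimages of elements of small order lie in a small field. -/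
theorem tr_mem_of_order {K : Subfield F} {X : SL2}
    (h : toPSL X * toPSL X = 1 ∨ toPSL X ^ 3 = 1 ∨ toPSL X ^ 5 = 1)
    (h5 : X ∉ Subgroup.center SL2 → toPSL X ^ 5 = 1 → ∀ t : F, t * t = t + 1 → t ∈ K) : tr X ∈ K := by
  by_cases hZ : X ∈ Subgroup.center SL2
  · rcases mem_center_iff.mp hZ with rfl | rfl
    · rw [Cfsg.Agent.Lib.SL2Trace.tr_eq]; simp; exact add_mem (one_mem K) (one_mem K)
    · rw [tr_neg, Cfsg.Agent.Lib.SL2Trace.tr_eq]; simp; exact add_mem (neg_mem (one_mem K)) (neg_mem (one_mem K))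
  rcases h with h | h | h
  · rw [tr_zero_of_sq hZ h]; exact zero_mem K
  · have hns := not_isScal_of_notMem_center hZ
    set t := tr X
    set A := (X : M2)
    have hM : A * A = t • A - 1 := sq_eq X
    have h3 : A * A * A = (t * t - 1) • A - t • 1 := by
      rw [hM, sub_mul, Matrix.smul_mul, hM, one_mul, smul_sub, smul_smul, sub_smul, one_smul]; abel
    obtain ⟨e, he⟩ : ∃ e : F, A * A * A = e • 1 := by
      rw [← map_pow] at h
      rcases toPSL_eq_one.mp h with h | h
      · exact ⟨1, by simpa [pow_succ, A] using congrArg (fun g : SL2 => (g : M2)) h⟩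
      · exact ⟨-1, by simpa [pow_succ, A] using congrArg (fun g : SL2 => (g : M2)) h⟩
    have h0 := (Cfsg.Agent.Lib.KnownA.add_smul_injective hns (a := -t) (b := t * t - 1) (a' := e) (b' := 0) (by
      rw [zero_smul, add_zero, ← he, h3, neg_smul]; abel)).2
    rcases mul_self_eq_one_iff.mp (sub_eq_zero.mp h0) with h | h
    · exact h ▸ one_mem K
    · exact h ▸ neg_mem (one_mem K)
  · have hns := not_isScal_of_notMem_center hZ
    have h5' := h5 hZ h
    set t := tr X
    set A := (X : M2)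
    have hM : A * A = t • A - 1 := sq_eq X
    have h3 : A * A * A = (t * t - 1) • A - t • 1 := by
      rw [hM, sub_mul, Matrix.smul_mul, hM, one_mul, smul_sub, smul_smul, sub_smul, one_smul]; abel
    have hA5 : A ^ 5 = (t * t * t * t - 3 * (t * t) + 1) • A - (t * t * t - 2 * t) • 1 := by
      rw [show (5 : ℕ) = 2 + 3 from rfl, pow_add, pow_succ A 2, sq, h3, hM, sub_mul, mul_sub, mul_sub,
        Matrix.smul_mul, Matrix.smul_mul, Matrix.mul_smul, Matrix.mul_smul, hM, one_mul, one_mul, mul_one]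
      simp only [smul_sub, smul_smul]
      rw [show t * t * t * t - 3 * (t * t) + 1 = t * ((t * t - 1) * t) - t * t - (t * t - 1) by ring,
        show t * t * t - 2 * t = t * (t * t - 1) - t by ring]
      simp only [sub_smul]
      abel
    obtain ⟨e, he⟩ : ∃ e : F, A ^ 5 = e • 1 := by
      rw [← map_pow] at h
      rcases toPSL_eq_one.mp h with h | h
      · exact ⟨1, by simpa [A] using congrArg (fun g : SL2 => (g : M2)) h⟩
      · exact ⟨-1, by simpa [A] using congrArg (fun g : SL2 => (g : M2)) h⟩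
    have h0 := (Cfsg.Agent.Lib.KnownA.add_smul_injective hns (a := -(t * t * t - 2 * t))
      (b := t * t * t * t - 3 * (t * t) + 1) (a' := e) (b' := 0) (by
        rw [zero_smul, add_zero, ← he, hA5, neg_smul]; abel)).2
    rcases mul_eq_zero.mp (show (t * t - t - 1) * (t * t + t - 1) = 0 by linear_combination h0) with h' | h'
    · exact h5' t (by linear_combination h')
    · simpa using neg_mem (h5' (-t) (by linear_combination h'))

include p in
/-- A subgroup normalising one of small element orders is conjugate into a small field. -/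
theorem inSubfield_of_orders {M : Subgroup PSL2} {X₀ : Type*} [Group X₀] (f : X₀ →* M)
    (hf : Function.Injective f) (hn : f.range.Normal) (K : Subfield F) (hK : K ≠ ⊤)
    (ho : ∀ z : X₀, (z * z = 1 ∨ z ^ 3 = 1 ∨ z ^ 5 = 1) ∧ (z ^ 5 = 1 → z ≠ 1 → ∀ t : F, t * t = t + 1 → t ∈ K))
    {x y : X₀} (hx : x * x = 1) (hcomm : ¬ orderOf (x * y * x⁻¹ * y⁻¹) ∣ p) : InSubfield M := by
  classical
  let ι : X₀ →* PSL2 := M.subtype.comp f
  have hι : Function.Injective ι := Subtype.val_injective.comp hf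
  set G₀ := (ι.range).comap (toPSL : SL2 →* PSL2) with hG₀
  have htr : ∀ h ∈ G₀, tr h ∈ K := fun h hh => by
    obtain ⟨z, hz⟩ := hh
    refine tr_mem_of_order p ((ho z).1.imp ?_ (Or.imp ?_ ?_)) fun hc h5 t => ?_
    · intro e; rw [← hz, ← map_mul, e, map_one]
    · intro e; rw [← hz, ← map_pow, e, map_one]
    · intro e; rw [← hz, ← map_pow, e, map_one]
    · rw [← hz, ← map_pow, ← map_one ι] at h5
      exact (ho z).2 (hι h5) (fun hz1 => hc (mem_center_iff.mpr (toPSL_eq_one.mp (by rw [← hz, hz1, map_one])))) t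
  obtain ⟨X, hX⟩ := toPSL_surjective (ι x)
  obtain ⟨Y, hY⟩ := toPSL_surjective (ι y)
  have hXZ : X ∉ Subgroup.center SL2 := fun h => hcomm (by
    have h1 := toPSL_eq_one.mpr (mem_center_iff.mp h)
    rw [hX, ← map_one ι] at h1
    rw [hι h1]; simp)
  have ht0 : tr X = 0 := tr_zero_of_sq hXZ (by rw [hX, ← map_mul, hx, map_one])
  obtain ⟨ψ, hψ⟩ := trace_field_conj (M.comap toPSL) G₀ (fun g hg h hh => by
      obtain ⟨z, hz⟩ := hh
      obtain ⟨w, hw⟩ := hn.conj_mem _ ⟨z, rfl⟩ (⟨toPSL g, hg⟩ : M)⁻¹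
      refine ⟨w, ?_⟩
      show ((f w : M) : PSL2) = toPSL (g⁻¹ * h * g)
      rw [hw, map_mul, map_mul, map_inv, ← hz]
      simp [ι]) K htr (X := X) (Y := Y) ⟨x, hX.symm⟩ ⟨y, hY.symm⟩ ht0 (fun h => hcomm (by
    have hc := tr_commutator_of_tr_zero X Y ht0
    rw [← orderOf_injective ι hι (x * y * x⁻¹ * y⁻¹)]
    refine orderOf_dvd_of_pow_eq_one ?_
    simp only [map_mul, map_inv, ← hX, ← hY]
    simp only [← map_inv, ← map_mul, ← map_pow]
    exact toPSL_eq_one.mpr (Cfsg.Agent.Lib.SL2Trace.pow_char_of_tr p (by rw [hc, h]; norm_num))))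
  exact ⟨K, ψ, hK, hψ⟩

include p in
/-- The subfield shape lies in the group of a proper subfield. -/
theorem inSubfield_of_shape {M : Subgroup PSL2} (hM : M ≠ ⊤) {u : SL2} {r : ℕ} (hu : u ∈ M.comap toPSL)
    (huZ : u ∉ Subgroup.center SL2) (ht : tr u ^ 2 = 4) (hr : 2 ≤ r)
    (hc : Nat.card (cell (M.comap toPSL) u) = Nat.card (Subgroup.center SL2) * r)
    (h : Nat.card (cls (M.comap toPSL) u) = r + 1) : InSubfield M := by
  have hZ := center_le_comap M
  obtain ⟨ψ, lam, hlam, hup, hlo, hc', hn'⟩ := exists_normal_form (M.comap toPSL) hZ hu huZ ht h (by omega)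
  obtain ⟨K, -, -, hKu, hKl, hline⟩ := subfield_normal ((M.comap toPSL).map ψ.toMonoidHom) p
    (center_le_map _ ψ hZ) hlam hup hlo (hc'.trans hc) hn'
  refine ⟨K, ψ, fun hK => hM ?_, fun g hg => ?_⟩
  · have htop : (M.comap toPSL).map ψ.toMonoidHom = ⊤ :=
      eq_top_of_upper_lower (fun x => (hKu x).mpr (hK ▸ Subfield.mem_top x))
        (fun x => (hKl x).mpr (hK ▸ Subfield.mem_top x))
    rw [← Subgroup.map_comap_eq_self_of_surjective toPSL_surjective M, ← Subgroup.comap_map_eq_self_of_injective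
      (f := ψ.toMonoidHom) ψ.injective (M.comap toPSL), htop, Subgroup.comap_top]
    exact Subgroup.map_top_of_surjective _ toPSL_surjective
  · obtain ⟨S, D, a, rfl, -, ha, hDe⟩ := exists_decomposition _ hKu hKl hline hg
    refine Subgroup.mul_mem _ ⟨1, one_ne_zero, fun i j => ?_⟩ ?_
    · rw [one_mul, coe_subIncl]; exact SetLike.coe_mem _
    have ha0 : a ≠ 0 := by
      intro h
      have := D.2
      rw [hDe, h] at this
      simp [Matrix.det_fin_two] at this
    refine ⟨a, ha0, fun i j => ?_⟩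
    rw [hDe]
    fin_cases i <;> fin_cases j <;> simp [ha0, zero_mem, one_mem, ha]

include p in
theorem maximal_cases (h4 : 4 ≤ Fintype.card F) {M : Subgroup PSL2} (hM : IsCoatom M) :
    IsClassical M ∨ InSubfield M ∨ (p ≠ 2 ∧ Nonempty (M ≃* alternatingGroup (Fin 4))) ∨
      (p ≠ 2 ∧ Nonempty (M ≃* Equiv.Perm (Fin 4))) ∨ Nonempty (M ≃* alternatingGroup (Fin 5)) := by
  rcases subType p M with ⟨k, -, hc, -⟩ | ⟨k, hk, ⟨e⟩⟩ | ⟨S, h⟩ | h | h | h | ⟨L, hL⟩
  · haveI := hc; exact Or.inl (classical_of_cyclic p h4 hM)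
  · exact Or.inl (classical_of_dihedral p h4 hM hk e)
  · exact Or.inl (classical_of_borel p hM S h)
  · by_cases hp : p = 2
    · obtain ⟨e⟩ := h
      exact Or.inl (classical_of_altFour_two p hp hM e)
    · exact Or.inr (Or.inr (Or.inl ⟨hp, h⟩))
  · by_cases hp : p = 2
    · exfalso
      have h1 := (Cfsg.Agent.S0803.result (F := F) rfl).mp ⟨M, h⟩
      obtain ⟨n, -, hn⟩ := FiniteField.card F p
      rw [q_mod_eight_iff, hn, hp] at h1
      have h2 : 2 ∣ 2 ^ (n : ℕ) := dvd_pow_self 2 n.ne_zero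
      omega
    · exact Or.inr (Or.inr (Or.inr (Or.inl ⟨hp, h⟩)))
  · exact Or.inr (Or.inr (Or.inr (Or.inr h)))
  · rcases shape (M.comap toPSL) p (center_le_comap M) with h | ⟨y, hy, hyZ, ht, h⟩ | ⟨y, a, hy, ht, h⟩ |
      ⟨y, hy, hyZ, ht, h⟩ | ⟨y, hy, ht, h⟩ | ⟨y, hy, ht, h⟩ | ⟨y₂, y₃, y₅, h₂, h₃, h₅, hcover, h⟩ |
      ⟨y, r, k, hy, hyZ, ht, hr, hc, h⟩
    all_goals try have hmap := Subgroup.map_comap_eq_self_of_surjective toPSL_surjective M
    · haveI : IsCyclic M := by
        have hbot : M = ⊥ := by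
          rw [eq_bot_iff, ← hmap]
          rintro _ ⟨g, hg, rfl⟩
          exact toPSL_eq_one.mpr (mem_center_iff.mp (h hg))
        rw [hbot]; infer_instance
      exact Or.inl (classical_of_cyclic p h4 hM)
    · haveI : IsCyclic M := by rw [← hmap]; exact cyclic_image _ hyZ ht h
      exact Or.inl (classical_of_cyclic p h4 hM)
    · obtain ⟨e⟩ := dihedral_image _ (center_le_comap M) hy ht h
      rw [hmap] at e
      exact Or.inl (classical_of_dihedral p h4 hM (dvd_of_torus _ (center_le_comap M) hy.1 hy.2.1 ht hy.2.2.1) e)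
    · obtain ⟨S, hS⟩ := borel_image p _ hy hyZ ht h
      exact Or.inl (classical_of_borel p hM S (hmap ▸ hS))
    · by_cases hp : p = 2
      · obtain ⟨e⟩ := tetrahedral_image _ (center_le_comap M) hy ht h
        rw [hmap] at e
        exact Or.inl (classical_of_altFour_two p hp hM e)
      · exact Or.inr (Or.inr (Or.inl ⟨hp, hmap ▸ tetrahedral_image _ (center_le_comap M) hy ht h⟩))
    · by_cases hp : p = 2
      · exfalso
        have h1 := (Cfsg.Agent.S0803.result (F := F) rfl).mp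
          ⟨_, octahedral_image _ (center_le_comap M) hy ht h⟩
        obtain ⟨n, -, hn⟩ := FiniteField.card F p
        rw [q_mod_eight_iff, hn, hp] at h1
        have h2 : 2 ∣ 2 ^ (n : ℕ) := dvd_pow_self 2 n.ne_zero
        omega
      · exact Or.inr (Or.inr (Or.inr (Or.inl ⟨hp, hmap ▸ octahedral_image _ (center_le_comap M) hy ht h⟩)))
    · exact Or.inr (Or.inr (Or.inr (Or.inr (hmap ▸ icosahedral_image _ (center_le_comap M) h₂ h₃ h₅ hcover h))))
    · exact Or.inr (Or.inl (inSubfield_of_shape p hM.1 hy hyZ ht hr hc h))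

include p in
theorem pow_card_le_of_fixedPow_eq_top {k : ℕ} (h : fixedPow (F := F) p k = ⊤) (hk : 1 ≤ k) :
    ∃ n : ℕ, 1 ≤ n ∧ n ≤ k ∧ Fintype.card F = p ^ n := by
  obtain ⟨n, -, hn⟩ := FiniteField.card F p
  refine ⟨n, n.pos, ?_, hn⟩
  have hp := (Fact.out : p.Prime).one_lt
  have h1 : 1 < p ^ k := Nat.one_lt_pow (by omega) hp
  have h2 := Nat.le_of_dvd (by omega) (card_sub_one_dvd_of_fixedPow_eq_top h)
  have h3 : 1 ≤ Fintype.card F := Fintype.card_pos
  rw [hn] at h2 h3
  exact (Nat.pow_le_pow_iff_right hp).mp (by omega)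

include p in
theorem golden_mem_fixedPow {t : F} (ht : t * t = t + 1) : t ∈ fixedPow p 2 := by
  rw [mem_fixedPow, sq p, pow_mul]
  have h1 : (t ^ p) * (t ^ p) = t ^ p + 1 := by rw [← mul_pow, ht, add_pow_char, one_pow]
  rcases mul_eq_zero.mp (show (t ^ p - t) * (t ^ p + t - 1) = 0 by linear_combination h1 - ht) with h | h
  · rw [sub_eq_zero.mp h, sub_eq_zero.mp h]
  · have e : t ^ p = 1 - t := by linear_combination h
    rw [e, sub_pow_char, one_pow, e, sub_sub_cancel]

include p in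
theorem golden_mem_fixedPow_one (h5 : 5 ∣ p * (p ^ 2 - 1)) {t : F} (ht : t * t = t + 1) : t ∈ fixedPow p 1 := by
  obtain ⟨θ, hθ⟩ := exists_golden (F := ZMod p) (by rwa [ZMod.card])
  have hθ' : ZMod.castHom (dvd_refl p) F θ * ZMod.castHom (dvd_refl p) F θ = ZMod.castHom (dvd_refl p) F θ + 1 := by
    rw [← map_mul, hθ, map_add, map_one]
  have hmem : ZMod.castHom (dvd_refl p) F θ ∈ fixedPow p 1 := by
    rw [mem_fixedPow, pow_one, ← map_pow, ZMod.pow_card]
  generalize ZMod.castHom (dvd_refl p) F θ = s at hθ' hmem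
  rcases mul_eq_zero.mp (show (t - s) * (t + s - 1) = 0 by linear_combination ht - hθ') with h | h
  · exact sub_eq_zero.mp h ▸ hmem
  · rw [show t = 1 - s by linear_combination h]
    exact sub_mem (one_mem _) hmem

theorem range_mulEquiv_normal {X₀ : Type*} [Group X₀] {M : Subgroup PSL2} (e : M ≃* X₀) :
    (e.symm.toMonoidHom).range.Normal := by
  rw [MonoidHom.range_eq_top.mpr e.symm.surjective]
  infer_instance

include p in
theorem inSubfield_altFour (hp : p ≠ 2) {M : Subgroup PSL2} (e : M ≃* alternatingGroup (Fin 4))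
    (hK : fixedPow (F := F) p 1 ≠ ⊤) : InSubfield M := by
  obtain ⟨x, y, hx, h2, hne⟩ : ∃ x y : alternatingGroup (Fin 4), x * x = 1 ∧
      (x * y * x⁻¹ * y⁻¹) ^ 2 = 1 ∧ x * y * x⁻¹ * y⁻¹ ≠ 1 := by decide +kernel
  refine inSubfield_of_orders p e.symm.toMonoidHom e.symm.injective (range_mulEquiv_normal e) _ hK
    (fun z => ⟨(orders_alt4 z).imp (fun h => (pow_two z) ▸ h) Or.inl, fun h5 hz => ?_⟩) (x := x) (y := y) hx ?_
  · have hall : ∀ z : alternatingGroup (Fin 4), z ^ 5 = 1 → z = 1 := by decide +kernel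
    exact absurd (hall z h5) hz
  · haveI : Fact (Nat.Prime 2) := ⟨Nat.prime_two⟩
    rw [orderOf_eq_prime h2 hne]
    exact fun h => hp ((Nat.prime_dvd_prime_iff_eq Nat.prime_two Fact.out).mp h).symm

include p in
theorem inSubfield_symFour (hp : p ≠ 2) {M : Subgroup PSL2} (e : M ≃* Equiv.Perm (Fin 4))
    (hK : fixedPow (F := F) p 1 ≠ ⊤) : InSubfield M := by
  obtain ⟨x, y, hx, h2, hne⟩ : ∃ x y : alternatingGroup (Fin 4), x * x = 1 ∧
      (x * y * x⁻¹ * y⁻¹) ^ 2 = 1 ∧ x * y * x⁻¹ * y⁻¹ ≠ 1 := by decide +kernel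
  refine inSubfield_of_orders p (e.symm.toMonoidHom.comp (alternatingGroup (Fin 4)).subtype)
    (e.symm.injective.comp Subtype.val_injective) ?_ _ hK
    (fun z => ⟨(orders_alt4 z).imp (fun h => (pow_two z) ▸ h) Or.inl, fun h5 hz => ?_⟩) (x := x) (y := y) hx ?_
  · rw [MonoidHom.range_comp, Subgroup.range_subtype]
    exact Subgroup.Normal.map inferInstance _ e.symm.surjective
  · have hall : ∀ z : alternatingGroup (Fin 4), z ^ 5 = 1 → z = 1 := by decide +kernel
    exact absurd (hall z h5) hz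
  · haveI : Fact (Nat.Prime 2) := ⟨Nat.prime_two⟩
    rw [orderOf_eq_prime h2 hne]
    exact fun h => hp ((Nat.prime_dvd_prime_iff_eq Nat.prime_two Fact.out).mp h).symm

include p in
theorem inSubfield_altFive {M : Subgroup PSL2} (e : M ≃* alternatingGroup (Fin 5)) (K : Subfield F)
    (hK : K ≠ ⊤) (hroot : ∀ t : F, t * t = t + 1 → t ∈ K) : InSubfield M := by
  obtain ⟨x, y, y', hx, hy2, hy3⟩ : ∃ x : alternatingGroup (Fin 5), ∃ y y' : alternatingGroup (Fin 5), x * x = 1 ∧
      ((x * y * x⁻¹ * y⁻¹) ^ 2 = 1 ∧ x * y * x⁻¹ * y⁻¹ ≠ 1) ∧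
      ((x * y' * x⁻¹ * y'⁻¹) ^ 3 = 1 ∧ x * y' * x⁻¹ * y'⁻¹ ≠ 1) := by
    refine ⟨⟨Equiv.swap 0 1 * Equiv.swap 2 3, Equiv.Perm.mem_alternatingGroup.mpr (by decide)⟩, ?_⟩
    decide +kernel
  by_cases hp : p = 2
  · haveI : Fact (Nat.Prime 3) := ⟨Nat.prime_three⟩
    refine inSubfield_of_orders p e.symm.toMonoidHom e.symm.injective (range_mulEquiv_normal e) K hK
      (fun z => ⟨(orders_alt5 z).imp (fun h => (pow_two z) ▸ h) id, fun _ _ => hroot⟩) (x := x) (y := y') hx ?_
    rw [orderOf_eq_prime hy3.1 hy3.2, hp]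
    decide
  · haveI : Fact (Nat.Prime 2) := ⟨Nat.prime_two⟩
    refine inSubfield_of_orders p e.symm.toMonoidHom e.symm.injective (range_mulEquiv_normal e) K hK
      (fun z => ⟨(orders_alt5 z).imp (fun h => (pow_two z) ▸ h) id, fun _ _ => hroot⟩) (x := x) (y := y) hx ?_
    rw [orderOf_eq_prime hy2.1 hy2.2]
    exact fun h => hp ((Nat.prime_dvd_prime_iff_eq Nat.prime_two Fact.out).mp h).symm

include p in
/-- The outcome for a subfield subgroup. -/
theorem subfield_outcome (h4 : 4 ≤ Fintype.card F) {M : Subgroup PSL2} (hM : IsCoatom M) (h : InSubfield M) :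
    IsClassical M ∨ ∃ (F₀ : Type) (_ : Field F₀) (_ : Fintype F₀) (r : ℕ), r.Prime ∧ Fintype.card F₀ ≠ 2 ∧
      Fintype.card F = Fintype.card F₀ ^ r ∧
      (r ≠ 2 ∨ Even (Fintype.card F) → Nonempty (M ≃* Matrix.ProjectiveSpecialLinearGroup (Fin 2) F₀)) ∧
      (r = 2 → Odd (Fintype.card F) → Nonempty (M ≃* Matrix.ProjGenLinGroup (Fin 2) F₀)) := by
  classical
  obtain ⟨K, ψ, hK, hψ⟩ := h
  have hmap := Subgroup.map_comap_eq_self_of_surjective toPSL_surjective M
  obtain ⟨r, hr, hq, hpsl, hpgl⟩ := maximal_projSub p (center_le_comap M) (hmap.symm ▸ hM) hK hψ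
  rw [hmap] at hpsl hpgl
  by_cases h2 : Nat.card K = 2
  · left
    have hev : Even (Fintype.card F) := by
      rw [← hq, h2]; exact (Nat.even_pow' hr.ne_zero).mpr (by norm_num)
    obtain ⟨e⟩ := hpsl (Or.inr hev)
    haveI := Fintype.ofFinite K
    have hc : Nat.card M = 6 := by
      have := Cfsg.Agent.Lib.Classical.card_PSL2_mul (F := K)
      rw [Nat.card_eq_fintype_card] at h2
      rw [h2] at this
      rw [Nat.card_congr e.toEquiv]
      simpa using this
    have hp : p = 2 := by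
      obtain ⟨n, -, hn⟩ := FiniteField.card F p
      have := hn ▸ hev.two_dvd
      exact ((Nat.prime_dvd_prime_iff_eq Nat.prime_two Fact.out).mp (Nat.prime_two.dvd_of_dvd_pow this)).symm
    haveI : Fact (Nat.Prime 3) := ⟨Nat.prime_three⟩
    obtain ⟨⟨x, hxM⟩, hx⟩ := exists_prime_orderOf_dvd_card' (G := M) 3 (by rw [hc]; norm_num)
    rw [Subgroup.orderOf_mk] at hx
    haveI : ((Subgroup.zpowers x).subgroupOf M).Normal := by
      refine Subgroup.normal_of_index_eq_two ?_
      have h := ((Subgroup.zpowers x).subgroupOf M).card_mul_index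
      rw [Nat.card_congr (Subgroup.subgroupOfEquivOfLe (Subgroup.zpowers_le.mpr hxM)).toEquiv, Nat.card_zpowers, hx,
        hc] at h
      omega
    have hN := Subgroup.le_normalizer_of_normal_subgroupOf (H := Subgroup.zpowers x) (K := M)
      (Subgroup.zpowers_le.mpr hxM)
    refine classical_of_normal_zpowers p h4 hM (fun h1 => by rw [h1, orderOf_one] at hx; omega)
      (fun g hg => (Subgroup.mem_normalizer_iff.mp (hN hg) x).mp (Subgroup.mem_zpowers x)) (Or.inr ?_)
    rw [hx, hp]; decide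
  right
  obtain ⟨K', i1, i2, m, -, -, hcard, ⟨e⟩⟩ := exists_small_field p K
  exact ⟨K', i1, i2, r, hr, hcard ▸ h2, by rw [hcard, hq],
    fun h => ⟨(hpsl h).some.trans (Cfsg.Agent.Lib.Classical.pslCongr e.symm)⟩,
    fun h h' => ⟨(hpgl h h').some.trans (pglCongr e.symm)⟩⟩

end Cfsg.Agent.Lib.Geometry.Dickson
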