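import Cfsg.Agent.Lib.Geometry.Dickson.TraceField
import Cfsg.Agent.Lib.Geometry.Dickson.Global
import Cfsg.Agent.Lib.Geometry.Dickson.Embed

/-!
Maximal subgroups lying over a subfield.
-/

set_option autoImplicit false

namespace Cfsg.Agent.Lib.Geometry.Dickson

open Matrix
open scoped Matrix MatrixGroups
open Cfsg.Agent.Lib.SL2Trace (tr toPSL toPSL_surjective toPSL_eq toPSL_eq_one mem_center_iff)

variable {F : Type*} [Field F]

local notation "SL2" => Matrix.SpecialLinearGroup (Fin 2) F
local notation "M2" => Matrix (Fin 2) (Fin 2) F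
local notation "PSL2" => Matrix.ProjectiveSpecialLinearGroup (Fin 2) F

/-- A subgroup containing the centre is the preimage of its image. -/
theorem comap_map_toPSL {N : Subgroup SL2} (hN : Subgroup.center SL2 ≤ N) :
    (N.map (toPSL : SL2 →* PSL2)).comap toPSL = N := by
  refine le_antisymm (fun g hg => ?_) (Subgroup.le_comap_map _ _)
  obtain ⟨x, hx, hxg⟩ := Subgroup.mem_map.mp hg
  rcases toPSL_eq.mp hxg with h | h
  · exact h ▸ hx
  · rw [h, neg_eq_neg_one_mul]
    exact N.mul_mem (hN (mem_center_iff.mpr (Or.inr rfl))) hx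

/-- A maximal subgroup is all of any proper overgroup of a conjugate. -/
theorem max_conj {G : Subgroup SL2} (hG : Subgroup.center SL2 ≤ G) (hM : IsCoatom (G.map (toPSL : SL2 →* PSL2)))
    (ψ : SL2 ≃* SL2) {N : Subgroup SL2} (hle : G.map ψ.toMonoidHom ≤ N) (hN : N ≠ ⊤) :
    G.map ψ.toMonoidHom = N := by
  have h1 : G ≤ N.comap ψ.toMonoidHom := Subgroup.map_le_iff_le_comap.mp hle
  have h2 : N.comap ψ.toMonoidHom ≠ ⊤ := fun h => hN (by
    rw [eq_top_iff]
    intro x _
    have : ψ.symm x ∈ N.comap ψ.toMonoidHom := h ▸ Subgroup.mem_top _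
    simpa using this)
  have hc : Subgroup.center SL2 ≤ N.comap ψ.toMonoidHom := hG.trans h1
  rcases hM.le_iff.mp (Subgroup.map_mono (f := (toPSL : SL2 →* PSL2)) h1) with h | h
  · exfalso
    apply h2
    rw [← comap_map_toPSL hc, h, Subgroup.comap_top]
  · refine le_antisymm hle ?_
    have h3 : N.comap ψ.toMonoidHom = G := by rw [← comap_map_toPSL hc, h, comap_map_toPSL hG]
    rw [← h3, Subgroup.map_comap_eq_self_of_surjective ψ.surjective]

theorem projSub_ne_top {K : Subfield F} (hK : K ≠ ⊤) : projSub K ≠ ⊤ := fun h => hK (by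
  rw [eq_top_iff]
  exact fun x _ => upper_mem_projSub.mp (h ▸ Subgroup.mem_top _))

theorem pslRange_le_image (K : Subfield F) :
    pslRange K.subtype ≤ (projSub K).map (toPSL : SL2 →* PSL2) := by
  rintro _ ⟨A, rfl⟩
  exact ⟨_, ⟨1, one_ne_zero, fun i j => by rw [one_mul]; exact SetLike.coe_mem _⟩, rfl⟩

theorem image_projSub_eq {K : Subfield F} (h : ∀ a : F, a * a ∈ K → a ∈ K) :
    (projSub K).map (toPSL : SL2 →* PSL2) = pslRange K.subtype := by
  refine le_antisymm ?_ (pslRange_le_image K)
  rintro _ ⟨g, ⟨c, hc, hg⟩, rfl⟩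
  have hcK : c ∈ K := h c (by
    have hd := Cfsg.Agent.Lib.SL2Trace.det_eq g
    rw [show c * c = c * (g : M2) 0 0 * (c * (g : M2) 1 1) - c * (g : M2) 0 1 * (c * (g : M2) 1 0) by
      linear_combination (-(c * c)) * hd]
    exact sub_mem (mul_mem (hg 0 0) (hg 1 1)) (mul_mem (hg 0 1) (hg 1 0)))
  have hgK : ∀ i j, (g : M2) i j ∈ K := fun i j => by
    rw [show (g : M2) i j = c⁻¹ * (c * (g : M2) i j) by field_simp]
    exact mul_mem (inv_mem hcK) (hg i j)
  refine ⟨⟨Matrix.of fun i j => ⟨_, hgK i j⟩, ?_⟩, ?_⟩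
  · have hd := g.2
    rw [Matrix.det_fin_two] at hd ⊢
    exact Subtype.ext (by simpa using hd)
  · show toPSL (Matrix.SpecialLinearGroup.map K.subtype _) = toPSL g
    congr 1

variable [Fintype F]

/-- Frobenius fixed fields. -/
def fixedPow (p : ℕ) [Fact p.Prime] [CharP F p] (k : ℕ) : Subfield F :=
  RingHom.eqLocusField (iterateFrobenius F p k) (RingHom.id F)

theorem mem_fixedPow {p : ℕ} [Fact p.Prime] [CharP F p] {k : ℕ} {x : F} :
    x ∈ fixedPow p k ↔ x ^ (p ^ k) = x := Iff.rfl

theorem exists_orderOf_unit {m : ℕ} (h : m ∣ Fintype.card F - 1) : ∃ x : Fˣ, orderOf x = m := by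
  classical
  obtain ⟨g, hg⟩ := IsCyclic.exists_generator (α := Fˣ)
  obtain ⟨c, hc⟩ := h
  have ho : orderOf g = m * c := by
    rw [orderOf_eq_card_of_forall_mem_zpowers hg, Nat.card_eq_fintype_card, Fintype.card_units, hc]
  have hpos : 0 < Fintype.card F - 1 := Nat.sub_pos_of_lt Fintype.one_lt_card
  rw [hc] at hpos
  refine ⟨g ^ c, ?_⟩
  rw [orderOf_pow' g (Nat.pos_of_mul_pos_left hpos).ne', ho, Nat.gcd_mul_left_left,
    Nat.mul_div_left _ (Nat.pos_of_mul_pos_left hpos)]

theorem card_sub_one_dvd_of_fixedPow_eq_top {p : ℕ} [Fact p.Prime] [CharP F p] {k : ℕ}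
    (h : fixedPow (F := F) p k = ⊤) : Fintype.card F - 1 ∣ p ^ k - 1 := by
  classical
  obtain ⟨x, hx⟩ := exists_orderOf_unit (F := F) dvd_rfl
  rw [← hx]
  refine orderOf_dvd_of_pow_eq_one (Units.ext ?_)
  have hm : (x : F) ^ (p ^ k) = x := mem_fixedPow.mp (h ▸ Subfield.mem_top (x : F))
  have hp : 1 ≤ p ^ k := Nat.one_le_pow _ _ (Fact.out : p.Prime).pos
  rw [← Nat.sub_add_cancel hp, pow_succ] at hm
  rw [Units.val_pow_eq_pow_val, Units.val_one]
  exact mul_right_cancel₀ x.ne_zero (hm.trans (one_mul _).symm)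

theorem mem_of_pow_card {K : Subfield F} [Fintype K] {x : F} (h : x ^ Fintype.card K = x) : x ∈ K := by
  classical
  by_contra hx
  let f : Polynomial F := Polynomial.X ^ Fintype.card K - Polynomial.X
  have hf : f ≠ 0 := FiniteField.X_pow_card_sub_X_ne_zero F Fintype.one_lt_card
  have hsub : insert x ((Finset.univ : Finset K).image (fun y : K => (y : F))) ⊆ f.roots.toFinset := by
    intro y hy
    rw [Multiset.mem_toFinset, Polynomial.mem_roots hf]
    rw [Finset.mem_insert, Finset.mem_image] at hy
    rcases hy with rfl | ⟨z, -, rfl⟩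
    · simp [f, h]
    · have := congrArg (fun w : K => (w : F)) (FiniteField.pow_card z)
      simp only [SubmonoidClass.coe_pow] at this
      simp [f, this]
  have h1 := (Finset.card_le_card hsub).trans (Multiset.toFinset_card_le _)
  rw [Finset.card_insert_of_notMem (by simpa using hx),
    Finset.card_image_of_injective _ Subtype.val_injective, Finset.card_univ] at h1
  have h2 := f.card_roots'
  rw [show f.natDegree = Fintype.card K from FiniteField.X_pow_card_sub_X_natDegree_eq F Fintype.one_lt_card] at h2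
  omega

/-- In odd degree, or even characteristic, no square root of an element of `K` lies outside `K`. -/
theorem sqrt_mem {K : Subfield F} (h : Odd (Module.finrank K F) ∨ Even (Fintype.card F)) {a : F}
    (ha : a * a ∈ K) : a ∈ K := by
  classical
  haveI := Fintype.ofFinite K
  rcases h with h | h
  · refine mem_of_pow_card ?_
    have hsq : a ^ Fintype.card K * a ^ Fintype.card K = a * a := by
      rw [← mul_pow]
      exact congrArg Subtype.val (FiniteField.pow_card (⟨a * a, ha⟩ : K))
    rcases mul_self_eq_mul_self_iff.mp hsq with h1 | h1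
    · exact h1
    · by_cases h2 : (2 : F) = 0
      · rw [h1]; linear_combination (-a) * h2
      have hKodd : Odd (Fintype.card K) := by
        rw [Nat.odd_iff]
        refine FiniteField.odd_card_of_char_ne_two fun hK => h2 ?_
        haveI : CharP K 2 := ringChar.of_eq hK
        have : (2 : K) = 0 := CharTwo.two_eq_zero
        exact congrArg Subtype.val this
      have hiter : ∀ r : ℕ, a ^ (Fintype.card K ^ r) = (-1) ^ r * a := by
        intro r
        induction r with
        | zero => simp
        | succ r ih =>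
          rw [pow_succ (Fintype.card K) r, pow_mul, ih, mul_pow, h1, ← pow_mul, pow_succ (-1 : F) r,
            mul_comm r, pow_mul, hKodd.neg_one_pow, mul_neg, mul_neg_one, neg_mul]
      have := hiter (Module.finrank K F)
      rw [← Module.card_eq_pow_finrank, FiniteField.pow_card, h.neg_one_pow, neg_one_mul] at this
      rw [h1, ← this]
  · have h2F : ringChar F = 2 := FiniteField.even_card_iff_char_two.mpr (Nat.even_iff.mp h)
    haveI : CharP F 2 := ringChar.of_eq h2F
    haveI : CharP K 2 := K.subtype.charP K.subtype.injective 2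
    obtain ⟨b, hb⟩ := FiniteField.isSquare_of_char_two (ringChar.eq K 2) (⟨a * a, ha⟩ : K)
    have : a * a = (b : F) * b := congrArg Subtype.val hb
    rcases mul_self_eq_mul_self_iff.mp this with rfl | rfl
    · exact b.2
    · exact neg_mem b.2

variable (p : ℕ) [Fact p.Prime] [CharP F p]

include p in
/-- The subfield of a maximal subfield subgroup has prime index, and the subgroup is determined. -/
theorem maximal_projSub {G : Subgroup SL2} (hG : Subgroup.center SL2 ≤ G)
    (hM : IsCoatom (G.map (toPSL : SL2 →* PSL2))) {K : Subfield F} (hK : K ≠ ⊤) {ψ : SL2 ≃* SL2}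
    (hψ : G.map ψ.toMonoidHom ≤ projSub K) :
    ∃ r, r.Prime ∧ Nat.card K ^ r = Fintype.card F ∧
      ((r ≠ 2 ∨ Even (Fintype.card F)) →
        Nonempty (G.map (toPSL : SL2 →* PSL2) ≃* Matrix.ProjectiveSpecialLinearGroup (Fin 2) K)) ∧
      (r = 2 → Odd (Fintype.card F) →
        Nonempty (G.map (toPSL : SL2 →* PSL2) ≃* Matrix.ProjGenLinGroup (Fin 2) K)) := by
  classical
  haveI := Fintype.ofFinite K
  have heq := max_conj hG hM ψ hψ (projSub_ne_top hK)
  obtain ⟨e⟩ := image_equiv G ψ
  rw [heq] at e
  set r := Module.finrank K F with hr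
  have hq : Fintype.card K ^ r = Fintype.card F := Module.card_eq_pow_finrank.symm
  have hl : 1 < Fintype.card K := Fintype.one_lt_card
  have hprime : r.Prime := by
    have hr2 : 2 ≤ r := by
      by_contra h
      have h1 : r = 1 := by have : 0 < r := Module.finrank_pos; omega
      rw [h1, pow_one] at hq
      apply hK
      rw [eq_top_iff]
      exact fun x _ => mem_of_pow_card (by rw [hq, FiniteField.pow_card])
    refine Nat.prime_def.mpr ⟨hr2, fun a ha => ?_⟩
    by_contra hcon
    push Not at hcon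
    obtain ⟨b, hb⟩ := ha
    have har : a < r := lt_of_le_of_ne (Nat.le_of_dvd (by omega) ⟨b, hb⟩) hcon.2
    have ha2 : 2 ≤ a := by
      rcases Nat.eq_zero_or_pos a with rfl | h
      · rw [zero_mul] at hb; omega
      · omega
    haveI : CharP K p := K.subtype.charP K.subtype.injective p
    obtain ⟨n, -, hn⟩ := FiniteField.card K p
    have hQ : p ^ ((n : ℕ) * a) = Fintype.card K ^ a := by rw [hn, pow_mul]
    have hKL : K ≤ fixedPow p ((n : ℕ) * a) := fun x hx => by
      rw [mem_fixedPow, hQ]
      have := congrArg Subtype.val (FiniteField.pow_card_pow a (⟨x, hx⟩ : K))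
      simpa using this
    have hlt : Fintype.card K ^ a < Fintype.card F := hq ▸ Nat.pow_lt_pow_right hl har
    have hLt : fixedPow (F := F) p ((n : ℕ) * a) ≠ ⊤ := fun h => by
      have h1 := card_sub_one_dvd_of_fixedPow_eq_top h
      rw [hQ] at h1
      have h2 : 1 < Fintype.card K ^ a := Nat.one_lt_pow (by omega) hl
      have := Nat.le_of_dvd (by omega) h1
      omega
    have h2 := max_conj hG hM ψ (hψ.trans (projSub_mono hKL)) (projSub_ne_top hLt)
    have hLK : fixedPow p ((n : ℕ) * a) ≤ K := fun x hx =>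
      upper_mem_projSub.mp (heq ▸ h2 ▸ upper_mem_projSub.mpr hx)
    obtain ⟨x, hx⟩ := exists_orderOf_unit (F := F) (m := Fintype.card K ^ a - 1) (by
      rw [← hq, hb, pow_mul]
      simpa using Nat.sub_dvd_pow_sub_pow (Fintype.card K ^ a) 1 b)
    have hxL : (x : F) ∈ fixedPow p ((n : ℕ) * a) := by
      rw [mem_fixedPow, hQ]
      have h1 : 1 ≤ Fintype.card K ^ a := Nat.one_le_pow _ _ (by omega)
      conv_lhs => rw [← Nat.sub_add_cancel h1, pow_succ, ← Units.val_pow_eq_pow_val, ← hx, pow_orderOf_eq_one,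
        Units.val_one, one_mul]
    have hxK := FiniteField.pow_card_sub_one_eq_one (⟨(x : F), hLK hxL⟩ : K)
      (fun h => x.ne_zero (congrArg Subtype.val h))
    have hdvd : orderOf x ∣ Fintype.card K - 1 := orderOf_dvd_of_pow_eq_one (Units.ext (by
      simpa using congrArg Subtype.val hxK))
    rw [hx] at hdvd
    have h3 : Fintype.card K ^ a ≤ Fintype.card K := by
      have := Nat.le_of_dvd (by omega) hdvd
      omega
    have : Fintype.card K ^ 2 ≤ Fintype.card K ^ a := Nat.pow_le_pow_right (by omega) ha2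
    nlinarith
  refine ⟨r, hprime, by rw [Nat.card_eq_fintype_card, hq], fun h => ?_, fun h2 hodd => ?_⟩
  · rw [image_projSub_eq (fun a => sqrt_mem (h.imp (fun h => hprime.odd_of_ne_two h) id))] at e
    exact ⟨e.symm.trans (pslRange_equiv K.subtype).some⟩
  · have hodd' := Nat.odd_iff.mp hodd
    have hKodd : Fintype.card K % 2 = 1 := by
      have := hq ▸ hodd'
      rw [Nat.pow_mod] at this
      rcases Nat.mod_two_eq_zero_or_one (Fintype.card K) with h | h
      · rw [h, zero_pow hprime.ne_zero] at this; simp at this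
      · exact h
    have hK2 : ringChar K ≠ 2 := fun h => by
      have := FiniteField.even_card_of_char_two h
      omega
    obtain ⟨d, hd⟩ := FiniteField.exists_nonsquare hK2
    have hd0 : d ≠ 0 := fun h => hd (h ▸ IsSquare.zero)
    have hF2 : ringChar F ≠ 2 := fun h => by
      have := FiniteField.even_card_of_char_two h
      omega
    obtain ⟨a, ha⟩ : IsSquare (d : F) := by
      rw [FiniteField.isSquare_iff hF2 (fun h => hd0 (Subtype.ext h))]
      obtain ⟨j, hj⟩ : ∃ j, Fintype.card K = 2 * j + 1 := ⟨Fintype.card K / 2, by omega⟩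
      have hdiv : Fintype.card F / 2 = (Fintype.card K - 1) * (j + 1) := by
        rw [← hq, h2, hj, Nat.add_sub_cancel, show (2 * j + 1) ^ 2 = 2 * (2 * j * (j + 1)) + 1 by ring]
        omega
      rw [hdiv, pow_mul]
      have := congrArg Subtype.val (FiniteField.pow_card_sub_one_eq_one d hd0)
      simp only [SubmonoidClass.coe_pow] at this
      rw [this]
      simp
    have ha0 : a ≠ 0 := fun h => hd0 (Subtype.ext (by rw [ha, h, mul_zero]; rfl))
    have haK : a ∉ K := fun h => hd ⟨⟨a, h⟩, Subtype.ext ha⟩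
    let D : SL2 := ⟨!![a, 0; 0, a⁻¹], by simp [Matrix.det_fin_two, ha0]⟩
    have hD : D ∈ projSub K := ⟨a, ha0, fun i j => by
      fin_cases i <;> fin_cases j <;> simp [D, ha0, zero_mem, one_mem]
      rw [← ha]; exact d.2⟩
    have hG' := center_le_map G ψ hG
    rw [heq] at hG'
    rcases normal_image (projSub K) (K := K) (fun x => upper_mem_projSub) (fun x => lower_mem_projSub)
      (fun g hg _ => line_mem_projSub hg) with ⟨⟨f⟩⟩ | ⟨⟨f⟩⟩
    · exfalso
      have hsame : pslRange K.subtype = (projSub K).map (toPSL : SL2 →* PSL2) := by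
        refine Subgroup.eq_of_le_of_card_ge (pslRange_le_image K) ?_
        rw [Nat.card_congr f.toEquiv, Nat.card_congr (pslRange_equiv K.subtype).some.toEquiv]
      obtain ⟨A, hA⟩ : toPSL D ∈ pslRange K.subtype := hsame ▸ ⟨D, hD, rfl⟩
      apply haK
      rcases toPSL_eq.mp hA with h | h
      · have : a = ((A : Matrix (Fin 2) (Fin 2) K) 0 0 : F) := congrArg (fun g : SL2 => (g : M2) 0 0) h
        exact this ▸ SetLike.coe_mem _
      · have := congrArg (fun g : SL2 => (g : M2) 0 0) h
        simp [D] at this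
        rw [this]
        exact neg_mem (SetLike.coe_mem _)
    · exact ⟨e.symm.trans f⟩

end Cfsg.Agent.Lib.Geometry.Dickson
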