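import Mathlib

/-!
Quaternion models of the binary tetrahedral, octahedral and icosahedral groups, with their
permutation images. A quaternion is stored by twice its coordinates, each `a + b θ`
with `θ ^ 2 = s θ + t`.
-/

set_option autoImplicit false

namespace Cfsg.Agent.Lib.Geometry.Dickson

/-- A coordinate `a + b θ`. -/
abbrev QC : Type := ℤ × ℤ

/-- Twice a quaternion. -/
abbrev QQ : Type := QC × QC × QC × QC

def qcMul (s t : ℤ) (a b : QC) : QC := (a.1 * b.1 + a.2 * b.2 * t, a.1 * b.2 + a.2 * b.1 + a.2 * b.2 * s)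

/-- Four times a product. -/
def qqRaw (s t : ℤ) : QQ → QQ → QQ := fun ⟨a, b, c, d⟩ ⟨e, f, g, h⟩ =>
  (qcMul s t a e - qcMul s t b f - qcMul s t c g - qcMul s t d h,
   qcMul s t a f + qcMul s t b e + qcMul s t c h - qcMul s t d g,
   qcMul s t a g - qcMul s t b h + qcMul s t c e + qcMul s t d f,
   qcMul s t a h + qcMul s t b g - qcMul s t c f + qcMul s t d e)

def qcHalf (a : QC) : QC := (a.1 / 2, a.2 / 2)

/-- Twice a product, when it is integral. -/
def qqMul (s t : ℤ) (u v : QQ) : QQ :=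
  match qqRaw s t u v with
  | (a, b, c, d) => (qcHalf a, qcHalf b, qcHalf c, qcHalf d)

def qcExact (a : QC) : Bool := a.1 % 2 == 0 && a.2 % 2 == 0

/-- The product is integral. -/
def qqExact (s t : ℤ) (u v : QQ) : Bool :=
  match qqRaw s t u v with
  | (a, b, c, d) => qcExact a && qcExact b && qcExact c && qcExact d

def qqOne : QQ := ((2, 0), (0, 0), (0, 0), (0, 0))

def qqNegOne : QQ := ((-2, 0), (0, 0), (0, 0), (0, 0))

/-- A model: parameters and two generators with their permutations. -/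
structure QModel where
  n : ℕ
  s : ℤ
  t : ℤ
  g₁ : QQ
  g₂ : QQ
  p₁ : List ℕ
  p₂ : List ℕ
  steps : ℕ

def permComp (p q : List ℕ) : List ℕ := q.map fun i => p.getD i 0

def QModel.next (M : QModel) (x : QQ × List ℕ) : List (QQ × List ℕ) :=
  [(qqMul M.s M.t x.1 M.g₁, permComp x.2 M.p₁), (qqMul M.s M.t x.1 M.g₂, permComp x.2 M.p₂)]

def QModel.iter (M : QModel) : ℕ → List (QQ × List ℕ)
  | 0 => [(qqOne, List.range M.n)]
  | k + 1 => (M.iter k ++ (M.iter k).flatMap M.next).eraseDups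

def qcNorm (s t : ℤ) (a : QC) : ℕ := (a.1 * a.1 + s * a.1 * a.2 - t * a.2 * a.2).natAbs

def qqApart (s t : ℤ) : QQ → QQ → Bool := fun ⟨a, b, c, d⟩ ⟨e, f, g, h⟩ =>
  2 ^ 20 % (Nat.gcd (qcNorm s t (a - e)) (Nat.gcd (qcNorm s t (b - f))
    (Nat.gcd (qcNorm s t (c - g)) (qcNorm s t (d - h))))) == 0

/-- Pairs in a list. -/
def pairsOk {α : Type} (r : α → α → Bool) : List α → Bool
  | [] => true
  | a :: l => l.all (r a) && pairsOk r l

/-- The certificate. -/
def QModel.check (M : QModel) (N : ℕ) : Bool :=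
  let L := M.iter M.steps
  L.length == N &&
  pairsOk (qqApart M.s M.t) (L.map Prod.fst) &&
  (L.all fun x => qqExact M.s M.t x.1 M.g₁ && qqExact M.s M.t x.1 M.g₂) &&
  (L.all fun x => (M.next x).all fun y => L.contains y) &&
  (L.all fun x => (x.2 == List.range M.n) == (x.1 == qqOne || x.1 == qqNegOne)) &&
  ((L.map Prod.fst).contains qqNegOne) && (L.all fun x => x.2.length == M.n) &&
  (M.p₁.length == M.n && M.p₁.all (· < M.n)) && (M.p₂.length == M.n && M.p₂.all (· < M.n))

def tetModel : QModel where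
  n := 4
  s := 0
  t := 0
  g₁ := ((0, 0), (2, 0), (0, 0), (0, 0))
  g₂ := ((1, 0), (1, 0), (1, 0), (1, 0))
  p₁ := [1, 0, 3, 2]
  p₂ := [0, 2, 3, 1]
  steps := 5

def octModel : QModel where
  n := 4
  s := 0
  t := 2
  g₁ := ((0, 1), (0, 1), (0, 0), (0, 0))
  g₂ := ((1, 0), (1, 0), (1, 0), (1, 0))
  p₁ := [1, 2, 3, 0]
  p₂ := [0, 3, 1, 2]
  steps := 8

def icoModel : QModel where
  n := 5
  s := 1
  t := 1
  g₁ := ((0, 0), (2, 0), (0, 0), (0, 0))
  g₂ := ((1, 0), (0, 1), (-1, 1), (0, 0))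
  p₁ := [0, 2, 1, 4, 3]
  p₂ := [1, 3, 2, 0, 4]
  steps := 13

theorem tetModel_check : tetModel.check 24 = true := by decide +kernel

theorem octModel_check : octModel.check 48 = true := by decide +kernel

theorem icoModel_check : icoModel.check 120 = true := by decide +kernel

end Cfsg.Agent.Lib.Geometry.Dickson
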