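import Cfsg.Agent.Lib.Geometry.Dickson.Generate

/-!
The group of order 120 generated by two transvections over the field of order nine.
-/

set_option autoImplicit false

namespace Cfsg.Agent.Lib.Geometry.Dickson

open Matrix

/-- A matrix with Gaussian entries over `ZMod 3`. -/
abbrev NineMat : Type := (ZMod 3 × ZMod 3) × (ZMod 3 × ZMod 3) × (ZMod 3 × ZMod 3) × (ZMod 3 × ZMod 3)

/-- Right multiplication by the lower transvection. -/
def nineLo : NineMat → NineMat := fun ⟨a, b, c, d⟩ => (a + b, b, c + d, d)

/-- Right multiplication by the upper transvection. -/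
def nineUp : NineMat → NineMat := fun ⟨a, b, c, d⟩ =>
  (a, (-a.2 + b.1, a.1 + b.2), c, (-c.2 + d.1, c.1 + d.2))

def nineStep (L : List NineMat) : List NineMat := (L ++ L.map nineLo ++ L.map nineUp).eraseDups

def nineIter : ℕ → List NineMat
  | 0 => [((1, 0), (0, 0), (0, 0), (1, 0))]
  | n + 1 => nineStep (nineIter n)

theorem nine_check : (nineIter 10).length = 120 ∧ (nineIter 10).Nodup ∧
    ((nineIter 10).all fun x => (nineIter 10).contains (nineLo x) && (nineIter 10).contains (nineUp x)) = true := by
  decide +kernel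

variable {F : Type*} [Field F] [CharP F 3] (i : F)

local notation "SL2" => Matrix.SpecialLinearGroup (Fin 2) F
local notation "M2" => Matrix (Fin 2) (Fin 2) F

/-- The Gaussian number attached to a pair. -/
def nineVal (a : ZMod 3 × ZMod 3) : F :=
  ZMod.castHom (dvd_refl 3) F a.1 + ZMod.castHom (dvd_refl 3) F a.2 * i

theorem nineVal_add (a b : ZMod 3 × ZMod 3) : nineVal i (a + b) = nineVal i a + nineVal i b := by
  simp only [nineVal, Prod.fst_add, Prod.snd_add, map_add]; ring

theorem nineVal_mul_i (hi : i * i = -1) (a : ZMod 3 × ZMod 3) :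
    nineVal i (-a.2, a.1) = nineVal i a * i := by
  simp only [nineVal, map_neg]
  linear_combination (-(ZMod.castHom (dvd_refl 3) F a.2)) * hi

theorem nineVal_injective (hi : i * i = -1) : Function.Injective (nineVal i) := by
  intro a b h
  have h0 : nineVal i (a - b) = 0 := by
    have h1 := nineVal_add i (a - b) b
    rw [sub_add_cancel, h] at h1
    linear_combination -h1
  generalize hc : a - b = c at h0
  have h1 : ZMod.castHom (dvd_refl 3) F (c.1 * c.1 + c.2 * c.2) = 0 := by
    rw [map_add, map_mul, map_mul]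
    simp only [nineVal] at h0
    linear_combination (ZMod.castHom (dvd_refl 3) F c.1 - ZMod.castHom (dvd_refl 3) F c.2 * i) * h0 +
      (ZMod.castHom (dvd_refl 3) F c.2) * (ZMod.castHom (dvd_refl 3) F c.2) * hi
  have h2 := (ZMod.castHom (dvd_refl 3) F).injective (h1.trans (map_zero _).symm)
  have h3 : ∀ x y : ZMod 3, x * x + y * y = 0 → x = 0 ∧ y = 0 := by decide
  exact sub_eq_zero.mp (hc.trans (Prod.ext (h3 _ _ h2).1 (h3 _ _ h2).2))

/-- The matrix attached to a quadruple. -/
def nineMat (x : NineMat) : M2 := !![nineVal i x.1, nineVal i x.2.1; nineVal i x.2.2.1, nineVal i x.2.2.2]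

theorem nineMat_lo (x : NineMat) : nineMat i (nineLo x) = nineMat i x * (lower (1 : F) : M2) := by
  obtain ⟨a, b, c, d⟩ := x
  rw [coe_lower]
  ext u v
  fin_cases u <;> fin_cases v <;>
    simp [nineMat, nineLo, Matrix.mul_apply, Fin.sum_univ_two, nineVal_add]

theorem nineMat_up (hi : i * i = -1) (x : NineMat) : nineMat i (nineUp x) = nineMat i x * (upper i : M2) := by
  obtain ⟨a, b, c, d⟩ := x
  rw [coe_upper]
  have e : ∀ p q : ZMod 3 × ZMod 3, nineVal i (-p.2 + q.1, p.1 + q.2) = nineVal i p * i + nineVal i q := fun p q => by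
    rw [← nineVal_mul_i i hi, ← nineVal_add]; rfl
  ext u v
  fin_cases u <;> fin_cases v <;>
    simp [nineMat, nineUp, Matrix.mul_apply, Fin.sum_univ_two, e]

theorem nineMat_injective (hi : i * i = -1) : Function.Injective (nineMat i) := by
  rintro ⟨a, b, c, d⟩ ⟨a', b', c', d'⟩ h
  have h00 := nineVal_injective i hi (show nineVal i a = nineVal i a' from congrFun (congrFun h 0) 0)
  have h01 := nineVal_injective i hi (show nineVal i b = nineVal i b' from congrFun (congrFun h 0) 1)
  have h10 := nineVal_injective i hi (show nineVal i c = nineVal i c' from congrFun (congrFun h 1) 0)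
  have h11 := nineVal_injective i hi (show nineVal i d = nineVal i d' from congrFun (congrFun h 1) 1)
  rw [h00, h01, h10, h11]

theorem card_closure_nine (hi : i * i = -1) :
    Nat.card (Subgroup.closure ({lower 1, upper i} : Set SL2)) = 120 := by
  classical
  obtain ⟨hlen, hnd, hall⟩ := nine_check
  set H := Subgroup.closure ({lower 1, upper i} : Set SL2) with hH
  have hmem : ∀ n, ∀ x ∈ nineIter n, ∃ g ∈ H, (g : M2) = nineMat i x := by
    intro n
    induction n with
    | zero =>
      intro x hx
      rw [nineIter, List.mem_singleton] at hx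
      subst hx
      refine ⟨1, H.one_mem, ?_⟩
      simp [nineMat, nineVal, Matrix.one_fin_two]
    | succ n ih =>
      intro x hx
      rw [nineIter, nineStep, List.mem_eraseDups, List.mem_append, List.mem_append, List.mem_map, List.mem_map] at hx
      rcases hx with (hx | ⟨y, hy, rfl⟩) | ⟨y, hy, rfl⟩
      · exact ih x hx
      · obtain ⟨g, hg, hge⟩ := ih y hy
        exact ⟨g * lower 1, H.mul_mem hg (Subgroup.subset_closure (Set.mem_insert _ _)),
          by rw [Matrix.SpecialLinearGroup.coe_mul, hge, nineMat_lo]⟩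
      · obtain ⟨g, hg, hge⟩ := ih y hy
        exact ⟨g * upper i, H.mul_mem hg (Subgroup.subset_closure (Set.mem_insert_of_mem _ rfl)),
          by rw [Matrix.SpecialLinearGroup.coe_mul, hge, nineMat_up i hi]⟩
  have hclosed : ∀ x ∈ nineIter 10, nineLo x ∈ nineIter 10 ∧ nineUp x ∈ nineIter 10 := fun x hx => by
    have h := List.all_eq_true.mp hall x hx
    rw [Bool.and_eq_true, List.contains_iff_mem, List.contains_iff_mem] at h
    exact h
  have hone : ((1, 0), (0, 0), (0, 0), (1, 0)) ∈ nineIter 10 := by decide +kernel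
  have hcube : ∀ c : F, lower c * lower c * lower c = 1 ∧ upper c * upper c * upper c = 1 := fun c => by
    have h3 : c + c + c = 0 := by
      have h : (3 : F) = 0 := by exact_mod_cast CharP.cast_eq_zero F 3
      linear_combination c * h
    rw [lower_mul, lower_mul, upper_mul, upper_mul, h3]
    exact ⟨lower_zero, upper_zero⟩
  have hall' : ∀ g ∈ H, ∃ x ∈ nineIter 10, (g : M2) = nineMat i x := by
    intro g hg
    induction hg using Subgroup.closure_induction_right with
    | one => exact ⟨_, hone, by simp [nineMat, nineVal, Matrix.one_fin_two]⟩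
    | mul_right g hg y hy ih =>
      obtain ⟨x, hx, hgx⟩ := ih
      rcases hy with rfl | rfl
      · exact ⟨_, (hclosed x hx).1, by rw [Matrix.SpecialLinearGroup.coe_mul, hgx, nineMat_lo]⟩
      · exact ⟨_, (hclosed x hx).2, by rw [Matrix.SpecialLinearGroup.coe_mul, hgx, nineMat_up i hi]⟩
    | mul_inv_cancel g hg y hy ih =>
      obtain ⟨x, hx, hgx⟩ := ih
      rcases hy with rfl | rfl
      · refine ⟨_, (hclosed _ (hclosed x hx).1).1, ?_⟩
        rw [inv_eq_of_mul_eq_one_right (show lower (1 : F) * (lower 1 * lower 1) = 1 by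
          rw [← mul_assoc]; exact (hcube 1).1), nineMat_lo, nineMat_lo, ← hgx]
        simp [mul_assoc]
      · refine ⟨_, (hclosed _ (hclosed x hx).2).2, ?_⟩
        rw [inv_eq_of_mul_eq_one_right (show upper i * (upper i * upper i) = 1 by
          rw [← mul_assoc]; exact (hcube i).2), nineMat_up i hi, nineMat_up i hi, ← hgx]
        simp [mul_assoc]
  choose g hgH hge using hmem 10
  let π : {x // x ∈ (nineIter 10).toFinset} → H := fun x => ⟨g x (List.mem_toFinset.mp x.2), hgH _ _⟩
  have hπ : Function.Bijective π := by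
    refine ⟨fun a b h => Subtype.ext (nineMat_injective i hi ?_), fun ⟨y, hy⟩ => ?_⟩
    · rw [← hge a (List.mem_toFinset.mp a.2), ← hge b (List.mem_toFinset.mp b.2)]
      exact congrArg (fun e : H => ((e : SL2) : M2)) h
    · obtain ⟨x, hx, hyx⟩ := hall' y hy
      exact ⟨⟨x, List.mem_toFinset.mpr hx⟩, Subtype.ext (Subtype.ext ((hge x hx).trans hyx.symm))⟩
  rw [← Nat.card_congr (Equiv.ofBijective π hπ), Nat.card_eq_finsetCard, List.toFinset_card_of_nodup hnd, hlen]

end Cfsg.Agent.Lib.Geometry.Dickson
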