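import Cfsg.Agent.Lib.Geometry.Dickson.SolubilizerThree
import Cfsg.Agent.Lib.Geometry.Dickson.MaxClass
import Cfsg.Agent.Lib.Geometry.Dickson.FourGroups
import Cfsg.Agent.Lib.Geometry.Dickson.Overgroup
import Cfsg.Agent.Lib.Classical.OrthTwo

/-!
`PSL₂` inside `PGL₂`, point stabilisers and torus normalisers.
-/

set_option autoImplicit false
set_option maxHeartbeats 400000

namespace Cfsg.Agent.Lib.Geometry.Dickson.PGLMax

open Matrix
open scoped Matrix MatrixGroups LinearAlgebra.Projectivization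
open Cfsg.Agent.Lib.SL2Trace (tr tr_eq tr_conj tr_inv det_eq sq_eq toPSL toPSL_surjective toPSL_eq toPSL_eq_one
  mem_center_iff)
open Cfsg.Agent.Lib.Geometry.Dickson

variable {F : Type*} [Field F]

local notation "SL2" => Matrix.SpecialLinearGroup (Fin 2) F
local notation "M2" => Matrix (Fin 2) (Fin 2) F
local notation "PSL2" => Matrix.ProjectiveSpecialLinearGroup (Fin 2) F
local notation "PGL2" => Matrix.ProjGenLinGroup (Fin 2) F
local notation "pmk" => (Matrix.ProjGenLinGroup.mk : GL (Fin 2) F →* Matrix.ProjGenLinGroup (Fin 2) F)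

/-- The image of `SL₂` in `PGL₂`. -/
def pglImage : Subgroup PGL2 := (Matrix.ProjGenLinGroup.mk.comp Matrix.SpecialLinearGroup.toGL).range

theorem mk_eq_iff {A B : GL (Fin 2) F} : pmk A = pmk B ↔ ∃ c : F, c ≠ 0 ∧ (B : M2) = c • (A : M2) := by
  rw [Matrix.ProjGenLinGroup.mk_eq_mk_iff]
  constructor
  · rintro ⟨u, rfl⟩
    refine ⟨u, u.ne_zero, ?_⟩
    rw [Units.val_mul, Matrix.GeneralLinearGroup.coe_scalar, Matrix.scalar_apply, ← Matrix.smul_one_eq_diagonal,
      Matrix.mul_smul, mul_one]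
  · rintro ⟨c, hc, h⟩
    refine ⟨Units.mk0 c hc, Units.ext ?_⟩
    rw [Units.val_mul, Matrix.GeneralLinearGroup.coe_scalar, Matrix.scalar_apply, ← Matrix.smul_one_eq_diagonal,
      Matrix.mul_smul, mul_one, h]
    rfl

theorem mk_eq_one_iff {A : GL (Fin 2) F} : pmk A = 1 ↔ ∃ c : F, (A : M2) = c • (1 : M2) := by
  rw [← map_one pmk, eq_comm, mk_eq_iff]
  constructor
  · rintro ⟨c, -, h⟩; exact ⟨c, by simpa using h⟩
  · rintro ⟨c, h⟩
    refine ⟨c, fun h0 => A.det_ne_zero (by rw [h, h0, zero_smul, det_zero]), by simpa using h⟩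

theorem mk_eq_one_iff_isScal {A : GL (Fin 2) F} : pmk A = 1 ↔ Cfsg.Agent.Lib.KnownA.IsScal (A : M2) :=
  mk_eq_one_iff.trans Cfsg.Agent.Lib.KnownA.isScal_iff.symm

/-- `PSL₂` into `PGL₂`. -/
def iota : PSL2 →* PGL2 :=
  QuotientGroup.lift (Subgroup.center SL2) (Matrix.ProjGenLinGroup.mk.comp Matrix.SpecialLinearGroup.toGL)
    fun z hz => by
      rw [MonoidHom.mem_ker, MonoidHom.comp_apply, mk_eq_one_iff]
      rcases mem_center_iff.mp hz with rfl | rfl
      · exact ⟨1, by simp⟩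
      · exact ⟨-1, by ext i j; fin_cases i <;> fin_cases j <;> simp⟩

theorem iota_toPSL (X : SL2) : iota (toPSL X) = pmk (Matrix.SpecialLinearGroup.toGL X) := rfl

theorem iota_injective : Function.Injective (iota (F := F)) := by
  rw [← MonoidHom.ker_eq_bot_iff, eq_bot_iff]
  intro x hx
  obtain ⟨X, rfl⟩ := toPSL_surjective x
  rw [MonoidHom.mem_ker, iota_toPSL, mk_eq_one_iff_isScal] at hx
  rw [Subgroup.mem_bot, toPSL_eq_one]
  exact Cfsg.Agent.Lib.SL2Trace.eq_scalar_of_entries hx.2.1 hx.1 hx.2.2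

theorem range_iota : (iota (F := F)).range = pglImage := by
  ext g
  constructor
  · rintro ⟨x, rfl⟩
    obtain ⟨X, rfl⟩ := toPSL_surjective x
    exact ⟨X, rfl⟩
  · rintro ⟨X, rfl⟩
    exact ⟨toPSL X, rfl⟩

theorem iota_mem (x : PSL2) : iota x ∈ pglImage (F := F) := range_iota (F := F) ▸ ⟨x, rfl⟩

theorem mk_mem_pglImage_iff {A : GL (Fin 2) F} : pmk A ∈ pglImage (F := F) ↔ IsSquare (A : M2).det := by
  constructor
  · rintro ⟨X, hX⟩
    obtain ⟨c, -, h⟩ := mk_eq_iff.mp hX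
    refine ⟨c, ?_⟩
    rw [h, det_smul, Fintype.card_fin, show ((Matrix.SpecialLinearGroup.toGL X : GL (Fin 2) F) : M2).det = 1 from X.2]
    ring
  · rintro ⟨r, hr⟩
    have hr0 : r ≠ 0 := fun h => A.det_ne_zero (by rw [hr, h, mul_zero])
    refine ⟨⟨r⁻¹ • (A : M2), ?_⟩, mk_eq_iff.mpr ⟨r, hr0, ?_⟩⟩
    · rw [det_smul, Fintype.card_fin, hr]; field_simp
    · show (A : M2) = r • (r⁻¹ • (A : M2))
      rw [smul_smul, mul_inv_cancel₀ hr0, one_smul]

instance pglImage_normal : (pglImage (F := F)).Normal := by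
  refine ⟨fun n hn g => ?_⟩
  obtain ⟨A, rfl⟩ := Matrix.ProjGenLinGroup.mk_surjective g
  obtain ⟨B, rfl⟩ := Matrix.ProjGenLinGroup.mk_surjective n
  rw [← map_inv, ← map_mul, ← map_mul]
  rw [mk_mem_pglImage_iff] at hn ⊢
  rw [Units.val_mul, Units.val_mul, Matrix.det_mul_right_comm, ← Units.val_mul, mul_inv_cancel, Units.val_one, one_mul]
  exact hn

/-- Conjugation of `SL₂` by an element of `GL₂`. -/
def cj (A : GL (Fin 2) F) : SL2 ≃* SL2 := glConj A⁻¹

theorem coe_cj (A : GL (Fin 2) F) (X : SL2) :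
    (cj A X : M2) = (A : M2) * (X : M2) * ((A⁻¹ : GL (Fin 2) F) : M2) := by
  show ((A⁻¹⁻¹ : GL (Fin 2) F) : M2) * (X : M2) * ((A⁻¹ : GL (Fin 2) F) : M2) = _
  rw [inv_inv]

theorem tr_cj (A : GL (Fin 2) F) (X : SL2) : tr (cj A X) = tr X := tr_glConj _ _

theorem cj_mul (A B : GL (Fin 2) F) (X : SL2) : cj (A * B) X = cj A (cj B X) := sl_ext (by
  simp only [coe_cj, _root_.mul_inv_rev, Units.val_mul, mul_assoc])

theorem cj_one (X : SL2) : cj (1 : GL (Fin 2) F) X = X := sl_ext (by simp [coe_cj])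

theorem cj_toGL (S X : SL2) : cj (Matrix.SpecialLinearGroup.toGL S) X = S * X * S⁻¹ := sl_ext (by
  rw [coe_cj, ← map_inv]
  rfl)

theorem cj_eq_self_iff {A : GL (Fin 2) F} {X : SL2} : cj A X = X ↔ (A : M2) * (X : M2) = (X : M2) * (A : M2) := by
  constructor
  · intro h
    have h' := congrArg (fun e : SL2 => (e : M2) * (A : M2)) h
    simp only [coe_cj] at h'
    rwa [mul_assoc ((A : M2) * (X : M2)), ← Units.val_mul, inv_mul_cancel, Units.val_one, mul_one] at h'
  · intro h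
    refine sl_ext ?_
    rw [coe_cj, h, mul_assoc, ← Units.val_mul, mul_inv_cancel, Units.val_one, mul_one]

theorem conj_iota (A : GL (Fin 2) F) (X : SL2) : pmk A * iota (toPSL X) * (pmk A)⁻¹ = iota (toPSL (cj A X)) := by
  rw [iota_toPSL, iota_toPSL, ← map_inv, ← map_mul, ← map_mul]
  refine congrArg _ (Units.ext ?_)
  rw [Units.val_mul, Units.val_mul]
  exact (coe_cj A X).symm

/-- A matrix commuting with two non commuting elements is scalar. -/
theorem isScal_of_commute_two {A : M2} {X Y : SL2} (hX : X ∉ Subgroup.center SL2)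
    (hA : A * (X : M2) = (X : M2) * A) (hAY : A * (Y : M2) = (Y : M2) * A) (hne : X * Y ≠ Y * X) :
    Cfsg.Agent.Lib.KnownA.IsScal A := by
  obtain ⟨a, b, h⟩ := Cfsg.Agent.Lib.KnownA.commute_eq_add_smul (not_isScal_of_notMem_center hX) hA
  by_cases hb : b = 0
  · exact Cfsg.Agent.Lib.KnownA.isScal_iff.mpr ⟨a, by rw [h, hb, zero_smul, add_zero]⟩
  · exfalso
    rw [h, add_mul, mul_add, smul_mul_assoc, mul_smul_comm, smul_mul_assoc, mul_smul_comm, one_mul, mul_one,
      add_right_inj] at hAY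
    exact hne (sl_ext (smul_right_injective M2 hb hAY))

theorem mk_eq_one_of_cj_two {A : GL (Fin 2) F} {X Y : SL2} (hne : X * Y ≠ Y * X) (hX : cj A X = X) (hY : cj A Y = Y) :
    pmk A = 1 :=
  mk_eq_one_iff_isScal.mpr (isScal_of_commute_two (fun h => hne (Subgroup.mem_center_iff.mp h Y).symm)
    (cj_eq_self_iff.mp hX) (cj_eq_self_iff.mp hY) hne)

/-- The stabiliser of a point of the line. -/
def lineStab (v : Fin 2 → F) : Subgroup PGL2 where
  carrier := {g | ∃ A : GL (Fin 2) F, pmk A = g ∧ ∃ c : F, (A : M2) *ᵥ v = c • v}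
  one_mem' := ⟨1, map_one _, 1, by simp⟩
  mul_mem' := by
    rintro _ _ ⟨A, rfl, c, hc⟩ ⟨B, rfl, d, hd⟩
    refine ⟨A * B, map_mul _ _ _, d * c, ?_⟩
    rw [Units.val_mul, ← Matrix.mulVec_mulVec, hd, Matrix.mulVec_smul, hc, smul_smul]
  inv_mem' := by
    rintro _ ⟨A, rfl, c, hc⟩
    refine ⟨A⁻¹, map_inv _ _, c⁻¹, ?_⟩
    have h := congrArg (fun w => ((A⁻¹ : GL (Fin 2) F) : M2) *ᵥ w) hc
    simp only [Matrix.mulVec_mulVec, ← Units.val_mul, inv_mul_cancel, Units.val_one, Matrix.one_mulVec,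
      Matrix.mulVec_smul] at h
    by_cases hc0 : c = 0
    · rw [hc0, zero_smul] at h
      rw [h]; simp
    · conv_rhs => rw [h]
      rw [smul_smul, inv_mul_cancel₀ hc0, one_smul]

theorem mk_mem_lineStab {v : Fin 2 → F} {A : GL (Fin 2) F} :
    pmk A ∈ lineStab v ↔ ∃ c : F, (A : M2) *ᵥ v = c • v := by
  refine ⟨fun ⟨B, hB, c, hc⟩ => ?_, fun h => ⟨A, rfl, h⟩⟩
  obtain ⟨e, he, h⟩ := mk_eq_iff.mp hB
  exact ⟨e * c, by rw [h, Matrix.smul_mulVec, hc, smul_smul]⟩

/-- The normaliser of the torus of a semisimple element of `SL₂`. -/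
def torusN (y : SL2) : Subgroup PGL2 where
  carrier := {g | ∃ A : GL (Fin 2) F, pmk A = g ∧ (cj A y = y ∨ cj A y = y⁻¹)}
  one_mem' := ⟨1, map_one _, Or.inl (cj_one y)⟩
  mul_mem' := by
    rintro _ _ ⟨A, rfl, hA⟩ ⟨B, rfl, hB⟩
    refine ⟨A * B, map_mul _ _ _, ?_⟩
    rw [cj_mul]
    rcases hA with hA | hA <;> rcases hB with hB | hB <;> rw [hB] <;> simp [map_inv, hA]
  inv_mem' := by
    rintro _ ⟨A, rfl, hA⟩
    refine ⟨A⁻¹, map_inv _ _, ?_⟩
    have hid : ∀ X, cj A⁻¹ (cj A X) = X := fun X => by rw [← cj_mul, inv_mul_cancel, cj_one]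
    rcases hA with hA | hA
    · exact Or.inl (by conv_lhs => rw [← hA]; rw [hid])
    · refine Or.inr ?_
      have := hid y
      rw [hA, map_inv, inv_eq_iff_eq_inv] at this
      exact this

theorem mk_cj_invariant {A B : GL (Fin 2) F} (h : pmk A = pmk B) (X : SL2) : cj A X = cj B X := by
  have h1 := conj_iota A X
  obtain ⟨c, hc, hB⟩ := mk_eq_iff.mp h
  refine sl_ext ?_
  rw [coe_cj, coe_cj]
  have hBi : ((B⁻¹ : GL (Fin 2) F) : M2) = c⁻¹ • ((A⁻¹ : GL (Fin 2) F) : M2) := by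
    have e : (B : M2) * (c⁻¹ • ((A⁻¹ : GL (Fin 2) F) : M2)) = 1 := by
      rw [hB, smul_mul_assoc, mul_smul_comm, smul_smul, mul_inv_cancel₀ hc, one_smul, ← Units.val_mul,
        mul_inv_cancel, Units.val_one]
    calc ((B⁻¹ : GL (Fin 2) F) : M2) = ((B⁻¹ : GL (Fin 2) F) : M2) * ((B : M2) * (c⁻¹ • ((A⁻¹ : GL (Fin 2) F) : M2))) := by
          rw [e, mul_one]
      _ = _ := by rw [← mul_assoc, ← Units.val_mul, inv_mul_cancel, Units.val_one, one_mul]
  rw [hBi, hB, smul_mul_assoc, smul_mul_assoc, mul_smul_comm, smul_smul, mul_inv_cancel₀ hc, one_smul]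

theorem mk_mem_torusN {y : SL2} {A : GL (Fin 2) F} :
    pmk A ∈ torusN y ↔ (cj A y = y ∨ cj A y = y⁻¹) := by
  refine ⟨fun ⟨B, hB, h⟩ => ?_, fun h => ⟨A, rfl, h⟩⟩
  rwa [mk_cj_invariant hB.symm y]

variable [Fintype F]

theorem two_ne (hodd : Fintype.card F % 2 = 1) : (2 : F) ≠ 0 := two_ne_of_odd hodd

theorem exists_nonsquare (hodd : Fintype.card F % 2 = 1) : ∃ d : F, d ≠ 0 ∧ ¬ IsSquare d := by
  obtain ⟨d, hd⟩ := FiniteField.exists_nonsquare (F := F) (fun h => by
    have := FiniteField.even_card_iff_char_two.mp h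
    omega)
  exact ⟨d, fun h => hd (h ▸ IsSquare.zero), hd⟩

theorem square_mul_of_not {a b : F} (ha : ¬ IsSquare a) (hb : ¬ IsSquare b) : IsSquare (a * b) := by
  classical
  have ha0 : a ≠ 0 := fun h => ha (h ▸ IsSquare.zero)
  have hb0 : b ≠ 0 := fun h => hb (h ▸ IsSquare.zero)
  rw [← quadraticChar_one_iff_isSquare (mul_ne_zero ha0 hb0), map_mul]
  rw [(quadraticChar_dichotomy (F := F) ha0).resolve_left fun e => ha ((quadraticChar_one_iff_isSquare ha0).mp e),
    (quadraticChar_dichotomy (F := F) hb0).resolve_left fun e => hb ((quadraticChar_one_iff_isSquare hb0).mp e)]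
  norm_num

/-- `L` has index two in any subgroup not contained in it. -/
theorem card_eq_two_mul {M : Subgroup PGL2} (hM : ¬ M ≤ pglImage) :
    Nat.card M = 2 * Nat.card (M ⊓ pglImage : Subgroup PGL2) := by
  obtain ⟨g, hgM, hgL⟩ := SetLike.not_le_iff_exists.mp hM
  set H : Subgroup M := (pglImage (F := F)).subgroupOf M
  have hidx : H.index = 2 := by
    rw [Subgroup.index_eq_two_iff]
    refine ⟨⟨g, hgM⟩, fun b => ?_⟩
    simp only [H, Subgroup.mem_subgroupOf, Subgroup.coe_mul]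
    obtain ⟨A, hA⟩ := Matrix.ProjGenLinGroup.mk_surjective g
    obtain ⟨B, hB⟩ := Matrix.ProjGenLinGroup.mk_surjective (b : PGL2)
    rw [← hA] at hgL
    rw [← hA, ← hB, ← map_mul]
    rw [mk_mem_pglImage_iff] at hgL ⊢
    rw [mk_mem_pglImage_iff, Units.val_mul, det_mul]
    by_cases h : IsSquare (B : M2).det
    · refine Or.inr ⟨h, fun h' => hgL ?_⟩
      obtain ⟨r, hr⟩ := h
      obtain ⟨s, hs⟩ := h'
      have hr0 : r ≠ 0 := fun e => B.det_ne_zero (by rw [hr, e, mul_zero])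
      refine ⟨s / r, ?_⟩
      field_simp
      linear_combination hs - (A : M2).det * hr
    · exact Or.inl ⟨square_mul_of_not h hgL, h⟩
  have hc := H.card_mul_index
  rw [hidx] at hc
  rw [← hc, mul_comm, show H = (M ⊓ pglImage).subgroupOf M by rw [Subgroup.inf_subgroupOf_left],
    Nat.card_congr (Subgroup.subgroupOfEquivOfLe (inf_le_left : M ⊓ pglImage ≤ M)).toEquiv]

theorem card_pglImage : Nat.card (pglImage (F := F)) = Nat.card PSL2 := by
  rw [← range_iota]
  exact (Nat.card_congr (MonoidHom.ofInjective iota_injective).toEquiv).symm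

theorem exists_map_e1 {v : Fin 2 → F} (hv : v ≠ 0) : ∃ g : SL2, (g : M2) *ᵥ ![1, 0] = v := by
  by_cases h0 : v 0 = 0
  · have h1 : v 1 ≠ 0 := fun h1 => hv (funext fun i => by fin_cases i <;> assumption)
    refine ⟨⟨!![v 0, -(v 1)⁻¹; v 1, 0], by rw [Matrix.det_fin_two_of]; field_simp; ring⟩, ?_⟩
    ext i; fin_cases i <;> simp
  · refine ⟨⟨!![v 0, 0; v 1, (v 0)⁻¹], by rw [Matrix.det_fin_two_of]; field_simp; ring⟩, ?_⟩
    ext i; fin_cases i <;> simp

/-- A point stabiliser has order `q(q - 1)`. -/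
theorem card_lineStab {v : Fin 2 → F} (hv : v ≠ 0) :
    Nat.card (lineStab v) = Fintype.card F * (Fintype.card F - 1) := by
  classical
  haveI : Finite PGL2 := Finite.of_surjective _ Matrix.ProjGenLinGroup.mk_surjective
  set p := Projectivization.mk F v hv
  have heq : lineStab v = MulAction.stabilizer PGL2 p := by
    ext g
    obtain ⟨A, rfl⟩ := Matrix.ProjGenLinGroup.mk_surjective g
    rw [mk_mem_lineStab, MulAction.mem_stabilizer_iff, Projectivization.PGL.mk_smul_mk,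
      Projectivization.mk_eq_mk_iff']
    exact exists_congr fun c => eq_comm
  have horb : MulAction.orbit PGL2 p = Set.univ := by
    refine Set.eq_univ_of_forall fun x => ?_
    induction x using Projectivization.ind with | h w hw => ?_
    obtain ⟨g, hg⟩ := exists_map_e1 hv
    obtain ⟨g', hg'⟩ := exists_map_e1 hw
    refine ⟨pmk (Matrix.SpecialLinearGroup.toGL (g' * g⁻¹)), ?_⟩
    show pmk _ • p = _
    rw [Projectivization.PGL.mk_smul_mk, Projectivization.mk_eq_mk_iff']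
    refine ⟨1, ?_⟩
    rw [one_smul, ← hg', ← hg]
    show _ = ((g' * g⁻¹ : SL2) : M2) *ᵥ ((g : M2) *ᵥ ![1, 0])
    rw [Matrix.mulVec_mulVec, ← Matrix.SpecialLinearGroup.coe_mul, inv_mul_cancel_right]
  have h := Nat.card_congr (MulAction.orbitProdStabilizerEquivGroup PGL2 p)
  rw [Nat.card_prod, horb, Nat.card_univ, Cfsg.Agent.Lib.Classical.card_projLine, ← heq] at h
  have hG : Nat.card PGL2 = Fintype.card F * (Fintype.card F - 1) * (Fintype.card F + 1) := by
    rw [Cfsg.Agent.Lib.Classical.card_PGL, Cfsg.Agent.Lib.Classical.card_SL2, ← one_pow 2, Nat.sq_sub_sq, one_pow]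
    ring
  rw [hG, mul_comm (Fintype.card F * _)] at h
  exact Nat.eq_of_mul_eq_mul_left (Nat.succ_pos _) h

end Cfsg.Agent.Lib.Geometry.Dickson.PGLMax
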