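import Cfsg.Agent.Lib.Geometry.Dickson.MaxExist

/-!
Overgroups of subfield subgroups.
-/

set_option autoImplicit false

namespace Cfsg.Agent.Lib.Geometry.Dickson

open Matrix
open scoped Matrix MatrixGroups
open Cfsg.Agent.Lib.SL2Trace (tr toPSL toPSL_surjective toPSL_eq_one mem_center_iff)

variable {F : Type*} [Field F] [Fintype F] (p : ℕ) [Fact p.Prime] [CharP F p] {K : Type*} [Field K]

local notation "SL2" => Matrix.SpecialLinearGroup (Fin 2) F
local notation "M2" => Matrix (Fin 2) (Fin 2) F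
local notation "PSL2" => Matrix.ProjectiveSpecialLinearGroup (Fin 2) F

include p in
theorem overgroup_subfield (σ : K →+* F) {μ : K} (hμ : μ ≠ 0) (hμ1 : 1 + μ ≠ 0) {M : Subgroup PSL2}
    (hM : pslRange σ ≤ M) :
    M = ⊤ ∨
      (∃ L : Subfield F, L ≠ ⊤ ∧ (∀ x, σ x ∈ L) ∧ (Nonempty (M ≃* Matrix.ProjectiveSpecialLinearGroup (Fin 2) L) ∨
        Nonempty (M ≃* Matrix.ProjGenLinGroup (Fin 2) L))) ∨
      Nonempty (M ≃* alternatingGroup (Fin 4)) ∨ Nonempty (M ≃* Equiv.Perm (Fin 4)) ∨
      Nonempty (M ≃* alternatingGroup (Fin 5)) := by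
  obtain ⟨G, hG, hmap, hu, hl⟩ : ∃ G : Subgroup SL2, Subgroup.center _ ≤ G ∧ G.map toPSL = M ∧
      (∀ x, upper (σ x) ∈ G) ∧ ∀ x, lower (σ x) ∈ G := by
    refine ⟨M.comap toPSL, fun z hz => by
        rw [Subgroup.mem_comap, show toPSL z = 1 from toPSL_eq_one.mpr (mem_center_iff.mp hz)]; exact M.one_mem,
      Subgroup.map_comap_eq_self_of_surjective toPSL_surjective M, fun x => ?_, fun x => ?_⟩
    · refine hM ⟨upper x, ?_⟩
      show toPSL (Matrix.SpecialLinearGroup.map σ (upper x)) = toPSL (upper (σ x))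
      congr 1
      refine sl_ext (Matrix.ext fun i j => ?_)
      show σ ((upper x : Matrix (Fin 2) (Fin 2) K) i j) = _
      fin_cases i <;> fin_cases j <;> simp [coe_upper]
    · refine hM ⟨lower x, ?_⟩
      show toPSL (Matrix.SpecialLinearGroup.map σ (lower x)) = toPSL (lower (σ x))
      congr 1
      refine sl_ext (Matrix.ext fun i j => ?_)
      show σ ((lower x : Matrix (Fin 2) (Fin 2) K) i j) = _
      fin_cases i <;> fin_cases j <;> simp [coe_lower]
  subst hmap
  have hup : upper (1 : F) ∈ G := by simpa using hu 1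
  have hlo : lower (1 : F) ∈ G := by simpa using hl 1
  have huZ := upper_notMem_center (one_ne_zero (α := F))
  have hwZ := lower_notMem_center (one_ne_zero (α := F))
  have htu : tr (upper (1 : F)) ^ 2 = 4 := by rw [tr_upper]; norm_num
  rcases shape G p hG with h | ⟨y, hy, hyZ, ht, h⟩ | ⟨y, a, hy, ht, h⟩ | ⟨y, hy, hyZ, ht, h⟩ | ⟨y, hy, ht, h⟩ |
    ⟨y, hy, ht, h⟩ | ⟨y₂, y₃, y₅, hy₂, hy₃, hy₅, hcover, h⟩ | ⟨y, r, k, hy, hyZ, ht, hr, hc, h⟩
  · exact absurd (h hup) huZ
  · exact absurd htu (tr_sq_ne_of_cell G hyZ ht (h.symm ▸ hup : upper (1 : F) ∈ cell G y) huZ)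
  · exfalso
    obtain ⟨hyG, hyZ, hc, hN⟩ := hy
    have hout : ∀ t : F, t ≠ 0 → upper t ∈ G → upper t ∈ cellNorm G y ∧ upper t ∉ cell G y := fun t ht0 htG =>
      ⟨h.symm ▸ htG, fun hm => tr_sq_ne_of_cell G hyZ ht hm (upper_notMem_center ht0) (by rw [tr_upper]; norm_num)⟩
    obtain ⟨ha, hac⟩ := hout 1 one_ne_zero hup
    obtain ⟨hb, hbc⟩ := hout (σ μ) (fun e => hμ (σ.injective (e.trans (map_zero σ).symm))) (hu μ)
    have hidx : ((cell G y).subgroupOf (cellNorm G y)).index = 2 := by
      have hm := ((cell G y).subgroupOf (cellNorm G y)).card_mul_index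
      rw [Nat.card_congr (Subgroup.subgroupOfEquivOfLe (cell_le_cellNorm G y)).toEquiv, hc, hN,
        show Nat.card (Subgroup.center SL2) * (2 * a) = Nat.card (Subgroup.center SL2) * a * 2 by ring] at hm
      haveI : Finite (cell G y) := Finite.of_injective (Subgroup.inclusion (inf_le_right : cell G y ≤ G))
        (Subgroup.inclusion_injective _)
      exact Nat.eq_of_mul_eq_mul_left (hc ▸ Nat.card_pos) hm
    have hab := (Subgroup.mul_mem_iff_of_index_two hidx (a := (⟨_, ha⟩ : cellNorm G y)) (b := ⟨_, hb⟩)).mpr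
      (by simp only [Subgroup.mem_subgroupOf]; exact iff_of_false hac hbc)
    rw [Subgroup.mem_subgroupOf] at hab
    change upper (1 : F) * upper (σ μ) ∈ cell G y at hab
    rw [upper_mul] at hab
    exact (hout _ (fun e => hμ1 (σ.injective (by rw [map_add, map_one, map_zero]; exact e))) hab.2).2 hab
  · exfalso
    obtain ⟨v, ε, hv, hε, hty, hyv⟩ := exists_fixed_vector ht
    have hN := mem_cellNorm_unipotent_iff G hy hyZ hv hε hty hyv
    rw [h] at hN
    obtain ⟨-, d, hd⟩ := (hN _).mp hup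
    obtain ⟨-, e, he⟩ := (hN _).mp hlo
    obtain ⟨s, hs⟩ := mem_line_of_eigen huZ (show (![1, 0] : Fin 2 → F) ≠ 0 from
      fun h => one_ne_zero (α := F) (congrFun h 0)) (one_mul 1) (by rw [tr_upper, mul_one]) (upper_mulVec 1) hd
    obtain ⟨t, ht'⟩ := mem_line_of_eigen hwZ (show (![0, 1] : Fin 2 → F) ≠ 0 from
      fun h => one_ne_zero (α := F) (congrFun h 1)) (one_mul 1) (by rw [tr_lower, mul_one]) (lower_mulVec 1) he
    apply hv
    rw [hs] at ht' ⊢
    have := congrFun ht' 0
    simp at this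
    rw [this, zero_smul]
  · exact Or.inr (Or.inr (Or.inl (tetrahedral_image G hG hy ht h)))
  · exact Or.inr (Or.inr (Or.inr (Or.inl (octahedral_image G hG hy ht h))))
  · exact Or.inr (Or.inr (Or.inr (Or.inr (icosahedral_image G hG hy₂ hy₃ hy₅ hcover h))))
  · have e := unipotent_cls_eq G p hG hy hup hyZ huZ ht htu
    obtain ⟨L, -, -, hLu, hLl, hline⟩ := subfield_normal G p hG one_ne_zero hup hlo
      ((data_of_cls_eq G e).1.symm.trans hc) (e ▸ h)
    by_cases hLt : L = ⊤
    · left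
      rw [eq_top_of_upper_lower (fun x => (hLu x).mpr (hLt ▸ Subfield.mem_top x))
        (fun x => (hLl x).mpr (hLt ▸ Subfield.mem_top x))]
      exact Subgroup.map_top_of_surjective _ toPSL_surjective
    · exact Or.inr (Or.inl ⟨L, hLt, fun x => (hLu _).mp (hu x), normal_image G hLu hLl hline⟩)

/-- Between a subfield of prime index and the whole field there is nothing. -/
theorem card_intermediate [Fintype K] (σ : K →+* F) {l : ℕ} (hl : l.Prime)
    (h : Fintype.card K ^ l = Fintype.card F) (L : Subfield F) (hL : ∀ x, σ x ∈ L) (hLt : L ≠ ⊤) :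
    Nat.card L = Fintype.card K := by
  classical
  haveI := Fintype.ofFinite L
  letI : Algebra K L := (σ.codRestrict L hL).toAlgebra
  have h1 : Fintype.card L = Fintype.card K ^ Module.finrank K L := Module.card_eq_pow_finrank
  have h2 : Fintype.card F = Fintype.card L ^ Module.finrank L F := Module.card_eq_pow_finrank
  rw [h1, ← pow_mul, ← h] at h2
  have hmul := (Nat.pow_right_injective (Fintype.one_lt_card (α := K)) h2).symm
  rcases hl.eq_one_or_self_of_dvd _ ⟨_, hmul.symm⟩ with hx | hx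
  · rw [Nat.card_eq_fintype_card, h1, hx, pow_one]
  · exfalso
    have h3 : Fintype.card L = Fintype.card F := by rw [h1, hx, h]
    refine hLt (eq_top_iff.mpr fun x _ => ?_)
    have hb : Function.Bijective (fun x : L => (x : F)) :=
      (Fintype.bijective_iff_injective_and_card _).mpr ⟨Subtype.val_injective, h3⟩
    obtain ⟨y, rfl⟩ := hb.2 x
    exact y.2

end Cfsg.Agent.Lib.Geometry.Dickson
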