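import Cfsg.Agent.Lib.Geometry.Dickson.PGLTypes
import Cfsg.Agent.Lib.Geometry.Dickson.SubMax

/-!
Maximal subgroups of `PGL₂` meet `PSL₂` in maximal subgroups, with known exceptions.
-/

set_option autoImplicit false
set_option maxHeartbeats 400000

namespace Cfsg.Agent.Lib.Geometry.Dickson.PGLMax

open Matrix
open scoped Pointwise
open scoped Matrix MatrixGroups
open Cfsg.Agent.Lib.SL2Trace (tr toPSL toPSL_surjective toPSL_eq toPSL_eq_one mem_center_iff)
open Cfsg.Agent.Lib.Geometry.Dickson

variable {F : Type*} [Field F] [Fintype F]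

local notation "SL2" => Matrix.SpecialLinearGroup (Fin 2) F
local notation "PSL2" => Matrix.ProjectiveSpecialLinearGroup (Fin 2) F
local notation "PGL2" => Matrix.ProjGenLinGroup (Fin 2) F
local notation "pmk" => (Matrix.ProjGenLinGroup.mk : GL (Fin 2) F →* Matrix.ProjGenLinGroup (Fin 2) F)

theorem two_mul_card_PSL (hodd : Fintype.card F % 2 = 1) :
    2 * Nat.card PSL2 = Fintype.card F * (Fintype.card F ^ 2 - 1) := by
  have h2 : Nat.gcd 2 (Fintype.card F - 1) = 2 := by
    have := Fintype.card_pos (α := F)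
    exact Nat.gcd_eq_left (by omega)
  rw [← Cfsg.Agent.Lib.Classical.card_PSL2_mul, h2]

variable (h5 : 5 ≤ Fintype.card F) (hodd : Fintype.card F % 2 = 1)
variable {M : Subgroup (Matrix.ProjGenLinGroup (Fin 2) F)} (hM : IsCoatom M)
variable (hML : ¬ pglImage ≤ M)

include h5 hodd hM hML

theorem coatom_of_line (h7 : Fintype.card F ≠ 7) (h9 : Fintype.card F ≠ 9) (h11 : Fintype.card F ≠ 11)
    {v : Fin 2 → F} (hv : v ≠ 0) (h : M = lineStab v) : IsCoatom (below M) := by
  classical
  haveI : Finite PGL2 := Finite.of_surjective _ Matrix.ProjGenLinGroup.mk_surjective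
  refine ⟨below_ne_top hML, fun K hK => by_contra fun hKt => ?_⟩
  have h2 := card_eq_below (by omega) hodd hM hML
  rw [h, card_lineStab hv, ← h] at h2
  have hlt : Nat.card (below M) < Nat.card K := by
    by_contra hle
    exact hK.ne (Subgroup.eq_of_le_of_card_ge hK.le (by omega))
  by_cases hq5 : Fintype.card F = 5
  · haveI := isSimple_PSL2 (F := F) (by omega)
    obtain ⟨j, hj⟩ := Subgroup.card_dvd_of_le hK.le
    have hP := two_mul_card_PSL (F := F) hodd
    rw [hq5] at hP h2
    have hm := K.card_mul_index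
    have hidx : K.index ≤ 3 := by
      obtain ⟨i, hi⟩ := K.card_subgroup_dvd_card
      have hH : Nat.card (below M) = 10 := by omega
      rw [hH] at hj hlt
      rw [hj, show Nat.card PSL2 = 60 by omega] at hm
      have hj2 : 2 ≤ j := by omega
      have : 10 * 2 * K.index ≤ 10 * j * K.index := Nat.mul_le_mul_right _ (Nat.mul_le_mul_left 10 hj2)
      omega
    have hinj : Function.Injective (MulAction.toPermHom PSL2 (PSL2 ⧸ K)) := by
      rw [← MonoidHom.ker_eq_bot_iff, ← Subgroup.normalCore_eq_ker]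
      refine ((Subgroup.normalCore_normal K).eq_bot_or_eq_top).resolve_right fun e => ?_
      exact hKt (top_le_iff.mp (e ▸ K.normalCore_le))
    have hd := Subgroup.card_dvd_of_injective _ hinj
    rw [Nat.card_perm, ← K.index_eq_card, show Nat.card PSL2 = 60 by omega] at hd
    have h0 : 0 < K.index := Nat.pos_of_ne_zero fun e => by rw [e, mul_zero] at hm; omega
    interval_cases hi : K.index <;> simp [Nat.factorial] at hd
  · obtain ⟨p, hp⟩ := CharP.exists F
    obtain ⟨n, hpr, -⟩ := FiniteField.card F p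
    haveI : Fact p.Prime := ⟨hpr⟩
    have h := card_le_borel p (by simp only [Finset.mem_insert, Finset.mem_singleton, not_or]; omega) hKt
    rw [Nat.gcd_eq_left (show 2 ∣ Fintype.card F - 1 by omega)] at h
    omega

theorem coatom_of_torus (h7 : Fintype.card F ≠ 7) (h9 : Fintype.card F ≠ 9) (h11 : Fintype.card F ≠ 11)
    {y : SL2} (hy : y ∉ Subgroup.center SL2) (ht : tr y ^ 2 ≠ 4) (h : M = torusN y) : IsCoatom (below M) := by
  classical
  obtain ⟨p, hp⟩ := CharP.exists F
  obtain ⟨n, hpr, -⟩ := FiniteField.card F p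
  haveI : Fact p.Prime := ⟨hpr⟩
  have hle : torusNorm y ≤ below M := by
    rintro _ ⟨g, hg, rfl⟩
    show iota (toPSL g) ∈ M
    rw [h, iota_toPSL, mk_mem_torusN, cj_toGL]
    have h2 : g * y * g⁻¹ ∈ (MulAut.conj g) • cell ⊤ y := ⟨y, mem_cell_self ⊤ (Subgroup.mem_top _), rfl⟩
    rw [((mem_cellNorm_iff ⊤).mp hg).2] at h2
    exact eq_or_eq_inv_of_tr hy ht h2.1 (Cfsg.Agent.Lib.SL2Trace.tr_conj _ _)
  have hd : 2 ∣ Fintype.card F - 1 := by omega
  have hd' : 2 ∣ Fintype.card F + 1 := by omega
  have hco : IsCoatom (torusNorm y) := by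
    rcases card_torusC hodd hy ht with ⟨hs, hc⟩ | ⟨hs, -⟩
    · refine isCoatom_torusNorm p hy ht (split_half hy ht hs) (Or.inr ⟨?_, ?_⟩)
      · rw [Nat.gcd_eq_left hd, Nat.mul_div_cancel' hd]
      · have := split_five hodd hM hML hy ht hs hc h
        simp only [Finset.mem_insert, Finset.mem_singleton, not_or]
        omega
    · refine isCoatom_torusNorm p hy ht (nonsplit_half hy ht hs) (Or.inl ⟨?_, ?_⟩)
      · rw [Nat.gcd_eq_left hd, Nat.mul_div_cancel' hd']
      · simp only [Finset.mem_insert, Finset.mem_singleton, not_or]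
        omega
  rw [(hco.le_iff.mp hle).resolve_left (below_ne_top hML)]
  exact hco

theorem coatom_of_symFour (hq : (Fintype.card F).Prime) (h8 : Fintype.card F % 8 = 3 ∨ Fintype.card F % 8 = 5)
    (h40 : Fintype.card F % 40 ∉ ({11, 19, 21, 29} : Finset ℕ)) (e : M ≃* Equiv.Perm (Fin 4)) :
    IsCoatom (below M) := by
  classical
  obtain ⟨p, hp⟩ := CharP.exists F
  obtain ⟨n, hpr, -⟩ := FiniteField.card F p
  haveI : Fact p.Prime := ⟨hpr⟩
  have hp2 := p_ne_two p hodd
  haveI : Finite PGL2 := Finite.of_surjective _ Matrix.ProjGenLinGroup.mk_surjective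
  have hc4 : Nat.card (Equiv.Perm (Fin 4)) = 24 := by
    rw [Nat.card_eq_fintype_card]
    decide +kernel
  have hH : Nat.card (below M) = 12 := by
    have h := card_eq_below (by omega) hodd hM hML
    rw [Nat.card_congr e.toEquiv, hc4] at h
    omega
  let φ : below M →* Equiv.Perm (Fin 4) :=
    e.toMonoidHom.comp (((iota (F := F)).comp (below M).subtype).codRestrict M fun z => z.2)
  have hφ : Function.Injective φ := fun a b h =>
    Subtype.ext (iota_injective (congrArg Subtype.val (e.injective h)))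
  have hidx : φ.range.index = 2 := by
    have h := φ.range.card_mul_index
    rw [← Nat.card_congr (MonoidHom.ofInjective hφ).toEquiv, hH, hc4] at h
    omega
  obtain ⟨eA⟩ : Nonempty (below M ≃* alternatingGroup (Fin 4)) :=
    ⟨(MonoidHom.ofInjective hφ).trans (MulEquiv.subgroupCongr (Equiv.Perm.eq_alternatingGroup_of_index_eq_two hidx))⟩
  refine ⟨below_ne_top hML, fun K hK => ?_⟩
  have hlt : Nat.card (below M) < Nat.card K := by
    by_contra hle
    exact hK.ne (Subgroup.eq_of_le_of_card_ge hK.le (by omega))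
  have hcomm : ∃ x y : alternatingGroup (Fin 4), ¬ orderOf (x * y * x⁻¹ * y⁻¹) ∣ p := by
    obtain ⟨x, y, h⟩ := witnesses_alt4.2
    exact ⟨x, y, fun hd => hp2 ((Nat.prime_dvd_prime_iff_eq Nat.prime_two Fact.out).mp (h ▸ hd)).symm⟩
  have hdiv := K.card_subgroup_dvd_card
  have hP := two_mul_card_PSL (F := F) hodd
  rcases overgroup_cases p eA witnesses_alt4.1 hcomm hK.le with h | ⟨⟨d⟩⟩ | ⟨⟨d⟩⟩ | ⟨⟨d⟩⟩ | ⟨L, hL, -⟩
  · exact h
  · exfalso
    have := Nat.card_congr d.toEquiv
    rw [Nat.card_eq_fintype_card (α := alternatingGroup (Fin 4)),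
      show Fintype.card (alternatingGroup (Fin 4)) = 12 by decide +kernel] at this
    omega
  · exfalso
    rw [Nat.card_congr d.toEquiv, hc4] at hdiv
    obtain ⟨j, hj⟩ := hdiv
    rw [hj] at hP
    have h16 : Fintype.card F * (Fintype.card F ^ 2 - 1) % 16 = 0 := by omega
    obtain ⟨r, hr, hr8⟩ : ∃ r, r = Fintype.card F % 16 ∧ (r = 3 ∨ r = 5 ∨ r = 11 ∨ r = 13) := ⟨_, rfl, by omega⟩
    have h1 : (Fintype.card F * (Fintype.card F ^ 2 - 1) + Fintype.card F) % 16 = r % 16 := by
      rw [hr]; omega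
    rw [show Fintype.card F * (Fintype.card F ^ 2 - 1) + Fintype.card F = Fintype.card F ^ 3 by
      have : 1 ≤ Fintype.card F ^ 2 := Nat.one_le_pow 2 _ (by omega)
      obtain ⟨s, hs⟩ := Nat.exists_eq_add_of_le this
      rw [hs, Nat.add_sub_cancel_left, pow_succ, hs]; ring, Nat.pow_mod, ← hr] at h1
    rcases hr8 with rfl | rfl | rfl | rfl <;> simp at h1
  · rw [Nat.card_congr d.toEquiv, Nat.card_eq_fintype_card,
      show Fintype.card (alternatingGroup (Fin 5)) = 60 by decide +kernel] at hdiv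
    obtain ⟨j, hj⟩ := hdiv
    rcases Nat.eq_zero_or_pos (Fintype.card F % 5) with h0 | h0
    · have hq5 : Fintype.card F = 5 :=
        ((Nat.prime_dvd_prime_iff_eq Nat.prime_five hq).mp (Nat.dvd_of_mod_eq_zero h0)).symm
      refine Subgroup.eq_top_of_le_card _ ?_
      rw [hq5] at hP
      rw [Nat.card_congr d.toEquiv, Nat.card_eq_fintype_card (α := alternatingGroup (Fin 5)),
        show Fintype.card (alternatingGroup (Fin 5)) = 60 by decide +kernel]
      omega
    · exfalso
      simp only [Finset.mem_insert, Finset.mem_singleton, not_or] at h40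
      obtain ⟨r, hr, hr5⟩ : ∃ r, r = Fintype.card F % 5 ∧ (r = 2 ∨ r = 3) := ⟨_, rfl, by omega⟩
      rw [hj] at hP
      have h5' : Fintype.card F * (Fintype.card F ^ 2 - 1) % 5 = 0 := by omega
      have h1 : (Fintype.card F * (Fintype.card F ^ 2 - 1) + Fintype.card F) % 5 = r % 5 := by
        rw [hr]; omega
      rw [show Fintype.card F * (Fintype.card F ^ 2 - 1) + Fintype.card F = Fintype.card F ^ 3 by
        have : 1 ≤ Fintype.card F ^ 2 := Nat.one_le_pow 2 _ (by omega)
        obtain ⟨s, hs⟩ := Nat.exists_eq_add_of_le this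
        rw [hs, Nat.add_sub_cancel_left, pow_succ, hs]; ring, Nat.pow_mod, ← hr] at h1
      rcases hr5 with rfl | rfl <;> simp at h1
  · exact absurd (subfield_eq_top_of_prime hq L) hL

theorem coatom_of_sub {K : Subfield F} {g₀ : PGL2} {r : ℕ} (hr : r.Prime) (hro : Odd r)
    (hc : Nat.card K ^ r = Fintype.card F) (h : M = conjSub g₀ K) : IsCoatom (below M) := by
  classical
  obtain ⟨p, hp⟩ := CharP.exists F
  obtain ⟨n, hpr, -⟩ := FiniteField.card F p
  haveI : Fact p.Prime := ⟨hpr⟩
  haveI : Finite PGL2 := Finite.of_surjective _ Matrix.ProjGenLinGroup.mk_surjective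
  haveI := Fintype.ofFinite K
  rw [Nat.card_eq_fintype_card] at hc
  have hKodd : Fintype.card K % 2 = 1 := by
    by_contra hcon
    rw [← hc, Nat.pow_mod, show Fintype.card K % 2 = 0 by omega, zero_pow hr.ne_zero] at hodd
    simp at hodd
  have hPK := two_mul_card_PSL (F := K) hKodd
  have hq3 : 3 ≤ Fintype.card K := by
    have := Fintype.one_lt_card (α := K)
    omega
  have hH : Nat.card (below M) = Nat.card (Matrix.ProjectiveSpecialLinearGroup (Fin 2) K) := by
    have h1 := card_eq_below (by omega) hodd hM hML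
    rw [h, card_conjSub, Nat.card_eq_fintype_card, ← h] at h1
    omega
  obtain ⟨B, rfl⟩ := Matrix.ProjGenLinGroup.mk_surjective g₀
  let β : PSL2 ≃* PSL2 := Cfsg.Agent.Lib.Classical.centralQuotientCongr (cj B)
  have hβ : ∀ X : SL2, β (toPSL X) = toPSL (cj B X) := fun X => rfl
  have hle : (pslRange K.subtype).map β.toMonoidHom ≤ below M := by
    rintro _ ⟨_, ⟨A, rfl⟩, rfl⟩
    show iota (β (toPSL (Matrix.SpecialLinearGroup.map K.subtype A))) ∈ M
    rw [hβ, ← conj_iota, h]
    refine ⟨_, ⟨Matrix.ProjGenLinGroup.mk (Matrix.SpecialLinearGroup.toGL A), rfl⟩, ?_⟩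
    show pmk B * _ * (pmk B)⁻¹ = _
    congr 2
    exact congrArg pmk (Units.ext rfl)
  have hcR : Nat.card (pslRange (F := F) K.subtype) = Nat.card (Matrix.ProjectiveSpecialLinearGroup (Fin 2) K) := by
    obtain ⟨d⟩ := pslRange_equiv (F := F) K.subtype
    exact Nat.card_congr d.toEquiv
  have heq : (pslRange K.subtype).map β.toMonoidHom = below M :=
    Subgroup.eq_of_le_of_card_ge hle (by
      rw [Subgroup.card_map_of_injective (f := β.toMonoidHom) β.injective, hcR, hH])
  have hHne : below M ≠ ⊥ := fun e => by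
    rw [e, Subgroup.card_bot] at hH
    rw [← hH] at hPK
    nlinarith [Nat.sub_add_cancel (show 1 ≤ Fintype.card K ^ 2 from Nat.one_le_pow 2 _ (by omega))]
  have h2idx : ∀ J : Subgroup PSL2, below M < J → Nat.card J ≠ 2 * Nat.card (below M) := by
    intro J hJ hJc
    haveI hn : ((below M).subgroupOf J).Normal := by
      refine Subgroup.normal_of_index_eq_two ?_
      have h := ((below M).subgroupOf J).card_mul_index
      rw [Nat.card_congr (Subgroup.subgroupOfEquivOfLe hJ.le).toEquiv, hJc, mul_comm 2] at h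
      exact Nat.eq_of_mul_eq_mul_left Nat.card_pos h
    have hJN : J ≤ Subgroup.normalizer ((below M : Subgroup PSL2) : Set PSL2) :=
      (Subgroup.normal_subgroupOf_iff_le_normalizer hJ.le).mp hn
    exact hJ.not_ge fun t ht =>
      below_normalizer_le (by omega) hM hML hHne (below_ne_top hML) (fun g hg x hx => below_conj hg hx) (hJN ht)
  refine ⟨below_ne_top hML, fun J hJ => ?_⟩
  have hlt : Nat.card (below M) < Nat.card J := by
    by_contra hle
    exact hJ.ne (Subgroup.eq_of_le_of_card_ge hJ.le (by omega))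
  set J' := J.comap β.toMonoidHom
  have hJ' : Nat.card J' = Nat.card J := by
    conv_rhs => rw [← Subgroup.map_comap_eq_self_of_surjective (f := β.toMonoidHom) β.surjective J]
    exact (Subgroup.card_map_of_injective (f := β.toMonoidHom) β.injective).symm
  have hsub : pslRange K.subtype ≤ J' := Subgroup.map_le_iff_le_comap.mp (heq ▸ hJ.le)
  have hne := h2idx J hJ
  rcases overgroup_subfield p K.subtype one_ne_zero (fun e => two_ne hKodd (by linear_combination e)) hsub with
    h' | ⟨L, hL, hKL, ⟨⟨d⟩⟩ | ⟨⟨d⟩⟩⟩ | ⟨⟨d⟩⟩ | ⟨⟨d⟩⟩ | ⟨⟨d⟩⟩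
  · rw [eq_top_iff]
    intro t _
    obtain ⟨s, rfl⟩ := β.surjective t
    exact (h' ▸ Subgroup.mem_top s : s ∈ J')
  · exfalso
    haveI := Fintype.ofFinite L
    have hL' := card_intermediate K.subtype hr hc L hKL hL
    rw [Nat.card_eq_fintype_card] at hL'
    have hPL := two_mul_card_PSL (F := L) (by omega)
    rw [hL', ← Nat.card_congr d.toEquiv, hJ'] at hPL
    omega
  · exfalso
    haveI := Fintype.ofFinite L
    have hL' := card_intermediate K.subtype hr hc L hKL hL
    rw [Nat.card_eq_fintype_card] at hL'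
    have hGL := Nat.card_congr d.toEquiv
    rw [card_PGL2, hL', hJ'] at hGL
    omega
  all_goals
    exfalso
    have hA := Nat.card_congr d.toEquiv
    rw [hJ'] at hA
    first
    | rw [show Nat.card (alternatingGroup (Fin 4)) = 12 by rw [Nat.card_eq_fintype_card]; decide +kernel] at hA
    | rw [show Nat.card (Equiv.Perm (Fin 4)) = 24 by rw [Nat.card_eq_fintype_card]; decide +kernel] at hA
    | rw [show Nat.card (alternatingGroup (Fin 5)) = 60 by rw [Nat.card_eq_fintype_card]; decide +kernel] at hA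
    have hK5 : Fintype.card K ≤ 5 := by
      by_contra hcon
      have : 6 * (6 ^ 2 - 1) ≤ Fintype.card K * (Fintype.card K ^ 2 - 1) :=
        Nat.mul_le_mul (by omega) (Nat.sub_le_sub_right (Nat.pow_le_pow_left (by omega) 2) 1)
      omega
    obtain hk | hk : Fintype.card K = 3 ∨ Fintype.card K = 5 := by omega
    · rw [hk] at hPK hc
      first
      | omega
      | have hdiv := J.card_subgroup_dvd_card
        rw [hA] at hdiv
        obtain ⟨j, hj⟩ := hdiv
        have hP := two_mul_card_PSL (F := F) hodd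
        rw [hj, ← hc] at hP
        obtain ⟨s, rfl⟩ := hro
        have h15 : (3 ^ (2 * s + 1) * ((3 ^ (2 * s + 1)) ^ 2 - 1)) % 5 = 0 := by omega
        rw [← pow_mul, Nat.mul_mod] at h15
        have h9 : 3 ^ ((2 * s + 1) * 2) % 5 = 4 := by
          rw [show (2 * s + 1) * 2 = 4 * s + 2 by ring, pow_add, pow_mul, Nat.mul_mod, Nat.pow_mod]
          simp
        have h3 : 3 ^ (2 * s + 1) % 5 ≠ 0 := fun e => by
          have := (Nat.Prime.dvd_of_dvd_pow Nat.prime_five (Nat.dvd_of_mod_eq_zero e))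
          omega
        have hsub : ∀ X : ℕ, X % 5 = 4 → (X - 1) % 5 = 3 := fun X hX => by omega
        rw [hsub _ h9] at h15
        have h35 : 3 ^ (2 * s + 1) % 5 < 5 := Nat.mod_lt _ (by norm_num)
        interval_cases hm : 3 ^ (2 * s + 1) % 5 <;> simp_all
    · rw [hk] at hPK
      omega

/-- The intersection is maximal. -/
theorem isCoatom_below (h7 : Fintype.card F ≠ 7) (h9 : Fintype.card F ≠ 9) (h11 : Fintype.card F ≠ 11)
    (h40 : (Fintype.card F).Prime → Fintype.card F % 40 ∉ ({11, 19, 21, 29} : Finset ℕ)) : IsCoatom (below M) := by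
  rcases pgl_max_cases h5 hodd hM hML with ⟨v, hv, h⟩ | ⟨y, hy, ht, h⟩ | ⟨hq, h8, ⟨e⟩⟩ | ⟨K, g₀, r, hr, hro, hc, h⟩
  · exact coatom_of_line h5 hodd hM hML h7 h9 h11 hv h
  · exact coatom_of_torus h5 hodd hM hML h7 h9 h11 hy ht h
  · exact coatom_of_symFour h5 hodd hM hML hq h8 (h40 hq) e
  · exact coatom_of_sub h5 hodd hM hML hr hro hc h

omit h5 hodd hM hML in
/-- The form of the statement. -/
theorem coatom_inf (h4 : 4 ≤ Fintype.card F) (h7 : Fintype.card F ≠ 7) (h9 : Fintype.card F ≠ 9)
    (h11 : Fintype.card F ≠ 11) (h40 : (Fintype.card F).Prime → Fintype.card F % 40 ∉ ({11, 19, 21, 29} : Finset ℕ))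
    (hM : IsCoatom M) (hML : ¬ pglImage ≤ M) : IsCoatom ((M ⊓ pglImage).subgroupOf pglImage) := by
  classical
  haveI : Finite PGL2 := Finite.of_surjective _ Matrix.ProjGenLinGroup.mk_surjective
  rcases Nat.mod_two_eq_zero_or_one (Fintype.card F) with heven | hodd
  · have htop : pglImage (F := F) = ⊤ := by
      refine eq_top_iff.mpr fun g _ => ?_
      obtain ⟨A, rfl⟩ := Matrix.ProjGenLinGroup.mk_surjective g
      rw [mk_mem_pglImage_iff]
      exact FiniteField.isSquare_of_char_two (FiniteField.even_card_iff_char_two.mpr heven) _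
    rw [htop]
    rw [inf_top_eq]
    exact ((Subgroup.topEquiv (G := PGL2)).comapSubgroup.isCoatom_iff M).mpr hM
  · let ψ : PSL2 ≃* pglImage (F := F) :=
      (MonoidHom.ofInjective iota_injective).trans (MulEquiv.subgroupCongr range_iota)
    have e : ((M ⊓ pglImage).subgroupOf pglImage).comap ψ.toMonoidHom = below M := by
      ext x
      show (iota x ∈ M ∧ iota x ∈ pglImage) ↔ iota x ∈ M
      exact and_iff_left (iota_mem x)
    have h := isCoatom_below (by omega) hodd hM hML h7 h9 h11 h40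
    rw [← e] at h
    exact (ψ.comapSubgroup.isCoatom_iff _).mp h

end Cfsg.Agent.Lib.Geometry.Dickson.PGLMax
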