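import Cfsg.Agent.Lib.Geometry.Dickson.PGLShape

/-!
The maximal subgroups of `PGL₂` not containing `PSL₂`.
-/

set_option autoImplicit false
set_option maxHeartbeats 400000

namespace Cfsg.Agent.Lib.Geometry.Dickson.PGLMax

open Matrix
open scoped Matrix MatrixGroups
open Cfsg.Agent.Lib.SL2Trace (tr tr_eq tr_neg tr_mul_comm det_eq sq_eq toPSL toPSL_surjective toPSL_eq toPSL_eq_one
  mem_center_iff)
open Cfsg.Agent.Lib.Geometry.Dickson

variable {F : Type*} [Field F]

local notation "SL2" => Matrix.SpecialLinearGroup (Fin 2) F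
local notation "M2" => Matrix (Fin 2) (Fin 2) F
local notation "PSL2" => Matrix.ProjectiveSpecialLinearGroup (Fin 2) F
local notation "PGL2" => Matrix.ProjGenLinGroup (Fin 2) F
local notation "pmk" => (Matrix.ProjGenLinGroup.mk : GL (Fin 2) F →* Matrix.ProjGenLinGroup (Fin 2) F)

/-- A conjugate of `PGL₂` over a subfield. -/
def conjSub (g₀ : PGL2) (K : Subfield F) : Subgroup PGL2 := (pglSub K).map (MulAut.conj g₀).toMonoidHom

theorem card_conjSub [Fintype F] (g₀ : PGL2) (K : Subfield F) :
    Nat.card (conjSub g₀ K) = Nat.card K * (Nat.card K ^ 2 - 1) := by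
  classical
  haveI := Fintype.ofFinite K
  rw [conjSub, Subgroup.card_map_of_injective (f := (MulAut.conj g₀).toMonoidHom) (MulAut.conj g₀).injective, pglSub,
    ← Nat.card_congr (MonoidHom.ofInjective (pglSubHom_injective K)).toEquiv, card_PGL2, Nat.card_eq_fintype_card]

/-- The types of maximal subgroups. -/
inductive PGLType [Fintype F] (M : Subgroup PGL2) : Prop
  | line (v : Fin 2 → F) (hv : v ≠ 0) (h : M = lineStab v)
  | torus (y : SL2) (hy : y ∉ Subgroup.center SL2) (ht : tr y ^ 2 ≠ 4) (h : M = torusN y)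
  | symFour (hq : (Fintype.card F).Prime) (h8 : Fintype.card F % 8 = 3 ∨ Fintype.card F % 8 = 5)
      (e : Nonempty (M ≃* Equiv.Perm (Fin 4)))
  | sub (K : Subfield F) (g₀ : PGL2) (r : ℕ) (hr : r.Prime) (hodd : Odd r) (hc : Nat.card K ^ r = Fintype.card F)
      (h : M = conjSub g₀ K)

/-- Commuting involutions of `PSL₂` lift to anticommuting elements. -/
theorem tr_mul_zero [Fintype F] (hodd : Fintype.card F % 2 = 1) {X Y : SL2} (hX : tr X = 0) (hY : tr Y = 0)
    (hc : toPSL X * toPSL Y = toPSL Y * toPSL X) (hne : toPSL X ≠ toPSL Y) : tr (X * Y) = 0 := by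
  have h2 := two_ne hodd
  rw [← map_mul, ← map_mul, toPSL_eq] at hc
  rcases hc with h | h
  · exfalso
    have hXC : X ∉ Subgroup.center SL2 := fun hz => h2 (by
      rcases mem_center_iff.mp hz with e | e <;> rw [e] at hX
      · rwa [tr_one'] at hX
      · rwa [tr_neg, tr_one', neg_eq_zero] at hX)
    rcases eq_or_eq_inv_of_tr hXC (by rw [hX]; intro e; exact h2 (mul_self_eq_zero.mp (by linear_combination -e)))
      (mem_centralizer_iff.mpr (show Y * X = X * Y from h)) (by rw [hY, hX]) with e | e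
    · exact hne (by rw [e])
    · exact hne (by rw [e, inv_of_tr_zero hX, Cfsg.Agent.Lib.SL2Trace.toPSL_neg])
  · have e := congrArg tr h
    rw [tr_neg, tr_mul_comm Y X] at e
    exact (mul_eq_zero.mp (show (2 : F) * tr (X * Y) = 0 by linear_combination e)).resolve_left h2

theorem dihedral_two_facts : ∀ z : DihedralGroup 2,
    z * z = 1 ∧ (z = 1 ∨ z = .r 1 ∨ z = .sr 0 ∨ z = .r 1 * .sr 0) := by decide +kernel

theorem dihedral_two_comm : ∀ z w : DihedralGroup 2, z * w = w * z := by decide +kernel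

variable [Fintype F] (p : ℕ) [Fact p.Prime] [CharP F p]
variable (h5 : 5 ≤ Fintype.card F) (hodd : Fintype.card F % 2 = 1)
variable {M : Subgroup (Matrix.ProjGenLinGroup (Fin 2) F)} (hM : IsCoatom M)
variable (hML : ¬ pglImage ≤ M)

include h5 hodd hM

omit p in
theorem type_of_line {v : Fin 2 → F} (hv : v ≠ 0) (h : M ≤ lineStab v) : PGLType M := by
  refine .line v hv (((hM.le_iff.mp h).resolve_left fun e => ?_).symm)
  have h1 := card_lineStab hv
  rw [e, Subgroup.card_top, card_PGL2, ← one_pow 2, Nat.sq_sub_sq, one_pow] at h1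
  have := Nat.eq_of_mul_eq_mul_left (show 0 < Fintype.card F by omega) h1
  nlinarith [Nat.sub_add_cancel (show 1 ≤ Fintype.card F by omega)]

omit p in
theorem type_of_torus {y : SL2} (hy : y ∉ Subgroup.center SL2) (ht : tr y ^ 2 ≠ 4) (h : M ≤ torusN y) :
    PGLType M := by
  refine .torus y hy ht (((hM.le_iff.mp h).resolve_left fun e => ?_).symm)
  obtain ⟨d⟩ := torusN_dihedral hodd hy ht
  have h1 := Nat.card_congr d.toEquiv
  rw [DihedralGroup.nat_card, e, Subgroup.card_top, card_PGL2, ← one_pow 2, Nat.sq_sub_sq] at h1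
  obtain ⟨k, hk⟩ : ∃ k, Fintype.card F = k + 5 := ⟨_, (Nat.sub_add_cancel h5).symm⟩
  rcases card_torusC hodd hy ht with ⟨-, hc⟩ | ⟨-, hc⟩ <;> rw [hc, hk] at h1 <;>
    simp only [show k + 5 - 1 = k + 4 by omega] at h1 <;> ring_nf at h1 <;> nlinarith [mul_nonneg (Nat.zero_le k) (Nat.zero_le (k * k))]

omit p in
theorem type_of_commuting {A : GL (Fin 2) F} (hA : pmk A ≠ 1)
    (h : ∀ B : GL (Fin 2) F, pmk B ∈ M →
      ((B * A * B⁻¹ : GL (Fin 2) F) : M2) * (A : M2) = (A : M2) * ((B * A * B⁻¹ : GL (Fin 2) F) : M2)) :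
    PGLType M := by
  rcases normalizes_cases h5 hodd hA h with ⟨v, hv, h⟩ | ⟨y, hy, ht, h⟩
  · exact type_of_line h5 hodd hM hv h
  · exact type_of_torus h5 hodd hM hy ht h

omit p in
theorem type_of_zpowers {z : PGL2} (hz : z ≠ 1) (h : ∀ g ∈ M, g * z * g⁻¹ ∈ Subgroup.zpowers z) : PGLType M := by
  obtain ⟨A, rfl⟩ := Matrix.ProjGenLinGroup.mk_surjective z
  refine type_of_commuting h5 hodd hM hz fun B hB => ?_
  obtain ⟨i, hi⟩ := h _ hB
  simp only [← map_inv, ← map_mul, ← map_zpow] at hi
  obtain ⟨c, -, hc⟩ := mk_eq_iff.mp hi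
  rw [hc, smul_mul_assoc, mul_smul_comm, ← Units.val_mul, ← Units.val_mul, (Commute.self_zpow A i).eq]

include hML

omit p in
theorem type_of_cyclic (hc : IsCyclic (below M)) : PGLType M := by
  classical
  haveI : Finite PGL2 := Finite.of_surjective _ Matrix.ProjGenLinGroup.mk_surjective
  obtain ⟨⟨x, hx⟩, hgen⟩ := IsCyclic.exists_generator (α := below M)
  by_cases hx1 : x = 1
  · have hbot : below M = ⊥ := by
      rw [eq_bot_iff]
      intro w hw
      obtain ⟨i, hi⟩ := hgen ⟨w, hw⟩
      have := congrArg Subtype.val hi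
      simp [hx1] at this
      exact Subgroup.mem_bot.mpr this.symm
    have hcard : Nat.card M = 2 := by rw [card_eq_below (by omega) hodd hM hML, hbot, Subgroup.card_bot]
    haveI : Fact (Nat.Prime 2) := ⟨Nat.prime_two⟩
    obtain ⟨⟨z, hzM⟩, hz⟩ := exists_prime_orderOf_dvd_card' (G := M) 2 (by rw [hcard])
    rw [Subgroup.orderOf_mk] at hz
    have hMz : Subgroup.zpowers z = M :=
      Subgroup.eq_of_le_of_card_ge (Subgroup.zpowers_le.mpr hzM) (by rw [Nat.card_zpowers, hz, hcard])
    exact type_of_zpowers h5 hodd hM (z := z) (fun e => by rw [e, orderOf_one] at hz; omega)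
      fun g hg => hMz.symm ▸ mul_mem (mul_mem hg hzM) (inv_mem hg)
  · refine type_of_zpowers h5 hodd hM (z := iota x) (fun e => hx1 (iota_injective (e.trans (map_one _).symm)))
      fun g hg => ?_
    obtain ⟨x', hx', he⟩ := below_conj hg hx
    obtain ⟨i, hi⟩ := hgen ⟨x', hx'⟩
    refine ⟨i, ?_⟩
    have := congrArg Subtype.val hi
    simp only [SubgroupClass.coe_zpow] at this
    show iota x ^ i = _
    rw [he, ← map_zpow, this]

omit p in
theorem type_of_dihedral {k : ℕ} (hk : k ≠ 0) (e : below M ≃* DihedralGroup k) : PGLType M := by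
  classical
  haveI : NeZero k := ⟨hk⟩
  obtain rfl | rfl | hk3 : k = 1 ∨ k = 2 ∨ 3 ≤ k := by omega
  · haveI : Fact (Nat.Prime 2) := ⟨Nat.prime_two⟩
    exact type_of_cyclic h5 hodd hM hML
      (isCyclic_of_prime_card (p := 2) (by rw [Nat.card_congr e.toEquiv, DihedralGroup.nat_card]))
  · exfalso
    have hd := dihedral_two_facts
    have hdc := dihedral_two_comm
    set x := (e.symm (.r 1)).1
    set y := (e.symm (.sr 0)).1
    have hxy : x * y = y * x := congrArg Subtype.val (show e.symm (.r 1) * e.symm (.sr 0) = _ by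
      rw [← map_mul, hdc, map_mul])
    have hsq : ∀ z : DihedralGroup 2, (e.symm z).1 * (e.symm z).1 = 1 := fun z => congrArg Subtype.val
      (show e.symm z * e.symm z = 1 by rw [← map_mul, (hd z).1, map_one])
    have hne1 : ∀ z : DihedralGroup 2, z ≠ 1 → (e.symm z).1 ≠ 1 := fun z hz h =>
      hz (e.symm.injective ((Subtype.ext h : e.symm z = 1).trans (map_one _).symm))
    have hne : x ≠ y := fun h => absurd (e.symm.injective (Subtype.ext h)) (by decide)
    obtain ⟨X, hX⟩ := toPSL_surjective x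
    obtain ⟨Y, hY⟩ := toPSL_surjective y
    have hnc : ∀ (Z : SL2) (z : DihedralGroup 2), z ≠ 1 → toPSL Z = (e.symm z).1 → Z ∉ Subgroup.center SL2 :=
      fun Z z hz hZ hc => hne1 z hz (hZ ▸ toPSL_eq_one.mpr (mem_center_iff.mp hc))
    have hX0 : tr X = 0 := tr_zero_of_sq (hnc X _ (by decide) hX) (by rw [hX]; exact hsq _)
    have hY0 : tr Y = 0 := tr_zero_of_sq (hnc Y _ (by decide) hY) (by rw [hY]; exact hsq _)
    have hXY := tr_mul_zero hodd hX0 hY0 (by rw [hX, hY]; exact hxy) (by rw [hX, hY]; exact hne)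
    have hV : Subgroup.closure ({toPSL X, toPSL Y} : Set PSL2) = below M := by
      rw [hX, hY]
      refine le_antisymm ((Subgroup.closure_le _).mpr ?_) fun w hw => ?_
      · rintro z (rfl | rfl) <;> exact SetLike.coe_mem _
      · have hxc : x ∈ Subgroup.closure ({x, y} : Set PSL2) := Subgroup.subset_closure (Set.mem_insert _ _)
        have hyc : y ∈ Subgroup.closure ({x, y} : Set PSL2) := Subgroup.subset_closure (Set.mem_insert_of_mem _ rfl)
        have hw' : w = (e.symm (e ⟨w, hw⟩)).1 := by rw [e.symm_apply_apply]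
        rcases (hd (e ⟨w, hw⟩)).2 with h | h | h | h <;> rw [h] at hw' <;> rw [hw']
        · rw [map_one]; exact one_mem _
        · exact hxc
        · exact hyc
        · rw [map_mul]; exact mul_mem hxc hyc
    have h3 := three_dvd_of_four (by omega) hodd hM hML hX0 hY0 hXY fun g hg z hz => by
      rw [hV] at hz ⊢
      exact below_conj hg hz
    rw [Nat.card_congr e.toEquiv, DihedralGroup.nat_card] at h3
    omega
  · set x := (e.symm (.r 1)).1 with hx
    have hxo : orderOf x = k := by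
      rw [hx, Subgroup.orderOf_coe, e.symm.orderOf_eq, DihedralGroup.orderOf_r_one]
    refine type_of_zpowers h5 hodd hM (z := iota x)
      (fun h => by rw [orderOf_eq_one_iff.mpr (iota_injective (h.trans (map_one _).symm))] at hxo; omega) fun g hg => ?_
    obtain ⟨x', hx', he⟩ := below_conj hg (SetLike.coe_mem (e.symm (.r 1)))
    have ho : orderOf x' = k := by
      rw [← orderOf_injective iota iota_injective, ← he]
      exact ((orderOf_injective (MulAut.conj g).toMonoidHom (MulAut.conj g).injective _).trans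
        (orderOf_injective iota iota_injective x)).trans hxo
    have hoe : orderOf (e ⟨x', hx'⟩) = k := by rw [e.orderOf_eq, Subgroup.orderOf_mk, ho]
    rcases hz : e ⟨x', hx'⟩ with i | i
    · refine ⟨(i.val : ℤ), ?_⟩
      show iota x ^ (i.val : ℤ) = _
      rw [he, zpow_natCast, ← map_pow, hx, ← SubmonoidClass.coe_pow, ← map_pow, DihedralGroup.r_one_pow,
        ZMod.natCast_zmod_val, ← hz, e.symm_apply_apply]
    · rw [hz, DihedralGroup.orderOf_sr] at hoe
      omega

include p

theorem type_of_borel (S : Sylow p PSL2) (h : below M ≤ Subgroup.normalizer ((S : Subgroup PSL2) : Set PSL2))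
    (hne : below M ≠ ⊥) : PGLType M := by
  classical
  have h2 := two_ne hodd
  obtain ⟨v, hv, hline⟩ := exists_line p S
  by_cases hu : ∃ x ∈ below M, orderOf x = p
  · obtain ⟨x, hxH, hxo⟩ := hu
    have hp2 : p ≠ 2 := fun e => by
      have := dvd_card_of_char (F := F) (p := p)
      subst e
      omega
    have hpodd : Odd p := (Fact.out : p.Prime).odd_of_ne_two hp2
    have hlift : ∀ U : SL2, orderOf (toPSL U) = p → U ∉ Subgroup.center SL2 ∧ tr U ^ 2 = 4 := by
      intro U hU
      refine ⟨fun hz => (Fact.out : p.Prime).ne_one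
        (by rw [← hU, toPSL_eq_one.mpr (mem_center_iff.mp hz), orderOf_one]), ?_⟩
      have h1 : toPSL (U ^ p) = 1 := by rw [map_pow, ← hU, pow_orderOf_eq_one]
      rcases toPSL_eq_one.mp h1 with e | e
      · exact tr_sq_of_pow_char (p := p) e
      · have := tr_sq_of_pow_char (p := p) (a := -U) (by
          rw [neg_pow, e, hpodd.neg_one_pow, neg_one_mul, neg_neg])
        rwa [tr_neg, neg_sq] at this
    obtain ⟨U, rfl⟩ := toPSL_surjective x
    obtain ⟨hUC, hUt⟩ := hlift U hxo
    refine type_of_line h5 hodd hM hv fun g hg => ?_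
    obtain ⟨B, rfl⟩ := Matrix.ProjGenLinGroup.mk_surjective g
    obtain ⟨x', hx', he⟩ := below_conj hg hxH
    rw [conj_iota] at he
    obtain rfl := iota_injective he
    obtain ⟨d, hd⟩ := hline _ (h hxH)
    obtain ⟨d', hd'⟩ := hline _ (h hx')
    have ho : orderOf (toPSL (cj B U)) = p := by
      rw [← orderOf_injective iota iota_injective, ← conj_iota, ← hxo]
      exact (orderOf_injective (MulAut.conj (pmk B)).toMonoidHom (MulAut.conj (pmk B)).injective _).trans
        (orderOf_injective iota iota_injective _)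
    obtain ⟨hZC, hZt⟩ := hlift _ ho
    obtain ⟨ε, hε, hte⟩ := exists_eps hZt
    have hns := not_isScal_of_notMem_center hZC
    have hdε : d' = ε := by
      have h' := congrArg (fun A : M2 => A *ᵥ v) (sq_eq (cj B U))
      simp only [← Matrix.mulVec_mulVec, hd', Matrix.mulVec_smul, Matrix.sub_mulVec, Matrix.smul_mulVec,
        Matrix.one_mulVec, smul_smul, hte] at h'
      have h0 : ((d' - ε) * (d' - ε)) • v = 0 := by
        rw [show (d' - ε) * (d' - ε) = d' * d' - (2 * ε * d' - 1) by linear_combination hε, sub_smul,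
          sub_smul, one_smul, h', sub_self]
      exact sub_eq_zero.mp (mul_self_eq_zero.mp ((smul_eq_zero.mp h0).resolve_right hv))
    have hBv : (cj B U : M2) *ᵥ ((B : M2) *ᵥ v) = d • ((B : M2) *ᵥ v) := by
      rw [Matrix.mulVec_mulVec, coe_cj, mul_assoc ((B : M2) * (U : M2)), ← Units.val_mul, inv_mul_cancel,
        Units.val_one, mul_one, ← Matrix.mulVec_mulVec, hd, Matrix.mulVec_smul]
    obtain ⟨k, hk⟩ := eigen_unique hns (c := ε) hte (by rw [hε]; exact (cj B U).2) hv (hdε ▸ hd') hBv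
    exact mk_mem_lineStab.mpr ⟨k, hk⟩
  · push Not at hu
    obtain ⟨z, hzH, hz1⟩ : ∃ z ∈ below M, z ≠ 1 := by
      by_contra hcon
      push Not at hcon
      exact hne (eq_bot_iff.mpr fun w hw => Subgroup.mem_bot.mpr (hcon w hw))
    have hab : ∀ a ∈ below M, ∀ b ∈ below M, a * b = b * a := by
      intro a ha b hb
      have hd := orderOf_commutator_dvd p S (h ha) (h hb)
      rcases (Nat.dvd_prime Fact.out).mp hd with e | e
      · rw [orderOf_eq_one_iff, mul_inv_eq_one, mul_inv_eq_iff_eq_mul] at e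
        exact e
      · exact absurd e (hu _ (mul_mem (mul_mem (mul_mem ha hb) (inv_mem ha)) (inv_mem hb)))
    obtain ⟨Z, rfl⟩ := toPSL_surjective z
    refine type_of_commuting h5 hodd hM (A := Matrix.SpecialLinearGroup.toGL Z)
      (fun e => hz1 (iota_injective (e.trans (map_one _).symm))) fun B hB => ?_
    obtain ⟨x', hx', he⟩ := below_conj hB hzH
    rw [conj_iota] at he
    obtain rfl := iota_injective he
    have hc := hab _ hx' _ hzH
    rw [← map_mul, ← map_mul, toPSL_eq] at hc
    obtain ⟨c, hcv⟩ := hline Z (h hzH)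
    obtain ⟨d, hdv⟩ := hline _ (h hx')
    rw [Units.val_mul, Units.val_mul]
    show (B : M2) * (Z : M2) * ((B⁻¹ : GL (Fin 2) F) : M2) * (Z : M2) = (Z : M2) * ((B : M2) * (Z : M2) * _)
    rw [← coe_cj]
    rcases hc with e | e
    · exact (congrArg (fun g : SL2 => (g : M2)) e).symm
    · exfalso
      have e' := congrArg (fun g : SL2 => (g : M2) *ᵥ v) e
      simp only [Matrix.SpecialLinearGroup.coe_mul, Matrix.SpecialLinearGroup.coe_neg, ← Matrix.mulVec_mulVec,
        Matrix.neg_mulVec, hcv, hdv, Matrix.mulVec_smul, smul_smul, ← neg_smul] at e'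
      have e'' := smul_left_cancel_vec hv e'
      have hc0 : ∀ (W : SL2) (w : F), (W : M2) *ᵥ v = w • v → w ≠ 0 := fun W w hw h0 => by
        rw [h0, zero_smul] at hw
        have := Matrix.exists_mulVec_eq_zero_iff.mp ⟨v, hv, hw⟩
        rw [W.2] at this
        exact one_ne_zero this
      exact mul_ne_zero h2 (mul_ne_zero (hc0 Z c hcv) (hc0 _ d hdv)) (by linear_combination e'')

omit p [Fact p.Prime] [CharP F p] hML h5 in
/-- A group over a proper subfield. -/
theorem type_of_sub (p : ℕ) [Fact p.Prime] [CharP F p] (h5 : 5 ≤ Fintype.card F) (hML : ¬ pglImage ≤ M)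
    {K : Subfield F} (hK : K ≠ ⊤) {g₀ : PGL2} (h : ∀ g ∈ M, g₀⁻¹ * g * g₀ ∈ pglSub K) : PGLType M := by
  classical
  haveI : Finite (Subfield F) := Finite.of_injective (fun K : Subfield F => (K : Set F)) SetLike.coe_injective
  haveI : IsCoatomic (Subfield F) := Finite.to_isCoatomic
  obtain ⟨K₁, hK₁, hle⟩ := (eq_top_or_exists_le_coatom K).resolve_left hK
  haveI := Fintype.ofFinite K₁
  haveI : CharP K₁ p := K₁.subtype.charP K₁.subtype.injective p
  obtain ⟨j, -, hj⟩ := FiniteField.card K₁ p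
  set r := Module.finrank K₁ F
  have hq : Fintype.card K₁ ^ r = Fintype.card F := Module.card_eq_pow_finrank.symm
  have hl : 1 < Fintype.card K₁ := Fintype.one_lt_card
  have hr1 : 2 ≤ r := by
    by_contra hr
    refine hK₁.1 (eq_top_iff.mpr fun x _ => ?_)
    have h3 : Fintype.card K₁ = Fintype.card F := by
      obtain e | e : r = 0 ∨ r = 1 := by omega
      · rw [e, pow_zero] at hq; omega
      · rw [← hq, e, pow_one]
    obtain ⟨y, rfl⟩ := ((Fintype.bijective_iff_injective_and_card (fun x : K₁ => (x : F))).mpr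
      ⟨Subtype.val_injective, h3⟩).2 x
    exact y.2
  have hrp : r.Prime := by
    by_contra hnp
    obtain ⟨d, hdr, hd2, hdlt⟩ := Nat.exists_dvd_of_not_prime2 hr1 hnp
    set L := fixedPow (F := F) p (j * d)
    have hKL : K₁ ≤ L := fun x hx => by
      rw [mem_fixedPow, pow_mul, ← hj]
      have : ∀ i : ℕ, x ^ Fintype.card K₁ ^ i = x := fun i => by
        induction i with
        | zero => simp
        | succ i ih =>
          rw [pow_succ, pow_mul, ih]
          exact congrArg Subtype.val (FiniteField.pow_card (⟨x, hx⟩ : K₁))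
      exact this d
    rcases hK₁.le_iff.mp hKL with e | e
    · obtain ⟨n, -, hn, hnq⟩ := pow_card_le_of_fixedPow_eq_top p e (by have := j.pos; nlinarith)
      rw [← hq, hj, ← pow_mul] at hnq
      have := Nat.pow_right_injective (Fact.out : p.Prime).two_le hnq
      have := j.pos
      nlinarith
    · have hdvd : Fintype.card K₁ ^ d - 1 ∣ Fintype.card F - 1 := by
        rw [← hq]; exact Nat.pow_sub_one_dvd_pow_sub_one _ hdr
      obtain ⟨u, hu⟩ := exists_orderOf_unit hdvd
      have huL : (u : F) ∈ L := by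
        rw [mem_fixedPow, pow_mul, ← hj]
        have h1 : u ^ (Fintype.card K₁ ^ d - 1) = 1 := hu ▸ pow_orderOf_eq_one u
        rw [← Nat.sub_add_cancel (Nat.one_le_pow d _ (by omega) : 1 ≤ Fintype.card K₁ ^ d), pow_succ,
          ← Units.val_pow_eq_pow_val, h1, Units.val_one, one_mul]
      rw [e] at huL
      have h1 : u ^ (Fintype.card K₁ - 1) = 1 := Units.ext (by
        rw [Units.val_pow_eq_pow_val, Units.val_one]
        exact congrArg Subtype.val (FiniteField.pow_card_sub_one_eq_one (⟨(u : F), huL⟩ : K₁)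
          (fun h0 => u.ne_zero (congrArg Subtype.val h0))))
      have h2' := Nat.le_of_dvd (by omega) (hu ▸ orderOf_dvd_of_pow_eq_one h1)
      have : Fintype.card K₁ ^ 2 ≤ Fintype.card K₁ ^ d := Nat.pow_le_pow_right (by omega) hd2
      nlinarith [Nat.sub_add_cancel (show 1 ≤ Fintype.card K₁ ^ d from Nat.one_le_pow d _ (by omega)),
        Nat.sub_add_cancel (show 1 ≤ Fintype.card K₁ by omega)]
  have hsubK : pglSub K ≤ pglSub K₁ := by
    rintro _ ⟨x, rfl⟩
    obtain ⟨A, rfl⟩ := Matrix.ProjGenLinGroup.mk_surjective x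
    exact mk_mem_pglSub one_ne_zero fun i j => by rw [one_mul]; exact hle (SetLike.coe_mem _)
  have hMle : M ≤ conjSub g₀ K₁ := fun g hg =>
    ⟨g₀⁻¹ * g * g₀, hsubK (h g hg), by simp [mul_assoc]⟩
  have hne : conjSub g₀ K₁ ≠ ⊤ := by
    intro e
    have hc := card_conjSub g₀ K₁
    rw [e, Subgroup.card_top, card_PGL2, Nat.card_eq_fintype_card] at hc
    have hlt : Fintype.card K₁ < Fintype.card F := by
      rw [← hq]; exact lt_self_pow₀ hl hr1
    have := Nat.mul_lt_mul_of_lt_of_le hlt (Nat.sub_le_sub_right (Nat.pow_le_pow_left hlt.le 2) 1)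
      (Nat.sub_pos_of_lt (Nat.one_lt_pow two_ne_zero (by omega)))
    omega
  have hodd' : Odd r := by
    by_contra hre
    rw [Nat.not_odd_iff_even] at hre
    have hr2 : r = 2 := (Nat.Prime.even_iff hrp).mp hre
    refine not_le_image (by omega) hodd hM hML fun g hg => ?_
    obtain ⟨w, ⟨x, rfl⟩, rfl⟩ := hMle hg
    refine Subgroup.Normal.conj_mem inferInstance _ ?_ _
    obtain ⟨A, rfl⟩ := Matrix.ProjGenLinGroup.mk_surjective x
    show pmk (Matrix.GeneralLinearGroup.map K₁.subtype A) ∈ _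
    rw [mk_mem_pglImage_iff]
    show IsSquare ((K₁.subtype.mapMatrix (A : Matrix (Fin 2) (Fin 2) K₁))).det
    rw [← RingHom.map_det]
    set d := (A : Matrix (Fin 2) (Fin 2) K₁).det
    have hd0 : K₁.subtype d ≠ 0 := fun h0 => A.det_ne_zero (K₁.subtype.injective (h0.trans (map_zero _).symm))
    rw [FiniteField.isSquare_iff (fun e => by
      have := FiniteField.even_card_iff_char_two.mp e
      omega) hd0]
    obtain ⟨m, hm⟩ : ∃ m, Fintype.card K₁ = 2 * m + 1 := by
      refine ⟨Fintype.card K₁ / 2, ?_⟩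
      rw [hr2] at hq
      have : Fintype.card K₁ % 2 = 1 := by
        by_contra hc
        rw [← hq, Nat.pow_mod, show Fintype.card K₁ % 2 = 0 by omega] at hodd
        simp at hodd
      omega
    have hdd := FiniteField.pow_card_sub_one_eq_one d (fun h0 => hd0 (by rw [h0, map_zero]))
    rw [← map_pow, ← hq, hr2, hm, show (2 * m + 1) ^ 2 / 2 = (2 * m + 1 - 1) * (m + 1) by
      rw [show (2 * m + 1) ^ 2 = 2 * ((2 * m + 1 - 1) * (m + 1)) + 1 by rw [Nat.add_sub_cancel]; ring]
      omega, pow_mul]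
    rw [hm] at hdd
    rw [hdd, one_pow, map_one]
  exact .sub K₁ g₀ r hrp hodd' (by rw [Nat.card_eq_fintype_card, hq])
    ((hM.le_iff.mp hMle).resolve_left hne).symm

omit hM hML h5 hodd in
/-- A normalised subgroup with traces in a subfield. -/
theorem trace_case {N : Subgroup PSL2} (hn : ∀ g ∈ M, ∀ x ∈ N, ∃ x' ∈ N, g * iota x * g⁻¹ = iota x')
    (K : Subfield F) (htr : ∀ Z : SL2, toPSL Z ∈ N → tr Z ∈ K) {x y : PSL2} (hx : x ∈ N) (hy : y ∈ N)
    (hxx : x * x = 1) (hc : ¬ orderOf (x * y * x⁻¹ * y⁻¹) ∣ p) : ∃ g₀ : PGL2, ∀ g ∈ M, g₀⁻¹ * g * g₀ ∈ pglSub K := by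
  obtain ⟨X, rfl⟩ := toPSL_surjective x
  obtain ⟨Y, rfl⟩ := toPSL_surjective y
  have hXZ : X ∉ Subgroup.center SL2 := fun h => hc (by
    rw [toPSL_eq_one.mpr (mem_center_iff.mp h)]; simp)
  have hX0 : tr X = 0 := tr_zero_of_sq hXZ hxx
  refine pgl_trace_conj M (N.comap toPSL) (fun B hB Z hZ => ?_) K htr hx hy hX0 fun h => hc ?_
  · obtain ⟨x', hx', he⟩ := hn _ hB _ hZ
    rw [conj_iota] at he
    show toPSL (cj B Z) ∈ N
    rw [iota_injective he]
    exact hx'
  · refine orderOf_dvd_of_pow_eq_one ?_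
    rw [← map_inv, ← map_inv, ← map_mul, ← map_mul, ← map_mul, ← map_pow]
    exact toPSL_eq_one.mpr (Cfsg.Agent.Lib.SL2Trace.pow_char_of_tr p
      (by rw [tr_commutator_of_tr_zero X Y hX0, h]; norm_num))

end Cfsg.Agent.Lib.Geometry.Dickson.PGLMax
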