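import Cfsg.Agent.Lib.Geometry.Dickson.PGLCases

/-!
Every maximal subgroup of `PGL₂` not containing `PSL₂` is of one of four types.
-/

set_option autoImplicit false
set_option maxHeartbeats 400000

namespace Cfsg.Agent.Lib.Geometry.Dickson.PGLMax

open Matrix
open scoped Matrix MatrixGroups
open Cfsg.Agent.Lib.SL2Trace (tr tr_eq tr_neg tr_mul_comm det_eq sq_eq toPSL toPSL_surjective toPSL_eq toPSL_eq_one
  mem_center_iff)
open Cfsg.Agent.Lib.Geometry.Dickson

theorem even_is_sq : ∀ z : alternatingGroup (Fin 4), ∃ a : Equiv.Perm (Fin 4), (z : Equiv.Perm (Fin 4)) = a * a := by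
  decide +kernel

theorem sq_is_even (a : Equiv.Perm (Fin 4)) : a * a ∈ alternatingGroup (Fin 4) := by
  simp [Int.units_mul_self]

theorem perm_four_sq : ∀ z : Equiv.Perm (Fin 4), (∃ a, z = a * a) ∨ (∃ a, Equiv.swap 0 1 * z = a * a) := by
  decide +kernel

theorem four_perm_facts : let s : Equiv.Perm (Fin 4) := Equiv.swap 0 1
    let u : Equiv.Perm (Fin 4) := Equiv.swap 0 2 * Equiv.swap 1 3
    let v : Equiv.Perm (Fin 4) := Equiv.swap 1 2 * Equiv.swap 0 3
    u * u = 1 ∧ v * v = 1 ∧ u ≠ 1 ∧ v ≠ 1 ∧ u ≠ v ∧ u * v = v * u ∧ s * u * s⁻¹ = v ∧ s * v * s⁻¹ = u ∧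
      (∃ a, u = a * a) ∧ ∃ a, v = a * a := by
  decide +kernel

theorem ord_alt4 : ∀ x : alternatingGroup (Fin 4), x * x = 1 ∨ x * x * x = 1 := by decide +kernel

theorem ord_alt5 : ∀ x : alternatingGroup (Fin 5), x * x = 1 ∨ x * x * x = 1 ∨ x * x * x * x * x = 1 := by
  decide +kernel

theorem invol_alt4 : ∃ x y : alternatingGroup (Fin 4),
    x * x = 1 ∧ orderOf (x * y * x⁻¹ * y⁻¹) = 2 := by
  have h : ∃ x y : alternatingGroup (Fin 4),
      x * x = 1 ∧ (x * y * x⁻¹ * y⁻¹) ^ 2 = 1 ∧ x * y * x⁻¹ * y⁻¹ ≠ 1 := by decide +kernel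
  obtain ⟨x, y, h0, h1, h2⟩ := h
  haveI : Fact (Nat.Prime 2) := ⟨Nat.prime_two⟩
  exact ⟨x, y, h0, orderOf_eq_prime h1 h2⟩

theorem invol_alt5 : ∃ x y : alternatingGroup (Fin 5),
    x * x = 1 ∧ orderOf (x * y * x⁻¹ * y⁻¹) = 2 := by
  have h : ∃ x y : alternatingGroup (Fin 5),
      x * x = 1 ∧ (x * y * x⁻¹ * y⁻¹) ^ 2 = 1 ∧ x * y * x⁻¹ * y⁻¹ ≠ 1 := by decide +kernel
  obtain ⟨x, y, h0, h1, h2⟩ := h
  haveI : Fact (Nat.Prime 2) := ⟨Nat.prime_two⟩
  exact ⟨x, y, h0, orderOf_eq_prime h1 h2⟩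

/-- The element `(0, 1; -1, 0)`. -/
def wElt (R : Type*) [Field R] : Matrix.SpecialLinearGroup (Fin 2) R := ⟨!![0, 1; -1, 0], by simp [det_fin_two]⟩

theorem coe_upper {R : Type*} [Field R] (c : R) : ((upper c : Matrix.SpecialLinearGroup (Fin 2) R) :
    Matrix (Fin 2) (Fin 2) R) = !![1, c; 0, 1] := rfl

theorem wElt_eq (R : Type*) [Field R] : upper (1 : R) * lower (-1 : R) * upper 1 = wElt R := by
  refine Subtype.ext ?_
  show ((upper (1 : R) : Matrix.SpecialLinearGroup (Fin 2) R) : Matrix (Fin 2) (Fin 2) R) *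
    ((lower (-1 : R) : Matrix.SpecialLinearGroup (Fin 2) R) : Matrix (Fin 2) (Fin 2) R) *
    ((upper (1 : R) : Matrix.SpecialLinearGroup (Fin 2) R) : Matrix (Fin 2) (Fin 2) R) = !![0, 1; -1, 0]
  simp only [upper, lower]
  ext i j
  fin_cases i <;> fin_cases j <;> simp [Matrix.mul_apply, Fin.sum_univ_two, Matrix.vecMul, dotProduct]

theorem tr_wElt (R : Type*) [Field R] : tr (wElt R) = 0 := by
  rw [tr_eq]
  simp [wElt]

theorem tr_wElt_upper {R : Type*} [Field R] (c : R) : tr (wElt R * upper c) = -c := by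
  show (((wElt R : Matrix.SpecialLinearGroup (Fin 2) R) : Matrix (Fin 2) (Fin 2) R) *
    ((upper c : Matrix.SpecialLinearGroup (Fin 2) R) : Matrix (Fin 2) (Fin 2) R)).trace = -c
  simp [wElt, upper, Matrix.trace_fin_two]

theorem tr_upper {R : Type*} [Field R] (c : R) : tr (upper c) = 2 := by
  rw [tr_eq]
  simp [upper]
  norm_num

variable {F : Type*} [Field F] [Fintype F] (p : ℕ) [Fact p.Prime] [CharP F p]

local notation "SL2" => Matrix.SpecialLinearGroup (Fin 2) F
local notation "M2" => Matrix (Fin 2) (Fin 2) F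
local notation "PSL2" => Matrix.ProjectiveSpecialLinearGroup (Fin 2) F
local notation "PGL2" => Matrix.ProjGenLinGroup (Fin 2) F
local notation "pmk" => (Matrix.ProjGenLinGroup.mk : GL (Fin 2) F →* Matrix.ProjGenLinGroup (Fin 2) F)

omit [Fintype F] [CharP F p] [Fact p.Prime] in
theorem iota_conj_mem {M : Subgroup PGL2} {g : PGL2} (hg : g ∈ M) {a : PSL2} (ha : a ∈ below M) :
    ∃ a' ∈ below M, g * iota (a * a) * g⁻¹ = iota (a' * a') := by
  obtain ⟨a', ha', he⟩ := below_conj hg ha
  exact ⟨a', ha', by rw [map_mul, map_mul, ← he]; group⟩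

/-- The subgroup generated by the squares. -/
def sqGen (H : Subgroup PSL2) : Subgroup PSL2 := Subgroup.closure {z : PSL2 | ∃ a ∈ H, z = a * a}

omit [Fintype F] [CharP F p] [Fact p.Prime] in
theorem sqGen_conj {M : Subgroup PGL2} {g : PGL2} (hg : g ∈ M) {x : PSL2} (hx : x ∈ sqGen (below M)) :
    ∃ x' ∈ sqGen (below M), g * iota x * g⁻¹ = iota x' := by
  induction hx using Subgroup.closure_induction with
  | mem x h =>
    obtain ⟨a, ha, rfl⟩ := h
    obtain ⟨a', ha', he⟩ := iota_conj_mem hg ha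
    exact ⟨a' * a', Subgroup.subset_closure ⟨a', ha', rfl⟩, he⟩
  | one => exact ⟨1, one_mem _, by simp⟩
  | mul x y _ _ hx hy =>
    obtain ⟨x', hx', ex⟩ := hx
    obtain ⟨y', hy', ey⟩ := hy
    exact ⟨x' * y', mul_mem hx' hy', by rw [map_mul, map_mul, ← ex, ← ey]; group⟩
  | inv x _ hx =>
    obtain ⟨x', hx', ex⟩ := hx
    exact ⟨x'⁻¹, inv_mem hx', by rw [map_inv, map_inv, ← ex]; group⟩

omit [Fintype F] [CharP F p] [Fact p.Prime] in
theorem tr_central {K : Subfield F} {Z : SL2} (h : Z ∈ Subgroup.center SL2) : tr Z ∈ K := by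
  rcases mem_center_iff.mp h with rfl | rfl
  · rw [tr_one', ← one_add_one_eq_two]; exact add_mem (one_mem K) (one_mem K)
  · rw [tr_neg, tr_one', ← one_add_one_eq_two]; exact neg_mem (add_mem (one_mem K) (one_mem K))

omit [CharP F p] [Fact p.Prime] in
theorem tr_mem_two {K : Subfield F} {Z : SL2} (h : toPSL Z * toPSL Z = 1) : tr Z ∈ K := by
  by_cases hZ : Z ∈ Subgroup.center SL2
  · exact tr_central hZ
  · rw [tr_zero_of_sq hZ h]; exact zero_mem K

omit [Fintype F] [CharP F p] [Fact p.Prime] in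
theorem cube_eq (Z : SL2) :
    (Z : M2) * (Z : M2) * (Z : M2) = (-tr Z) • (1 : M2) + (tr Z * tr Z - 1) • (Z : M2) := by
  rw [sq_eq, sub_mul, smul_mul_assoc, sq_eq, one_mul, smul_sub, smul_smul, sub_smul, neg_smul, one_smul]
  abel

omit [Fintype F] [CharP F p] [Fact p.Prime] in
theorem tr_mem_three {K : Subfield F} {Z : SL2} (h : toPSL Z * toPSL Z * toPSL Z = 1) : tr Z ∈ K := by
  by_cases hZ : Z ∈ Subgroup.center SL2
  · exact tr_central hZ
  · rw [← map_mul, ← map_mul] at h
    have hns := not_isScal_of_notMem_center hZ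
    have key : ∀ c : F, (Z : M2) * (Z : M2) * (Z : M2) = c • (1 : M2) → tr Z = -c := fun c hc => by
      rw [cube_eq] at hc
      have h' := Cfsg.Agent.Lib.KnownA.add_smul_injective hns (a' := c) (b' := 0) (by rw [hc, zero_smul, add_zero])
      linear_combination -h'.1
    rcases toPSL_eq_one.mp h with e | e
    · rw [key 1 (by rw [one_smul]; exact congrArg (fun g : SL2 => (g : M2)) e)]
      exact neg_mem (one_mem K)
    · rw [key (-1) (by rw [neg_smul, one_smul]; exact congrArg (fun g : SL2 => (g : M2)) e), neg_neg]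
      exact one_mem K

omit [Fintype F] [CharP F p] [Fact p.Prime] in
theorem tr_five {Z : SL2} (hZ : Z ∉ Subgroup.center SL2)
    (h : toPSL Z * toPSL Z * toPSL Z * toPSL Z * toPSL Z = 1) :
    tr Z * tr Z = tr Z + 1 ∨ (-tr Z) * (-tr Z) = -tr Z + 1 := by
  rw [← map_mul, ← map_mul, ← map_mul, ← map_mul] at h
  have hns := not_isScal_of_notMem_center hZ
  set t := tr Z with ht
  have h4 : (Z : M2) * (Z : M2) * (Z : M2) * (Z : M2) * (Z : M2) =
      (-(t * t * t) + 2 * t) • (1 : M2) + (t * t * t * t - 3 * (t * t) + 1) • (Z : M2) := by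
    rw [cube_eq, ← ht]
    simp only [add_mul, smul_mul_assoc, one_mul]
    rw [sq_eq, ← ht]
    simp only [smul_sub, sub_mul, add_mul, smul_mul_assoc, one_mul]
    rw [sq_eq, ← ht]
    module
  have key : ∀ c : F, (Z : M2) * (Z : M2) * (Z : M2) * (Z : M2) * (Z : M2) = c • (1 : M2) →
      t * t * t * t - 3 * (t * t) + 1 = 0 := fun c hc => by
    rw [h4] at hc
    exact (Cfsg.Agent.Lib.KnownA.add_smul_injective hns (a' := c) (b' := 0) (by rw [hc, zero_smul, add_zero])).2
  have h0 : t * t * t * t - 3 * (t * t) + 1 = 0 := by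
    rcases toPSL_eq_one.mp h with e | e
    · exact key 1 (by rw [one_smul]; exact congrArg (fun g : SL2 => (g : M2)) e)
    · exact key (-1) (by rw [neg_smul, one_smul]; exact congrArg (fun g : SL2 => (g : M2)) e)
  rcases mul_eq_zero.mp (show (t * t - t - 1) * (t * t + t - 1) = 0 by linear_combination h0) with e | e
  · exact Or.inl (by linear_combination e)
  · exact Or.inr (by linear_combination e)

theorem tr_mem_five {Z : SL2} (h : toPSL Z * toPSL Z * toPSL Z * toPSL Z * toPSL Z = 1) :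
    tr Z ∈ fixedPow p 2 ∧ (p = 5 → tr Z ∈ fixedPow p 1) := by
  by_cases hZ : Z ∈ Subgroup.center SL2
  · exact ⟨tr_central hZ, fun _ => tr_central hZ⟩
  have h5 : p = 5 → ∀ t : F, t * t = t + 1 → t ∈ fixedPow p 1 := by
    intro hp t ht
    have h50 : (5 : F) = 0 := by exact_mod_cast (CharP.cast_eq_zero_iff F p 5).mpr (by rw [hp])
    have h3 : (t - 3) * (t - 3) = 0 := by linear_combination ht + (2 - t) * h50
    rw [sub_eq_zero.mp (mul_self_eq_zero.mp h3), show (3 : F) = 1 + 1 + 1 by norm_num]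
    exact add_mem (add_mem (one_mem _) (one_mem _)) (one_mem _)
  rcases tr_five hZ h with e | e
  · exact ⟨golden_mem_fixedPow p e, fun hp => h5 hp _ e⟩
  · exact ⟨neg_mem_iff.mp (golden_mem_fixedPow p e), fun hp => neg_mem_iff.mp (h5 hp _ e)⟩

variable (h5 : 5 ≤ Fintype.card F) (hodd : Fintype.card F % 2 = 1)
variable {M : Subgroup (Matrix.ProjGenLinGroup (Fin 2) F)} (hM : IsCoatom M)
variable (hML : ¬ pglImage ≤ M)

include hodd in
omit [CharP F p] in
theorem p_ne_two [CharP F p] : p ≠ 2 := fun e => by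
  have := dvd_card_of_char (F := F) (p := p)
  subst e
  omega

include h5 in
theorem prime_of_fixedPow (h : fixedPow (F := F) p 1 = ⊤) : Fintype.card F = p := by
  obtain ⟨n, hn1, hn, hq⟩ := pow_card_le_of_fixedPow_eq_top p h le_rfl
  rw [hq, show n = 1 by omega, pow_one]

include h5 hodd hM hML

omit [Fact p.Prime] [CharP F p] in
theorem sym_residue (e : M ≃* Equiv.Perm (Fin 4)) : Fintype.card F % 8 = 3 ∨ Fintype.card F % 8 = 5 := by
  by_contra hcon
  have hsq2 : IsSquare (2 : F) := FiniteField.isSquare_two_iff.mpr ⟨fun h => hcon (Or.inl h), fun h => hcon (Or.inr h)⟩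
  obtain ⟨hu2, hv2, hu1, hv1, huv, hcomm, hsu, hsv, ⟨a, ha⟩, ⟨b, hb⟩⟩ := four_perm_facts
  have himg : ∀ z : Equiv.Perm (Fin 4), (∃ c, z = c * c) → (e.symm z : PGL2) ∈ pglImage (F := F) := by
    rintro z ⟨c, rfl⟩
    obtain ⟨C, hC⟩ := Matrix.ProjGenLinGroup.mk_surjective (e.symm c : PGL2)
    rw [map_mul, Subgroup.coe_mul, ← hC, ← map_mul, mk_mem_pglImage_iff, Units.val_mul, det_mul]
    exact IsSquare.mul_self _
  set g : PGL2 := (e.symm (Equiv.swap 0 1) : PGL2) with hgdef
  have hg : g ∉ pglImage (F := F) := by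
    intro hg
    refine not_le_image (by omega) hodd hM hML fun w hw => ?_
    have hw' : w = (e.symm (e ⟨w, hw⟩) : PGL2) := by rw [e.symm_apply_apply]
    rcases perm_four_sq (e ⟨w, hw⟩) with h | h
    · rw [hw']; exact himg _ h
    · have h' := himg _ h
      rw [map_mul, Subgroup.coe_mul, e.symm_apply_apply] at h'
      exact (Subgroup.mul_mem_cancel_left _ hg).mp h'
  obtain ⟨x, hx⟩ : (e.symm (Equiv.swap 0 2 * Equiv.swap 1 3) : PGL2) ∈ (iota (F := F)).range := by
    rw [range_iota]; exact himg _ ⟨a, ha⟩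
  obtain ⟨y, hy⟩ : (e.symm (Equiv.swap 1 2 * Equiv.swap 0 3) : PGL2) ∈ (iota (F := F)).range := by
    rw [range_iota]; exact himg _ ⟨b, hb⟩
  obtain ⟨X, rfl⟩ := toPSL_surjective x
  obtain ⟨W, rfl⟩ := toPSL_surjective y
  have hback : ∀ z z' : Equiv.Perm (Fin 4), (e.symm z : PGL2) = (e.symm z' : PGL2) → z = z' := fun z z' h =>
    e.symm.injective (Subtype.ext h)
  have hXX : toPSL X * toPSL X = 1 := iota_injective (by rw [map_mul, hx, ← Subgroup.coe_mul, ← map_mul, hu2]; simp)
  have hWW : toPSL W * toPSL W = 1 := iota_injective (by rw [map_mul, hy, ← Subgroup.coe_mul, ← map_mul, hv2]; simp)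
  have hXW : toPSL X * toPSL W = toPSL W * toPSL X := iota_injective (by
    rw [map_mul, map_mul, hx, hy, ← Subgroup.coe_mul, ← map_mul, hcomm, map_mul, Subgroup.coe_mul])
  have hXne : toPSL X ≠ toPSL W := fun h => huv (hback _ _ (by rw [← hx, ← hy, h]))
  have hXC : X ∉ Subgroup.center SL2 := fun h => hu1 (hback _ _ (by
    rw [← hx, toPSL_eq_one.mpr (mem_center_iff.mp h)]; simp))
  have hWC : W ∉ Subgroup.center SL2 := fun h => hv1 (hback _ _ (by
    rw [← hy, toPSL_eq_one.mpr (mem_center_iff.mp h)]; simp))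
  have hX0 : tr X = 0 := tr_zero_of_sq hXC hXX
  have hW0 : tr W = 0 := tr_zero_of_sq hWC hWW
  have hXW0 := tr_mul_zero hodd hX0 hW0 hXW hXne
  have hWX := anticomm_of_tr hX0 hW0 hXW0
  obtain ⟨B, hB⟩ := Matrix.ProjGenLinGroup.mk_surjective g
  have hBX : toPSL (cj B X) = toPSL W := iota_injective (by
    rw [← conj_iota, hB, hx, hy, hgdef, ← Subgroup.coe_inv, ← Subgroup.coe_mul, ← Subgroup.coe_mul, ← map_inv,
      ← map_mul, ← map_mul, hsu])
  have hBW : toPSL (cj B W) = toPSL X := iota_injective (by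
    rw [← conj_iota, hB, hx, hy, hgdef, ← Subgroup.coe_inv, ← Subgroup.coe_mul, ← Subgroup.coe_mul, ← map_inv,
      ← map_mul, ← map_mul, hsv])
  have hXXm : (X : M2) * (X : M2) = -1 := congrArg (fun g : SL2 => (g : M2)) (sq_of_tr_zero' hX0)
  have hWWm : (W : M2) * (W : M2) = -1 := congrArg (fun g : SL2 => (g : M2)) (sq_of_tr_zero' hW0)
  have hdetC : ((X : M2) + (W : M2)).det = 2 := by
    have h1 := det_eq X
    have h2 := det_eq W
    have h3 := hXW0
    have h4 := hX0
    have h5' := hW0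
    rw [tr_eq] at h3 h4 h5'
    simp [Matrix.SpecialLinearGroup.coe_mul, Matrix.mul_apply, Fin.sum_univ_two] at h3
    simp [Matrix.det_fin_two]
    linear_combination h1 + h2 - h3 + (X 0 0 + X 1 1) * h5'
  let C : GL (Fin 2) F := Matrix.GeneralLinearGroup.mkOfDetNeZero ((X : M2) + (W : M2))
    (by rw [hdetC]; exact two_ne hodd)
  have hCv : (C : M2) = (X : M2) + (W : M2) := rfl
  have hcong : ∀ (A : GL (Fin 2) F) (Y Z : SL2), (A : M2) * (Y : M2) = (Z : M2) * (A : M2) → cj A Y = Z :=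
    fun A Y Z h => sl_ext (by rw [coe_cj, h, mul_assoc, ← Units.val_mul, mul_inv_cancel, Units.val_one, mul_one])
  have hCW : cj C W = X := hcong C W X (by rw [hCv, add_mul, mul_add, hXXm, hWWm, add_comm])
  have hCX : cj C X = W := hcong C X W (by rw [hCv, add_mul, mul_add, hXXm, hWWm, add_comm])
  -- `C⁻¹ B` fixes `X` and `W` up to sign
  have hinv : ∀ (Y Z : SL2), cj C Y = Z → cj C⁻¹ Z = Y := fun Y Z h => by rw [← h, ← cj_mul, inv_mul_cancel, cj_one]
  have h1 : cj (C⁻¹ * B) X = X ∨ cj (C⁻¹ * B) X = -X := by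
    rw [cj_mul]
    rcases toPSL_eq.mp hBX.symm with h | h <;> rw [h]
    · exact Or.inl (hinv _ _ hCX)
    · right; rw [← hinv _ _ hCX]; exact sl_ext (by simp [coe_cj, Matrix.mul_neg, Matrix.neg_mul])
  have h2 : cj (C⁻¹ * B) W = W ∨ cj (C⁻¹ * B) W = -W := by
    rw [cj_mul]
    rcases toPSL_eq.mp hBW.symm with h | h <;> rw [h]
    · exact Or.inl (hinv _ _ hCW)
    · right; rw [← hinv _ _ hCW]; exact sl_ext (by simp [coe_cj, Matrix.mul_neg, Matrix.neg_mul])
  have hne : X * W ≠ W * X := by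
    rw [hWX]
    intro e
    have e' : ((X * W : SL2) : M2) = -((X * W : SL2) : M2) := congrArg (fun g : SL2 => (g : M2)) e
    have : (2 : F) • ((X * W : SL2) : M2) = 0 := by rw [two_smul]; exact eq_neg_iff_add_eq_zero.mp e'
    have h0 := (smul_eq_zero.mp this).resolve_left (two_ne hodd)
    have := (X * W).2
    rw [h0, det_zero] at this
    exact zero_ne_one this
  have hinvX : X⁻¹ = -X := inv_of_tr_zero hX0
  have hinvW : W⁻¹ = -W := inv_of_tr_zero hW0
  have hXWX : X * W * X⁻¹ = -W := by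
    rw [hinvX, mul_neg, mul_assoc, hWX, mul_neg, neg_neg, ← mul_assoc, sq_of_tr_zero' hX0, neg_one_mul]
  have hWXW : W * X * W⁻¹ = -X := by
    rw [hinvW, mul_neg, hWX, neg_mul, neg_neg, mul_assoc, sq_of_tr_zero' hW0, mul_neg, mul_one]
  have hnegcj : ∀ (A : GL (Fin 2) F) (Y : SL2), cj A (-Y) = -cj A Y := fun A Y => sl_ext (by
    simp [coe_cj, Matrix.mul_neg, Matrix.neg_mul])
  obtain ⟨S, hS1, hS2⟩ : ∃ S : SL2, cj (Matrix.SpecialLinearGroup.toGL S) (cj (C⁻¹ * B) X) = X ∧
      cj (Matrix.SpecialLinearGroup.toGL S) (cj (C⁻¹ * B) W) = W := by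
    rcases h1 with h1 | h1 <;> rcases h2 with h2 | h2 <;> rw [h1, h2]
    · exact ⟨1, by rw [map_one, cj_one], by rw [map_one, cj_one]⟩
    · exact ⟨X, by rw [cj_toGL, mul_inv_cancel_right], by rw [hnegcj, cj_toGL, hXWX, neg_neg]⟩
    · exact ⟨W, by rw [hnegcj, cj_toGL, hWXW, neg_neg], by rw [cj_toGL, mul_inv_cancel_right]⟩
    · refine ⟨X * W, ?_, ?_⟩
      · rw [hnegcj, map_mul, cj_mul, cj_toGL W, hWXW, hnegcj, cj_toGL, mul_inv_cancel_right, neg_neg]
      · rw [hnegcj, map_mul, cj_mul, cj_toGL W, mul_inv_cancel_right, cj_toGL, hXWX, neg_neg]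
  rw [← cj_mul] at hS1 hS2
  have hone := mk_eq_one_of_cj_two hne hS1 hS2
  rw [map_mul, map_mul, map_inv] at hone
  apply hg
  rw [← hB]
  have hCimg : pmk C ∈ pglImage (F := F) := by rw [mk_mem_pglImage_iff, hCv, hdetC]; exact hsq2
  have hSimg : pmk (Matrix.SpecialLinearGroup.toGL S) ∈ pglImage (F := F) := iota_mem (toPSL S)
  have h' : pmk B = pmk C * (pmk (Matrix.SpecialLinearGroup.toGL S))⁻¹ := by
    rw [eq_mul_inv_iff_mul_eq]
    have := congrArg (fun w => pmk C * (pmk (Matrix.SpecialLinearGroup.toGL S))⁻¹ * w * pmk (Matrix.SpecialLinearGroup.toGL S)) hone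
    simpa [mul_assoc] using this
  rw [h']
  exact mul_mem hCimg (inv_mem hSimg)

include p

theorem type_of_alt4 (e : below M ≃* alternatingGroup (Fin 4)) : PGLType M := by
  have hp := p_ne_two p hodd
  obtain ⟨x, y, hx, hxy⟩ := invol_alt4
  let f : alternatingGroup (Fin 4) →* PSL2 := (below M).subtype.comp e.symm.toMonoidHom
  have hf : Function.Injective f := Subtype.val_injective.comp e.symm.injective
  by_cases hK : fixedPow (F := F) p 1 = ⊤
  · have hq : Fintype.card F = p := prime_of_fixedPow p h5 hK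
    have hcard : Nat.card M = 24 := by
      rw [card_eq_below (by omega) hodd hM hML, Nat.card_congr e.toEquiv, Nat.card_eq_fintype_card]
      decide +kernel
    let φ : alternatingGroup (Fin 4) →* M :=
      ((iota (F := F)).comp f).codRestrict M fun z => (SetLike.coe_mem (e.symm z) : _)
    have hφ : Function.Injective φ := fun a b h => hf (iota_injective (congrArg Subtype.val h))
    rcases shape_big p hp φ hφ witnesses_alt4.1 witnesses_alt4.2 with ⟨⟨d⟩⟩ | ⟨⟨d⟩⟩ | ⟨⟨d⟩⟩ | ⟨q₀, j, hj, hq0, hc⟩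
    · have h := hcard.symm.trans (Nat.card_congr d.toEquiv)
      rw [Nat.card_eq_fintype_card, show Fintype.card (alternatingGroup (Fin 4)) = 12 by decide +kernel] at h
      omega
    · exact .symFour (hq ▸ Fact.out) (sym_residue h5 hodd hM hML d) ⟨d⟩
    · have h := hcard.symm.trans (Nat.card_congr d.toEquiv)
      rw [Nat.card_eq_fintype_card, show Fintype.card (alternatingGroup (Fin 5)) = 60 by decide +kernel] at h
      omega
    · exfalso
      rw [hcard] at hc
      have h4 : q₀ ≤ 4 := by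
        by_contra h
        have : 5 * (5 ^ 2 - 1) ≤ q₀ * (q₀ ^ 2 - 1) :=
          Nat.mul_le_mul (by omega) (Nat.sub_le_sub_right (Nat.pow_le_pow_left (by omega) 2) 1)
        omega
      have hp2 := (Fact.out : p.Prime).two_le
      obtain rfl | rfl | rfl : q₀ = 2 ∨ q₀ = 3 ∨ q₀ = 4 := by omega
      · omega
      · have : p ∣ 3 := by
          rcases Nat.eq_zero_or_pos j with h0 | h0
          · rw [h0] at hj; simp at hj
          · exact hj ▸ dvd_pow_self p h0.ne'
        have := Nat.le_of_dvd (by omega) this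
        omega
      · omega
  · obtain ⟨g₀, hg₀⟩ := trace_case p (N := below M) (fun g hg x hx => below_conj hg hx) (fixedPow p 1)
      (fun Z hZ => by
        have hz : f (e ⟨_, hZ⟩) = toPSL Z := by
          show ((e.symm (e ⟨_, hZ⟩)) : PSL2) = _
          rw [e.symm_apply_apply]
        rcases ord_alt4 (e ⟨_, hZ⟩) with h | h
        · exact tr_mem_two (by rw [← hz, ← map_mul, h, map_one])
        · exact tr_mem_three (by rw [← hz, ← map_mul, ← map_mul, h, map_one]))
      (x := f x) (y := f y) (SetLike.coe_mem _) (SetLike.coe_mem _) (by rw [← map_mul, hx, map_one])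
      (by
        rw [← map_inv, ← map_inv, ← map_mul, ← map_mul, ← map_mul, orderOf_injective f hf, hxy]
        exact fun h => hp ((Nat.prime_dvd_prime_iff_eq Nat.prime_two Fact.out).mp h).symm)
    exact type_of_sub hodd hM p h5 hML hK hg₀

theorem type_of_sym4 (e : below M ≃* Equiv.Perm (Fin 4)) : PGLType M := by
  have hp := p_ne_two p hodd
  obtain ⟨x, y, hx, hxy⟩ := invol_alt4
  let f : Equiv.Perm (Fin 4) →* PSL2 := (below M).subtype.comp e.symm.toMonoidHom
  have hf : Function.Injective f := Subtype.val_injective.comp e.symm.injective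
  by_cases hK : fixedPow (F := F) p 1 = ⊤
  · exfalso
    have hcard : Nat.card M = 48 := by
      rw [card_eq_below (by omega) hodd hM hML, Nat.card_congr e.toEquiv, Nat.card_eq_fintype_card]
      decide +kernel
    let φ : Equiv.Perm (Fin 4) →* M :=
      ((iota (F := F)).comp f).codRestrict M fun z => (SetLike.coe_mem (e.symm z) : _)
    have hφ : Function.Injective φ := fun a b h => hf (iota_injective (congrArg Subtype.val h))
    rcases shape_big p hp φ hφ witnesses_sym4.1 witnesses_sym4.2 with ⟨⟨d⟩⟩ | ⟨⟨d⟩⟩ | ⟨⟨d⟩⟩ | ⟨q₀, j, hj, hq0, hc⟩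
    · have h := hcard.symm.trans (Nat.card_congr d.toEquiv)
      rw [Nat.card_eq_fintype_card, show Fintype.card (alternatingGroup (Fin 4)) = 12 by decide +kernel] at h
      omega
    · have h := hcard.symm.trans (Nat.card_congr d.toEquiv)
      rw [Nat.card_eq_fintype_card, show Fintype.card (Equiv.Perm (Fin 4)) = 24 by decide +kernel] at h
      omega
    · have h := hcard.symm.trans (Nat.card_congr d.toEquiv)
      rw [Nat.card_eq_fintype_card, show Fintype.card (alternatingGroup (Fin 5)) = 60 by decide +kernel] at h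
      omega
    · rw [hcard] at hc
      have h4 : q₀ ≤ 4 := by
        by_contra h
        have : 5 * (5 ^ 2 - 1) ≤ q₀ * (q₀ ^ 2 - 1) :=
          Nat.mul_le_mul (by omega) (Nat.sub_le_sub_right (Nat.pow_le_pow_left (by omega) 2) 1)
        omega
      obtain rfl | rfl | rfl : q₀ = 2 ∨ q₀ = 3 ∨ q₀ = 4 := by omega
      all_goals omega
  · have hin : ∀ z : alternatingGroup (Fin 4), f z ∈ sqGen (below M) := fun z => by
      obtain ⟨a, ha⟩ := even_is_sq z
      exact Subgroup.subset_closure ⟨f a, SetLike.coe_mem _, by rw [ha, map_mul]⟩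
    have hle : sqGen (below M) ≤ (alternatingGroup (Fin 4)).map f := by
      refine (Subgroup.closure_le _).mpr ?_
      rintro _ ⟨a, ha, rfl⟩
      refine ⟨e ⟨a, ha⟩ * e ⟨a, ha⟩, sq_is_even _, ?_⟩
      show ((e.symm (e ⟨a, ha⟩ * e ⟨a, ha⟩)) : PSL2) = _
      rw [map_mul, e.symm_apply_apply]
      rfl
    obtain ⟨g₀, hg₀⟩ := trace_case p (N := sqGen (below M)) (fun g hg x hx => sqGen_conj hg hx) (fixedPow p 1)
      (fun Z hZ => by
        obtain ⟨z, hz, hze⟩ := hle hZ
        rcases ord_alt4 ⟨z, hz⟩ with h | h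
        · have h' : z * z = 1 := congrArg Subtype.val h
          exact tr_mem_two (by rw [← hze, ← map_mul, h', map_one])
        · have h' : z * z * z = 1 := congrArg Subtype.val h
          exact tr_mem_three (by rw [← hze, ← map_mul, ← map_mul, h', map_one]))
      (x := f x) (y := f y) (hin x) (hin y) (by rw [← map_mul, ← Subgroup.coe_mul, hx]; simp)
      (by
        rw [← map_inv, ← map_inv, ← map_mul, ← map_mul, ← map_mul, orderOf_injective f hf, ← Subgroup.coe_inv,
          ← Subgroup.coe_inv, ← Subgroup.coe_mul, ← Subgroup.coe_mul, ← Subgroup.coe_mul, Subgroup.orderOf_coe, hxy]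
        exact fun h => hp ((Nat.prime_dvd_prime_iff_eq Nat.prime_two Fact.out).mp h).symm)
    exact type_of_sub hodd hM p h5 hML hK hg₀

theorem type_of_alt5 (e : below M ≃* alternatingGroup (Fin 5)) : PGLType M := by
  have hp := p_ne_two p hodd
  obtain ⟨x, y, hx, hxy⟩ := invol_alt5
  let f : alternatingGroup (Fin 5) →* PSL2 := (below M).subtype.comp e.symm.toMonoidHom
  have hf : Function.Injective f := Subtype.val_injective.comp e.symm.injective
  have hsub : ∀ k : ℕ, fixedPow (F := F) p k ≠ ⊤ → (k = 2 ∨ (k = 1 ∧ p = 5)) → PGLType M := by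
    intro k hK hk
    obtain ⟨g₀, hg₀⟩ := trace_case p (N := below M) (fun g hg x hx => below_conj hg hx) (fixedPow p k)
      (fun Z hZ => by
        have hz : f (e ⟨_, hZ⟩) = toPSL Z := by
          show ((e.symm (e ⟨_, hZ⟩)) : PSL2) = _
          rw [e.symm_apply_apply]
        rcases ord_alt5 (e ⟨_, hZ⟩) with h | h | h
        · exact tr_mem_two (by rw [← hz, ← map_mul, h, map_one])
        · exact tr_mem_three (by rw [← hz, ← map_mul, ← map_mul, h, map_one])
        · have h' := tr_mem_five p (Z := Z) (by rw [← hz, ← map_mul, ← map_mul, ← map_mul, ← map_mul, h, map_one])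
          rcases hk with rfl | ⟨rfl, h55⟩
          · exact h'.1
          · exact h'.2 h55)
      (x := f x) (y := f y) (SetLike.coe_mem _) (SetLike.coe_mem _) (by rw [← map_mul, hx, map_one])
      (by
        rw [← map_inv, ← map_inv, ← map_mul, ← map_mul, ← map_mul, orderOf_injective f hf, hxy]
        exact fun h => hp ((Nat.prime_dvd_prime_iff_eq Nat.prime_two Fact.out).mp h).symm)
    exact type_of_sub hodd hM p h5 hML hK hg₀
  by_cases hK : fixedPow (F := F) p 2 = ⊤
  swap
  · exact hsub 2 hK (Or.inl rfl)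
  have hH : Nat.card (below M) = 60 := by
    rw [Nat.card_congr e.toEquiv, Nat.card_eq_fintype_card]
    decide +kernel
  have hcard : Nat.card M = 120 := by
    rw [card_eq_below (by omega) hodd hM hML, hH]
  let φ : alternatingGroup (Fin 5) →* M :=
    ((iota (F := F)).comp f).codRestrict M fun z => (SetLike.coe_mem (e.symm z) : _)
  have hφ : Function.Injective φ := fun a b h => hf (iota_injective (congrArg Subtype.val h))
  have hp5 : p = 5 := by
    rcases shape_big p hp φ hφ witnesses_alt5.1 witnesses_alt5.2.1 with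
      ⟨⟨d⟩⟩ | ⟨⟨d⟩⟩ | ⟨⟨d⟩⟩ | ⟨q₀, j, hj, hq0, hc⟩
    · have h := hcard.symm.trans (Nat.card_congr d.toEquiv)
      rw [Nat.card_eq_fintype_card, show Fintype.card (alternatingGroup (Fin 4)) = 12 by decide +kernel] at h
      omega
    · have h := hcard.symm.trans (Nat.card_congr d.toEquiv)
      rw [Nat.card_eq_fintype_card, show Fintype.card (Equiv.Perm (Fin 4)) = 24 by decide +kernel] at h
      omega
    · have h := hcard.symm.trans (Nat.card_congr d.toEquiv)
      rw [Nat.card_eq_fintype_card, show Fintype.card (alternatingGroup (Fin 5)) = 60 by decide +kernel] at h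
      omega
    · rw [hcard] at hc
      have h7 : q₀ ≤ 6 := by
        by_contra h
        have : 7 * (7 ^ 2 - 1) ≤ q₀ * (q₀ ^ 2 - 1) :=
          Nat.mul_le_mul (by omega) (Nat.sub_le_sub_right (Nat.pow_le_pow_left (by omega) 2) 1)
        omega
      obtain rfl | rfl | rfl | rfl | rfl : q₀ = 2 ∨ q₀ = 3 ∨ q₀ = 4 ∨ q₀ = 5 ∨ q₀ = 6 := by omega
      any_goals omega
      rcases Nat.eq_zero_or_pos j with h0 | h0
      · rw [h0] at hj; simp at hj
      · exact ((Nat.prime_dvd_prime_iff_eq Fact.out (by norm_num)).mp (hj ▸ dvd_pow_self p h0.ne'))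
  by_cases hK1 : fixedPow (F := F) p 1 = ⊤
  · exfalso
    have hq : Fintype.card F = 5 := (prime_of_fixedPow p h5 hK1).trans hp5
    refine below_ne_top hML (Subgroup.eq_top_of_le_card _ ?_)
    have h := Cfsg.Agent.Lib.Classical.card_PSL2_mul (F := F)
    rw [hq, show Nat.gcd 2 (5 - 1) = 2 from rfl] at h
    omega
  · exact hsub 1 hK1 (Or.inr ⟨rfl, hp5⟩)

theorem type_of_subfield {L : Subfield F} (hL : Nonempty (below M ≃* Matrix.ProjectiveSpecialLinearGroup (Fin 2) L) ∨
    Nonempty (below M ≃* Matrix.ProjGenLinGroup (Fin 2) L)) : PGLType M := by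
  classical
  have hp := p_ne_two p hodd
  haveI := Fintype.ofFinite L
  haveI : CharP L p := L.subtype.charP L.subtype.injective p
  obtain ⟨k, -, hk⟩ := FiniteField.card L p
  by_cases hK : fixedPow (F := F) p k = ⊤
  · exfalso
    obtain ⟨n, -, hn, hq⟩ := pow_card_le_of_fixedPow_eq_top p hK k.pos
    have hle : Fintype.card F ≤ Fintype.card L := by
      rw [hq, hk]; exact Nat.pow_le_pow_right (Fact.out : p.Prime).pos hn
    have hLtop : L = ⊤ := by
      rw [eq_top_iff]
      intro z _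
      obtain ⟨w, rfl⟩ := ((Fintype.bijective_iff_injective_and_card (fun x : L => (x : F))).mpr
        ⟨Subtype.val_injective, le_antisymm (Fintype.card_le_of_injective _ Subtype.val_injective) hle⟩).2 z
      exact w.2
    exact below_ne_top hML (eq_top_of_subfield_top L hLtop hL)
  obtain ⟨N, hN, f, hf, hmem, hrange⟩ : ∃ (N : Subgroup PSL2) (_ : ∀ g ∈ M, ∀ x ∈ N, ∃ x' ∈ N, g * iota x * g⁻¹ = iota x')
      (f : Matrix.ProjectiveSpecialLinearGroup (Fin 2) L →* PSL2), Function.Injective f ∧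
      (∀ c : L, f (toPSL (upper c)) ∈ N ∧ f (toPSL (lower c)) ∈ N) ∧ N ≤ f.range := by
    rcases hL with ⟨⟨d⟩⟩ | ⟨⟨d⟩⟩
    · refine ⟨below M, fun g hg x hx => below_conj hg hx, (below M).subtype.comp d.symm.toMonoidHom,
        Subtype.val_injective.comp d.symm.injective, fun c => ⟨SetLike.coe_mem _, SetLike.coe_mem _⟩, fun z hz => ?_⟩
      exact ⟨d ⟨z, hz⟩, congrArg Subtype.val (d.symm_apply_apply ⟨z, hz⟩)⟩
    · set f₁ : Matrix.ProjGenLinGroup (Fin 2) L →* PSL2 := (below M).subtype.comp d.symm.toMonoidHom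
      refine ⟨sqGen (below M), fun g hg x hx => sqGen_conj hg hx, f₁.comp iota,
        (Subtype.val_injective.comp d.symm.injective).comp iota_injective, fun c => ?_, ?_⟩
      · have h2 : (2 : L) ≠ 0 := fun h => two_ne hodd (by rw [← map_ofNat L.subtype 2, h, map_zero])
        haveI : NeZero (2 : L) := ⟨h2⟩
        have hh : ∀ z w : Matrix.ProjectiveSpecialLinearGroup (Fin 2) L, z = w * w →
            f₁.comp iota z ∈ sqGen (below M) := fun z w h =>
          Subgroup.subset_closure ⟨f₁ (iota w), SetLike.coe_mem _, by rw [h, MonoidHom.comp_apply, map_mul, map_mul]⟩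
        constructor
        · refine hh _ (toPSL (upper (c / 2))) ?_
          rw [← map_mul, upper_mul, add_halves]
        · refine hh _ (toPSL (lower (c / 2))) ?_
          rw [← map_mul, lower_mul, add_halves]
      · refine (Subgroup.closure_le _).mpr ?_
        rintro _ ⟨a, ha, rfl⟩
        obtain ⟨A, hA⟩ := Matrix.ProjGenLinGroup.mk_surjective (d ⟨a, ha⟩)
        have hsq : (d ⟨a, ha⟩ * d ⟨a, ha⟩) ∈ (iota (F := L)).range := by
          rw [range_iota, ← hA, ← map_mul, mk_mem_pglImage_iff, Units.val_mul, det_mul]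
          exact IsSquare.mul_self _
        obtain ⟨z, hz⟩ := hsq
        refine ⟨z, ?_⟩
        show ((d.symm (iota z)) : PSL2) = _
        rw [hz, map_mul, d.symm_apply_apply]
        rfl
  obtain ⟨c, hc0, hc4⟩ : ∃ c : L, c ≠ 0 ∧ c * c + 4 ≠ 0 := by
    have h2 : (2 : L) ≠ 0 := fun h => two_ne hodd (by rw [← map_ofNat L.subtype 2, h, map_zero])
    by_cases h : (1 : L) * 1 + 4 = 0
    · refine ⟨2, h2, fun e => one_ne_zero (α := L) ?_⟩
      linear_combination 2 * e - 3 * h
    · exact ⟨1, one_ne_zero, h⟩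
  set w := wElt L with hwdef
  have hwN : f (toPSL w) ∈ N := by
    rw [hwdef, ← wElt_eq, map_mul, map_mul, map_mul, map_mul]
    exact mul_mem (mul_mem (hmem 1).1 (hmem (-1)).2) (hmem 1).1
  have hw0 : tr w = 0 := tr_wElt _
  obtain ⟨g₀, hg₀⟩ := trace_case p hN (fixedPow p k)
    (fun Z hZ => by
      obtain ⟨z, hz⟩ := hrange hZ
      exact tr_mem_fixedPow p hp hk f hz)
    (x := f (toPSL w)) (y := f (toPSL (upper c))) hwN (hmem c).1
    (by rw [← map_mul, ← map_mul, sq_of_tr_zero' hw0, toPSL_eq_one.mpr (Or.inr rfl), map_one])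
    (fun hd => by
      simp only [← map_inv, ← map_mul] at hd
      rw [orderOf_injective f hf, orderOf_dvd_iff_pow_eq_one, ← map_pow] at hd
      set Z := w * upper c * w⁻¹ * (upper c)⁻¹ with hZ
      have htr : tr Z = 2 + c * c := by
        rw [hZ, Cfsg.Agent.Lib.Geometry.Dickson.tr_commutator_of_tr_zero w (upper c) hw0, tr_upper, tr_wElt_upper]
        ring
      have hpodd : Odd p := (Fact.out : p.Prime).odd_of_ne_two hp
      have ht : tr Z ^ 2 = 4 := by
        rcases toPSL_eq_one.mp hd with e | e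
        · exact tr_sq_of_pow_char (p := p) e
        · have := tr_sq_of_pow_char (p := p) (a := -Z) (by
            rw [neg_pow, e, hpodd.neg_one_pow, neg_one_mul, neg_neg])
          rwa [tr_neg, neg_sq] at this
      rw [htr] at ht
      have : c * c * (c * c + 4) = 0 := by linear_combination ht
      exact hc4 ((mul_eq_zero.mp this).resolve_left (mul_ne_zero hc0 hc0)))
  exact type_of_sub hodd hM p h5 hML hK hg₀

omit p [Fact p.Prime] [CharP F p] in
/-- The classification. -/
theorem pgl_max_cases : PGLType M := by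
  classical
  haveI : Finite PGL2 := Finite.of_surjective _ Matrix.ProjGenLinGroup.mk_surjective
  obtain ⟨p, hp⟩ := CharP.exists F
  obtain ⟨n, hpr, -⟩ := FiniteField.card F p
  haveI : Fact p.Prime := ⟨hpr⟩
  rcases subType p (below M) with ⟨k, -, hc, -⟩ | ⟨k, -, ⟨e⟩⟩ | ⟨S, h⟩ | ⟨⟨e⟩⟩ | ⟨⟨e⟩⟩ | ⟨⟨e⟩⟩ | ⟨L, hL⟩
  · exact type_of_cyclic h5 hodd hM hML hc
  · refine type_of_dihedral h5 hodd hM hML (fun hk => ?_) e
    have h0 : 0 < Nat.card (below M) := Nat.card_pos
    rw [Nat.card_congr e.toEquiv, DihedralGroup.nat_card, hk] at h0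
    omega
  · by_cases h0 : below M = ⊥
    · exact type_of_cyclic h5 hodd hM hML (by rw [h0]; infer_instance)
    · exact type_of_borel p h5 hodd hM hML S h h0
  · exact type_of_alt4 p h5 hodd hM hML e
  · exact type_of_sym4 p h5 hodd hM hML e
  · exact type_of_alt5 p h5 hodd hM hML e
  · exact type_of_subfield p h5 hodd hM hML hL

end Cfsg.Agent.Lib.Geometry.Dickson.PGLMax
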