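import Cfsg.Agent.Lib.Geometry.Dickson.Main
import Cfsg.Agent.Lib.Classical.SLTwoSmallFacts

/-!
Subgroups of `SL₂` with a normal `p'`-subgroup of index `p` not centralized by an element of order `p`.
-/

set_option autoImplicit false

namespace Cfsg.Agent.Lib.Geometry.Dickson

open Matrix
open scoped Matrix MatrixGroups Pointwise
open Cfsg.Agent.Lib.SL2Trace (tr toPSL toPSL_surjective toPSL_eq_one mem_center_iff)

variable {F : Type*} [Field F] [Fintype F] {p : ℕ} [Fact p.Prime] [CharP F p]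

local notation "SL2" => Matrix.SpecialLinearGroup (Fin 2) F
local notation "M2" => Matrix (Fin 2) (Fin 2) F
local notation "zz" => Nat.card (Subgroup.center (Matrix.SpecialLinearGroup (Fin 2) F))

theorem dvd_card_of_char : p ∣ Fintype.card F := by
  obtain ⟨n, -, hn⟩ := FiniteField.card F p
  exact hn ▸ dvd_pow_self p n.ne_zero

theorem tr_sq_of_pow_char {a : SL2} (ha : a ^ p = 1) : tr a ^ 2 = 4 := by
  by_contra h
  have hp : Nat.Prime p := Fact.out
  have hq : p ∣ Fintype.card F := dvd_card_of_char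
  have hd : ∀ m : ℕ, a ^ m = 1 → ¬ p ∣ m → a = 1 := fun m hm hpm => by
    rcases (Nat.dvd_prime hp).mp (orderOf_dvd_of_pow_eq_one ha) with h1 | h1
    · exact orderOf_eq_one_iff.mp h1
    · exact absurd (h1 ▸ orderOf_dvd_of_pow_eq_one hm) hpm
  have ha1 : a = 1 := by
    rcases Cfsg.Agent.Lib.SL2Trace.pow_dichotomy h with ⟨-, hm⟩ | ⟨-, hm⟩
    · refine hd _ hm fun hd' => ?_
      have := Nat.dvd_sub hq hd'
      rw [Nat.sub_sub_self Fintype.card_pos] at this
      exact hp.one_lt.ne' (Nat.eq_one_of_dvd_one this)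
    · refine hd _ hm fun hd' => ?_
      have := Nat.dvd_sub hd' hq
      rw [Nat.add_sub_cancel_left] at this
      exact hp.one_lt.ne' (Nat.eq_one_of_dvd_one this)
  apply h
  rw [ha1, Cfsg.Agent.Lib.SL2Trace.tr_eq]
  simp
  norm_num

theorem char_two_ne (hp : p ≠ 2) : (2 : F) ≠ 0 :=
  Ring.two_ne_zero (by rw [ringChar.eq F p]; exact hp)

theorem eq_neg_imp_false {a b : SL2} (hp : p ≠ 2) (ha : a ^ p = 1) (hb : b ^ p = 1) : b ≠ -a := by
  intro h
  rw [h, (Nat.Prime.odd_of_ne_two Fact.out hp).neg_pow, ha] at hb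
  have h2 := congrArg (fun x : SL2 => (x : M2) 0 0) hb
  simp at h2
  exact char_two_ne hp (by linear_combination -h2)

theorem card_cls_ne_one (hp : p ≠ 2) {G N : Subgroup SL2} (hNG : N ≤ G)
    (hNp : (Nat.card N).Coprime p) {a : SL2} (ha : a ∈ G) (haZ : a ∉ Subgroup.center SL2) (hap : a ^ p = 1)
    (hn : ∀ g ∈ G, ∀ x ∈ N, g * x * g⁻¹ ∈ N) (hnc : ∃ r ∈ N, r * a ≠ a * r) :
    Nat.card (cls G a) ≠ 1 := by
  intro h1
  obtain ⟨r, hr, hra⟩ := hnc
  have ht := tr_sq_of_pow_char hap
  obtain ⟨w, hw⟩ := (Nat.card_eq_one_iff_exists).mp h1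
  have hcell : cell G (r * a * r⁻¹) = cell G a :=
    congrArg Subtype.val ((hw ⟨_, ⟨⟨r, hNG hr⟩, rfl⟩⟩).trans (hw ⟨_, cell_mem_cls G a⟩).symm)
  have hmem : r * a * r⁻¹ ∈ cell G a :=
    hcell ▸ mem_cell_self G (G.mul_mem (G.mul_mem (hNG hr) ha) (G.inv_mem (hNG hr)))
  set c := r * a * r⁻¹ * a⁻¹ with hc
  have hcC : c ∈ cell G a := (cell G a).mul_mem hmem ((cell G a).inv_mem (mem_cell_self G ha))
  have hcN : c ∈ N := by
    rw [hc, mul_assoc, mul_assoc, ← mul_assoc a]
    exact N.mul_mem hr (hn a ha _ (N.inv_mem hr))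
  have hct := tr_sq_of_mem haZ ht hcC.1
  have hcard : c ^ Nat.card N = 1 := by
    simpa only [Subgroup.coe_pow, Subgroup.coe_one] using
      congrArg Subtype.val (pow_card_eq_one' (x := (⟨c, hcN⟩ : N)))
  have hcp : c ^ p ∈ Subgroup.center SL2 := mem_center_iff.mpr (Cfsg.Agent.Lib.SL2Trace.pow_char_of_tr p hct)
  have hcZ : c ∈ Subgroup.center SL2 := by
    have e : ((Nat.card N).gcd p : ℤ) = Nat.card N * (Nat.card N).gcdA p + p * (Nat.card N).gcdB p :=
      Nat.gcd_eq_gcd_ab _ _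
    rw [hNp, Nat.cast_one] at e
    rw [← zpow_one c, e, _root_.zpow_add, _root_.zpow_mul, _root_.zpow_mul, zpow_natCast, zpow_natCast, hcard, _root_.one_zpow, one_mul]
    exact Subgroup.zpow_mem _ hcp _
  have hconj : (r * a * r⁻¹) ^ p = 1 := by rw [conj_pow, hap, mul_one, mul_inv_cancel]
  rcases mem_center_iff.mp hcZ with h | h
  · rw [hc, mul_inv_eq_one, mul_inv_eq_iff_eq_mul] at h
    exact hra h
  · rw [hc, mul_inv_eq_iff_eq_mul, neg_one_mul] at h
    exact eq_neg_imp_false hp hap hconj h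

theorem card_cell_eq (hp : p ≠ 2) {G N : Subgroup SL2} (hZ : Subgroup.center SL2 ≤ N) (hNG : N ≤ G)
    (hNp : (Nat.card N).Coprime p) (hG : Nat.card G = Nat.card N * p)
    {a : SL2} (ha : a ∈ G) (haZ : a ∉ Subgroup.center SL2) (hap : a ^ p = 1) :
    Nat.card (cell G a) = zz * p := by
  have hP : Nat.Prime p := Fact.out
  have hZG := hZ.trans hNG
  have ht := tr_sq_of_pow_char hap
  have hle : cell G a ≤ G := inf_le_right
  have hc := card_map_toPSL G hZG (cell G a) (center_le_cell G hZG a) hle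
  rw [hc]
  congr 1
  obtain ⟨k, hk⟩ := (IsPGroup.iff_card (G := (cell G a).map toPSL)).mp (cell_map_isPGroup G p haZ ht)
  rw [hk]
  have hdvd : p ^ k ∣ Nat.card N * p :=
    hG ▸ (hk ▸ Dvd.intro_left _ hc.symm).trans (Subgroup.card_dvd_of_le hle)
  have h1 : p ^ k ∣ p := (Nat.Coprime.pow_left k hNp.symm).dvd_of_dvd_mul_left hdvd
  rcases (Nat.dvd_prime hP).mp h1 with h | h
  · rw [h, Subgroup.card_eq_one] at hk
    have : toPSL a = 1 := Subgroup.mem_bot.mp (hk ▸ Subgroup.mem_map_of_mem _ (mem_cell_self G ha))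
    exact absurd (mem_center_iff.mpr (toPSL_eq_one.mp this)) haZ
  · exact h

/-- The number of conjugates of the cell of an element of order `p`. -/
theorem card_cls_eq (hp : p ≠ 2) {G N : Subgroup SL2} (hZ : Subgroup.center SL2 ≤ N) (hNG : N ≤ G)
    (hNp : (Nat.card N).Coprime p) (hG : Nat.card G = Nat.card N * p)
    (hn : ∀ g ∈ G, ∀ x ∈ N, g * x * g⁻¹ ∈ N)
    {a : SL2} (ha : a ∈ G) (haZ : a ∉ Subgroup.center SL2) (hap : a ^ p = 1)
    (hnc : ∃ r ∈ N, r * a ≠ a * r) :
    Nat.card (cls G a) = p + 1 := by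
  classical
  have hP : Nat.Prime p := Fact.out
  have hZG := hZ.trans hNG
  have ht := tr_sq_of_pow_char hap
  have hne := card_cls_ne_one hp hNG hNp ha haZ hap hn hnc
  have hcell := card_cell_eq hp hZ hNG hNp hG ha haZ hap
  have hzz : 0 < zz := Nat.card_pos
  have hpG : p ∣ Nat.card G := hG ▸ Dvd.intro_left _ rfl
  have hdiv : ∀ k : ℕ, Nat.card G = zz * k → p ∣ k := fun k hk => by
    rcases (hk ▸ hpG : p ∣ zz * k) |> hP.dvd_mul.mp with h | h
    · exact absurd h (fun h => by
        have h2 : zz ∣ 2 := by rw [zz_eq]; exact Nat.gcd_dvd_left _ _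
        exact hp ((Nat.prime_dvd_prime_iff_eq hP Nat.prime_two).mp (h.trans h2)))
    · exact h
  have small : ∀ g : ℕ, Nat.card G = zz * (3 * g) → ¬ p ∣ g → (g = 4 ∨ g = 8) → Nat.card (cls G a) = p + 1 := by
    intro g hg hpg hg48
    have hp3 : p = 3 := by
      rcases hP.dvd_mul.mp (hdiv _ hg) with h | h
      · exact (Nat.prime_dvd_prime_iff_eq hP Nat.prime_three).mp h
      · exact absurd h hpg
    have hN' : zz * p ∣ Nat.card (cellNorm G a) := hcell ▸ Subgroup.card_dvd_of_le (cell_le_cellNorm G a)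
    obtain ⟨d, hd⟩ := hN'
    have hm := card_cls_mul G a
    rw [hd, hg] at hm
    have hng : Nat.card (cls G a) * d = g := by
      have : (zz * 3) * (Nat.card (cls G a) * d) = (zz * 3) * g := by
        subst hp3
        calc zz * 3 * (Nat.card (cls G a) * d) = Nat.card (cls G a) * (zz * 3 * d) := by ring
          _ = zz * (3 * g) := hm
          _ = _ := by ring
      exact Nat.eq_of_mul_eq_mul_left (by omega) this
    have hmod := unipotent_cls_card_mod G p hZG ha haZ ht hcell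
    have hdvd : Nat.card (cls G a) ∣ g := Dvd.intro _ hng
    subst hp3
    have hle := Nat.le_of_dvd (by omega) hdvd
    rcases hg48 with rfl | rfl
    all_goals
      generalize Nat.card (cls G a) = n at hne hmod hdvd hle ⊢
      interval_cases n <;> omega
  rcases shape G p hZG with h | ⟨y, hy, hyZ, hty, h⟩ | ⟨y, k, hy, hty, h⟩ | ⟨y, hy, hyZ, hty, h⟩ | ⟨y, hy, hty, h⟩ |
    ⟨y, hy, hty, h⟩ | ⟨y₂, y₃, y₅, h₂, h₃, h₅, hcover, h⟩ | ⟨y, r, k, hy, hyZ, hty, hr, hc, h⟩
  · exact absurd (h ha) haZ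
  · have := tr_sq_ne_of_cell G hyZ hty (h.symm ▸ ha : a ∈ cell G y) haZ
    exact absurd ht this
  · have hN : Nat.card G = zz * (2 * k) := by rw [← h]; exact hy.2.2.2
    rcases hP.dvd_mul.mp (hdiv _ hN) with h' | h'
    · exact absurd ((Nat.prime_dvd_prime_iff_eq hP Nat.prime_two).mp h') hp
    · exfalso
      have hk := dvd_of_torus G hZG hy.1 hy.2.1 hty hy.2.2.1
      have hq : p ∣ Fintype.card F := dvd_card_of_char
      rcases hk with hk | hk
      · have := h'.trans (hk.trans (Nat.div_dvd_of_dvd (by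
          rcases Nat.even_or_odd (Fintype.card F) with he | ho
          · obtain ⟨j, hj⟩ := he
            rw [show Nat.gcd 2 (Fintype.card F - 1) = 1 from
              (Nat.coprime_two_left.mpr ⟨j - 1, by have := Fintype.card_pos (α := F); omega⟩)]
            exact one_dvd _
          · obtain ⟨j, hj⟩ := ho
            exact (Nat.gcd_dvd_left _ _).trans ⟨j + 1, by omega⟩)))
        have := Nat.dvd_sub this hq
        rw [Nat.add_sub_cancel_left] at this
        exact hP.one_lt.ne' (Nat.eq_one_of_dvd_one this)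
      · have := h'.trans (hk.trans (Nat.div_dvd_of_dvd (Nat.gcd_dvd_right _ _)))
        have := Nat.dvd_sub hq this
        rw [Nat.sub_sub_self Fintype.card_pos] at this
        exact hP.one_lt.ne' (Nat.eq_one_of_dvd_one this)
  · exfalso
    rw [unipotent_cls_eq G p hZG ha hy haZ hyZ ht hty] at hne
    have hm := card_cls_mul G y
    rw [h] at hm
    exact hne (Nat.eq_of_mul_eq_mul_right Nat.card_pos (hm.trans (one_mul _).symm))
  · exact small 4 (by rw [h]) (fun h4 => hp ((Nat.prime_dvd_prime_iff_eq hP Nat.prime_two).mp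
      (hP.dvd_of_dvd_pow (n := 2) h4))) (Or.inl rfl)
  · exact small 8 (by rw [h]) (fun h4 => hp ((Nat.prime_dvd_prime_iff_eq hP Nat.prime_two).mp
      (hP.dvd_of_dvd_pow (n := 3) h4))) (Or.inr rfl)
  · exfalso
    obtain ⟨e⟩ := icosahedral_image G hZG h₂ h₃ h₅ hcover h
    set f : G →* alternatingGroup (Fin 5) := e.toMonoidHom.comp (projG G) with hf
    have hfs : Function.Surjective f := e.surjective.comp (projG_surjective G)
    have hNn : ((N.subgroupOf G).map f).Normal := by
      refine Subgroup.Normal.map ⟨fun x hx g => ?_⟩ f hfs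
      exact hn g g.2 x hx
    haveI : IsSimpleGroup (alternatingGroup (Fin 5)) := alternatingGroup.isSimpleGroup (by simp)
    have hcardN : Nat.card (N.subgroupOf G) = Nat.card N :=
      Nat.card_congr (Subgroup.subgroupOfEquivOfLe hNG).toEquiv
    rcases IsSimpleGroup.eq_bot_or_eq_top_of_normal _ hNn with hb | ht'
    · obtain ⟨r, hr, hra⟩ := hnc
      refine hra ((Subgroup.mem_center_iff.mp ?_) a).symm
      have hm : f ⟨r, hNG hr⟩ = 1 := Subgroup.mem_bot.mp
        (hb ▸ Subgroup.mem_map_of_mem f (show (⟨r, hNG hr⟩ : G) ∈ N.subgroupOf G from hr))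
      rw [hf, MonoidHom.comp_apply, MulEquiv.coe_toMonoidHom, MulEquiv.map_eq_one_iff, projG_eq_one] at hm
      exact hm
    · have hd : 60 ∣ Nat.card N := by
        have := Subgroup.card_map_dvd (N.subgroupOf G) f
        rwa [ht', Subgroup.card_top, hcardN, show Nat.card (alternatingGroup (Fin 5)) = 60 by
          rw [Nat.card_eq_fintype_card]; decide] at this
      exact hP.one_lt.ne' (Nat.Coprime.eq_one_of_dvd hNp.symm ((hdiv _ h).trans hd))
  · have hcls := unipotent_cls_eq G p hZG ha hy haZ hyZ ht hty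
    have hcell' : cell G a ∈ cls G y := hcls ▸ cell_mem_cls G a
    obtain ⟨g, hg⟩ := hcell'
    have e : Nat.card (cell G a) = Nat.card (cell G y) := by
      have hg' : cell G a = MulAut.conj (g : SL2) • cell G y := by
        rw [cell_conj G g.2]; exact hg.symm
      rw [hg']
      exact (Nat.card_congr (Subgroup.equivSMul (MulAut.conj (g : SL2)) (cell G y)).toEquiv).symm
    rw [hcell, hc] at e
    rw [hcls, h, ← Nat.eq_of_mul_eq_mul_left hzz e]

/-- Subgroups of `SL₂` with a normal `p'`-subgroup of index `p` not centralized by an element of order `p`. -/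
theorem prime_normal_data (hp : p ≠ 2) {G N : Subgroup SL2} (hZ : Subgroup.center SL2 ≤ N) (hNG : N ≤ G)
    (hNp : (Nat.card N).Coprime p) (hG : Nat.card G = Nat.card N * p)
    (hn : ∀ g ∈ G, ∀ x ∈ N, g * x * g⁻¹ ∈ N)
    (hcomm : ∀ g ∈ G, ∀ h ∈ G, g * h * g⁻¹ * h⁻¹ ∈ N)
    {a : SL2} (ha : a ∈ G) (haZ : a ∉ Subgroup.center SL2) (hap : a ^ p = 1)
    (hnc : ∃ r ∈ N, r * a ≠ a * r) :
    p = 3 ∧ Nat.card N = 8 ∧ Nonempty (G ≃* Matrix.SpecialLinearGroup (Fin 2) (ZMod 3)) := by
  classical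
  have hP : Nat.Prime p := Fact.out
  have h2 := char_two_ne (F := F) hp
  have hZG := hZ.trans hNG
  have hcls := card_cls_eq hp hZ hNG hNp hG hn ha haZ hap hnc
  have hcell := card_cell_eq hp hZ hNG hNp hG ha haZ hap
  obtain ⟨ψ, lam, hlam, hup, hlo, hc', hn'⟩ :=
    exists_normal_form G hZG ha haZ (tr_sq_of_pow_char hap) hcls (by have := hP.two_le; omega)
  obtain ⟨K, hK, -, hu, hl, hline⟩ := subfield_normal (G.map ψ.toMonoidHom) p (center_le_map G ψ hZG)
    hlam hup hlo (hc'.trans hcell) hn'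
  set G' := G.map ψ.toMonoidHom with hG'
  set N' := N.map ψ.toMonoidHom with hN'
  have hcN : Nat.card N' = Nat.card N :=
    (Nat.card_congr (N.equivMapOfInjective ψ.toMonoidHom ψ.injective).toEquiv).symm
  have hcomm' : ∀ g ∈ G', ∀ h ∈ G', g * h * g⁻¹ * h⁻¹ ∈ N' := by
    rintro _ ⟨g, hg, rfl⟩ _ ⟨h, hh, rfl⟩
    exact ⟨g * h * g⁻¹ * h⁻¹, hcomm g hg h hh, by simp⟩
  have hupN : ∀ x : F, upper x ∈ N' → x = 0 := by
    intro x hx
    by_contra hx0
    have h1 : upper x ^ p = 1 := by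
      have : ∀ k : ℕ, upper x ^ k = upper ((k : F) * x) := by
        intro k
        induction k with
        | zero => simp [upper_zero]
        | succ k ih => rw [pow_succ, ih, upper_mul]; push_cast; ring_nf
      rw [this, CharP.cast_eq_zero F p, zero_mul, upper_zero]
    have hc : orderOf (upper x) ∣ Nat.card N' := Subgroup.orderOf_dvd_natCard N' hx
    rcases (Nat.dvd_prime hP).mp (orderOf_dvd_of_pow_eq_one h1) with h | h
    · exact upper_notMem_center hx0 (by rw [orderOf_eq_one_iff.mp h]; exact Subgroup.one_mem _)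
    · rw [h, hcN] at hc
      exact hP.one_lt.ne' (Nat.Coprime.eq_one_of_dvd hNp.symm hc)
  have key : ∀ (d : F) (D : SL2), D ∈ G' → (D : M2) = !![d, 0; 0, d⁻¹] → d ≠ 0 → d * d = 1 := by
    intro d D hD hDe hd
    have e : D * upper 1 * D⁻¹ * (upper 1)⁻¹ = upper (d * d - 1) := by
      rw [mul_inv_eq_iff_eq_mul, mul_inv_eq_iff_eq_mul, upper_mul]
      refine sl_ext ?_
      rw [Matrix.SpecialLinearGroup.coe_mul, Matrix.SpecialLinearGroup.coe_mul, hDe, coe_upper, coe_upper]
      ext i j; fin_cases i <;> fin_cases j <;> simp [Matrix.mul_apply, Fin.sum_univ_two] <;> field_simp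
    have := hupN _ (e ▸ hcomm' D hD (upper 1) ((hu 1).mpr (one_mem K)))
    linear_combination this
  have hle := range_subIncl_le G' (fun x hx => (hu x).mpr hx) (fun x hx => (hl x).mpr hx)
  have hp3 : p = 3 := by
    by_contra hp3
    have h20 : (2 : K) ≠ 0 := fun h => h2 (by
      have h' := congrArg K.subtype h
      rwa [map_ofNat, map_zero] at h')
    let S : Matrix.SpecialLinearGroup (Fin 2) K := ⟨!![2, 0; 0, 2⁻¹], by simp [Matrix.det_fin_two, h20]⟩
    have h4 := key 2 (subIncl K S) (hle ⟨S, rfl⟩) (by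
      have hinv : ((2⁻¹ : K) : F) = (2 : F)⁻¹ := rfl
      ext i j; rw [coe_subIncl]; fin_cases i <;> fin_cases j <;> simp [S, hinv] <;> rfl) h2
    have h30 : ((3 : ℕ) : F) = 0 := by push_cast; linear_combination h4
    exact hp3 ((Nat.prime_dvd_prime_iff_eq hP Nat.prime_three).mp ((CharP.cast_eq_zero_iff F p 3).mp h30))
  subst hp3
  haveI : Fintype K := Fintype.ofFinite K
  have hKc : Fintype.card K = 3 := by rw [← Nat.card_eq_fintype_card, hK]
  have heq : G' = (subIncl K).range := by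
    refine le_antisymm (fun g hg => ?_) hle
    obtain ⟨S, D, d, rfl, hD, -, hDe⟩ := exists_decomposition G' hu hl hline hg
    have hd : d ≠ 0 := fun h => by
      have := D.2
      rw [hDe, h] at this
      simp [Matrix.det_fin_two] at this
    refine Subgroup.mul_mem _ ⟨S, rfl⟩ ?_
    rcases mul_self_eq_one_iff.mp (key d D hD hDe hd) with rfl | rfl
    · exact ⟨1, sl_ext (by rw [map_one, hDe]; ext i j; fin_cases i <;> fin_cases j <;> simp)⟩
    · exact ⟨-1, sl_ext (by
        rw [hDe]; ext i j; rw [coe_subIncl]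
        fin_cases i <;> fin_cases j <;> simp)⟩
  have hinj : Function.Injective (subIncl K) := fun A B h => Subtype.ext (by
    ext i j
    exact congrFun (congrFun (congrArg Subtype.val h) i) j)
  let e₁ : G ≃* Matrix.SpecialLinearGroup (Fin 2) K :=
    ((G.equivMapOfInjective ψ.toMonoidHom ψ.injective).trans (MulEquiv.subgroupCongr heq)).trans
      (MonoidHom.ofInjective hinj).symm
  haveI : Fact (Nat.Prime 3) := ⟨Nat.prime_three⟩
  let σ : ZMod 3 ≃+* K := ZMod.ringEquivOfPrime K Nat.prime_three hKc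
  let e₂ : G ≃* Matrix.SpecialLinearGroup (Fin 2) (ZMod 3) :=
    e₁.trans (Cfsg.Agent.Lib.Classical.slCongr σ.symm)
  refine ⟨rfl, ?_, ⟨e₂⟩⟩
  have hc : Nat.card G = 24 := by
    rw [Nat.card_congr e₁.toEquiv, Cfsg.Agent.Lib.Classical.card_SL2, hKc]
    rfl
  omega

end Cfsg.Agent.Lib.Geometry.Dickson
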