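import Cfsg.Agent.Lib.Geometry.Dickson.PGLAux
import Cfsg.Agent.Lib.Geometry.Dickson.PrimeNormal

/-!
Small subgroups of `PGL₂` seen inside `PSL₂` of the quadratic extension, and trace fields.
-/

set_option autoImplicit false
set_option maxHeartbeats 400000

namespace Cfsg.Agent.Lib.Geometry.Dickson.PGLMax

open Matrix
open scoped Matrix MatrixGroups
open Cfsg.Agent.Lib.SL2Trace (tr tr_eq tr_neg det_eq sq_eq toPSL toPSL_surjective toPSL_eq toPSL_eq_one mem_center_iff)
open Cfsg.Agent.Lib.Geometry.Dickson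

variable {F : Type*} [Field F] [Fintype F] (p : ℕ) [Fact p.Prime] [CharP F p]

local notation "SL2" => Matrix.SpecialLinearGroup (Fin 2) F
local notation "M2" => Matrix (Fin 2) (Fin 2) F
local notation "PSL2" => Matrix.ProjectiveSpecialLinearGroup (Fin 2) F
local notation "PGL2" => Matrix.ProjGenLinGroup (Fin 2) F

include p in
/-- Subgroups of `PGL₂` that are neither metacyclic nor in a point stabiliser. -/
theorem shape_big (hp : p ≠ 2) {M : Subgroup PGL2} {X₀ : Type*} [Group X₀] (f : X₀ →* M)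
    (hf : Function.Injective f) (hsq : ∃ x y : X₀, ¬ Commute (x * x) (y * y))
    (hcomm : ∃ x y : X₀, orderOf (x * y * x⁻¹ * y⁻¹) = 2) :
    Nonempty (M ≃* alternatingGroup (Fin 4)) ∨ Nonempty (M ≃* Equiv.Perm (Fin 4)) ∨
      Nonempty (M ≃* alternatingGroup (Fin 5)) ∨
      ∃ q₀ j : ℕ, q₀ = p ^ j ∧ 2 ≤ q₀ ∧ (2 * Nat.card M = q₀ * (q₀ ^ 2 - 1) ∨ Nat.card M = q₀ * (q₀ ^ 2 - 1)) := by
  classical
  obtain ⟨n, -, hn⟩ := FiniteField.card F p
  have hn0 : 2 * (n : ℕ) ≠ 0 := by have := n.pos; omega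
  haveI := Fintype.ofFinite (GaloisField p (2 * n))
  set E := GaloisField p (2 * n)
  have hE : Fintype.card E = Fintype.card F ^ 2 := by
    rw [← Nat.card_eq_fintype_card, GaloisField.card p (2 * n) hn0, hn, ← pow_mul, mul_comm]
  obtain ⟨σ⟩ := exists_ringHom (F := E) (K := F) 2 hE.symm
  have hp2 : p % 2 = 1 := (Fact.out : p.Prime).eq_two_or_odd.resolve_left hp
  have hqodd : Fintype.card F % 2 = 1 := by rw [hn, Nat.pow_mod, hp2, one_pow]; rfl
  have hsqr : ∀ d : F, IsSquare (σ d) := by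
    intro d
    by_cases h0 : d = 0
    · rw [h0, map_zero]; exact IsSquare.zero
    · have hchar : ringChar E ≠ 2 := by rw [ringChar.eq E p]; exact hp
      rw [FiniteField.isSquare_iff hchar ((map_ne_zero σ).mpr h0), ← map_pow, hE]
      have h1 : d ^ (Fintype.card F ^ 2 / 2) = 1 := by
        obtain ⟨k, hk⟩ : ∃ k, Fintype.card F = 2 * k + 1 := ⟨Fintype.card F / 2, by omega⟩
        have hd := FiniteField.pow_card_sub_one_eq_one d h0
        rw [hk] at hd ⊢
        rw [show (2 * k + 1) ^ 2 = 2 * ((2 * k + 1 - 1) * (k + 1)) + 1 by rw [Nat.add_sub_cancel]; ring,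
          show (2 * ((2 * k + 1 - 1) * (k + 1)) + 1) / 2 = (2 * k + 1 - 1) * (k + 1) by omega, pow_mul, hd, one_pow]
      rw [h1, map_one]
  obtain ⟨H, -, ⟨e⟩⟩ := exists_pgl_range σ hsqr
  let M' : Subgroup (Matrix.ProjectiveSpecialLinearGroup (Fin 2) E) := (M.map e.symm.toMonoidHom).map H.subtype
  let eM : M ≃* M' := (e.symm.subgroupMap M).trans (Subgroup.equivMapOfInjective _ H.subtype Subtype.val_injective)
  let g : X₀ →* M' := eM.toMonoidHom.comp f
  have hg : Function.Injective g := eM.injective.comp hf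
  let K := g.range.map M'.subtype
  let eK : K ≃* X₀ := (Subgroup.equivMapOfInjective _ M'.subtype Subtype.val_injective).symm.trans
    (MonoidHom.ofInjective hg).symm
  have hKM : K ≤ M' := Subgroup.map_subtype_le _
  have hcomm' : ∃ x y : X₀, ¬ orderOf (x * y * x⁻¹ * y⁻¹) ∣ p := by
    obtain ⟨x, y, h⟩ := hcomm
    exact ⟨x, y, fun hd => hp ((Nat.prime_dvd_prime_iff_eq Nat.prime_two Fact.out).mp (h ▸ hd)).symm⟩
  have hcardE : ∀ L : Subfield E, ∃ j, Nat.card L = p ^ j := fun L => by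
    haveI := Fintype.ofFinite L
    haveI : CharP L p := L.subtype.charP L.subtype.injective p
    obtain ⟨j, -, hj⟩ := FiniteField.card L p
    exact ⟨j, by rw [Nat.card_eq_fintype_card, hj]⟩
  have hfrom : ∀ L : Subfield E, (Nonempty (M' ≃* Matrix.ProjectiveSpecialLinearGroup (Fin 2) L) ∨
      Nonempty (M' ≃* Matrix.ProjGenLinGroup (Fin 2) L)) →
      ∃ q₀ j : ℕ, q₀ = p ^ j ∧ 2 ≤ q₀ ∧ (2 * Nat.card M = q₀ * (q₀ ^ 2 - 1) ∨ Nat.card M = q₀ * (q₀ ^ 2 - 1)) := by
    intro L hL
    haveI := Fintype.ofFinite L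
    obtain ⟨j, hj⟩ := hcardE L
    refine ⟨Nat.card L, j, hj, by rw [Nat.card_eq_fintype_card]; exact Fintype.one_lt_card, ?_⟩
    rw [Nat.card_congr eM.toEquiv, Nat.card_eq_fintype_card (α := L)]
    rcases hL with ⟨⟨h⟩⟩ | ⟨⟨h⟩⟩ <;> rw [Nat.card_congr h.toEquiv]
    · left
      have hLodd : Fintype.card L % 2 = 1 := by
        rw [Nat.card_eq_fintype_card] at hj
        rw [hj, Nat.pow_mod, hp2, one_pow]; rfl
      have h2 : Nat.gcd 2 (Fintype.card L - 1) = 2 := by
        have := Fintype.card_pos (α := L)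
        exact Nat.gcd_eq_left (by omega)
      rw [← Cfsg.Agent.Lib.Classical.card_PSL2_mul, h2]
    · right
      rw [Cfsg.Agent.Lib.Classical.card_PGL, Cfsg.Agent.Lib.Classical.card_SL2]
  rcases overgroup_cases p eK hsq hcomm' hKM with h | h | h | h | ⟨L, -, hL⟩
  · refine Or.inr (Or.inr (Or.inr (hfrom ⊤ (Or.inl ⟨?_⟩))))
    exact ((MulEquiv.subgroupCongr h).trans Subgroup.topEquiv).trans
      (Cfsg.Agent.Lib.Classical.pslCongr (Subfield.topEquiv (K := E)).symm)
  · exact Or.inl (h.map fun e' => eM.trans e')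
  · exact Or.inr (Or.inl (h.map fun e' => eM.trans e'))
  · exact Or.inr (Or.inr (Or.inl (h.map fun e' => eM.trans e')))
  · exact Or.inr (Or.inr (Or.inr (hfrom L hL)))

omit [Fact p.Prime] [CharP F p] in
/-- The trace of an element of order dividing `q₀ ± 1` is fixed by `x ↦ x ^ q₀`. -/
theorem tr_pow_eq_of_order [Fact p.Prime] [CharP F p] {Z : SL2} (hZ : Z ∉ Subgroup.center SL2) {k n : ℕ}
    (hn : n + 1 = p ^ k ∨ n = p ^ k + 1) (h : Z ^ n = 1) : tr Z ^ p ^ k = tr Z := by
  classical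
  let E := AlgebraicClosure F
  obtain ⟨r, hr⟩ : ∃ r : E, r * r - algebraMap F E (tr Z) * r + 1 = 0 := by
    obtain ⟨r, hr⟩ := IsAlgClosed.exists_root (Polynomial.C (1 : E) * Polynomial.X ^ 2 +
      Polynomial.C (-algebraMap F E (tr Z)) * Polynomial.X + Polynomial.C 1)
      (by rw [Polynomial.degree_quadratic one_ne_zero]; decide)
    refine ⟨r, ?_⟩
    simp [Polynomial.IsRoot] at hr
    linear_combination hr
  have hpow : ∀ i : ℕ, ∃ a b : F, ((Z ^ i : SL2) : M2) = a • 1 + b • (Z : M2) ∧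
      r ^ i = algebraMap F E a + algebraMap F E b * r := by
    intro i
    induction i with
    | zero => exact ⟨1, 0, by simp, by simp⟩
    | succ i ih =>
      obtain ⟨a, b, h1, h2⟩ := ih
      refine ⟨-b, a + b * tr Z, ?_, ?_⟩
      · rw [pow_succ, Matrix.SpecialLinearGroup.coe_mul, h1, add_mul, smul_mul_assoc, smul_mul_assoc, one_mul, sq_eq,
          smul_sub, smul_smul, add_smul, neg_smul]
        abel
      · rw [pow_succ, h2, map_neg, map_add, map_mul]
        linear_combination (algebraMap F E b) * hr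
  obtain ⟨a, b, h1, h2⟩ := hpow n
  have hab := Cfsg.Agent.Lib.KnownA.add_smul_injective (not_isScal_of_notMem_center hZ) (a := a) (b := b) (a' := 1)
    (b' := 0) (by rw [← h1, h]; simp)
  rw [hab.1, hab.2, map_one, map_zero, zero_mul, add_zero] at h2
  have hr0 : r ≠ 0 := fun e => by rw [e] at hr; simp at hr
  have ht : algebraMap F E (tr Z) = r + r⁻¹ := by
    apply mul_left_cancel₀ hr0
    rw [mul_add, mul_inv_cancel₀ hr0]
    linear_combination -hr
  apply (algebraMap F E).injective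
  rw [map_pow, ht]
  haveI : CharP E p := (algebraMap F E).charP_iff (algebraMap F E).injective p |>.mp inferInstance
  rw [add_pow_char_pow, inv_pow]
  rcases hn with hn | hn
  · rw [show r ^ p ^ k = r by rw [← hn, pow_succ, h2, one_mul]]
  · rw [show r ^ p ^ k = r⁻¹ from eq_inv_of_mul_eq_one_left (by rw [← pow_succ, ← hn, h2]), inv_inv, add_comm]

include p in
/-- Traces in a copy of `PSL₂(q₀)`. -/
theorem tr_mem_fixedPow (hp : p ≠ 2) {K : Type*} [Field K] [Fintype K] [CharP K p] {k : ℕ}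
    (hK : Fintype.card K = p ^ k) (f : Matrix.ProjectiveSpecialLinearGroup (Fin 2) K →* PSL2) {Z : SL2}
    {z : Matrix.ProjectiveSpecialLinearGroup (Fin 2) K} (hz : f z = toPSL Z) : tr Z ∈ fixedPow p k := by
  classical
  have hp1 : p % 2 = 1 := (Fact.out : p.Prime).eq_two_or_odd.resolve_left hp
  have hK1 : Fintype.card K % 2 = 1 := by rw [hK, Nat.pow_mod, hp1, one_pow]; rfl
  have h1 : (1 : F) ∈ fixedPow p k := one_mem _
  by_cases hZ : Z ∈ Subgroup.center SL2
  · rcases mem_center_iff.mp hZ with rfl | rfl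
    · rw [tr_one']; exact (one_add_one_eq_two (R := F)) ▸ add_mem h1 h1
    · rw [tr_neg, tr_one']; exact (one_add_one_eq_two (R := F)) ▸ neg_mem (add_mem h1 h1)
  have hg : Nat.gcd 2 (Fintype.card K - 1) = 2 := by
    have := Fintype.card_pos (α := K)
    exact Nat.gcd_eq_left (by omega)
  have hord := orderOf_cases p z
  rw [hg] at hord
  have hpow : ∀ m, orderOf z ∣ m → toPSL (Z ^ m) = 1 := fun m hm => by
    rw [map_pow, ← hz, ← map_pow, orderOf_dvd_iff_pow_eq_one.mp hm, map_one]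
  rcases hord with h | h | h
  · have ht : tr Z ^ 2 = 4 := by
      rcases toPSL_eq_one.mp (hpow p h) with e | e
      · exact tr_sq_of_pow_char (p := p) e
      · have := tr_sq_of_pow_char (p := p) (a := -Z) (by
          rw [neg_pow, e, Odd.neg_one_pow (Nat.odd_iff.mpr hp1), neg_one_mul, neg_neg])
        rwa [tr_neg, neg_sq] at this
    obtain ⟨ε, hε, he⟩ := exists_eps ht
    rw [he]
    rcases mul_self_eq_one_iff.mp hε with e | e <;> rw [e]
    · rw [mul_one]; exact (one_add_one_eq_two (R := F)) ▸ add_mem h1 h1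
    · rw [mul_neg, mul_one]; exact (one_add_one_eq_two (R := F)) ▸ neg_mem (add_mem h1 h1)
  all_goals
    have h2 : (Z ^ ((Fintype.card K - 1) / 2) : SL2) * Z ^ ((Fintype.card K - 1) / 2) = 1 ∨
        (Z ^ ((Fintype.card K + 1) / 2) : SL2) * Z ^ ((Fintype.card K + 1) / 2) = 1 := by
      first
      | (left; rcases toPSL_eq_one.mp (hpow _ h) with e | e <;> rw [e] <;> simp)
      | (right; rcases toPSL_eq_one.mp (hpow _ h) with e | e <;> rw [e] <;> simp)
    rw [mem_fixedPow]
    rcases h2 with e | e <;> rw [← pow_add] at e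
    · exact tr_pow_eq_of_order p hZ (Or.inl (by omega)) e
    · exact tr_pow_eq_of_order p hZ (Or.inr (by omega)) e

end Cfsg.Agent.Lib.Geometry.Dickson.PGLMax
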