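import Cfsg.Agent.Lib.Geometry.Dickson.PGLBasic

/-!
Torus normalisers in `PGL₂` are dihedral; subgroups normalising cyclic subgroups.
-/

set_option autoImplicit false
set_option maxHeartbeats 400000

namespace Cfsg.Agent.Lib.Geometry.Dickson.PGLMax

open Matrix
open scoped Matrix MatrixGroups Pointwise
open Cfsg.Agent.Lib.SL2Trace (tr tr_eq tr_conj tr_inv det_eq sq_eq toPSL toPSL_surjective toPSL_eq toPSL_eq_one
  mem_center_iff)
open Cfsg.Agent.Lib.Geometry.Dickson

variable {F : Type*} [Field F]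

local notation "SL2" => Matrix.SpecialLinearGroup (Fin 2) F
local notation "M2" => Matrix (Fin 2) (Fin 2) F
local notation "PSL2" => Matrix.ProjectiveSpecialLinearGroup (Fin 2) F
local notation "PGL2" => Matrix.ProjGenLinGroup (Fin 2) F
local notation "pmk" => (Matrix.ProjGenLinGroup.mk : GL (Fin 2) F →* Matrix.ProjGenLinGroup (Fin 2) F)

/-- The units commuting with `y`. -/
def glCent (y : SL2) : Subgroup (GL (Fin 2) F) :=
  Subgroup.centralizer ({Matrix.SpecialLinearGroup.toGL y} : Set (GL (Fin 2) F))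

theorem mem_glCent {y : SL2} {A : GL (Fin 2) F} : A ∈ glCent y ↔ (A : M2) * (y : M2) = (y : M2) * (A : M2) := by
  rw [glCent, Subgroup.mem_centralizer_singleton_iff]
  constructor
  · intro h
    exact congrArg (fun e : GL (Fin 2) F => (e : M2)) h
  · intro h
    exact Units.ext h

/-- The image of the centraliser. -/
def torusC (y : SL2) : Subgroup PGL2 := (glCent y).map pmk

theorem torusC_le (y : SL2) : torusC y ≤ torusN y := by
  rintro _ ⟨A, hA, rfl⟩
  exact ⟨A, rfl, Or.inl (cj_eq_self_iff.mpr (mem_glCent.mp hA))⟩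

theorem ne_inv_self (h2' : (2 : F) ≠ 0) {y : SL2} (hy : y ∉ Subgroup.center SL2) : y ≠ y⁻¹ := by
  intro h
  have h1 : y * y = 1 := eq_inv_iff_mul_eq_one.mp h
  have h2 := sq_eq y
  rw [show (y : M2) * (y : M2) = 1 from congrArg (fun e : SL2 => (e : M2)) h1, eq_sub_iff_add_eq] at h2
  have ht0 : tr y ≠ 0 := fun e => h2' (by
    rw [e, zero_smul] at h2
    have := congrFun (congrFun h2 0) 0
    simp at this
    linear_combination this)
  refine not_isScal_of_notMem_center hy (Cfsg.Agent.Lib.KnownA.isScal_iff.mpr ⟨(tr y)⁻¹ * 2, ?_⟩)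
  rw [show (y : M2) = (tr y)⁻¹ • (tr y • (y : M2)) by rw [smul_smul, inv_mul_cancel₀ ht0, one_smul], ← h2,
    ← two_smul F (1 : M2), smul_smul]

variable [Fintype F]

theorem isCyclic_torusC {y : SL2} (hy : y ∉ Subgroup.center SL2) (ht : tr y ^ 2 ≠ 4) : IsCyclic (torusC y) := by
  classical
  let E := AlgebraicClosure F
  obtain ⟨r, hr⟩ : ∃ r : E, r * r - algebraMap F E (tr y) * r + 1 = 0 := by
    obtain ⟨r, hr⟩ := IsAlgClosed.exists_root (Polynomial.C (1 : E) * Polynomial.X ^ 2 +
      Polynomial.C (-algebraMap F E (tr y)) * Polynomial.X + Polynomial.C 1)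
      (by rw [Polynomial.degree_quadratic one_ne_zero]; decide)
    refine ⟨r, ?_⟩
    simp [Polynomial.IsRoot] at hr
    linear_combination hr
  set t := algebraMap F E (tr y) with ht'
  set s := t - r with hs
  have hsum : r + s = t := by rw [hs]; ring
  have hne : r ≠ s := fun h => ht ((algebraMap F E).injective (by
    rw [map_pow, ← ht', map_ofNat]
    linear_combination (-4) * hr + (r - s) * (h.trans rfl) + (4 * r - (r - s)) * hsum - (r - s) * h -
      (4 * r - (r - s)) * hsum + (t - 2 * r) * (h ▸ (by rw [hs] : s = t - r) : r = t - r).symm))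
  have hns := not_isScal_of_notMem_center hy
  have hdec : ∀ A ∈ glCent y, ∃ a b : F, ((A : GL (Fin 2) F) : M2) = a • 1 + b • (y : M2) := fun A hA =>
    Cfsg.Agent.Lib.KnownA.commute_eq_add_smul hns (mem_glCent.mp hA)
  choose ca cb hcab using hdec
  have hmul : ∀ A (hA : A ∈ glCent y) B (hB : B ∈ glCent y),
      ca (A * B) (mul_mem hA hB) = ca A hA * ca B hB - cb A hA * cb B hB ∧
      cb (A * B) (mul_mem hA hB) = ca A hA * cb B hB + cb A hA * ca B hB + cb A hA * cb B hB * tr y := by
    intro A hA B hB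
    refine Cfsg.Agent.Lib.KnownA.add_smul_injective hns ?_
    rw [← hcab, Units.val_mul, hcab A hA, hcab B hB]
    simp only [add_mul, mul_add, smul_mul_smul_comm, one_mul, mul_one, sq_eq, smul_sub, smul_smul]
    simp only [sub_smul, add_smul]
    abel
  have heval : ∀ (w : E), w * w - t * w + 1 = 0 → ∀ A (hA : A ∈ glCent y) B (hB : B ∈ glCent y),
      algebraMap F E (ca (A * B) (mul_mem hA hB)) + algebraMap F E (cb (A * B) (mul_mem hA hB)) * w =
        (algebraMap F E (ca A hA) + algebraMap F E (cb A hA) * w) *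
          (algebraMap F E (ca B hB) + algebraMap F E (cb B hB) * w) := by
    intro w hw A hA B hB
    rw [(hmul A hA B hB).1, (hmul A hA B hB).2, map_sub, map_mul, map_mul, map_add, map_add, map_mul, map_mul,
      map_mul, map_mul, ← ht']
    linear_combination (-(algebraMap F E (cb A hA) * algebraMap F E (cb B hB))) * hw
  have hs' : s * s - t * s + 1 = 0 := by rw [hs]; linear_combination hr
  have hnz : ∀ (w : E), w * w - t * w + 1 = 0 → ∀ A (hA : A ∈ glCent y),
      algebraMap F E (ca A hA) + algebraMap F E (cb A hA) * w ≠ 0 := by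
    intro w hw A hA h0
    have h := heval w hw A hA A⁻¹ (inv_mem hA)
    rw [h0, zero_mul] at h
    have h1 : ∀ (hm : A * A⁻¹ ∈ glCent y), ca (A * A⁻¹) hm = 1 ∧ cb (A * A⁻¹) hm = 0 := fun hm =>
      Cfsg.Agent.Lib.KnownA.add_smul_injective hns (by
        rw [← hcab, mul_inv_cancel, Units.val_one, one_smul, zero_smul, add_zero])
    rw [(h1 _).1, (h1 _).2, map_one, map_zero, zero_mul, add_zero] at h
    exact one_ne_zero h
  let φ : glCent y →* E :=
    { toFun := fun A => (algebraMap F E (ca A.1 A.2) + algebraMap F E (cb A.1 A.2) * r) /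
        (algebraMap F E (ca A.1 A.2) + algebraMap F E (cb A.1 A.2) * s)
      map_one' := by
        have h1 : ca (1 : GL (Fin 2) F) (one_mem _) = 1 ∧ cb (1 : GL (Fin 2) F) (one_mem _) = 0 :=
          Cfsg.Agent.Lib.KnownA.add_smul_injective hns (by
            rw [← hcab, Units.val_one, one_smul, zero_smul, add_zero])
        simp only [OneMemClass.coe_one, h1.1, h1.2, map_one, map_zero, zero_mul, add_zero, div_one]
      map_mul' := fun A B => by
        simp only [Subgroup.coe_mul]
        rw [heval r hr _ A.2 _ B.2, heval s hs' _ A.2 _ B.2, mul_div_mul_comm] }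
  have hker : ∀ A : glCent y, φ A = 1 ↔ pmk A.1 = 1 := by
    intro A
    constructor
    · intro h
      have h' := (div_eq_one_iff_eq (hnz s hs' _ A.2)).mp h
      have hb : cb A.1 A.2 = 0 := (algebraMap F E).injective (by
        rw [map_zero]
        exact (mul_eq_zero.mp (show algebraMap F E (cb A.1 A.2) * (r - s) = 0 by linear_combination h')).resolve_right
          (sub_ne_zero.mpr hne))
      exact mk_eq_one_iff.mpr ⟨ca A.1 A.2, by rw [hcab A.1 A.2, hb, zero_smul, add_zero]⟩
    · intro h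
      obtain ⟨c, hc⟩ := mk_eq_one_iff.mp h
      have hb : cb A.1 A.2 = 0 := (Cfsg.Agent.Lib.KnownA.add_smul_injective hns (a' := c) (b' := 0) (by
        rw [← hcab, hc, zero_smul, add_zero])).2
      show (_ : E) / _ = 1
      rw [div_eq_one_iff_eq (hnz s hs' _ A.2), hb, map_zero, zero_mul, zero_mul]
  let g : glCent y →* torusC y := ((Matrix.ProjGenLinGroup.mk).comp (glCent y).subtype).codRestrict _ fun A => ⟨A.1, A.2, rfl⟩
  have hg : Function.Surjective g := by
    rintro ⟨_, A, hA, rfl⟩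
    exact ⟨⟨A, hA⟩, rfl⟩
  have hker' : ∀ A B : glCent y, g A = g B ↔ φ A = φ B := by
    intro A B
    have hmk : g A = g B ↔ pmk (A⁻¹ * B : glCent y).1 = 1 := by
      rw [← inv_mul_eq_one, ← map_inv, ← map_mul]
      exact Subtype.ext_iff
    rw [hmk, ← hker, map_mul]
    have hi : φ A⁻¹ * φ A = 1 := by rw [← map_mul, inv_mul_cancel, map_one]
    constructor
    · intro h
      calc φ A = φ A * (φ A⁻¹ * φ B) := by rw [h, mul_one]
        _ = φ B := by rw [← mul_assoc, mul_comm (φ A), hi, one_mul]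
    · intro h; rw [← h, hi]
  haveI : Finite (torusC y) := Finite.of_surjective g hg
  obtain ⟨inv, hinv⟩ := hg.hasRightInverse
  let ψ : torusC y →* E :=
    { toFun := fun c => φ (inv c)
      map_one' := by rw [← map_one φ, ← hker', hinv, map_one]
      map_mul' := fun a b => by rw [← map_mul, ← hker', hinv, map_mul, hinv, hinv] }
  exact isCyclic_of_subgroup_isDomain ψ (fun a b h => by rw [← hinv a, ← hinv b]; exact (hker' _ _).mpr h)

/-- The torus meets `L` in the torus of `SL₂`. -/
theorem torusC_inf {y : SL2} :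
    torusC y ⊓ pglImage = ((cell ⊤ y).map toPSL).map iota := by
  ext g
  constructor
  · rintro ⟨⟨A, hA, rfl⟩, X, hX⟩
    obtain ⟨c, hc, h⟩ := mk_eq_iff.mp hX
    refine ⟨toPSL X, ⟨X, ⟨mem_centralizer_iff.mpr (sl_ext ?_), Subgroup.mem_top _⟩, rfl⟩, ?_⟩
    · show (X : M2) * (y : M2) = (y : M2) * (X : M2)
      have h' := mem_glCent.mp hA
      rw [h, smul_mul_assoc, mul_smul_comm] at h'
      exact smul_right_injective M2 hc h'
    · exact hX
  · rintro ⟨_, ⟨X, hX, rfl⟩, rfl⟩
    refine ⟨⟨Matrix.SpecialLinearGroup.toGL X, mem_glCent.mpr ?_, rfl⟩, iota_mem _⟩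
    exact congrArg (fun e : SL2 => (e : M2)) (mem_centralizer_iff.mp hX.1)

/-- The torus has order `q ∓ 1`. -/
theorem card_torusC (hodd : Fintype.card F % 2 = 1) {y : SL2} (hy : y ∉ Subgroup.center SL2) (ht : tr y ^ 2 ≠ 4) :
    (IsSplit y ∧ Nat.card (torusC y) = Fintype.card F - 1) ∨
      (¬ IsSplit y ∧ Nat.card (torusC y) = Fintype.card F + 1) := by
  classical
  obtain ⟨d, hd0, hd⟩ := exists_nonsquare hodd
  have hne : ¬ torusC y ≤ pglImage := by
    obtain ⟨a, b, hab⟩ := Cfsg.Agent.Lib.SL2Trace.exists_binary_eq_one (a := d⁻¹) (l := d⁻¹ * tr y) (b := -d⁻¹) (by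
      intro h
      refine ht ?_
      have := congrArg (· * (d * d)) h
      field_simp at this
      linear_combination this)
    have hab' : a ^ 2 + tr y * a * b + b ^ 2 = d := by
      field_simp at hab
      linear_combination hab
    intro hle
    have hdet : ((a • 1 + b • (y : M2) : M2)).det = d := by
      rw [Cfsg.Agent.Lib.KnownA.det_add_smul, show (y : M2).det = 1 from y.2, show (y : M2).trace = tr y from rfl]
      linear_combination hab'
    let A : GL (Fin 2) F := Matrix.GeneralLinearGroup.mkOfDetNeZero _ (hdet ▸ hd0)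
    have hA : A ∈ glCent y := mem_glCent.mpr (by
      show (a • 1 + b • (y : M2)) * (y : M2) = (y : M2) * (a • 1 + b • (y : M2))
      simp [add_mul, mul_add])
    have := mk_mem_pglImage_iff.mp (hle ⟨A, hA, rfl⟩)
    rw [show (A : M2).det = d from hdet] at this
    exact hd this
  have h2 := card_eq_two_mul hne
  rw [torusC_inf, ← Nat.card_congr (Subgroup.equivMapOfInjective _ _ iota_injective).toEquiv] at h2
  have hcard := card_map_toPSL ⊤ le_top (cell ⊤ y) (center_le_cell ⊤ le_top y) le_top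
  have hg2 : Nat.gcd 2 (Fintype.card F - 1) = 2 := by
    have := Fintype.card_pos (α := F)
    exact Nat.gcd_eq_left (by omega)
  by_cases hs : IsSplit y
  · refine Or.inl ⟨hs, ?_⟩
    rw [split_half hy ht hs, hg2] at hcard
    have e := Nat.eq_of_mul_eq_mul_left Nat.card_pos hcard
    omega
  · refine Or.inr ⟨hs, ?_⟩
    rw [nonsplit_half hy ht hs, hg2] at hcard
    have e := Nat.eq_of_mul_eq_mul_left Nat.card_pos hcard
    omega

/-- Torus normalisers are dihedral. -/
theorem torusN_dihedral (hodd : Fintype.card F % 2 = 1) {y : SL2} (hy : y ∉ Subgroup.center SL2) (ht : tr y ^ 2 ≠ 4) :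
    Nonempty (torusN y ≃* DihedralGroup (Nat.card (torusC y))) := by
  haveI : Finite PGL2 := Finite.of_surjective _ Matrix.ProjGenLinGroup.mk_surjective
  haveI := isCyclic_torusC hy ht
  obtain ⟨g, hg, hgc⟩ := exists_inverting hy ht
  have hg' : g * y * g⁻¹ = y⁻¹ := by
    have h2 : g * y * g⁻¹ ∈ (MulAut.conj g) • cell ⊤ y := ⟨y, mem_cell_self ⊤ (Subgroup.mem_top _), rfl⟩
    rw [((mem_cellNorm_iff ⊤).mp hg).2] at h2
    rcases eq_or_eq_inv_of_tr hy ht h2.1 (tr_conj _ _) with h | h
    · exact absurd ⟨mem_centralizer_iff.mpr (mul_inv_eq_iff_eq_mul.mp h), Subgroup.mem_top _⟩ hgc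
    · exact h
  have hg0 : tr g = 0 := tr_zero_of_inverts' ht hg'
  set W : GL (Fin 2) F := Matrix.SpecialLinearGroup.toGL g
  have hW : cj W y = y⁻¹ := by rw [cj_toGL, hg']
  have hWW : pmk W * pmk W = 1 := by
    rw [← map_mul, mk_eq_one_iff]
    refine ⟨-1, ?_⟩
    rw [neg_one_smul]
    exact congrArg (fun e : SL2 => (e : M2)) (sq_of_tr_zero' hg0)
  refine Cfsg.Agent.Lib.Classical.dihedral_of_rot rfl (torusC y).subtype Subtype.val_injective (pmk W)
    (fun u => torusC_le y u.2) ⟨W, rfl, Or.inr hW⟩ hWW ?_ ?_ ?_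
  · rintro ⟨_, A, hA, rfl⟩ h
    have e := mk_cj_invariant (show pmk W = pmk A from h) y
    rw [hW, cj_eq_self_iff.mpr (mem_glCent.mp hA)] at e
    exact ne_inv_self (two_ne hodd) hy e.symm
  · rintro ⟨_, A, hA, rfl⟩
    show pmk W * pmk A * pmk W = (pmk A)⁻¹
    rw [eq_inv_iff_mul_eq_one, ← map_mul, ← map_mul, ← map_mul, mk_eq_one_iff]
    obtain ⟨a, b, hab⟩ := Cfsg.Agent.Lib.KnownA.commute_eq_add_smul (not_isScal_of_notMem_center hy) (mem_glCent.mp hA)
    have hgy : (g : M2) * (y : M2) * (g : M2) = -((y⁻¹ : SL2) : M2) := by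
      have h : (g : M2) * (y : M2) * ((g⁻¹ : SL2) : M2) = ((y⁻¹ : SL2) : M2) := congrArg (fun e : SL2 => (e : M2)) hg'
      rw [inv_of_tr_zero hg0, Matrix.SpecialLinearGroup.coe_neg, mul_neg] at h
      rw [← h, neg_neg]
    have hgg : (g : M2) * (g : M2) = -1 := congrArg (fun e : SL2 => (e : M2)) (sq_of_tr_zero' hg0)
    refine ⟨-(a * a + a * b * tr y + b * b), ?_⟩
    show (g : M2) * (A : M2) * (g : M2) * (A : M2) = _
    rw [hab]
    simp only [mul_add, add_mul, mul_smul_comm, smul_mul_assoc, mul_one, hgg, hgy]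
    simp only [coe_inv_eq, mul_add, add_mul, mul_one, one_mul, neg_mul, mul_smul_comm, smul_mul_assoc, sub_mul, neg_sub,
      smul_sub, sq_eq, smul_neg, smul_smul, smul_add]
    module
  · intro x hx
    obtain ⟨B, rfl, hB⟩ := hx
    rcases hB with hB | hB
    · exact ⟨⟨pmk B, B, mem_glCent.mpr (cj_eq_self_iff.mp hB), rfl⟩, Or.inl rfl⟩
    · refine ⟨⟨pmk (B * W), B * W, mem_glCent.mpr (cj_eq_self_iff.mp ?_), rfl⟩, Or.inr ?_⟩
      · rw [cj_mul, hW, map_inv, hB, inv_inv]
      · show pmk B = pmk (B * W) * pmk W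
        rw [map_mul, mul_assoc, hWW, mul_one]

theorem exists_eigen {A : M2} {c : F} (h : c * c - A.trace * c + A.det = 0) :
    ∃ v : Fin 2 → F, v ≠ 0 ∧ A *ᵥ v = c • v := by
  obtain ⟨v, hv, h'⟩ : ∃ v : Fin 2 → F, v ≠ 0 ∧ (A - c • (1 : M2)) *ᵥ v = 0 := by
    refine Matrix.exists_mulVec_eq_zero_iff.mpr ?_
    rw [Matrix.det_fin_two]
    simp [Matrix.trace_fin_two, Matrix.det_fin_two] at h ⊢
    linear_combination h
  rw [Matrix.sub_mulVec, Matrix.smul_mulVec, Matrix.one_mulVec, sub_eq_zero] at h'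
  exact ⟨v, hv, h'⟩

/-- A matrix with a double eigenvalue has one eigenline. -/
theorem eigen_unique {A : M2} (hA : ¬ Cfsg.Agent.Lib.KnownA.IsScal A) {c : F} (hc : A.trace = 2 * c)
    (hd : A.det = c * c) {v w : Fin 2 → F} (hv : v ≠ 0) (hAv : A *ᵥ v = c • v) {e : F} (hAw : A *ᵥ w = e • w) :
    ∃ k : F, w = k • v := by
  by_cases hw : w = 0
  · exact ⟨0, by rw [hw, zero_smul]⟩
  have he : e = c := by
    have h : A * A = A.trace • A - A.det • 1 := by
      ext a b
      fin_cases a <;> fin_cases b <;>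
        simp [Matrix.mul_apply, Fin.sum_univ_two, Matrix.trace_fin_two, Matrix.det_fin_two] <;> ring
    have h' := congrArg (fun M : M2 => M *ᵥ w) h
    simp only [← Matrix.mulVec_mulVec, hAw, Matrix.mulVec_smul, Matrix.sub_mulVec, Matrix.smul_mulVec,
      Matrix.one_mulVec, smul_smul, hc, hd] at h'
    have h0 : ((e - c) * (e - c)) • w = 0 := by
      rw [show (e - c) * (e - c) = e * e - (2 * c * e - c * c) by ring, sub_smul, sub_smul, h', sub_self]
    exact sub_eq_zero.mp (mul_self_eq_zero.mp ((smul_eq_zero.mp h0).resolve_right hw))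
  subst he
  exact Cfsg.Agent.Lib.Classical.eigenvector_smul_of_not_scalar
    (fun r hr => hA (Cfsg.Agent.Lib.KnownA.isScal_iff.mpr ⟨r, by rw [hr, Matrix.smul_one_eq_diagonal]; rfl⟩)) hv hAv hAw

/-- A subgroup normalising the algebra of a non scalar matrix. -/
theorem normalizes_cases (h5 : 5 ≤ Fintype.card F) (hodd : Fintype.card F % 2 = 1) {M : Subgroup PGL2}
    {A : GL (Fin 2) F} (hA : pmk A ≠ 1)
    (h : ∀ B : GL (Fin 2) F, pmk B ∈ M →
      ((B * A * B⁻¹ : GL (Fin 2) F) : M2) * (A : M2) = (A : M2) * ((B * A * B⁻¹ : GL (Fin 2) F) : M2)) :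
    (∃ v, v ≠ 0 ∧ M ≤ lineStab v) ∨
      ∃ y : SL2, y ∉ Subgroup.center SL2 ∧ tr y ^ 2 ≠ 4 ∧ M ≤ torusN y := by
  classical
  have h2 := two_ne hodd
  have hns : ¬ Cfsg.Agent.Lib.KnownA.IsScal (A : M2) := fun e => hA (mk_eq_one_iff_isScal.mpr e)
  set T := (A : M2).trace
  set D := (A : M2).det
  by_cases hdisc : T * T = 4 * D
  · left
    have h4 : (4 : F) ≠ 0 := by rw [show (4 : F) = 2 * 2 by norm_num]; exact mul_ne_zero h2 h2
    set c := T / 2
    have hc : T = 2 * c := by simp only [c]; field_simp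
    have hcd : D = c * c := mul_left_cancel₀ h4 (by linear_combination -hdisc + (T + 2 * c) * hc)
    obtain ⟨v, hv, hAv⟩ := exists_eigen (A := (A : M2)) (c := c) (by linear_combination hcd - c * hc)
    refine ⟨v, hv, fun g hg => ?_⟩
    obtain ⟨B, rfl⟩ := Matrix.ProjGenLinGroup.mk_surjective g
    rw [mk_mem_lineStab]
    have hcomm := h B hg
    obtain ⟨a, b, hab⟩ := Cfsg.Agent.Lib.KnownA.commute_eq_add_smul hns hcomm
    have hb : b ≠ 0 := by
      intro hb
      rw [hb, zero_smul, add_zero] at hab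
      refine hns (Cfsg.Agent.Lib.KnownA.isScal_iff.mpr ⟨a, ?_⟩)
      have := congrArg (fun e : M2 => ((B⁻¹ : GL (Fin 2) F) : M2) * e * (B : M2)) hab
      simp only [Units.val_mul, mul_smul_comm, smul_mul_assoc, mul_one] at this
      rw [← mul_assoc, ← mul_assoc, ← Units.val_mul, inv_mul_cancel, Units.val_one, one_mul, mul_assoc,
        ← Units.val_mul, inv_mul_cancel, Units.val_one, mul_one] at this
      exact this
    have hconj : (((B * A * B⁻¹ : GL (Fin 2) F) : M2)) *ᵥ ((B : M2) *ᵥ v) = c • ((B : M2) *ᵥ v) := by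
      rw [Matrix.mulVec_mulVec, ← Units.val_mul, inv_mul_cancel_right, Units.val_mul, ← Matrix.mulVec_mulVec, hAv,
        Matrix.mulVec_smul]
    rw [hab, Matrix.add_mulVec, Matrix.smul_mulVec, Matrix.smul_mulVec, Matrix.one_mulVec] at hconj
    have hAw : (A : M2) *ᵥ ((B : M2) *ᵥ v) = ((c - a) / b) • ((B : M2) *ᵥ v) := by
      rw [div_eq_inv_mul, ← smul_smul, sub_smul, ← hconj, add_sub_cancel_left, smul_smul, inv_mul_cancel₀ hb, one_smul]
    obtain ⟨k, hk⟩ := eigen_unique hns hc hcd hv hAv hAw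
    exact ⟨k, hk⟩
  · right
    obtain ⟨k, hk1, hk2⟩ : ∃ k : F, T + 2 * k ≠ 0 ∧ k * k + T * k + D ≠ 0 := by
      by_contra hcon
      push Not at hcon
      let P : Polynomial F := (Polynomial.C 2 * Polynomial.X + Polynomial.C T) *
        (Polynomial.C 1 * Polynomial.X ^ 2 + Polynomial.C T * Polynomial.X + Polynomial.C D)
      have hP : P ≠ 0 := mul_ne_zero (fun e => h2 (by simpa using congrArg (Polynomial.coeff · 1) e))
        (fun e => one_ne_zero (α := F) (by simpa using congrArg (Polynomial.coeff · 2) e))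
      have hdeg : P.natDegree ≤ 3 := by
        simp only [P]; compute_degree
      have hall : ∀ x : F, P.IsRoot x := fun x => by
        simp only [P, Polynomial.IsRoot, Polynomial.eval_mul, Polynomial.eval_add, Polynomial.eval_C,
          Polynomial.eval_X, Polynomial.eval_pow]
        by_cases h' : T + 2 * x = 0
        · rw [add_comm (2 * x), h', zero_mul]
        · rw [show (1 : F) * x ^ 2 + T * x + D = x * x + T * x + D by ring, hcon x h', mul_zero]
      have hle := Polynomial.card_le_degree_of_subset_roots (p := P) (Z := Finset.univ) fun x _ =>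
        (Polynomial.mem_roots hP).mpr (hall x)
      rw [Finset.card_univ] at hle
      omega
    set A' : M2 := (A : M2) + k • 1 with hA'
    have hdet : A'.det = k * k + T * k + D := by
      simp [hA', Matrix.det_fin_two, T, D, Matrix.trace_fin_two]
      ring
    have htr' : A'.trace = T + 2 * k := by
      rw [hA', trace_add, trace_smul, trace_one, Fintype.card_fin, smul_eq_mul]
      push_cast
      ring
    have hsq' : A' * A' = A'.trace • A' - A'.det • 1 := by
      ext a b
      fin_cases a <;> fin_cases b <;>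
        simp [Matrix.mul_apply, Fin.sum_univ_two, Matrix.trace_fin_two, Matrix.det_fin_two] <;> ring
    have hd' : A'.det ≠ 0 := hdet ▸ hk2
    let y : SL2 := ⟨A'.det⁻¹ • (A' * A'), by
      rw [det_smul, det_mul, Fintype.card_fin]; field_simp⟩
    have hcomm : (y : M2) * (A : M2) = (A : M2) * (y : M2) := by
      show (A'.det⁻¹ • (A' * A')) * (A : M2) = (A : M2) * (A'.det⁻¹ • (A' * A'))
      simp only [hA', smul_mul_assoc, mul_smul_comm, add_mul, mul_add, one_mul, mul_one, mul_assoc, smul_add, smul_smul]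
    have hty : tr y = A'.trace * A'.trace / A'.det - 2 := by
      show (A'.det⁻¹ • (A' * A')).trace = _
      rw [trace_smul, hsq', trace_sub, trace_smul, trace_smul, trace_one, Fintype.card_fin, smul_eq_mul, smul_eq_mul,
        smul_eq_mul]
      field_simp
      push_cast
      ring
    have hyC : y ∉ Subgroup.center SL2 := by
      intro hz
      obtain ⟨e, he⟩ := Cfsg.Agent.Lib.KnownA.isScal_iff.mp (show Cfsg.Agent.Lib.KnownA.IsScal (y : M2) by
        rcases mem_center_iff.mp hz with hz | hz <;> rw [hz] <;> simp [Cfsg.Agent.Lib.KnownA.IsScal])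
      change A'.det⁻¹ • (A' * A') = e • 1 at he
      rw [hsq', inv_smul_eq_iff₀ hd', sub_eq_iff_eq_add, smul_smul, ← add_smul] at he
      refine hns (Cfsg.Agent.Lib.KnownA.isScal_iff.mpr ⟨(T + 2 * k)⁻¹ * (A'.det * e + A'.det) - k, ?_⟩)
      rw [sub_smul, eq_sub_iff_add_eq, ← hA', ← smul_smul, ← he, ← htr', smul_smul, inv_mul_cancel₀ (htr' ▸ hk1),
        one_smul]
    have hdisc' : A'.trace * A'.trace - 4 * A'.det = T * T - 4 * D := by rw [htr', hdet]; ring
    have hy4 : tr y ^ 2 ≠ 4 := by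
      intro e
      rw [hty] at e
      rcases mul_eq_zero.mp (show (A'.trace * A'.trace / A'.det - 4) * (A'.trace * A'.trace / A'.det) = 0 by
        linear_combination e) with e | e
      · refine hdisc ?_
        rw [sub_eq_zero, div_eq_iff hd'] at e
        linear_combination e - hdisc'
      · rw [div_eq_zero_iff] at e
        rcases e with e | e
        · exact hk1 (htr' ▸ mul_self_eq_zero.mp e)
        · exact hd' e
    have hns' := not_isScal_of_notMem_center hyC
    obtain ⟨a₀, b₀, hA0⟩ := Cfsg.Agent.Lib.KnownA.commute_eq_add_smul hns' hcomm.symm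
    have hb0 : b₀ ≠ 0 := fun e => hns (Cfsg.Agent.Lib.KnownA.isScal_iff.mpr ⟨a₀, by rw [hA0, e, zero_smul, add_zero]⟩)
    have hyA : (y : M2) = b₀⁻¹ • ((A : M2) - a₀ • 1) := by
      rw [hA0, add_sub_cancel_left, smul_smul, inv_mul_cancel₀ hb0, one_smul]
    have hcjy : ∀ B : GL (Fin 2) F, pmk B ∈ M → cj B y ∈ Subgroup.centralizer ({y} : Set SL2) := by
      intro B hB
      refine mem_centralizer_iff.mpr (sl_ext ?_)
      show (cj B y : M2) * (y : M2) = (y : M2) * (cj B y : M2)
      have e : (cj B y : M2) = b₀⁻¹ • (((B * A * B⁻¹ : GL (Fin 2) F) : M2) - a₀ • 1) := by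
        rw [coe_cj, hyA, mul_smul_comm, smul_mul_assoc, mul_sub, sub_mul, mul_smul_comm, smul_mul_assoc, mul_one,
          Units.val_mul, Units.val_mul, ← Units.val_mul B B⁻¹, mul_inv_cancel, Units.val_one]
      rw [e, hyA]
      simp only [smul_mul_assoc, mul_smul_comm, sub_mul, mul_sub, one_mul, mul_one, h B hB]
      module
    have hM : ∀ g ∈ M, g ∈ torusN y := by
      intro g hg
      obtain ⟨B, rfl⟩ := Matrix.ProjGenLinGroup.mk_surjective g
      exact mk_mem_torusN.mpr (eq_or_eq_inv_of_tr hyC hy4 (hcjy B hg) (tr_cj B y))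
    exact ⟨y, hyC, hy4, hM⟩

end Cfsg.Agent.Lib.Geometry.Dickson.PGLMax
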