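import Cfsg.Agent.Lib.Geometry.Dickson.PGLMain

/-!
Shapes of the maximal subgroups of `PGL₂`.
-/

set_option autoImplicit false
set_option maxHeartbeats 400000

namespace Cfsg.Agent.Lib.Geometry.Dickson.PGLMax

open Matrix
open scoped Pointwise
open scoped Matrix MatrixGroups
open Cfsg.Agent.Lib.SL2Trace (tr tr_eq tr_neg tr_mul_comm sq_eq toPSL toPSL_surjective toPSL_eq toPSL_eq_one
  mem_center_iff)
open Cfsg.Agent.Lib.Geometry.Dickson

variable {F : Type*} [Field F] [Fintype F]

local notation "SL2" => Matrix.SpecialLinearGroup (Fin 2) F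
local notation "PSL2" => Matrix.ProjectiveSpecialLinearGroup (Fin 2) F
local notation "PGL2" => Matrix.ProjGenLinGroup (Fin 2) F
local notation "pmk" => (Matrix.ProjGenLinGroup.mk : GL (Fin 2) F →* Matrix.ProjGenLinGroup (Fin 2) F)

/-- For five points the split torus normaliser is not maximal. -/
theorem split_five (hodd : Fintype.card F % 2 = 1) {M : Subgroup PGL2} (hM : IsCoatom M) (hML : ¬ pglImage ≤ M)
    {y : SL2} (hy : y ∉ Subgroup.center SL2) (ht : tr y ^ 2 ≠ 4) (hs : IsSplit y) (hc : Nat.card (torusC y) = Fintype.card F - 1)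
    (h : M = torusN y) : Fintype.card F ≠ 5 := by
  classical
  intro h5
  haveI : Finite PGL2 := Finite.of_surjective _ Matrix.ProjGenLinGroup.mk_surjective
  obtain ⟨r, hr⟩ := hs
  have hr0 : r ≠ 0 := fun e => by rw [e] at hr; simp at hr
  have h4 : r ^ 4 = 1 := by
    have := FiniteField.pow_card_sub_one_eq_one r hr0
    rwa [h5] at this
  have ht0 : tr y = 0 := by
    rcases mul_eq_zero.mp (show (r ^ 2 - 1) * (r ^ 2 + 1) = 0 by linear_combination h4) with e | e
    · refine absurd ?_ ht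
      have he : tr y * r = 2 := by linear_combination -hr + e
      have : (tr y * r) ^ 2 = 4 := by rw [he]; norm_num
      linear_combination this - (tr y ^ 2) * e
    · exact (mul_eq_zero.mp (show tr y * r = 0 by linear_combination -hr + e)).resolve_right hr0
  obtain ⟨g, hg, hgc⟩ := exists_inverting hy ht
  have hg' : g * y * g⁻¹ = y⁻¹ := by
    have h2 : g * y * g⁻¹ ∈ (MulAut.conj g) • cell ⊤ y := ⟨y, mem_cell_self ⊤ (Subgroup.mem_top _), rfl⟩
    rw [((mem_cellNorm_iff ⊤).mp hg).2] at h2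
    rcases eq_or_eq_inv_of_tr hy ht h2.1 (Cfsg.Agent.Lib.SL2Trace.tr_conj _ _) with h' | h'
    · exact absurd ⟨mem_centralizer_iff.mpr (mul_inv_eq_iff_eq_mul.mp h'), Subgroup.mem_top _⟩ hgc
    · exact h'
  have hg0 : tr g = 0 := tr_zero_of_inverts' ht hg'
  have hgy : g * y = -(y * g) := by
    rw [mul_inv_eq_iff_eq_mul.mp hg', inv_of_tr_zero ht0, neg_mul]
  have hyg : tr (y * g) = 0 := by
    have e := congrArg tr hgy
    rw [tr_neg, tr_mul_comm g y] at e
    exact (mul_eq_zero.mp (show (2 : F) * tr (y * g) = 0 by linear_combination e)).resolve_left (two_ne hodd)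
  set V := Subgroup.closure ({toPSL y, toPSL g} : Set PSL2)
  have hH : Nat.card (below M) = 4 := by
    obtain ⟨d⟩ := torusN_dihedral hodd hy ht
    have h1 : Nat.card M = 8 := by rw [h, Nat.card_congr d.toEquiv, DihedralGroup.nat_card, hc, h5]
    have h2 := card_eq_below (by omega) hodd hM hML
    omega
  have hVle : V ≤ below M := by
    refine (Subgroup.closure_le _).mpr ?_
    rintro z (rfl | rfl) <;> show iota (toPSL _) ∈ M <;> rw [h, iota_toPSL, mk_mem_torusN, cj_toGL]
    · exact Or.inl (mul_inv_cancel_right y y)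
    · exact Or.inr hg'
  have hord : ∀ {z : SL2}, tr z = 0 → orderOf (toPSL z) = 2 := by
    intro z hz
    haveI : Fact (Nat.Prime 2) := ⟨Nat.prime_two⟩
    refine orderOf_eq_prime ?_ fun e => two_ne hodd ?_
    · rw [pow_two, ← map_mul, sq_of_tr_zero' hz]; exact toPSL_eq_one.mpr (Or.inr rfl)
    · rcases toPSL_eq_one.mp e with rfl | rfl
      · rwa [tr_one'] at hz
      · rwa [tr_neg, tr_one', neg_eq_zero] at hz
  have hxV : toPSL y ∈ V := Subgroup.subset_closure (Set.mem_insert _ _)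
  have hgV : toPSL g ∈ V := Subgroup.subset_closure (Set.mem_insert_of_mem _ rfl)
  have hV : V = below M := by
    refine Subgroup.eq_of_le_of_card_ge hVle ?_
    have hdvd := Subgroup.card_dvd_of_le hVle
    rw [hH] at hdvd ⊢
    by_contra hlt
    have hzle : Subgroup.zpowers (toPSL y) ≤ V := Subgroup.zpowers_le.mpr hxV
    have hVz : Subgroup.zpowers (toPSL y) = V := Subgroup.eq_of_le_of_card_ge hzle (by
      rw [Nat.card_zpowers, hord ht0]
      have := Nat.le_of_dvd (by norm_num) hdvd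
      rcases (show Nat.card V = 0 ∨ Nat.card V = 1 ∨ Nat.card V = 2 ∨ Nat.card V = 3 by omega) with e | e | e | e <;>
        rw [e] at hdvd ⊢ <;> omega)
    obtain ⟨i, hi⟩ := hVz.symm ▸ hgV
    have hy2 := hord ht0
    have hi' : (toPSL y) ^ i = 1 ∨ (toPSL y) ^ i = toPSL y := by
      rw [← zpow_mod_orderOf, hy2]
      rcases Int.emod_two_eq_zero_or_one i with e | e <;> simp [e]
    rcases hi' with e | e
    · have := hord hg0
      rw [← hi] at this
      simp only at this
      rw [e, orderOf_one] at this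
      omega
    · have hyy : toPSL y = toPSL g := e.symm.trans hi
      rcases toPSL_eq.mp hyy with e' | e' <;> rw [e'] at hyg
      · rw [sq_of_tr_zero' ht0, tr_neg, tr_one'] at hyg; exact two_ne hodd (neg_eq_zero.mp hyg)
      · rw [mul_neg, sq_of_tr_zero' ht0, neg_neg, tr_one'] at hyg; exact two_ne hodd hyg
  have h3 := three_dvd_of_four (by omega) hodd hM hML ht0 hg0 hyg fun a ha z hz => by
    rw [show Subgroup.closure ({toPSL y, toPSL g} : Set PSL2) = below M from hV] at hz ⊢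
    exact below_conj ha hz
  omega

/-- The shapes. -/
theorem pgl_max_shapes (h5 : 5 ≤ Fintype.card F) (hodd : Fintype.card F % 2 = 1) {M : Subgroup PGL2} (hM : IsCoatom M)
    (hML : ¬ pglImage ≤ M) :
    Nat.card M = Fintype.card F * (Fintype.card F - 1) ∨
    (Fintype.card F ≠ 5 ∧ Nonempty (M ≃* DihedralGroup (Fintype.card F - 1))) ∨
    Nonempty (M ≃* DihedralGroup (Fintype.card F + 1)) ∨
    ((Fintype.card F).Prime ∧ (Fintype.card F % 8 = 3 ∨ Fintype.card F % 8 = 5) ∧ Nonempty (M ≃* Equiv.Perm (Fin 4))) ∨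
    (∃ (F₀ : Type) (_ : Field F₀) (_ : Fintype F₀) (r : ℕ), r.Prime ∧ Odd r ∧ Fintype.card F = Fintype.card F₀ ^ r ∧
        Nonempty (M ≃* Matrix.ProjGenLinGroup (Fin 2) F₀)) := by
  rcases pgl_max_cases h5 hodd hM hML with ⟨v, hv, h⟩ | ⟨y, hy, ht, h⟩ | ⟨hq, h8, e⟩ | ⟨K, g₀, r, hr, hro, hc, h⟩
  · exact Or.inl (by rw [h, card_lineStab hv])
  · obtain ⟨d⟩ := torusN_dihedral hodd hy ht
    rcases card_torusC hodd hy ht with ⟨hs, hcc⟩ | ⟨-, hcc⟩
    · exact Or.inr (Or.inl ⟨split_five hodd hM hML hy ht hs hcc h, ⟨(MulEquiv.subgroupCongr h).trans (hcc ▸ d)⟩⟩)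
    · exact Or.inr (Or.inr (Or.inl ⟨(MulEquiv.subgroupCongr h).trans (hcc ▸ d)⟩))
  · exact Or.inr (Or.inr (Or.inr (Or.inl ⟨hq, h8, e⟩)))
  · obtain ⟨p, hp⟩ := CharP.exists F
    obtain ⟨n, hpr, -⟩ := FiniteField.card F p
    haveI : Fact p.Prime := ⟨hpr⟩
    obtain ⟨K', iK, iK', m, -, -, hcard, ⟨e⟩⟩ := exists_small_field p K
    refine Or.inr (Or.inr (Or.inr (Or.inr ⟨K', iK, iK', r, hr, hro, by rw [hcard, hc], ⟨?_⟩⟩)))
    exact (MulEquiv.subgroupCongr h).trans ((Subgroup.equivMapOfInjective (pglSub K)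
      (MulAut.conj g₀).toMonoidHom (MulAut.conj g₀).injective).symm.trans
      ((MonoidHom.ofInjective (pglSubHom_injective K)).symm.trans (pglCongr e.symm)))

end Cfsg.Agent.Lib.Geometry.Dickson.PGLMax
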