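import Cfsg.Agent.Lib.Geometry.Dickson.MaxClass
import Cfsg.Agent.Lib.Geometry.Dickson.FourGroups

/-!
Redundant Sylow subgroups of `PSL₂(q)` and `SL₂(q)`.
-/

set_option autoImplicit false

namespace Cfsg.Agent.Lib.Geometry.Dickson

open Matrix
open scoped Matrix MatrixGroups Pointwise
open Cfsg.Agent.Lib.SL2Trace (tr toPSL toPSL_surjective toPSL_eq toPSL_eq_one mem_center_iff)

/-- Some Sylow `p`-subgroup is covered by the others. -/
def HasRedundant (p : ℕ) (G : Type*) [Group G] : Prop :=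
  ∃ Q : Sylow p G, ∀ x : G, (∃ k : ℕ, orderOf x = p ^ k) → ∃ P : Sylow p G, P ≠ Q ∧ x ∈ P

/-- An element in a single Sylow subgroup has conjugates that are likewise. -/
theorem not_hasRedundant_of_unique {p : ℕ} [Fact p.Prime] {G : Type*} [Group G] [Finite G] {x : G}
    {Q₀ : Sylow p G} (hx : x ∈ Q₀) (h : ∀ P : Sylow p G, x ∈ P → P = Q₀) : ¬ HasRedundant p G := by
  rintro ⟨Q, hQ⟩
  obtain ⟨g, rfl⟩ := MulAction.exists_smul_eq G Q₀ Q
  have hmem : ∀ (P : Sylow p G) (y : G), y ∈ (g • P) ↔ g⁻¹ * y * g ∈ P := fun P y => by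
    rw [← SetLike.mem_coe, Sylow.coe_smul, Set.mem_smul_set_iff_inv_smul_mem]
    simp [MulAut.smul_def]
  have hgx : g * x * g⁻¹ ∈ g • Q₀ := (hmem _ _).mpr (by simpa [mul_assoc] using hx)
  obtain ⟨P, hP, hxP⟩ := hQ (g * x * g⁻¹)
    (IsPGroup.iff_orderOf.mp Q₀.2 ⟨x, hx⟩ |>.imp fun k hk => by
      rw [← hk, ← Subgroup.orderOf_coe]
      exact (orderOf_injective (MulAut.conj g).toMonoidHom (MulAut.conj g).injective x))
  refine hP ?_
  rw [← inv_smul_eq_iff]
  apply h
  rw [← SetLike.mem_coe, Sylow.coe_smul, Set.mem_smul_set_iff_inv_smul_mem]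
  simpa [MulAut.smul_def, mul_assoc] using hxP

/-- Redundancy is insensitive to central quotients. -/
theorem hasRedundant_congr {p : ℕ} [Fact p.Prime] {G H : Type*} [Group G] [Group H] [Finite G] (π : G →* H)
    (hπ : Function.Surjective π) (hker : π.ker ≤ Subgroup.center G) : HasRedundant p G ↔ HasRedundant p H := by
  haveI : Finite H := Finite.of_surjective π hπ
  have hbij : Function.Bijective (fun P : Sylow p G => P.mapSurjective hπ) := by
    refine ⟨fun P P' h => ?_, Sylow.mapSurjective_surjective hπ p⟩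
    obtain ⟨g, rfl⟩ := MulAction.exists_smul_eq G P P'
    refine (Sylow.smul_eq_iff_mem_normalizer.mpr ?_).symm
    show g ∈ Subgroup.normalizer ((P : Subgroup G) : Set G)
    rw [Subgroup.mem_normalizer_iff]
    have hsub : ∀ y : G, y ∈ P → g * y * g⁻¹ ∈ P := by
      intro y hy
      have h1 : π (g * y * g⁻¹) ∈ (g • P).mapSurjective hπ := by
        refine ⟨g * y * g⁻¹, ?_, rfl⟩
        rw [Sylow.coe_subgroup_smul]
        exact Subgroup.smul_mem_pointwise_smul y (MulAut.conj g) _ hy
      rw [show (g • P).mapSurjective hπ = P.mapSurjective hπ from h.symm] at h1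
      obtain ⟨z, hz, e⟩ := h1
      -- a `p`-element commuting with the central difference
      set c := z⁻¹ * (g * y * g⁻¹) with hc
      have hcZ : c ∈ Subgroup.center G := hker (by rw [MonoidHom.mem_ker, hc, map_mul, map_inv, e, inv_mul_cancel])
      obtain ⟨i, hi⟩ := P.2 ⟨z, hz⟩
      obtain ⟨j, hj⟩ := P.2 ⟨y, hy⟩
      have hi' : z ^ p ^ i = 1 := congrArg Subtype.val hi
      have hj' : (g * y * g⁻¹) ^ p ^ j = 1 := by
        rw [conj_pow, show y ^ p ^ j = 1 from congrArg Subtype.val hj, mul_one, mul_inv_cancel]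
      have hcomm : Commute z⁻¹ (g * y * g⁻¹) := by
        have hzc : Commute z c := (Subgroup.mem_center_iff.mp hcZ z)
        have e' : g * y * g⁻¹ = z * c := by rw [hc, mul_inv_cancel_left]
        rw [e']
        exact ((Commute.refl z).inv_left).mul_right hzc.inv_left
      have hcp : c ^ p ^ (i + j) = 1 := by
        rw [hc, hcomm.mul_pow, inv_pow, pow_add, pow_mul, hi', one_pow, inv_one, one_mul, mul_comm,
          pow_mul, hj', one_pow]
      have hcP : c ∈ P := by
        have hle : IsPGroup p (Subgroup.zpowers c) := by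
          refine fun x => ⟨i + j, ?_⟩
          obtain ⟨k, hk⟩ := x.2
          refine Subtype.ext ?_
          rw [Subgroup.coe_pow, ← hk, ← zpow_natCast, ← _root_.zpow_mul, mul_comm, _root_.zpow_mul, zpow_natCast, hcp,
            _root_.one_zpow, Subgroup.coe_one]
        haveI : (Subgroup.zpowers c).Normal := ⟨fun x hx w => by
          rwa [Subgroup.mem_center_iff.mp ((Subgroup.zpowers_le.mpr hcZ) hx) w, mul_inv_cancel_right]⟩
        exact hle.le_sylow_of_normal P (Subgroup.mem_zpowers c)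
      have : g * y * g⁻¹ = z * c := by rw [hc, mul_inv_cancel_left]
      rw [this]
      exact P.toSubgroup.mul_mem hz hcP
    intro y
    refine ⟨hsub y, fun hy => ?_⟩
    have hfin : ∀ n : ℕ, ∀ w : G, w ∈ P → g ^ n * w * (g ^ n)⁻¹ ∈ P := by
      intro n
      induction n with
      | zero => simp
      | succ n ih => intro w hw; simpa [pow_succ', mul_assoc] using hsub _ (ih w hw)
    have := hfin (orderOf g - 1) _ hy
    rw [pow_sub g (orderOf_pos g), pow_orderOf_eq_one, one_mul, pow_one, inv_inv] at this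
    exact (by simpa [mul_assoc] using this : y ∈ P)
  have hmem : ∀ (P : Sylow p G) (x : G), (∃ k, x ^ p ^ k = 1) → π x ∈ P.mapSurjective hπ → x ∈ P := by
    rintro P x ⟨j, hj⟩ ⟨z, hz, e⟩
    obtain ⟨i, hi⟩ := P.2 ⟨z, hz⟩
    have hi' : z ^ p ^ i = 1 := congrArg Subtype.val hi
    set c := z⁻¹ * x with hc
    have hcZ : c ∈ Subgroup.center G := hker (by rw [MonoidHom.mem_ker, hc, map_mul, map_inv, e, inv_mul_cancel])
    have hzc : Commute z c := Subgroup.mem_center_iff.mp hcZ z
    have hx' : x = z * c := by rw [hc, mul_inv_cancel_left]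
    have hcp : c ^ p ^ (i + j) = 1 := by
      have h1 : (z * c) ^ p ^ (i + j) = 1 := by rw [← hx', pow_add, mul_comm, pow_mul, hj, one_pow]
      rw [hzc.mul_pow, pow_add, pow_mul, hi', one_pow, one_mul] at h1
      rwa [pow_add]
    have hle : IsPGroup p (Subgroup.zpowers c) := by
      refine fun y => ⟨i + j, ?_⟩
      obtain ⟨k, hk⟩ := y.2
      refine Subtype.ext ?_
      rw [Subgroup.coe_pow, ← hk, ← zpow_natCast, ← _root_.zpow_mul, mul_comm, _root_.zpow_mul, zpow_natCast, hcp,
        _root_.one_zpow, Subgroup.coe_one]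
    haveI : (Subgroup.zpowers c).Normal := ⟨fun y hy w => by
      rwa [Subgroup.mem_center_iff.mp ((Subgroup.zpowers_le.mpr hcZ) hy) w, mul_inv_cancel_right]⟩
    rw [hx']
    exact P.toSubgroup.mul_mem hz (hle.le_sylow_of_normal P (Subgroup.mem_zpowers c))
  have hdvd : ∀ x : G, (∃ k, orderOf x = p ^ k) → ∃ k, orderOf (π x) = p ^ k := by
    rintro x ⟨k, hk⟩
    obtain ⟨i, -, hi⟩ := (Nat.dvd_prime_pow Fact.out).mp (hk ▸ orderOf_map_dvd π x)
    exact ⟨i, hi⟩
  constructor
  · rintro ⟨Q, hQ⟩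
    refine ⟨Q.mapSurjective hπ, fun y hy => ?_⟩
    have hyz : IsPGroup p (Subgroup.zpowers y) := by
      obtain ⟨k, hk⟩ := hy
      exact IsPGroup.of_card (by rw [Nat.card_zpowers]; exact hk)
    obtain ⟨P₁, hP₁⟩ := hyz.exists_le_sylow
    obtain ⟨P₀, hP₀⟩ := hbij.2 P₁
    have hy₀ : y ∈ P₀.mapSurjective hπ := by
      rw [show P₀.mapSurjective hπ = P₁ from hP₀]; exact hP₁ (Subgroup.mem_zpowers y)
    obtain ⟨x, hx, rfl⟩ := hy₀
    obtain ⟨P, hP, hxP⟩ := hQ x (IsPGroup.iff_orderOf.mp P₀.2 ⟨x, hx⟩ |>.imp fun k hk => by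
      rwa [Subgroup.orderOf_mk] at hk)
    exact ⟨P.mapSurjective hπ, fun e => hP (hbij.1 e), ⟨x, hxP, rfl⟩⟩
  · rintro ⟨Q', hQ'⟩
    obtain ⟨Q, rfl⟩ := hbij.2 Q'
    refine ⟨Q, fun x hx => ?_⟩
    obtain ⟨P', hP', hxP'⟩ := hQ' (π x) (hdvd x hx)
    obtain ⟨P, rfl⟩ := hbij.2 P'
    exact ⟨P, fun e => hP' (by rw [e]), hmem P x (hx.imp fun k hk => by rw [← hk]; exact pow_orderOf_eq_one x) hxP'⟩

variable {F : Type*} [Field F] [Fintype F]

local notation "SL2" => Matrix.SpecialLinearGroup (Fin 2) F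
local notation "PSL2" => Matrix.ProjectiveSpecialLinearGroup (Fin 2) F

theorem orderOf_dvd_of_mem {G : Type*} [Group G] {P : Subgroup G} {x : G} (hx : x ∈ P) :
    orderOf x ∣ Nat.card P := Subgroup.orderOf_dvd_natCard P hx

/-- No Sylow subgroup in the defining characteristic is redundant. -/
theorem not_hasRedundant_char (p : ℕ) [Fact p.Prime] [CharP F p] : ¬ HasRedundant p PSL2 := by
  have huZ : upper (1 : F) ∉ Subgroup.center SL2 := upper_notMem_center one_ne_zero
  have ht : tr (upper (1 : F)) ^ 2 = 4 := by rw [tr_upper]; norm_num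
  obtain ⟨S, hS⟩ := exists_sylow_cell p huZ ht
  have hxS : toPSL (upper (1 : F)) ∈ S := by
    show toPSL (upper (1 : F)) ∈ (S : Subgroup PSL2)
    rw [hS]
    exact ⟨_, mem_cell_self ⊤ (Subgroup.mem_top _), rfl⟩
  refine not_hasRedundant_of_unique hxS fun P hP => ?_
  obtain ⟨g, rfl⟩ := MulAction.exists_smul_eq PSL2 S P
  obtain ⟨G, rfl⟩ := toPSL_surjective g
  rw [← SetLike.mem_coe, Sylow.coe_smul, Set.mem_smul_set_iff_inv_smul_mem, MulAut.smul_def,
    MulAut.conj_inv_apply, SetLike.mem_coe, ← map_inv, ← map_mul, ← map_mul] at hP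
  obtain ⟨w, hw, e⟩ := (hS ▸ hP : toPSL (G⁻¹ * upper 1 * G) ∈ (cell ⊤ (upper (1 : F))).map toPSL)
  have hconjZ : G⁻¹ * upper 1 * G ∉ Subgroup.center SL2 := by
    simpa using conj_notMem_center huZ G⁻¹
  have hmem : G⁻¹ * upper 1 * G ∈ cell ⊤ (upper (1 : F)) := by
    rcases toPSL_eq.mp e with h | h
    · rw [h]; exact hw
    · rw [h, neg_eq_neg_one_mul]
      exact Subgroup.mul_mem _ (center_le_cell ⊤ le_top _ (mem_center_iff.mpr (Or.inr rfl))) hw
  have hcell := cell_eq ⊤ huZ hconjZ hmem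
  refine Sylow.ext (Eq.trans ?_ hS.symm)
  rw [Sylow.coe_subgroup_smul, hS]
  have hG := cell_conj ⊤ (Subgroup.mem_top G) (G⁻¹ * upper (1 : F) * G)
  rw [show G * (G⁻¹ * upper (1 : F) * G) * G⁻¹ = upper 1 by group, hcell] at hG
  conv_rhs => rw [← hG]
  ext y
  obtain ⟨Y, rfl⟩ := toPSL_surjective y
  simp only [Subgroup.mem_pointwise_smul_iff_inv_smul_mem, MulAut.smul_def, MulAut.conj_inv_apply,
    Subgroup.mem_map]
  constructor
  · rintro ⟨w, hw, hwe⟩
    exact ⟨G * w * G⁻¹, by simpa [mul_assoc] using hw,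
      by rw [map_mul, map_mul, map_inv, hwe]; group⟩
  · rintro ⟨w, hw, hwe⟩
    exact ⟨G⁻¹ * w * G, hw, by rw [map_mul, map_mul, map_inv, hwe]⟩

/-- No Sylow subgroup for an odd prime is redundant. -/
theorem not_hasRedundant_odd (p : ℕ) [Fact p.Prime] (hp : p ≠ 2) (hq : ¬ p ∣ Fintype.card F) :
    ¬ HasRedundant p PSL2 := by
  have hP : Nat.Prime p := Fact.out
  obtain ⟨x, hx⟩ : ∃ x : PSL2, orderOf x = p ^ (Nat.card PSL2).factorization p := by
    by_cases hdvd : p ∣ Nat.card PSL2
    swap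
    · exact ⟨1, by rw [orderOf_one, Nat.factorization_eq_zero_of_not_dvd hdvd, pow_zero]⟩
    have hc := card_PSL2 (F := F)
    set d := Nat.gcd 2 (Fintype.card F - 1) with hd
    have hd2 : d ∣ 2 := Nat.gcd_dvd_left _ _
    have hpd : ¬ p ∣ d := fun h => hp ((Nat.prime_dvd_prime_iff_eq hP Nat.prime_two).mp (h.trans hd2))
    have hpg : p ∣ Fintype.card F * ((Fintype.card F - 1) * (Fintype.card F + 1)) :=
      hc ▸ Dvd.dvd.mul_left hdvd d
    have hq1 := Fintype.one_lt_card (α := F)
    have key : ∀ m k : ℕ, d * m = k → p ∣ k → (∃ x : PSL2, orderOf x = m) →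
        (∀ e, p ^ e ∣ Fintype.card F * ((Fintype.card F - 1) * (Fintype.card F + 1)) → p ^ e ∣ k) →
        ∃ x : PSL2, orderOf x = p ^ (Nat.card PSL2).factorization p := by
      intro m k hmk hpk hx hall
      obtain ⟨x, hxm⟩ := hx
      have h1 := hall _ (hc ▸ Dvd.dvd.mul_left (Nat.ordProj_dvd (Nat.card PSL2) p) d)
      rw [← hmk] at h1
      have h2 : p ^ (Nat.card PSL2).factorization p ∣ m :=
        (Nat.Coprime.pow_left _ ((Nat.Prime.coprime_iff_not_dvd hP).mpr hpd)).dvd_of_dvd_mul_left h1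
      exact ⟨x ^ (orderOf x / p ^ (Nat.card PSL2).factorization p),
        orderOf_pow_orderOf_div (orderOf_pos x).ne' (hxm ▸ h2)⟩
    have hcp : ∀ e, ∀ {n : ℕ}, ¬ p ∣ n → Nat.Coprime (p ^ e) n := fun e {n} h =>
      Nat.Coprime.pow_left _ ((Nat.Prime.coprime_iff_not_dvd hP).mpr h)
    have hboth : p ∣ Fintype.card F - 1 → ¬ p ∣ Fintype.card F + 1 := fun h h' => by
      have := Nat.dvd_sub h' h
      rw [show Fintype.card F + 1 - (Fintype.card F - 1) = 2 by omega] at this
      exact hp ((Nat.prime_dvd_prime_iff_eq hP Nat.prime_two).mp this)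
    rcases (hP.dvd_mul.mp hpg).resolve_left hq |> hP.dvd_mul.mp with h | h
    · have h4 : 4 ≤ Fintype.card F := by
        have := Nat.le_of_dvd (by omega) h
        have := hP.two_le
        omega
      obtain ⟨y, hs, ht, hy⟩ := exists_split h4
      obtain ⟨-, x, -, hx⟩ := torusNorm_data hy ht (split_half hy ht hs)
      exact key _ (Fintype.card F - 1) (Nat.mul_div_cancel' (hd ▸ Nat.gcd_dvd_right _ _)) h ⟨x, hx⟩
        fun e he => (hcp e (hboth h)).dvd_of_dvd_mul_right ((hcp e hq).dvd_of_dvd_mul_left he)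
    · obtain ⟨y, hs, ht, hy⟩ := exists_nonsplit (F := F)
      obtain ⟨-, x, -, hx⟩ := torusNorm_data hy ht (nonsplit_half hy ht hs)
      refine key _ (Fintype.card F + 1) (Nat.mul_div_cancel' ?_) h ⟨x, hx⟩
        fun e he => (hcp e (fun h' => hboth h' h)).dvd_of_dvd_mul_left ((hcp e hq).dvd_of_dvd_mul_left he)
      rw [show Fintype.card F + 1 = (Fintype.card F - 1) + 2 by omega]
      exact Nat.dvd_add (hd ▸ Nat.gcd_dvd_right _ _) hd2
  have hz : IsPGroup p (Subgroup.zpowers x) := IsPGroup.of_card (by rw [Nat.card_zpowers]; exact hx)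
  obtain ⟨Q, hQ⟩ := hz.exists_le_sylow
  have heq : ∀ P : Sylow p PSL2, x ∈ P → Subgroup.zpowers x = (P : Subgroup PSL2) := fun P hP => by
    refine Subgroup.eq_of_le_of_card_ge (Subgroup.zpowers_le.mpr hP) ?_
    rw [P.card_eq_multiplicity, Nat.card_zpowers, hx]
  exact not_hasRedundant_of_unique (hQ (Subgroup.mem_zpowers x))
    fun P hP' => Sylow.ext ((heq P hP').symm.trans (heq Q (hQ (Subgroup.mem_zpowers x))))

/-- The redundant Sylow subgroups of `PSL₂`. -/
theorem hasRedundant_iff (p : ℕ) [Fact p.Prime] :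
    HasRedundant p PSL2 ↔ (p = 2 ∧ (¬ ∃ k : ℕ, Fintype.card F + 1 = 2 ^ k) ∧ (¬ ∃ k : ℕ, Fintype.card F = 2 ^ k) ∧
      ¬ ∃ k : ℕ, Fintype.card F = 2 ^ k + 1) := by
  classical
  obtain ⟨c, hc⟩ := CharP.exists F
  obtain ⟨n, hcp, hn⟩ := FiniteField.card F c
  haveI : Fact c.Prime := ⟨hcp⟩
  by_cases hpc : p = c
  · subst hpc
    exact iff_of_false (not_hasRedundant_char p) fun ⟨h2, _, h, _⟩ => h ⟨n, h2 ▸ hn⟩
  have hnq : ¬ p ∣ Fintype.card F := fun h => hpc
    ((Nat.prime_dvd_prime_iff_eq Fact.out hcp).mp ((Fact.out : p.Prime).dvd_of_dvd_pow (hn ▸ h)))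
  by_cases hp : p = 2
  swap
  · exact iff_of_false (not_hasRedundant_odd p hp hnq) fun h => hp h.1
  subst hp
  have hodd : Fintype.card F % 2 = 1 := by omega
  have hq1 := Fintype.one_lt_card (α := F)
  have hdvd : 2 ∣ Nat.card PSL2 := by
    have h := card_PSL2 (F := F)
    rw [Nat.gcd_eq_left (show 2 ∣ Fintype.card F - 1 by omega)] at h
    obtain ⟨a, ha⟩ : 2 ∣ Fintype.card F - 1 := by omega
    obtain ⟨b, hb⟩ : 2 ∣ Fintype.card F + 1 := by omega
    rw [ha, hb] at h
    exact ⟨Fintype.card F * (a * b), Nat.eq_of_mul_eq_mul_left two_pos (h.trans (by ring))⟩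
  obtain ⟨x₀, hx₀⟩ := exists_prime_orderOf_dvd_card' 2 hdvd
  obtain ⟨m, hm2, hm0, hmq, -, ⟨e⟩⟩ := invol_data hodd hx₀
  haveI : NeZero m := ⟨hm0⟩
  set N := Subgroup.centralizer ({x₀} : Set PSL2) with hN
  have hcN : Nat.card N = 2 * m := by rw [Nat.card_congr e.toEquiv, DihedralGroup.nat_card]
  -- the centraliser contains a Sylow subgroup
  have hpart : ∀ j : ℕ, 2 ^ j ∣ Nat.card PSL2 → 2 ^ j ∣ 2 * m := by
    intro j hj
    have h := card_PSL2 (F := F)
    rw [Nat.gcd_eq_left (show 2 ∣ Fintype.card F - 1 by omega)] at h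
    have h' : ∃ o : ℕ, o % 2 = 1 ∧ Nat.card PSL2 = 2 * m * o := by
      rcases hmq with hmq | hmq
      · refine ⟨Fintype.card F * (m + 1), Nat.odd_iff.mp ((Nat.odd_iff.mpr hodd).mul (Nat.odd_iff.mpr (by omega))), ?_⟩
        rw [show Fintype.card F - 1 = 2 * m by omega, show Fintype.card F + 1 = 2 * (m + 1) by omega] at h
        exact Nat.eq_of_mul_eq_mul_left two_pos (h.trans (by ring))
      · refine ⟨Fintype.card F * (m - 1), Nat.odd_iff.mp ((Nat.odd_iff.mpr hodd).mul (Nat.odd_iff.mpr (by omega))), ?_⟩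
        rw [show Fintype.card F - 1 = 2 * (m - 1) by omega, show Fintype.card F + 1 = 2 * m by omega] at h
        exact Nat.eq_of_mul_eq_mul_left two_pos (h.trans (by ring))
    obtain ⟨o, ho, ho'⟩ := h'
    refine (Nat.Coprime.pow_left _ (Nat.coprime_two_left.mpr (Nat.odd_iff.mpr ho))).dvd_of_dvd_mul_right (n := o) ?_
    rwa [← ho']
  have hsyl : ∀ S : Sylow 2 N, ∃ P : Sylow 2 PSL2, (P : Subgroup PSL2) = (S : Subgroup N).map N.subtype := by
    intro S
    refine ⟨Sylow.ofCard _ ?_, Sylow.coe_ofCard _ _⟩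
    rw [← Nat.card_congr (Subgroup.equivMapOfInjective _ N.subtype N.subtype_injective).toEquiv,
      S.card_eq_multiplicity]
    refine congrArg _ (le_antisymm ?_ ?_)
    · exact (Nat.factorization_le_iff_dvd Nat.card_pos.ne' Nat.card_pos.ne').mpr
        (Subgroup.card_subgroup_dvd_card N) 2
    · refine (Nat.Prime.pow_dvd_iff_le_factorization Nat.prime_two Nat.card_pos.ne').mp ?_
      rw [hcN]
      exact hpart _ (Nat.ordProj_dvd _ _)
  by_cases hr : ∃ k, m = 2 ^ k
  · -- the centraliser is a Sylow subgroup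
    obtain ⟨k, hk⟩ := hr
    refine iff_of_false ?_ ?_
    swap
    · rintro ⟨-, h1, -, h3⟩
      rcases hmq with hmq | hmq
      · exact h3 ⟨k + 1, by rw [pow_succ]; omega⟩
      · exact h1 ⟨k + 1, by rw [pow_succ]; omega⟩
    have hNp : IsPGroup 2 N := IsPGroup.of_card (n := k + 1) (by rw [hcN, hk, pow_succ]; ring)
    obtain ⟨x, hx, hxm, hxr⟩ : ∃ x, ∃ hx : x ∈ N, orderOf x = m ∧
        (⟨x, hx⟩ : N) = e.symm (DihedralGroup.r 1) :=
      ⟨(e.symm (DihedralGroup.r 1) : N), (e.symm (DihedralGroup.r 1)).2, by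
        rw [Subgroup.orderOf_coe, MulEquiv.orderOf_eq, DihedralGroup.orderOf_r_one], rfl⟩
    obtain ⟨Q, hQ⟩ := hNp.exists_le_sylow
    have hQN : (Q : Subgroup PSL2) = N := by
      refine (Subgroup.eq_of_le_of_card_ge hQ ?_).symm
      refine Nat.le_of_dvd Nat.card_pos ?_
      rw [Q.card_eq_multiplicity, hcN]
      exact hpart _ (Nat.ordProj_dvd _ _)
    refine not_hasRedundant_of_unique (x := x) (Q₀ := Q) (hQ hx) fun P hP => ?_
    have hcP : Nat.card (P : Subgroup PSL2) = 2 * m := by
      rw [← hcN, ← hQN, P.card_eq_multiplicity, Q.card_eq_multiplicity]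
    set C := (Subgroup.zpowers x).subgroupOf (P : Subgroup PSL2) with hC
    have hCle : Subgroup.zpowers x ≤ (P : Subgroup PSL2) := Subgroup.zpowers_le.mpr hP
    have hCi : C.index = 2 := by
      have h := C.card_mul_index
      rw [hC, Nat.card_congr (Subgroup.subgroupOfEquivOfLe hCle).toEquiv, Nat.card_zpowers, hxm, hcP] at h
      exact Nat.eq_of_mul_eq_mul_left (Nat.pos_of_ne_zero hm0) (h.trans (mul_comm _ _))
    haveI hCn : C.Normal := Subgroup.normal_of_index_eq_two hCi
    -- the involution of `⟨x⟩` has centraliser `N`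
    set z := x ^ (m / 2) with hz
    have hord : orderOf z = 2 := by
      obtain ⟨c', rfl⟩ := hm2
      have hc' : 0 < c' := by omega
      rw [hz, orderOf_pow' _ (by omega), hxm, Nat.mul_div_cancel_left _ two_pos,
        Nat.gcd_eq_right (Dvd.intro_left _ rfl), Nat.mul_div_cancel _ hc']
    have hzN : Subgroup.centralizer ({z} : Set PSL2) = N := by
      obtain ⟨m', hm2', -, hmq', -, ⟨e'⟩⟩ := invol_data hodd hord
      have hmm : m' = m := by omega
      refine (Subgroup.eq_of_le_of_card_ge (fun w hw => ?_) ?_).symm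
      · rw [Subgroup.mem_centralizer_singleton_iff, hz]
        have hwx : ∀ w : DihedralGroup m, w * DihedralGroup.r ((m / 2 : ℕ) : ZMod m) =
            DihedralGroup.r ((m / 2 : ℕ) : ZMod m) * w := by
          rintro (i | i)
          · rw [DihedralGroup.r_mul_r, DihedralGroup.r_mul_r, add_comm]
          · rw [DihedralGroup.sr_mul_r, DihedralGroup.r_mul_sr]
            congr 1
            rw [eq_sub_iff_add_eq, add_assoc, half_add_half hm2, add_zero]
        have hxe : (⟨x, hx⟩ : N) ^ (m / 2) = e.symm (DihedralGroup.r ((m / 2 : ℕ) : ZMod m)) := by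
          rw [hxr, ← map_pow, DihedralGroup.r_one_pow]
        have h := congrArg e.symm (hwx (e ⟨w, hw⟩))
        rw [map_mul, map_mul, e.symm_apply_apply, ← hxe] at h
        exact congrArg Subtype.val h
      · rw [Nat.card_congr e'.toEquiv, DihedralGroup.nat_card, hmm, hcN]
    refine Sylow.ext ((Subgroup.eq_of_le_of_card_ge ?_ (by rw [hcP, hQN, hcN])).trans rfl)
    rw [hQN, ← hzN]
    intro g hg
    rw [Subgroup.mem_centralizer_singleton_iff]
    have hzC : (⟨z, P.toSubgroup.pow_mem hP _⟩ : (P : Subgroup PSL2)) ∈ C :=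
      Subgroup.mem_subgroupOf.mpr (Subgroup.pow_mem _ (Subgroup.mem_zpowers x) _)
    have hgz : g * z * g⁻¹ ∈ Subgroup.zpowers x :=
      Subgroup.mem_subgroupOf.mp (hCn.conj_mem _ hzC ⟨g, hg⟩)
    have hgz2 : orderOf (g * z * g⁻¹) = 2 :=
      (orderOf_injective (MulAut.conj g).toMonoidHom (MulAut.conj g).injective z).trans hord
    obtain ⟨j, hj⟩ : ∃ j : ℤ, z ^ j = g * z * g⁻¹ := by
      obtain ⟨i, hi⟩ := Subgroup.mem_zpowers_iff.mp hgz
      have h1 : x ^ (2 * i) = 1 := by
        rw [two_mul, _root_.zpow_add, hi]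
        have := pow_orderOf_eq_one (g * z * g⁻¹)
        rwa [hgz2, pow_two] at this
      have h2 := orderOf_dvd_iff_zpow_eq_one.mpr h1
      rw [hxm] at h2
      obtain ⟨k', hk'⟩ := h2
      obtain ⟨c', hc'⟩ := hm2
      refine ⟨k', ?_⟩
      rw [← hi, hz, ← zpow_natCast, ← _root_.zpow_mul]
      congr 1
      rw [hc', Nat.mul_div_cancel_left _ two_pos]
      rw [hc', Nat.cast_mul, Nat.cast_ofNat] at hk'
      linarith
    have hz2 : z ^ (2 : ℤ) = 1 := by
      have := pow_orderOf_eq_one z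
      rw [hord] at this
      exact_mod_cast this
    have hj' : g * z * g⁻¹ = z := by
      rcases Int.even_or_odd j with ⟨i, rfl⟩ | ⟨i, rfl⟩
      · exfalso
        have h1 : g * z * g⁻¹ = 1 := by
          rw [← hj, ← two_mul, _root_.zpow_mul, hz2, _root_.one_zpow]
        rw [h1, orderOf_one] at hgz2
        omega
      · rw [← hj, _root_.zpow_add, zpow_one, _root_.zpow_mul, hz2, _root_.one_zpow, one_mul]
    rw [mul_inv_eq_iff_eq_mul] at hj'
    exact hj'
  · -- every element lies in two Sylow subgroups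
    refine iff_of_true ?_ ⟨rfl, ?_, ?_, ?_⟩
    · haveI : Fact (Nat.Prime 2) := ⟨Nat.prime_two⟩
      have hne : ∃ S S' : Sylow 2 N, S ≠ S' := by
        by_contra hcon
        push Not at hcon
        obtain ⟨S⟩ : Nonempty (Sylow 2 N) := inferInstance
        set T := (S : Subgroup N).map e.toMonoidHom with hT
        have hTn : T.Normal := by
          haveI : (S : Subgroup N).Normal := by
            haveI : Subsingleton (Sylow 2 N) := ⟨hcon⟩
            exact S.normal_of_subsingleton
          exact Subgroup.Normal.map inferInstance _ e.surjective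
        have hTp : IsPGroup 2 T := S.2.map _
        obtain ⟨b, hb⟩ := (IsPGroup.iff_card (G := T)).mp hTp
        -- a rotation of odd order
        obtain ⟨a, r, hrodd, hmr⟩ := Nat.exists_eq_two_pow_mul_odd hm0
        have hr1 : r ≠ 1 := fun h => hr ⟨a, by rw [hmr, h, mul_one]⟩
        obtain ⟨j, hj⟩ : ∃ j, DihedralGroup.sr j ∈ T := by
          by_contra hno
          push Not at hno
          have hle : T ≤ Subgroup.zpowers (DihedralGroup.r (1 : ZMod m)) := by
            rintro (i | i) hi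
            · exact ⟨(i.val : ℤ), by
                show DihedralGroup.r (1 : ZMod m) ^ (i.val : ℤ) = _
                rw [zpow_natCast, DihedralGroup.r_one_pow, ZMod.natCast_zmod_val]⟩
            · exact absurd hi (hno i)
          have hd := Subgroup.card_dvd_of_le hle
          rw [Nat.card_zpowers, DihedralGroup.orderOf_r_one,
            show Nat.card T = Nat.card (S : Subgroup N) from
              (Nat.card_congr ((S : Subgroup N).equivMapOfInjective _ e.injective).toEquiv).symm,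
            S.card_eq_multiplicity, hcN, hmr] at hd
          have h1 : (2 * (2 ^ a * r)).factorization 2 = a + 1 := by
            rw [← mul_assoc, ← pow_succ', Nat.factorization_mul (by positivity) hrodd.pos.ne',
              Finsupp.add_apply, Nat.Prime.factorization_pow Nat.prime_two, Finsupp.single_eq_same,
              Nat.factorization_eq_zero_of_not_dvd (fun h => Nat.not_even_iff_odd.mpr hrodd (even_iff_two_dvd.mpr h)),
              add_zero]
          rw [h1, pow_succ] at hd
          have h2 := (Nat.mul_dvd_mul_iff_left (by positivity : 0 < 2 ^ a)).mp hd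
          exact Nat.not_even_iff_odd.mpr hrodd (even_iff_two_dvd.mpr h2)
        have hr2 : DihedralGroup.r (2 : ZMod m) ∈ T := by
          have h1 := hTn.conj_mem _ hj (DihedralGroup.r 1)
          have h2 := T.mul_mem h1 hj
          rw [DihedralGroup.inv_r, DihedralGroup.r_mul_sr, DihedralGroup.sr_mul_r, DihedralGroup.sr_mul_sr] at h2
          rwa [show j - (j - 1 + -1) = 2 by ring] at h2
        have hd := Subgroup.orderOf_dvd_natCard T hr2
        rw [hb, show DihedralGroup.r (2 : ZMod m) = DihedralGroup.r (1 : ZMod m) ^ 2 by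
          rw [DihedralGroup.r_one_pow]; rfl, orderOf_pow' _ (two_ne_zero), DihedralGroup.orderOf_r_one,
          Nat.gcd_eq_right hm2, hmr] at hd
        obtain ⟨a', rfl⟩ : ∃ a', a = a' + 1 := ⟨a - 1, by
          rcases a with _ | a'
          · rw [pow_zero, one_mul] at hmr
            exact absurd (hmr ▸ hm2) fun h => Nat.not_even_iff_odd.mpr hrodd (even_iff_two_dvd.mpr h)
          · omega⟩
        rw [pow_succ', mul_assoc, Nat.mul_div_cancel_left _ two_pos] at hd
        have h2 : r ∣ 2 ^ b := (Dvd.intro_left _ rfl).trans hd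
        exact hr1 ((Nat.Coprime.pow_right _ (Nat.coprime_two_right.mpr hrodd)).eq_one_of_dvd h2)
      obtain ⟨S, S', hSS⟩ := hne
      obtain ⟨P₀, hP₀⟩ := hsyl S
      obtain ⟨P₀', hP₀'⟩ := hsyl S'
      have hPne : P₀ ≠ P₀' := fun h => hSS (Sylow.ext (Subgroup.map_injective N.subtype_injective
        (hP₀.symm.trans ((congrArg Sylow.toSubgroup h).trans hP₀'))))
      have hx₀N : x₀ ∈ N := Subgroup.mem_centralizer_singleton_iff.mpr rfl
      have two : ∀ y : PSL2, (∃ k : ℕ, orderOf y = 2 ^ k) → ∃ P P' : Sylow 2 PSL2, P ≠ P' ∧ y ∈ P ∧ y ∈ P' := by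
        intro y hy
        have hyp : IsPGroup 2 (Subgroup.zpowers y) := by
          obtain ⟨k, hk⟩ := hy; exact IsPGroup.of_card (by rw [Nat.card_zpowers]; exact hk)
        obtain ⟨P, hP⟩ := hyp.exists_le_sylow
        obtain ⟨g, rfl⟩ := MulAction.exists_smul_eq PSL2 P₀ P
        have hy' : g⁻¹ * y * g ∈ (P₀ : Subgroup PSL2) := by
          have := hP (Subgroup.mem_zpowers y)
          rw [Sylow.coe_subgroup_smul, Subgroup.mem_pointwise_smul_iff_inv_smul_mem] at this
          simpa [MulAut.smul_def] using this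
        rw [hP₀] at hy'
        obtain ⟨w, hwS, hw⟩ := hy'
        -- a conjugate of `y` in `N` lying in every Sylow subgroup of `N`, or an involution
        have hin : ∀ u : N, (Subgroup.zpowers u).Normal → IsPGroup 2 (Subgroup.zpowers u) → ∀ (h : PSL2),
            h * u.1 * h⁻¹ = y → ∃ P P' : Sylow 2 PSL2, P ≠ P' ∧ y ∈ P ∧ y ∈ P' := by
          intro u hu hup h hh
          haveI := hu
          refine ⟨h • P₀, h • P₀', fun e => hPne ((smul_left_cancel_iff h).mp e), ?_, ?_⟩ <;>
          · rw [← SetLike.mem_coe, Sylow.coe_smul, Set.mem_smul_set_iff_inv_smul_mem, MulAut.smul_def,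
              MulAut.conj_inv_apply, SetLike.mem_coe, ← hh, show h⁻¹ * (h * u.1 * h⁻¹) * h = u.1 by group]
            first
              | (show u.1 ∈ (P₀ : Subgroup PSL2); rw [hP₀]; exact ⟨u, hup.le_sylow_of_normal S (Subgroup.mem_zpowers u), rfl⟩)
              | (show u.1 ∈ (P₀' : Subgroup PSL2); rw [hP₀']; exact ⟨u, hup.le_sylow_of_normal S' (Subgroup.mem_zpowers u), rfl⟩)
        have hwp : IsPGroup 2 (Subgroup.zpowers w) := S.2.to_le (Subgroup.zpowers_le.mpr hwS)
        have hyw : g * (w : PSL2) * g⁻¹ = y := by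
          rw [show (w : PSL2) = g⁻¹ * y * g from hw]; group
        by_cases h1 : (w : PSL2) = 1
        · have hy1 : y = 1 := by rw [← hyw, h1, mul_one, mul_inv_cancel]
          exact ⟨P₀, P₀', hPne, hy1 ▸ one_mem _, hy1 ▸ one_mem _⟩
        by_cases h2 : (w : PSL2) * w = 1
        · have how : orderOf (w : PSL2) = 2 := orderOf_eq_prime (by rw [pow_two]; exact h2) h1
          obtain ⟨t, ht⟩ := isConj_iff.mp (isConj_invol hodd hx₀ how)
          refine hin ⟨x₀, hx₀N⟩ ⟨fun u hu v => ?_⟩ ?_ (g * t) ?_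
          · obtain ⟨i, rfl⟩ := hu
            refine ⟨i, Subtype.ext ?_⟩
            show (((⟨x₀, hx₀N⟩ : N) ^ i : N) : PSL2) = (v : PSL2) * (((⟨x₀, hx₀N⟩ : N) ^ i : N) : PSL2) * (v : PSL2)⁻¹
            rw [Subgroup.coe_zpow]
            rw [((show Commute (v : PSL2) x₀ from Subgroup.mem_centralizer_singleton_iff.mp v.2).zpow_right i).eq,
              mul_inv_cancel_right]
          · exact IsPGroup.of_card (n := 1) (by rw [Nat.card_zpowers, ← Subgroup.orderOf_coe, pow_one]; exact hx₀)
          · show g * t * x₀ * (g * t)⁻¹ = y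
            rw [← hyw, ← ht]; group
        · refine hin w ⟨fun u hu v => ?_⟩ hwp g hyw
          obtain ⟨i, rfl⟩ := hu
          have hw2 : e w * e w ≠ 1 := fun h => h2 (by
            rw [← map_mul, MulEquiv.map_eq_one_iff] at h
            exact congrArg Subtype.val h)
          obtain ⟨j, hj⟩ : ∃ j, e w = DihedralGroup.r j := by
            rcases hew : e w with j | j
            · exact ⟨j, rfl⟩
            · rw [hew, DihedralGroup.sr_mul_self] at hw2; exact absurd rfl hw2
          have hc : v * w * v⁻¹ = w ∨ v * w * v⁻¹ = w⁻¹ := by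
            rcases hev : e v with l | l
            · refine Or.inl (e.injective ?_)
              rw [map_mul, map_mul, map_inv, hev, hj, DihedralGroup.inv_r, DihedralGroup.r_mul_r, DihedralGroup.r_mul_r]
              congr 1; ring
            · refine Or.inr (e.injective ?_)
              rw [map_mul, map_mul, map_inv, map_inv, hev, hj, DihedralGroup.inv_sr, DihedralGroup.sr_mul_r,
                DihedralGroup.sr_mul_sr, DihedralGroup.inv_r]
              congr 1; ring
          rcases hc with hc | hc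
          · exact ⟨i, by show w ^ i = v * w ^ i * v⁻¹; rw [← conj_zpow, hc]⟩
          · exact ⟨-i, by show w ^ (-i) = v * w ^ i * v⁻¹; rw [← conj_zpow, hc, _root_.inv_zpow, _root_.zpow_neg]⟩
      obtain ⟨Q⟩ : Nonempty (Sylow 2 PSL2) := inferInstance
      refine ⟨Q, fun y hy => ?_⟩
      obtain ⟨P, P', hPP, hyP, hyP'⟩ := two y hy
      by_cases h : P = Q
      · exact ⟨P', fun e => hPP (h.trans e.symm), hyP'⟩
      · exact ⟨P, h, hyP⟩
    · rintro ⟨k, hk⟩
      apply hr
      rcases hmq with hmq | hmq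
      · exfalso
        obtain ⟨c', rfl⟩ := hm2
        rcases k with _ | _ | k
        · omega
        · omega
        · rw [pow_succ, pow_succ] at hk; omega
      · rcases k with _ | k
        · omega
        · exact ⟨k, by rw [pow_succ] at hk; omega⟩
    · rintro ⟨k, hk⟩
      rcases k with _ | k
      · omega
      · rw [pow_succ] at hk; omega
    · rintro ⟨k, hk⟩
      rcases k with _ | k
      · omega
      · apply hr
        rcases hmq with hmq | hmq
        · exact ⟨k, by rw [pow_succ] at hk; omega⟩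
        · obtain ⟨c', rfl⟩ := hm2
          rcases k with _ | k
          · exact absurd ⟨1, by omega⟩ hr
          · rw [pow_succ, pow_succ] at hk; omega

/-- The redundant Sylow subgroups of `SL₂`. -/
theorem hasRedundant_SL2_iff (p : ℕ) [Fact p.Prime] : HasRedundant p SL2 ↔ HasRedundant p PSL2 :=
  hasRedundant_congr (toPSL (F := F)) toPSL_surjective fun z hz =>
    mem_center_iff.mpr (toPSL_eq_one.mp (MonoidHom.mem_ker.mp hz))

end Cfsg.Agent.Lib.Geometry.Dickson
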