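import Cfsg.Agent.Lib.Geometry.Dickson.Tori
import Cfsg.Agent.Lib.Geometry.Dickson.Global

/-!
General facts about solubilizers in `SL₂(q)`.
-/

set_option autoImplicit false

namespace Cfsg.Agent.Lib.Geometry.Dickson

open Matrix
open scoped Matrix MatrixGroups Pointwise
open Cfsg.Agent.Lib.SL2Trace (tr tr_eq tr_conj tr_inv tr_mul_comm det_eq sq_eq toPSL toPSL_surjective toPSL_eq mem_center_iff)

section Groups

/-- A subgroup generated by two elements, one normalising the cyclic group of the other, is solvable. -/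
theorem solvable_closure_pair {G : Type*} [Group G] {a b : G}
    (h : b ∈ Subgroup.normalizer (Subgroup.zpowers a : Set G)) : Group.IsSolvable (Subgroup.closure {a, b}) := by
  classical
  set S := Subgroup.closure ({a, b} : Set G)
  have hS : S ≤ Subgroup.normalizer (Subgroup.zpowers a : Set G) := by
    rw [Subgroup.closure_le]
    rintro y (rfl | rfl)
    · exact Subgroup.le_normalizer (Subgroup.mem_zpowers _)
    · exact h
  have ha : Subgroup.zpowers a ≤ S := Subgroup.zpowers_le.mpr (Subgroup.subset_closure (Set.mem_insert _ _))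
  set T := (Subgroup.zpowers a).subgroupOf S
  haveI : T.Normal := Subgroup.normal_subgroupOf_iff_le_normalizer ha |>.mpr hS
  haveI : Group.IsSolvable T := Group.isSolvable_of_comm fun u v => Subtype.ext (Subtype.ext (by
    obtain ⟨i, hi⟩ := u.2
    obtain ⟨k, hk⟩ := v.2
    show (u.1.1 : G) * v.1.1 = v.1.1 * u.1.1
    simp only [Subgroup.subtype_apply] at hi hk
    rw [← hi, ← hk, ← _root_.zpow_add, ← _root_.zpow_add, add_comm]))
  set bS : S := ⟨b, Subgroup.subset_closure (Set.mem_insert_of_mem _ rfl)⟩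
  have hgen : ∀ z : S ⧸ T, z ∈ Subgroup.zpowers (QuotientGroup.mk bS : S ⧸ T) := by
    intro z
    obtain ⟨⟨g, hg⟩, rfl⟩ := QuotientGroup.mk'_surjective T z
    revert hg
    refine fun hg => Subgroup.closure_induction
      (p := fun g hg => QuotientGroup.mk' T ⟨g, hg⟩ ∈ Subgroup.zpowers (QuotientGroup.mk bS : S ⧸ T))
      ?_ ?_ ?_ ?_ hg
    · rintro g (rfl | rfl)
      · rw [show QuotientGroup.mk' T ⟨g, _⟩ = 1 from
          (QuotientGroup.eq_one_iff _).mpr (Subgroup.mem_subgroupOf.mpr (Subgroup.mem_zpowers g))]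
        exact one_mem _
      · exact Subgroup.mem_zpowers _
    · exact one_mem _
    · intro u v hu hv h1 h2
      exact mul_mem h1 h2
    · intro u hu h1
      exact inv_mem h1
  haveI : Group.IsSolvable (S ⧸ T) := Group.isSolvable_of_comm fun u v => by
    obtain ⟨i, rfl⟩ := hgen u
    obtain ⟨k, rfl⟩ := hgen v
    simp only [← _root_.zpow_add, add_comm]
  exact Group.isSolvable_of_ker_le_range T.subtype (QuotientGroup.mk' T)
    (by rw [QuotientGroup.ker_mk', Subgroup.range_subtype])

theorem zpowers_normalized {G : Type*} [Group G] {a b : G} (h : b * a * b⁻¹ = a ∨ b * a * b⁻¹ = a⁻¹) :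
    b ∈ Subgroup.normalizer (Subgroup.zpowers a : Set G) := by
  rw [Subgroup.mem_normalizer_iff]
  have hmap : (Subgroup.zpowers a).map (MulAut.conj b).toMonoidHom = Subgroup.zpowers a := by
    rw [MonoidHom.map_zpowers]
    show Subgroup.zpowers (b * a * b⁻¹) = _
    rcases h with h | h <;> rw [h]
    exact Subgroup.zpowers_inv
  intro z
  conv_rhs => rw [← hmap]
  exact (Subgroup.mem_map_iff_mem (f := (MulAut.conj b).toMonoidHom) (MulAut.conj b).injective).symm

/-- A nontrivial solvable group has a nontrivial abelian normal subgroup. -/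
theorem exists_abelian_normal {G : Type*} [Group G] (hG : Group.IsSolvable G) (hne : ∃ g : G, g ≠ 1) :
    ∃ A : Subgroup G, A.Normal ∧ (∀ u ∈ A, ∀ v ∈ A, u * v = v * u) ∧ ∃ a ∈ A, a ≠ 1 := by
  classical
  obtain ⟨n, hn⟩ := hG
  have hex : ∃ k, derivedSeries G k = ⊥ := ⟨n, hn⟩
  set k := Nat.find hex with hk
  have hk0 : k ≠ 0 := fun h => by
    have := Nat.find_spec hex
    rw [← hk, h, derivedSeries_zero] at this
    obtain ⟨g, hg⟩ := hne
    exact hg (Subgroup.mem_bot.mp (this ▸ Subgroup.mem_top g))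
  obtain ⟨i, hi⟩ := Nat.exists_eq_succ_of_ne_zero hk0
  refine ⟨derivedSeries G i, inferInstance, fun u hu v hv => ?_, ?_⟩
  · have h := Nat.find_spec hex
    rw [← hk, hi, derivedSeries_succ, eq_bot_iff] at h
    have e := Subgroup.mem_bot.mp (h (Subgroup.commutator_mem_commutator hu hv))
    rw [commutatorElement_def, mul_inv_eq_one, mul_inv_eq_iff_eq_mul] at e
    exact e
  · exact (Subgroup.ne_bot_iff_exists_ne_one.mp (Nat.find_min hex (by rw [← hk, hi]; exact Nat.lt_succ_self i))).elim
      fun a ha => ⟨a.1, a.2, fun h => ha (Subtype.ext h)⟩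

end Groups


variable {F : Type*} [Field F]

local notation "SL2" => Matrix.SpecialLinearGroup (Fin 2) F
local notation "M2" => Matrix (Fin 2) (Fin 2) F

theorem solvable_closure_map {G H : Type*} [Group G] [Group H] (e : G ≃* H) (x y : G) :
    Group.IsSolvable (Subgroup.closure ({e x, e y} : Set H)) ↔ Group.IsSolvable (Subgroup.closure ({x, y} : Set G)) := by
  have hmap : (Subgroup.closure ({x, y} : Set G)).map e.toMonoidHom = Subgroup.closure ({e x, e y} : Set H) := by
    rw [MonoidHom.map_closure, Set.image_insert_eq, Set.image_singleton]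
    rfl
  rw [← hmap]
  let E' : Subgroup.closure ({x, y} : Set G) ≃* (Subgroup.closure ({x, y} : Set G)).map e.toMonoidHom :=
    e.subgroupMap _
  constructor <;> intro h
  · haveI := h
    exact Group.isSolvable_of_isSolvable_injective (f := E'.toMonoidHom) E'.injective
  · haveI := h
    exact Group.isSolvable_of_surjective (f := E'.toMonoidHom) E'.surjective

/-- The size of a solubilizer. -/
noncomputable def solCard {G : Type*} [Group G] (x : G) : ℕ :=
  Nat.card {y : G // Group.IsSolvable ↥(Subgroup.closure ({x, y} : Set G))}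

theorem solCard_map {G H : Type*} [Group G] [Group H] (e : G ≃* H) (x : G) : solCard (e x) = solCard x :=
  (Nat.card_congr (e.toEquiv.subtypeEquiv fun y => (solvable_closure_map e x y).symm)).symm

theorem mulVec_basis_zero {g : SL2} {c : F} :
    (g : M2) *ᵥ ![1, 0] = c • ![1, 0] ↔ (g : M2) 0 0 = c ∧ (g : M2) 1 0 = 0 := by
  constructor
  · intro h
    exact ⟨by simpa [Matrix.mulVec, dotProduct, Fin.sum_univ_two] using congrFun h 0,
      by simpa [Matrix.mulVec, dotProduct, Fin.sum_univ_two] using congrFun h 1⟩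
  · rintro ⟨h0, h1⟩
    ext i; fin_cases i <;> simp [Matrix.mulVec, dotProduct, Fin.sum_univ_two, h0, h1]


/-- The upper triangular matrices form a solvable group. -/
theorem solvable_triangular_gen {x y : SL2} (hx : (x : M2) 1 0 = 0) (hy : (y : M2) 1 0 = 0) :
    Group.IsSolvable (Subgroup.closure ({x, y} : Set SL2)) := by
  let B : Subgroup SL2 :=
    { carrier := {g | (g : M2) 1 0 = 0}
      one_mem' := by simp
      mul_mem' := fun {a b} ha hb => by
        simp only [Set.mem_setOf_eq] at ha hb ⊢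
        simp [Matrix.mul_apply, Fin.sum_univ_two, ha, hb]
      inv_mem' := fun {a} ha => by
        simp only [Set.mem_setOf_eq] at ha ⊢
        simp [Matrix.SpecialLinearGroup.coe_inv, Matrix.adjugate_fin_two, ha] }
  let d : B →* F :=
    { toFun := fun g => (g.1 : M2) 0 0
      map_one' := by simp
      map_mul' := fun a b => by
        show (a.1 * b.1 : SL2).1 0 0 = _
        rw [Matrix.SpecialLinearGroup.coe_mul, Matrix.mul_apply, Fin.sum_univ_two, show (b.1 : M2) 1 0 = 0 from b.2]
        ring }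
  haveI : Group.IsSolvable B := by
    have h1 : ∀ u : B, d u = 1 → (u.1 : M2) 1 1 = 1 := fun u hu => by
      have h := det_eq u.1
      rw [show (u.1 : M2) 1 0 = 0 from u.2, show (u.1 : M2) 0 0 = 1 from hu] at h
      linear_combination h
    haveI : Group.IsSolvable d.toHomUnits.ker := Group.isSolvable_of_comm fun u v => by
      have hu : d u.1 = 1 := congrArg Units.val u.2
      have hv : d v.1 = 1 := congrArg Units.val v.2
      refine Subtype.ext (Subtype.ext (sl_ext ?_))
      show (u.1.1 : M2) * (v.1.1 : M2) = (v.1.1 : M2) * (u.1.1 : M2)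
      ext i k
      fin_cases i <;> fin_cases k <;>
        simp [Matrix.mul_apply, Fin.sum_univ_two, show (u.1.1 : M2) 1 0 = 0 from u.1.2,
          show (v.1.1 : M2) 1 0 = 0 from v.1.2, show (u.1.1 : M2) 0 0 = 1 from hu, show (v.1.1 : M2) 0 0 = 1 from hv,
          h1 _ hu, h1 _ hv, add_comm]
    haveI : Group.IsSolvable d.toHomUnits.range := Group.isSolvable_of_comm fun u v => Subtype.ext (mul_comm u.1 v.1)
    exact Group.isSolvable_of_ker_le_range d.toHomUnits.ker.subtype d.toHomUnits.rangeRestrict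
      (by rw [MonoidHom.ker_rangeRestrict, Subgroup.range_subtype])
  have hle : Subgroup.closure ({x, y} : Set SL2) ≤ B := by
    rw [Subgroup.closure_le]
    rintro z (rfl | rfl)
    · exact hx
    · exact hy
  exact Group.isSolvable_of_isSolvable_injective (Subgroup.inclusion_injective hle)

variable [Fintype F]

theorem card_diag_sol :
    Nat.card {y : SL2 // (y : M2) 1 0 = 0 ∨ (y : M2) 0 1 = 0 ∨ ((y : M2) 0 0 = 0 ∧ (y : M2) 1 1 = 0)} =
      2 * Fintype.card F * (Fintype.card F - 1) := by
  classical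
  set q := Fintype.card F
  set B : Finset SL2 := Finset.univ.filter fun y => (y : M2) 1 0 = 0
  set C : Finset SL2 := Finset.univ.filter fun y => (y : M2) 0 1 = 0
  set D : Finset SL2 := Finset.univ.filter fun y => (y : M2) 0 0 = 0 ∧ (y : M2) 1 1 = 0
  have hB : B.card = (q - 1) * q := by
    rw [← card_borel, Nat.card_eq_fintype_card, Fintype.card_subtype]
    exact congrArg Finset.card (Finset.filter_congr fun y _ => (mem_borel_iff y).symm)
  have hC : C.card = (q - 1) * q := by
    rw [← hB]
    refine Finset.card_bij (fun y _ => (⟨(y : M2)ᵀ, by rw [det_transpose]; exact y.2⟩ : SL2)) ?_ ?_ ?_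
    · intro y hy
      have hy' := (Finset.mem_filter.mp hy).2
      exact Finset.mem_filter.mpr ⟨Finset.mem_univ _, hy'⟩
    · intro a _ b _ h
      exact sl_ext (transpose_injective (congrArg Subtype.val h))
    · intro g hg
      exact ⟨⟨(g : M2)ᵀ, by rw [det_transpose]; exact g.2⟩,
        Finset.mem_filter.mpr ⟨Finset.mem_univ _, (Finset.mem_filter.mp hg).2⟩,
        sl_ext (transpose_transpose (g : M2))⟩
  have hu : Fintype.card Fˣ = q - 1 := by rw [Fintype.card_units]
  have hD : D.card = q - 1 := by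
    rw [← hu, ← Finset.card_univ (α := Fˣ)]
    refine (Finset.card_bij (fun (t : Fˣ) _ => (⟨!![0, (t : F); -((t⁻¹ : Fˣ) : F), 0], by
      rw [Matrix.det_fin_two_of]; simp⟩ : SL2)) ?_ ?_ ?_).symm
    · intro t _; exact Finset.mem_filter.mpr ⟨Finset.mem_univ _, by simp⟩
    · intro a _ b _ h
      exact Units.ext (by simpa using congrArg (fun g : SL2 => (g : M2) 0 1) h)
    · intro g hg
      replace hg : (g : M2) 0 0 = 0 ∧ (g : M2) 1 1 = 0 := (Finset.mem_filter.mp hg).2
      have hd := det_eq g
      rw [hg.1, zero_mul, zero_sub] at hd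
      refine ⟨Units.mk0 ((g : M2) 0 1) (fun h => by rw [h, zero_mul, neg_zero] at hd; exact zero_ne_one hd),
        Finset.mem_univ _, sl_ext ?_⟩
      ext i k
      fin_cases i <;> fin_cases k <;> simp [hg.1, hg.2]
      rw [← eq_inv_of_mul_eq_one_right (show (g : M2) 0 1 * -(g : M2) 1 0 = 1 by linear_combination hd), neg_neg]
  have hT : (B ∩ C).card = q - 1 := by
    rw [← hu, ← Finset.card_univ (α := Fˣ)]
    refine (Finset.card_bij (fun (t : Fˣ) _ => (⟨!![(t : F), 0; 0, ((t⁻¹ : Fˣ) : F)], by
      rw [Matrix.det_fin_two_of]; simp⟩ : SL2)) ?_ ?_ ?_).symm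
    · intro t _
      exact Finset.mem_inter.mpr ⟨Finset.mem_filter.mpr ⟨Finset.mem_univ _, by simp⟩,
        Finset.mem_filter.mpr ⟨Finset.mem_univ _, by simp⟩⟩
    · intro a _ b _ h
      exact Units.ext (by simpa using congrArg (fun g : SL2 => (g : M2) 0 0) h)
    · intro g hg
      replace hg : (g : M2) 1 0 = 0 ∧ (g : M2) 0 1 = 0 :=
        ⟨(Finset.mem_filter.mp (Finset.mem_inter.mp hg).1).2, (Finset.mem_filter.mp (Finset.mem_inter.mp hg).2).2⟩
      have hd := det_eq g
      rw [hg.1, mul_zero, sub_zero] at hd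
      refine ⟨Units.mk0 ((g : M2) 0 0) (fun h => by rw [h, zero_mul] at hd; exact zero_ne_one hd),
        Finset.mem_univ _, sl_ext ?_⟩
      ext i k
      fin_cases i <;> fin_cases k <;> simp [hg.1, hg.2]
      exact (eq_inv_of_mul_eq_one_right hd).symm
  have hdis : Disjoint (B ∪ C) D := by
    rw [Finset.disjoint_left]
    intro y hy hy'
    simp only [B, C, D, Finset.mem_union, Finset.mem_filter, Finset.mem_univ, true_and] at hy hy'
    have hd := det_eq y
    rcases hy with h | h <;> rw [h, hy'.1] at hd <;> simp at hd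
  rw [Nat.card_eq_fintype_card, Fintype.card_subtype, show (Finset.univ.filter fun y : SL2 =>
    (y : M2) 1 0 = 0 ∨ (y : M2) 0 1 = 0 ∨ ((y : M2) 0 0 = 0 ∧ (y : M2) 1 1 = 0)) = B ∪ C ∪ D by
      ext y; simp [B, C, D, or_assoc], Finset.card_union_of_disjoint hdis, hD]
  have h1 := Finset.card_union_add_card_inter B C
  rw [hT, hB, hC] at h1
  rw [mul_assoc, mul_comm q]
  omega


/-- An element with an eigenvector is conjugate to a triangular one. -/
theorem exists_triangular {x : SL2} {v : Fin 2 → F} {c : F} (hv : v ≠ 0) (h : (x : M2) *ᵥ v = c • v) :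
    ∃ g : SL2, (g : M2) *ᵥ ![1, 0] = v ∧ ((g⁻¹ * x * g : SL2) : M2) *ᵥ ![1, 0] = c • ![1, 0] := by
  obtain ⟨g, hg⟩ : ∃ g : SL2, (g : M2) *ᵥ ![1, 0] = v := by
    by_cases h0 : v 0 = 0
    · have h1 : v 1 ≠ 0 := fun h1 => hv (funext fun i => by fin_cases i <;> assumption)
      refine ⟨⟨!![v 0, -(v 1)⁻¹; v 1, 0], by rw [Matrix.det_fin_two_of]; field_simp; ring⟩, ?_⟩
      ext i; fin_cases i <;> simp
    · refine ⟨⟨!![v 0, 0; v 1, (v 0)⁻¹], by rw [Matrix.det_fin_two_of]; field_simp; ring⟩, ?_⟩
      ext i; fin_cases i <;> simp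
  refine ⟨g, hg, ?_⟩
  show (((g⁻¹ : SL2) : M2) * (x : M2) * (g : M2)) *ᵥ ![1, 0] = _
  rw [← Matrix.mulVec_mulVec, hg, ← Matrix.mulVec_mulVec, h, Matrix.mulVec_smul, ← hg, Matrix.mulVec_mulVec,
    show ((g⁻¹ : SL2) : M2) * (g : M2) = 1 from congrArg (fun e : SL2 => (e : M2)) (inv_mul_cancel g),
    Matrix.one_mulVec]

theorem solCard_conj (g x : SL2) : solCard (g⁻¹ * x * g) = solCard x := by
  rw [show g⁻¹ * x * g = MulAut.conj g⁻¹ x by rw [MulAut.conj_apply, inv_inv], solCard_map]


end Cfsg.Agent.Lib.Geometry.Dickson
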