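import Cfsg.Agent.Lib.Geometry.Dickson.SolubilizerBase

/-!
Solubilizers in `SL₂(q)`, `q` even.
-/

set_option autoImplicit false

namespace Cfsg.Agent.Lib.Geometry.Dickson

open Matrix
open scoped Matrix MatrixGroups Pointwise
open Cfsg.Agent.Lib.SL2Trace (tr tr_eq tr_conj tr_inv tr_mul_comm det_eq sq_eq toPSL toPSL_surjective toPSL_eq mem_center_iff)

variable {F : Type*} [Field F] [CharP F 2]

local notation "SL2" => Matrix.SpecialLinearGroup (Fin 2) F
local notation "M2" => Matrix (Fin 2) (Fin 2) F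

theorem eq_one_of_center {z : SL2} (hz : z ∈ Subgroup.center SL2) : z = 1 := by
  rcases mem_center_iff.mp hz with h | h
  · exact h
  · rw [h]
    refine sl_ext ?_
    ext i k
    simp [CharTwo.neg_eq]

theorem notMem_center_of_ne {a : SL2} (h : a ≠ 1) : a ∉ Subgroup.center SL2 := fun hz => h (eq_one_of_center hz)

theorem tr_zero_iff {a : SL2} : tr a ^ 2 = 4 ↔ tr a = 0 := by
  have h4 : (4 : F) = 0 := by rw [show (4 : F) = 2 * 2 by norm_num, CharTwo.two_eq_zero, mul_zero]
  rw [h4, pow_eq_zero_iff two_ne_zero]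

theorem sq_of_tr_zero {y : SL2} (h : tr y = 0) : y * y = 1 := sl_ext (by
  show (y : M2) * (y : M2) = 1
  rw [sq_eq, h, zero_smul, zero_sub]
  ext i k
  exact CharTwo.neg_eq _)

/-- An element inverting a torus element has trace zero. -/
theorem tr_zero_of_inverts {a y : SL2} (ht : tr a ≠ 0) (h : y * a * y⁻¹ = a⁻¹) : tr y = 0 := by
  have e : y * a = a⁻¹ * y := mul_inv_eq_iff_eq_mul.mp h
  have h1 := congrArg tr e
  have h2 : tr (a⁻¹ * y) = tr a * tr y - tr (a * y) := by
    show ((a⁻¹ : SL2) * y : SL2).1.trace = _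
    rw [Matrix.SpecialLinearGroup.coe_mul, coe_inv_eq, sub_mul, smul_mul_assoc, one_mul, trace_sub, trace_smul,
      smul_eq_mul]
    rfl
  rw [h2, tr_mul_comm y a] at h1
  have h20 : (2 : F) = 0 := CharTwo.two_eq_zero
  exact (mul_eq_zero.mp (show tr a * tr y = 0 by linear_combination -h1 + tr (a * y) * h20)).resolve_left ht

/-- The structure of the solvable subgroups. -/
theorem solvable_cases {x y : SL2} (hx : x ≠ 1) (hs : Group.IsSolvable (Subgroup.closure ({x, y} : Set SL2))) :
    (∃ (v : Fin 2 → F) (c d : F), v ≠ 0 ∧ (x : M2) *ᵥ v = c • v ∧ (y : M2) *ᵥ v = d • v) ∨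
      (∃ a : SL2, tr a ≠ 0 ∧ (x * a * x⁻¹ = a ∨ x * a * x⁻¹ = a⁻¹) ∧ (y * a * y⁻¹ = a ∨ y * a * y⁻¹ = a⁻¹)) := by
  set S := Subgroup.closure ({x, y} : Set SL2)
  have hxS : x ∈ S := Subgroup.subset_closure (Set.mem_insert _ _)
  have hyS : y ∈ S := Subgroup.subset_closure (Set.mem_insert_of_mem _ rfl)
  obtain ⟨A, hA, hab, a, haA, ha1⟩ := exists_abelian_normal hs ⟨⟨x, hxS⟩, fun h => hx (congrArg Subtype.val h)⟩
  have haC : a.1 ∉ Subgroup.center SL2 := notMem_center_of_ne fun h => ha1 (Subtype.ext h)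
  have hconj : ∀ h : S, h.1 * a.1 * h.1⁻¹ ∈ Subgroup.centralizer ({a.1} : Set SL2) := fun h =>
    mem_centralizer_iff.mpr (congrArg Subtype.val (hab _ (hA.conj_mem a haA h) a haA))
  by_cases ht : tr a.1 = 0
  · obtain ⟨v, ε, hv, hε, htr, hav⟩ := exists_fixed_vector (tr_zero_iff.mpr ht)
    obtain ⟨c, hc⟩ := fix_line_of_conj_mem haC hv hε htr hav (hconj ⟨x, hxS⟩)
    obtain ⟨d, hd⟩ := fix_line_of_conj_mem haC hv hε htr hav (hconj ⟨y, hyS⟩)
    exact Or.inl ⟨v, c, d, hv, hc, hd⟩
  · exact Or.inr ⟨a.1, ht, eq_or_eq_inv_of_tr haC (fun h => ht (tr_zero_iff.mp h)) (hconj ⟨x, hxS⟩) (tr_conj _ _),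
      eq_or_eq_inv_of_tr haC (fun h => ht (tr_zero_iff.mp h)) (hconj ⟨y, hyS⟩) (tr_conj _ _)⟩

/-- The solubilizer of the standard involution. -/
theorem solvable_upper_iff (y : SL2) :
    Group.IsSolvable (Subgroup.closure ({upper (1 : F), y} : Set SL2)) ↔
      (y : M2) 1 0 = 0 ∨ tr y = 0 ∨ tr (upper (1 : F) * y) = 0 := by
  set u : SL2 := upper (1 : F) with hu
  have hu2 : tr u = 0 := by rw [hu, tr_upper]; exact CharTwo.two_eq_zero
  have hu10 : (u : M2) 1 0 = 0 := by simp [hu, upper]
  have huu : u * u = 1 := sq_of_tr_zero hu2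
  have huinv : u⁻¹ = u := inv_eq_of_mul_eq_one_right huu
  constructor
  · intro hs
    rcases solvable_cases (fun h => one_ne_zero (α := F) (by
      have := congrArg (fun g : SL2 => (g : M2) 0 1) h
      simpa [hu, upper] using this)) hs with ⟨v, c, d, hv, hxv, hyv⟩ | ⟨a, ha, hxa, hya⟩
    · left
      have h0 : v 1 = 0 := by
        have e0 := congrFun hxv 0
        have e1 := congrFun hxv 1
        simp [hu, upper, Matrix.mulVec, dotProduct, Fin.sum_univ_two] at e0 e1
        by_contra h1
        have hc : c = 1 := (mul_eq_right₀ h1).mp e1.symm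
        rw [hc, one_mul, add_eq_left] at e0
        exact h1 e0
      have hv0 : v 0 ≠ 0 := fun h => hv (funext fun i => by fin_cases i <;> assumption)
      have e1 := congrFun hyv 1
      simp [Matrix.mulVec, dotProduct, Fin.sum_univ_two, h0] at e1
      exact e1.resolve_right hv0
    · right
      have hxa' : u * a * u⁻¹ = a⁻¹ := by
        refine hxa.resolve_left fun h => ha ?_
        have hmem : a ∈ Subgroup.centralizer ({u} : Set SL2) :=
          mem_centralizer_iff.mpr (mul_inv_eq_iff_eq_mul.mp h).symm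
        have huC : u ∉ Subgroup.center SL2 := upper_notMem_center one_ne_zero
        obtain ⟨α, β, hab⟩ := exists_combination huC hmem
        rw [tr_eq, hab]
        simp [hu, upper]
        exact CharTwo.add_self_eq_zero _
      rcases hya with hy | hy
      · right
        refine tr_zero_of_inverts ha ?_
        rw [show u * y * a * (u * y)⁻¹ = u * (y * a * y⁻¹) * u⁻¹ by group, hy, hxa']
      · exact Or.inl (tr_zero_of_inverts ha hy)
  · rintro (h | h | h)
    · exact solvable_triangular_gen hu10 h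
    · have hyy := sq_of_tr_zero h
      have hyinv : y⁻¹ = y := inv_eq_of_mul_eq_one_right hyy
      have hs := solvable_closure_pair (a := u * y) (b := u) (zpowers_normalized (Or.inr (by
        rw [_root_.mul_inv_rev, huinv, hyinv, ← mul_assoc, huu, one_mul])))
      have hle : Subgroup.closure ({u, y} : Set SL2) ≤ Subgroup.closure ({u * y, u} : Set SL2) := by
        have hu' : u ∈ Subgroup.closure ({u * y, u} : Set SL2) :=
          Subgroup.subset_closure (Set.mem_insert_of_mem _ rfl)
        have huy : u * y ∈ Subgroup.closure ({u * y, u} : Set SL2) := Subgroup.subset_closure (Set.mem_insert _ _)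
        rw [Subgroup.closure_le]
        rintro z (rfl | rfl)
        · exact hu'
        · have := mul_mem (inv_mem hu') huy
          rwa [inv_mul_cancel_left] at this
      exact Group.isSolvable_of_isSolvable_injective (Subgroup.inclusion_injective hle)
    · have hzz := sq_of_tr_zero h
      have hs := solvable_closure_pair (a := y) (b := u) (zpowers_normalized (Or.inr (by
        rw [huinv, eq_inv_iff_mul_eq_one]
        rw [show u * y * u * y = u * y * (u * y) by group, hzz])))
      rwa [Set.pair_comm] at hs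

/-- The solubilizer of a diagonal element. -/
theorem solvable_diag_iff {x : SL2} (h01 : (x : M2) 0 1 = 0) (h10 : (x : M2) 1 0 = 0) (ht : tr x ≠ 0) (y : SL2) :
    Group.IsSolvable (Subgroup.closure ({x, y} : Set SL2)) ↔
      (y : M2) 1 0 = 0 ∨ (y : M2) 0 1 = 0 ∨ ((y : M2) 0 0 = 0 ∧ (y : M2) 1 1 = 0) := by
  have hne : (x : M2) 0 0 ≠ (x : M2) 1 1 := fun h => ht (by rw [tr_eq, h]; exact CharTwo.add_self_eq_zero _)
  have hx1 : x ≠ 1 := fun h => hne (by rw [h]; simp)
  have hxC := notMem_center_of_ne hx1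
  have hd := det_eq x
  rw [h01, zero_mul, sub_zero] at hd
  constructor
  · intro hs
    rcases solvable_cases hx1 hs with ⟨v, c, d, hv, hxv, hyv⟩ | ⟨a, ha, hxa, hya⟩
    · have e0 := congrFun hxv 0
      have e1 := congrFun hxv 1
      simp [Matrix.mulVec, dotProduct, Fin.sum_univ_two, h01, h10] at e0 e1
      by_cases h1 : v 1 = 0
      · left
        have hv0 : v 0 ≠ 0 := fun h => hv (funext fun i => by fin_cases i <;> assumption)
        have e := congrFun hyv 1
        simp [Matrix.mulVec, dotProduct, Fin.sum_univ_two, h1] at e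
        exact e.resolve_right hv0
      · right; left
        have hv0 : v 0 = 0 := by
          by_contra hv0
          exact hne ((e0.resolve_right hv0).trans (e1.resolve_right h1).symm)
        have e := congrFun hyv 0
        simp [Matrix.mulVec, dotProduct, Fin.sum_univ_two, hv0] at e
        exact e.resolve_right h1
    · have hxa' : x * a * x⁻¹ = a := hxa.resolve_right fun h => ht (tr_zero_of_inverts ha h)
      have haC : a ∉ Subgroup.center SL2 := notMem_center_of_ne fun h => ha (by
        rw [h, tr_eq]; simp [CharTwo.add_self_eq_zero])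
      have hax : a ∈ Subgroup.centralizer ({x} : Set SL2) :=
        mem_centralizer_iff.mpr (mul_inv_eq_iff_eq_mul.mp hxa').symm
      rcases hya with hy | hy
      · left
        have hyc : y ∈ Subgroup.centralizer ({x} : Set SL2) := by
          rw [← centralizer_eq hxC haC hax]
          exact mem_centralizer_iff.mpr (mul_inv_eq_iff_eq_mul.mp hy)
        obtain ⟨α, β, hab⟩ := exists_combination hxC hyc
        rw [hab]; simp [h10]
      · right; right
        obtain ⟨α, β, hab⟩ := exists_combination hxC hax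
        have htr := tr_zero_of_inverts ha hy
        have e : y * a = a⁻¹ * y := mul_inv_eq_iff_eq_mul.mp hy
        have e00 := congrArg (fun g : SL2 => (g : M2) 0 0) e
        simp [Matrix.SpecialLinearGroup.coe_inv, Matrix.adjugate_fin_two, Matrix.mul_apply, Fin.sum_univ_two, hab, h01, h10] at e00
        have hy00 : (y : M2) 0 0 = 0 := by
          have hne' : (α + β * (x : M2) 0 0) - (α + β * (x : M2) 1 1) ≠ 0 := fun h0 => ha (by
            rw [tr_eq, hab]; simp
            linear_combination h0 + (α + β * (x : M2) 1 1) * (CharTwo.two_eq_zero (R := F)))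
          refine (mul_eq_zero.mp (show ((α + β * (x : M2) 0 0) - (α + β * (x : M2) 1 1)) * (y : M2) 0 0 = 0 by
            linear_combination e00)).resolve_left hne'
        refine ⟨hy00, ?_⟩
        rw [tr_eq, hy00, zero_add] at htr
        exact htr
  · rintro (h | h | ⟨h0, h1⟩)
    · exact solvable_triangular_gen h10 h
    · -- a Weyl element exchanges the two triangular groups
      let W : SL2 := ⟨!![0, 1; 1, 0], by rw [Matrix.det_fin_two_of]; simp [CharTwo.neg_eq]⟩
      refine (solvable_closure_map (MulAut.conj W) x y).mp (solvable_triangular_gen ?_ ?_)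
      · rw [MulAut.conj_apply, Matrix.SpecialLinearGroup.coe_mul, Matrix.SpecialLinearGroup.coe_mul,
          Matrix.SpecialLinearGroup.coe_inv]
        simp [W, Matrix.adjugate_fin_two, Matrix.mul_apply, Matrix.vecMul, dotProduct, Fin.sum_univ_two, h01]
      · rw [MulAut.conj_apply, Matrix.SpecialLinearGroup.coe_mul, Matrix.SpecialLinearGroup.coe_mul,
          Matrix.SpecialLinearGroup.coe_inv]
        simp [W, Matrix.adjugate_fin_two, Matrix.mul_apply, Matrix.vecMul, dotProduct, Fin.sum_univ_two, h]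
    · refine solvable_closure_pair (zpowers_normalized (Or.inr ?_))
      rw [mul_inv_eq_iff_eq_mul]
      refine sl_ext ?_
      show (y : M2) * (x : M2) = ((x⁻¹ : SL2) : M2) * (y : M2)
      ext i k
      fin_cases i <;> fin_cases k <;>
        simp [Matrix.SpecialLinearGroup.coe_inv, Matrix.adjugate_fin_two, Matrix.mul_apply, Fin.sum_univ_two, h01,
          h10, h0, h1, mul_comm]

variable [Fintype F]

theorem card_upper_sol :
    Nat.card {y : SL2 // (y : M2) 1 0 = 0 ∨ tr y = 0 ∨ tr (upper (1 : F) * y) = 0} =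
      3 * Fintype.card F * (Fintype.card F - 1) := by
  classical
  set q := Fintype.card F
  let u : SL2 := upper (1 : F)
  set B : Finset SL2 := Finset.univ.filter fun y => (y : M2) 1 0 = 0
  set I : Finset SL2 := Finset.univ.filter fun y => tr y = 0
  set J : Finset SL2 := Finset.univ.filter fun y => tr (u * y) = 0
  have hB : B.card = (q - 1) * q := by
    rw [← card_borel, Nat.card_eq_fintype_card, Fintype.card_subtype]
    exact congrArg Finset.card (Finset.filter_congr fun y _ => (mem_borel_iff y).symm)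
  have hsqrt : ∀ c : F, ∃ z : F, z * z = c := fun c => by
    obtain ⟨z, hz⟩ := FiniteField.isSquare_of_char_two (ringChar.eq F 2) c
    exact ⟨z, hz.symm⟩
  choose s hs using hsqrt
  have hinj : ∀ a b : F, a * a = b * b → a = b := fun a b h => by
    rcases mul_self_eq_mul_self_iff.mp h with e | e
    · exact e
    · rw [e, CharTwo.neg_eq]
  let P : F × F → SL2 := fun bc => ⟨!![s (1 + bc.1 * bc.2), bc.1; bc.2, s (1 + bc.1 * bc.2)], by
    rw [Matrix.det_fin_two_of, hs]; ring⟩
  have hI : I.card = q * q := by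
    refine ((Finset.card_univ (α := F × F)).symm.trans ?_).symm.trans (by simp [q])
    refine Finset.card_bij (fun bc _ => P bc) ?_ ?_ ?_
    · intro bc _
      refine Finset.mem_filter.mpr ⟨Finset.mem_univ _, ?_⟩
      rw [tr_eq]
      simp [P, CharTwo.add_self_eq_zero]
    · intro a _ b _ h
      have h1 := congrArg (fun g : SL2 => (g : M2) 0 1) h
      have h2 := congrArg (fun g : SL2 => (g : M2) 1 0) h
      simp [P] at h1 h2
      exact Prod.ext h1 h2
    · intro g hg
      simp only [I, Finset.mem_filter, Finset.mem_univ, true_and] at hg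
      refine ⟨((g : M2) 0 1, (g : M2) 1 0), Finset.mem_univ _, sl_ext ?_⟩
      have h11 : (g : M2) 1 1 = (g : M2) 0 0 := by
        rw [tr_eq] at hg
        rw [eq_neg_of_add_eq_zero_right hg, CharTwo.neg_eq]
      have hd := det_eq g
      rw [h11] at hd
      have h00 : s (1 + (g : M2) 0 1 * (g : M2) 1 0) = (g : M2) 0 0 :=
        hinj _ _ (by rw [hs]; linear_combination -hd)
      ext i k
      fin_cases i <;> fin_cases k <;> simp [P, h00, h11]
  have huu : u * u = 1 := sq_of_tr_zero (by rw [tr_upper]; exact CharTwo.two_eq_zero)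
  have hJ : J.card = q * q := by
    rw [← hI]
    refine Finset.card_bij (fun y _ => u * y) ?_ ?_ ?_
    · intro y hy; simpa [I, J] using hy
    · intro a _ b _ h; exact mul_left_cancel h
    · intro g hg
      refine ⟨u * g, ?_, by rw [← mul_assoc, huu, one_mul]⟩
      simp only [I, J, Finset.mem_filter, Finset.mem_univ, true_and] at hg ⊢
      rwa [← mul_assoc, huu, one_mul]
  have htru : ∀ y : SL2, tr (u * y) = tr y + (y : M2) 1 0 := fun y => by
    rw [tr_eq, tr_eq, Matrix.SpecialLinearGroup.coe_mul]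
    simp [u, upper, Matrix.mul_apply, Fin.sum_univ_two]
    ring
  set W : Finset SL2 := Finset.univ.filter fun y => (y : M2) 1 0 = 0 ∧ tr y = 0
  have hW : W.card = q := by
    refine ((Finset.card_univ (α := F)).symm.trans ?_).symm
    refine Finset.card_bij (fun b _ => upper b) ?_ ?_ ?_
    · intro b _
      simp only [W, Finset.mem_filter, Finset.mem_univ, true_and, tr_upper]
      exact ⟨by simp [upper], CharTwo.two_eq_zero⟩
    · intro a _ b _ h
      simpa [upper] using congrArg (fun g : SL2 => (g : M2) 0 1) h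
    · intro g hg
      simp only [W, Finset.mem_filter, Finset.mem_univ, true_and] at hg
      have hd := det_eq g
      have h11 : (g : M2) 1 1 = (g : M2) 0 0 := by
        have h := hg.2
        rw [tr_eq] at h
        rw [eq_neg_of_add_eq_zero_right h, CharTwo.neg_eq]
      rw [hg.1, h11, mul_zero, sub_zero] at hd
      have h00 : (g : M2) 0 0 = 1 := hinj _ 1 (by rw [hd, one_mul])
      refine ⟨(g : M2) 0 1, Finset.mem_univ _, sl_ext ?_⟩
      ext i k
      fin_cases i <;> fin_cases k <;> simp [upper, hg.1, h00, h11]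
  have i1 : B ∩ I = W := by ext y; simp [B, I, W]
  have i2 : (B ∪ I) ∩ J = W := by
    ext y
    simp only [B, I, J, W, Finset.mem_inter, Finset.mem_union, Finset.mem_filter, Finset.mem_univ, true_and, htru]
    constructor
    · rintro ⟨h | h, h'⟩
      · exact ⟨h, by rwa [h, add_zero] at h'⟩
      · exact ⟨by rwa [h, zero_add] at h', h⟩
    · rintro ⟨h, h'⟩; exact ⟨Or.inl h, by rw [h, h', add_zero]⟩
  have h1 := Finset.card_union_add_card_inter B I
  have h2 := Finset.card_union_add_card_inter (B ∪ I) J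
  rw [i1, hW, hB, hI] at h1
  rw [i2, hW, hJ] at h2
  rw [Nat.card_eq_fintype_card, Fintype.card_subtype, show (Finset.univ.filter fun y : SL2 =>
    (y : M2) 1 0 = 0 ∨ tr y = 0 ∨ tr (u * y) = 0) = B ∪ I ∪ J by ext y; simp [B, I, J, or_assoc]]
  have hq : 1 ≤ q := Fintype.card_pos
  obtain ⟨k, hk⟩ : ∃ k, q = k + 1 := ⟨q - 1, by omega⟩
  rw [hk] at h1 h2 ⊢
  simp only [Nat.add_sub_cancel] at h1 h2 ⊢
  nlinarith [h1, h2]

/-- The solubilizer of an element of a nonsplit torus. -/
theorem solCard_nonsplit {x : SL2} (ht : tr x ≠ 0) (hns : ¬ IsSplit x) : solCard x = 2 * (Fintype.card F + 1) := by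
  classical
  have hx1 : x ≠ 1 := fun h => ht (by rw [h, tr_eq]; simp [CharTwo.add_self_eq_zero])
  have hxC := notMem_center_of_ne hx1
  have ht4 : tr x ^ 2 ≠ 4 := fun h => ht (tr_zero_iff.mp h)
  have hiff : ∀ y, Group.IsSolvable (Subgroup.closure ({x, y} : Set SL2)) ↔
      (y * x * y⁻¹ = x ∨ y * x * y⁻¹ = x⁻¹) := by
    intro y
    refine ⟨fun hs => ?_, fun h => solvable_closure_pair (zpowers_normalized h)⟩
    rcases solvable_cases hx1 hs with ⟨v, c, d, hv, hxv, -⟩ | ⟨a, ha, hxa, hya⟩
    · refine absurd ⟨c, ?_⟩ hns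
      have h := congrArg (fun A : M2 => A *ᵥ v) (sq_eq x)
      simp only [← Matrix.mulVec_mulVec, hxv, Matrix.mulVec_smul, Matrix.sub_mulVec, Matrix.smul_mulVec,
        Matrix.one_mulVec, smul_smul] at h
      have h0 : (c ^ 2 - tr x * c + 1) • v = 0 := by
        rw [add_smul, sub_smul, one_smul, pow_two, h]; abel
      exact (smul_eq_zero.mp h0).resolve_right hv
    · have hxa' : x * a * x⁻¹ = a := hxa.resolve_right fun h => ht (tr_zero_of_inverts ha h)
      have haC : a ∉ Subgroup.center SL2 := notMem_center_of_ne fun h => ha (by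
        rw [h, tr_eq]; simp [CharTwo.add_self_eq_zero])
      have hC : Subgroup.centralizer ({a} : Set SL2) = Subgroup.centralizer {x} :=
        centralizer_eq hxC haC (mem_centralizer_iff.mpr (mul_inv_eq_iff_eq_mul.mp hxa').symm)
      refine eq_or_eq_inv_of_tr hxC ht4 ?_ (tr_conj _ _)
      have hxaC : x ∈ Subgroup.centralizer ({a} : Set SL2) := mem_centralizer_iff.mpr (mul_inv_eq_iff_eq_mul.mp hxa')
      have h1 := (conj_mem_centralizer_iff y x a).mpr hxaC
      rcases hya with hy | hy <;> rw [hy] at h1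
      · rw [← hC]; exact h1
      · rw [← hC, mem_centralizer_iff]
        have h2 := mem_centralizer_iff.mp h1
        have h3 := (Commute.inv_right (show Commute (y * x * y⁻¹) a⁻¹ from h2))
        rw [inv_inv] at h3
        exact h3.eq
  set C : Finset SL2 := Finset.univ.filter fun y => y * x * y⁻¹ = x
  set D : Finset SL2 := Finset.univ.filter fun y => y * x * y⁻¹ = x⁻¹
  have hC : C.card = Fintype.card F + 1 := by
    rw [← card_cell_nonsplit hxC ht4 hns, Nat.card_eq_fintype_card, Fintype.card_subtype]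
    refine congrArg Finset.card (Finset.filter_congr fun y _ => ?_)
    rw [mul_inv_eq_iff_eq_mul, cell, Subgroup.mem_inf, mem_centralizer_iff]
    simp
  obtain ⟨g, hg, hgc⟩ := exists_inverting hxC ht4
  have hg' : g * x * g⁻¹ = x⁻¹ := by
    have h2 : g * x * g⁻¹ ∈ MulAut.conj g • cell ⊤ x :=
      ⟨x, mem_cell_self ⊤ (Subgroup.mem_top _), rfl⟩
    rw [((mem_cellNorm_iff ⊤).mp hg).2] at h2
    rcases eq_or_eq_inv_of_tr hxC ht4 h2.1 (tr_conj _ _) with h | h
    · exact absurd ⟨mem_centralizer_iff.mpr (mul_inv_eq_iff_eq_mul.mp h), Subgroup.mem_top _⟩ hgc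
    · exact h
  have hD : D.card = C.card := by
    refine Finset.card_bij (fun y _ => g⁻¹ * y) ?_ ?_ ?_
    · intro y hy
      simp only [C, D, Finset.mem_filter, Finset.mem_univ, true_and] at hy ⊢
      calc g⁻¹ * y * x * (g⁻¹ * y)⁻¹ = g⁻¹ * (y * x * y⁻¹) * g := by group
        _ = g⁻¹ * (g * x * g⁻¹) * g := by rw [hy, hg']
        _ = x := by group
    · intro a _ b _ h; exact mul_left_cancel h
    · intro z hz
      refine ⟨g * z, ?_, inv_mul_cancel_left g z⟩
      simp only [C, D, Finset.mem_filter, Finset.mem_univ, true_and] at hz ⊢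
      rw [show g * z * x * (g * z)⁻¹ = g * (z * x * z⁻¹) * g⁻¹ by group, hz, hg']
  have hdis : Disjoint C D := by
    rw [Finset.disjoint_left]
    intro y hy hy'
    simp only [C, D, Finset.mem_filter, Finset.mem_univ, true_and] at hy hy'
    refine ht ?_
    have hxx : x * x = 1 := eq_inv_iff_mul_eq_one.mp (hy.symm.trans hy')
    have := sq_eq x
    rw [show (x : M2) * (x : M2) = 1 from congrArg (fun e : SL2 => (e : M2)) hxx] at this
    by_contra h0
    have h10 : (x : M2) 1 0 = 0 := by
      have e := congrFun (congrFun this 1) 0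
      simp at e; exact e.resolve_left h0
    exact hns ⟨(x : M2) 0 0, by
      have hd := det_eq x
      rw [h10] at hd
      rw [tr_eq]; linear_combination -hd⟩
  rw [solCard, Nat.card_congr (Equiv.subtypeEquivRight hiff), Nat.card_eq_fintype_card, Fintype.card_subtype,
    show (Finset.univ.filter fun y : SL2 => y * x * y⁻¹ = x ∨ y * x * y⁻¹ = x⁻¹) = C ∪ D by ext y; simp [C, D],
    Finset.card_union_of_disjoint hdis, hD, hC]
  ring

/-- The solubilizer of an involution. -/
theorem solCard_involution {x : SL2} (hx : x ≠ 1) (ht : tr x = 0) :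
    solCard x = 3 * Fintype.card F * (Fintype.card F - 1) := by
  obtain ⟨v, ε, hv, hε, -, hxv⟩ := exists_fixed_vector (tr_zero_iff.mpr ht)
  obtain rfl : ε = 1 := by
    rcases mul_self_eq_one_iff.mp hε with h | h
    · exact h
    · rw [h, CharTwo.neg_eq]
  obtain ⟨g, -, hg⟩ := exists_triangular hv hxv
  set x₁ := g⁻¹ * x * g with hx₁
  obtain ⟨h00, h10⟩ := mulVec_basis_zero.mp hg
  have ht1 : tr x₁ = 0 := by rw [hx₁, show g⁻¹ * x * g = g⁻¹ * x * g⁻¹⁻¹ by rw [inv_inv], tr_conj, ht]
  have h11 : (x₁ : M2) 1 1 = 1 := by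
    rw [tr_eq, h00] at ht1
    rw [eq_neg_of_add_eq_zero_right ht1, CharTwo.neg_eq]
  set b := (x₁ : M2) 0 1 with hb
  have hx1 : x₁ = upper b := sl_ext (by
    ext i k; fin_cases i <;> fin_cases k <;> simp [upper, h00, h10, h11, hb])
  have hb0 : b ≠ 0 := fun h0 => hx (by
    have e : x₁ = 1 := sl_ext (by
      ext i k; fin_cases i <;> fin_cases k <;> simp [h00, h10, h11, ← hb, h0])
    calc x = g * x₁ * g⁻¹ := by rw [hx₁]; group
      _ = 1 := by rw [e, mul_one, mul_inv_cancel])
  obtain ⟨s, hs⟩ := FiniteField.isSquare_of_char_two (ringChar.eq F 2) b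
  have hs0 : s ≠ 0 := fun h0 => hb0 (by rw [hs, h0, mul_zero])
  let d : SL2 := ⟨!![s, 0; 0, s⁻¹], by rw [Matrix.det_fin_two_of]; field_simp; ring⟩
  have hd : d⁻¹ * x₁ * d = upper 1 := by
    rw [mul_assoc, inv_mul_eq_iff_eq_mul, hx1]
    refine sl_ext ?_
    show (upper b : M2) * (d : M2) = (d : M2) * (upper (1 : F) : M2)
    ext i k
    fin_cases i <;> fin_cases k <;> simp [d, upper, Matrix.mul_apply, Fin.sum_univ_two, hs]
  rw [← solCard_conj g x, ← hx₁, ← solCard_conj d x₁, hd, solCard,
    Nat.card_congr (Equiv.subtypeEquivRight solvable_upper_iff), card_upper_sol]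

/-- The solubilizer of an element of a split torus. -/
theorem solCard_split {x : SL2} (ht : tr x ≠ 0) (hs : IsSplit x) :
    solCard x = 2 * Fintype.card F * (Fintype.card F - 1) := by
  obtain ⟨r, hr⟩ := hs
  obtain ⟨v, hv, hxv⟩ : ∃ v : Fin 2 → F, v ≠ 0 ∧ ((x : M2) - r • (1 : M2)) *ᵥ v = 0 := by
    refine Matrix.exists_mulVec_eq_zero_iff.mpr ?_
    have hd := det_eq x
    rw [Matrix.det_fin_two]
    rw [tr_eq] at hr
    simp
    linear_combination hr + hd
  rw [Matrix.sub_mulVec, Matrix.smul_mulVec, Matrix.one_mulVec, sub_eq_zero] at hxv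
  obtain ⟨g, -, hg⟩ := exists_triangular hv hxv
  set x₁ := g⁻¹ * x * g with hx₁
  obtain ⟨h00, h10⟩ := mulVec_basis_zero.mp hg
  have ht1 : tr x₁ ≠ 0 := by rw [hx₁, show g⁻¹ * x * g = g⁻¹ * x * g⁻¹⁻¹ by rw [inv_inv], tr_conj]; exact ht
  have hne : (x₁ : M2) 0 0 ≠ (x₁ : M2) 1 1 := fun h => ht1 (by rw [tr_eq, h]; exact CharTwo.add_self_eq_zero _)
  set s := (x₁ : M2) 0 1 / ((x₁ : M2) 1 1 - (x₁ : M2) 0 0)
  have hsub : (x₁ : M2) 1 1 - (x₁ : M2) 0 0 ≠ 0 := sub_ne_zero.mpr hne.symm
  set x₂ := (upper s)⁻¹ * x₁ * upper s with hx₂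
  have hval : (x₂ : M2) 1 0 = 0 ∧ (x₂ : M2) 0 1 = 0 := by
    rw [hx₂, Matrix.SpecialLinearGroup.coe_mul, Matrix.SpecialLinearGroup.coe_mul, Matrix.SpecialLinearGroup.coe_inv]
    simp [Matrix.adjugate_fin_two, upper, Matrix.mul_apply, Matrix.vecMul, dotProduct, Fin.sum_univ_two, h10, s]
    field_simp
    ring
  rw [← solCard_conj g x, ← hx₁, ← solCard_conj (upper s) x₁, ← hx₂, solCard,
    Nat.card_congr (Equiv.subtypeEquivRight (solvable_diag_iff hval.2 hval.1 (by
      rw [hx₂, show (upper s)⁻¹ * x₁ * upper s = (upper s)⁻¹ * x₁ * (upper s)⁻¹⁻¹ by rw [inv_inv], tr_conj]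
      exact ht1))), card_diag_sol]

/-- Solubilizers in `PSL₂`, `q` even. -/
theorem solubilizer_even (x : Matrix.ProjectiveSpecialLinearGroup (Fin 2) F) :
    (orderOf x = 2 → solCard x = 3 * Fintype.card F * (Fintype.card F - 1)) ∧
    (x ≠ 1 → orderOf x ∣ Fintype.card F - 1 → solCard x = 2 * Fintype.card F * (Fintype.card F - 1)) ∧
    (x ≠ 1 → orderOf x ∣ Fintype.card F + 1 → solCard x = 2 * (Fintype.card F + 1)) := by
  classical
  have hbij : Function.Bijective (toPSL : SL2 →* _) := by
    refine ⟨?_, toPSL_surjective⟩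
    intro a b h
    rcases toPSL_eq.mp h with e | e
    · exact e.symm
    · rw [e]
      refine sl_ext ?_
      ext i k
      simp [CharTwo.neg_eq]
  let E : SL2 ≃* Matrix.ProjectiveSpecialLinearGroup (Fin 2) F := MulEquiv.ofBijective toPSL hbij
  obtain ⟨y, rfl⟩ := E.surjective x
  rw [solCard_map, MulEquiv.orderOf_eq, map_ne_one_iff E E.injective]
  have hq : Even (Fintype.card F) := by
    rw [Nat.even_iff]; exact FiniteField.even_card_of_char_two (ringChar.eq F 2)
  have htr0 : y ≠ 1 → tr y = 0 → orderOf y = 2 := fun h1 h => by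
    haveI : Fact (Nat.Prime 2) := ⟨Nat.prime_two⟩
    exact orderOf_eq_prime (by rw [pow_two, sq_of_tr_zero h]) h1
  have hodd : ∀ {k}, k = Fintype.card F - 1 ∨ k = Fintype.card F + 1 → y ≠ 1 → orderOf y ∣ k → tr y ≠ 0 := by
    intro k hk h1 hdvd h
    rw [htr0 h1 h] at hdvd
    obtain ⟨i, hi⟩ := hq
    obtain ⟨l, hl⟩ := hdvd
    have := Fintype.card_pos (α := F)
    omega
  have hcell : ∀ {k}, Nat.card (cell ⊤ y) = k → orderOf y ∣ k := fun {k} hk => by
    rw [← hk, ← Subgroup.orderOf_mk y (mem_cell_self ⊤ (Subgroup.mem_top y))]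
    exact orderOf_dvd_natCard _
  have hone : y ≠ 1 → orderOf y ∣ Fintype.card F - 1 → orderOf y ∣ Fintype.card F + 1 → False := fun h1 ha hb => by
    have h2 := Nat.dvd_sub hb ha
    have := Fintype.card_pos (α := F)
    rw [show Fintype.card F + 1 - (Fintype.card F - 1) = 2 by omega] at h2
    rcases (Nat.dvd_prime Nat.prime_two).mp h2 with h | h
    · exact h1 (orderOf_eq_one_iff.mp h)
    · rw [h] at hb
      obtain ⟨i, hi⟩ := hq
      obtain ⟨l, hl⟩ := hb
      omega
  refine ⟨fun h => ?_, fun h1 hd => ?_, fun h1 hd => ?_⟩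
  · have h1 : y ≠ 1 := fun e => by rw [e, orderOf_one] at h; omega
    refine solCard_involution h1 ?_
    have hyy : y * y = 1 := by
      have := pow_orderOf_eq_one y
      rwa [h, pow_two] at this
    have := congrArg tr hyy
    rw [show tr (y * y) = tr y * tr y - 2 by
      show ((y : M2) * (y : M2)).trace = _
      rw [sq_eq, trace_sub, trace_smul, trace_one, smul_eq_mul, Fintype.card_fin]; rfl,
      show tr (1 : SL2) = 2 by rw [tr_eq]; simp; norm_num, CharTwo.two_eq_zero, sub_zero] at this
    exact mul_self_eq_zero.mp this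
  · have ht := hodd (Or.inl rfl) h1 hd
    refine solCard_split ht ?_
    by_contra hns
    exact hone h1 hd (hcell (card_cell_nonsplit (notMem_center_of_ne h1) (fun h => ht (tr_zero_iff.mp h)) hns))
  · have ht := hodd (Or.inr rfl) h1 hd
    refine solCard_nonsplit ht fun hs => ?_
    exact hone h1 (hcell (card_cell_split (notMem_center_of_ne h1) (fun h => ht (tr_zero_iff.mp h)) hs)) hd

end Cfsg.Agent.Lib.Geometry.Dickson
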