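import Cfsg.Agent.Lib.Geometry.Dickson.Count
import Cfsg.Agent.Lib.Classical.LinearCard

/-!
The two types of maximal abelian subgroups: tori and unipotent subgroups.
-/

set_option autoImplicit false

namespace Cfsg.Agent.Lib.Geometry.Dickson

open Matrix
open scoped Matrix MatrixGroups Pointwise
open Cfsg.Agent.Lib.SL2Trace (tr tr_conj tr_neg toPSL toPSL_eq toPSL_eq_one mem_center_iff)

variable {F : Type*} [Field F]

local notation "SL2" => Matrix.SpecialLinearGroup (Fin 2) F
local notation "M2" => Matrix (Fin 2) (Fin 2) F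

variable (G : Subgroup (Matrix.SpecialLinearGroup (Fin 2) F))

theorem conj_notMem_center {y : SL2} (hy : y ∉ Subgroup.center SL2) (g : SL2) :
    g * y * g⁻¹ ∉ Subgroup.center SL2 := fun h => hy (by
  have := (inferInstance : (Subgroup.center SL2).Normal).conj_mem _ h g⁻¹
  simpa [mul_assoc] using this)

/-- The centraliser of a unipotent type element consists of elements of trace `±2`. -/
theorem tr_sq_of_mem {y x : SL2} (hy : y ∉ Subgroup.center SL2) (ht : tr y ^ 2 = 4)
    (hx : x ∈ Subgroup.centralizer ({y} : Set SL2)) : tr x ^ 2 = 4 := by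
  obtain ⟨ε, hε, hty⟩ := exists_eps ht
  obtain ⟨a, b, hX⟩ := exists_combination hy hx
  have h := Cfsg.Agent.Lib.KnownA.det_add_smul (y : M2) a b
  rw [← hX, x.2, show (y : M2).trace = 2 * ε from hty, show (y : M2).det = 1 from y.2] at h
  have htr : tr x = 2 * (a + b * ε) := by
    show (x : M2).trace = _
    rw [hX, trace_add, trace_smul, trace_smul, trace_one, show (y : M2).trace = 2 * ε from hty,
      smul_eq_mul, smul_eq_mul, Fintype.card_fin]
    push_cast
    ring
  rw [htr]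
  linear_combination -4 * h + 4 * b * b * hε

theorem tr_sq_ne_of_cell {y x : SL2} (hy : y ∉ Subgroup.center SL2) (ht : tr y ^ 2 ≠ 4)
    (hx : x ∈ cell G y) (hxZ : x ∉ Subgroup.center SL2) : tr x ^ 2 ≠ 4 := fun h =>
  ht (tr_sq_of_mem hxZ h (mem_centralizer_iff.mpr (mem_centralizer_iff.mp hx.1).symm))

/-! Tori. -/

theorem torus_isCyclic [Finite G] {y : SL2} (hy : y ∉ Subgroup.center SL2) (ht : tr y ^ 2 ≠ 4) :
    IsCyclic (cell G y) := by
  haveI : Finite (cell G y) := Finite.of_injective (Subgroup.inclusion (inf_le_right : cell G y ≤ G))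
    (Subgroup.inclusion_injective _)
  refine Cfsg.Agent.Lib.Classical.isCyclic_of_commute ?_ hy fun g hg => mem_centralizer_iff.mp hg.1
  intro x hx hu
  by_contra hne
  have hsq := Cfsg.Agent.Lib.SL2Trace.sq_eq x
  rw [sub_mul, mul_sub, mul_sub, mul_one, one_mul, mul_one, hsq] at hu
  have htr : tr x = 2 ∨ (x : M2) = 0 := by
    have h : (tr x - 2) • (x : M2) = 0 := by
      rw [sub_smul, two_smul, ← hu]; abel
    rcases smul_eq_zero.mp h with h | h
    · exact Or.inl (sub_eq_zero.mp h)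
    · exact Or.inr h
  have htr : tr x = 2 := by
    rcases htr with h | h
    · exact h
    · exfalso
      have := x.2
      rw [h, Matrix.det_zero] at this
      exact zero_ne_one this
  by_cases hxZ : x ∈ Subgroup.center SL2
  · rcases mem_center_iff.mp hxZ with rfl | rfl
    · exact hne rfl
    · apply hne
      have h2 : (2 : F) * 2 = 0 := by
        rw [tr_neg, show tr (1 : SL2) = 2 by simp [Cfsg.Agent.Lib.SL2Trace.tr_eq]; norm_num] at htr
        linear_combination -htr
      have h20 : (2 : F) = 0 := mul_self_eq_zero.mp h2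
      refine sl_ext ?_
      ext i j
      simp
      linear_combination (-(1 : M2) i j) * h20
  · exact tr_sq_ne_of_cell G hy ht hx hxZ (by rw [htr]; ring)

theorem torus_inverts {y g : SL2} (hy : y ∈ G) (hyZ : y ∉ Subgroup.center SL2) (ht : tr y ^ 2 ≠ 4)
    (hg : g ∈ cellNorm G y) (hgc : g ∉ cell G y) {x : SL2} (hx : x ∈ cell G y) :
    g * x * g⁻¹ = x⁻¹ := by
  obtain ⟨hgG, hgA⟩ := (mem_cellNorm_iff G).mp hg
  by_cases hxZ : x ∈ Subgroup.center SL2
  · rw [Subgroup.mem_center_iff.mp hxZ g, mul_inv_cancel_right]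
    rcases mem_center_iff.mp hxZ with rfl | rfl
    · simp
    · refine (inv_eq_of_mul_eq_one_right ?_).symm
      simp
  have hconj : g * x * g⁻¹ ∈ cell G y := by
    rw [← hgA]
    exact Subgroup.smul_mem_pointwise_smul x (MulAut.conj g) _ hx
  have hcx := cell_eq G hyZ hxZ hx
  have hmem : g * x * g⁻¹ ∈ Subgroup.centralizer ({x} : Set SL2) := by
    rw [← hcx] at hconj; exact hconj.1
  rcases eq_or_eq_inv_of_tr hxZ (tr_sq_ne_of_cell G hyZ ht hx hxZ) hmem (tr_conj x g) with h | h
  · exfalso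
    apply hgc
    rw [← hcx]
    exact ⟨mem_centralizer_iff.mpr (mul_inv_eq_iff_eq_mul.mp h), hgG⟩
  · exact h

theorem torus_index [Finite G] {y : SL2} (hy : y ∈ G) (hyZ : y ∉ Subgroup.center SL2)
    (ht : tr y ^ 2 ≠ 4) :
    Nat.card (cellNorm G y) = Nat.card (cell G y) ∨
      (Nat.card (cellNorm G y) = 2 * Nat.card (cell G y) ∧ ∃ g ∈ cellNorm G y, g ∉ cell G y) := by
  by_cases h : cellNorm G y ≤ cell G y
  · exact Or.inl (by rw [le_antisymm h (cell_le_cellNorm G y)])
  right
  obtain ⟨g, hg, hgc⟩ := SetLike.not_le_iff_exists.mp h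
  refine ⟨?_, g, hg, hgc⟩
  set K := (cell G y).subgroupOf (cellNorm G y) with hK
  have hidx : K.index = 2 := by
    refine Subgroup.index_eq_two_iff.mpr ⟨⟨g, hg⟩, fun b => ?_⟩
    rw [xor_iff_not_iff, Subgroup.mem_subgroupOf, Subgroup.mem_subgroupOf]
    show ¬ ((b : SL2) * g ∈ cell G y ↔ (b : SL2) ∈ cell G y)
    intro hiff
    by_cases hb : (b : SL2) ∈ cell G y
    · exact hgc (((cell G y).mul_mem_cancel_left hb).mp (hiff.mpr hb))
    · refine hb (hiff.mp ?_)
      have hbg : (b : SL2) * g ∈ cellNorm G y := (cellNorm G y).mul_mem b.2 hg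
      by_contra hbgc
      have e1 := torus_inverts G hy hyZ ht b.2 hb (mem_cell_self G hy)
      have e2 := torus_inverts G hy hyZ ht hg hgc (mem_cell_self G hy)
      have e3 := torus_inverts G hy hyZ ht hbg hbgc (mem_cell_self G hy)
      have e4 : (b : SL2) * (g * y * g⁻¹) * (b : SL2)⁻¹ = y⁻¹ := by rw [← e3]; group
      rw [e2, show (b : SL2) * y⁻¹ * (b : SL2)⁻¹ = ((b : SL2) * y * (b : SL2)⁻¹)⁻¹ by group, e1,
        inv_inv] at e4
      have hyy : y * y = 1 := mul_eq_one_iff_eq_inv.mpr e4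
      apply hb
      have : (b : SL2) * y * (b : SL2)⁻¹ = y := e1.trans e4.symm
      exact ⟨mem_centralizer_iff.mpr (mul_inv_eq_iff_eq_mul.mp this), b.2.2⟩
  rw [← K.index_mul_card, hidx,
    Nat.card_congr (Subgroup.subgroupOfEquivOfLe (cell_le_cellNorm G y)).toEquiv]

theorem two_le_of_notMem [Finite G] (hZ : Subgroup.center SL2 ≤ G) {y : SL2} (hy : y ∈ G)
    (hyZ : y ∉ Subgroup.center SL2) :
    ∃ a, 2 ≤ a ∧ Nat.card (cell G y) = Nat.card (Subgroup.center SL2) * a := by
  haveI : Finite (cell G y) := Finite.of_injective (Subgroup.inclusion (inf_le_right : cell G y ≤ G))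
    (Subgroup.inclusion_injective _)
  have hle := center_le_cell G hZ y
  have hdvd : Nat.card (Subgroup.center SL2) ∣ Nat.card (cell G y) := Subgroup.card_dvd_of_le hle
  obtain ⟨a, ha⟩ := hdvd
  refine ⟨a, ?_, ha⟩
  have hlt : Nat.card (Subgroup.center SL2) < Nat.card (cell G y) := by
    refine lt_of_le_of_ne (Nat.le_of_dvd Nat.card_pos ⟨a, ha⟩) fun h => hyZ ?_
    have : Subgroup.center SL2 = cell G y := Subgroup.eq_of_le_of_card_ge hle h.ge
    rw [this]
    exact mem_cell_self G hy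
  rw [ha] at hlt
  by_contra h
  interval_cases a <;> simp at hlt

/-- The torus order divides `(q ± 1) / d`. -/
theorem torus_card_dvd [Fintype F] [Finite G] {y : SL2} (hyZ : y ∉ Subgroup.center SL2)
    (ht : tr y ^ 2 ≠ 4) (hy : y ∈ G) :
    Nat.card (cell G y) ∣ Fintype.card F - 1 ∨ Nat.card (cell G y) ∣ Fintype.card F + 1 := by
  classical
  haveI := torus_isCyclic G hyZ ht
  obtain ⟨⟨c, hc⟩, hgen⟩ := IsCyclic.exists_generator (α := cell G y)
  have hcard : orderOf c = Nat.card (cell G y) := by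
    rw [← Subgroup.orderOf_mk c hc]
    exact orderOf_eq_card_of_forall_mem_zpowers hgen
  have hcZ : c ∉ Subgroup.center SL2 := fun h => by
    obtain ⟨k, hk⟩ := hgen ⟨y, mem_cell_self G hy⟩
    have hk' : c ^ k = y := congrArg Subtype.val hk
    exact hyZ (hk' ▸ Subgroup.zpow_mem _ h k)
  rw [← hcard]
  rcases Cfsg.Agent.Lib.SL2Trace.pow_dichotomy (tr_sq_ne_of_cell G hyZ ht hc hcZ) with ⟨-, h⟩ | ⟨-, h⟩
  · exact Or.inl (orderOf_dvd_of_pow_eq_one h)
  · exact Or.inr (orderOf_dvd_of_pow_eq_one h)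

/-! Unipotent type. -/

variable [Finite G] (p : ℕ) [Fact p.Prime] [CharP F p]

theorem cell_map_isPGroup {y : SL2} (hy : y ∉ Subgroup.center SL2) (ht : tr y ^ 2 = 4) :
    IsPGroup p ((cell G y).map toPSL) := by
  rintro ⟨_, x, hx, rfl⟩
  refine ⟨1, Subtype.ext ?_⟩
  rw [pow_one, Subgroup.coe_pow, Subgroup.coe_one, ← map_pow, toPSL_eq_one]
  exact Cfsg.Agent.Lib.SL2Trace.pow_char_of_tr p (tr_sq_of_mem hy ht hx.1)

theorem card_map_toPSL (hZ : Subgroup.center SL2 ≤ G) (A : Subgroup SL2) (hA : Subgroup.center SL2 ≤ A)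
    (hAG : A ≤ G) :
    Nat.card A = Nat.card (Subgroup.center SL2) * Nat.card (A.map toPSL) := by
  let f : A →* A.map toPSL := (toPSL.comp A.subtype).codRestrict _ fun x => ⟨x.1, x.2, rfl⟩
  have hf : Function.Surjective f := fun ⟨_, x, hx, e⟩ => ⟨⟨x, hx⟩, Subtype.ext e⟩
  have hker : f.ker = (Subgroup.center SL2).subgroupOf A := by
    ext x
    rw [MonoidHom.mem_ker, Subgroup.mem_subgroupOf, Subtype.ext_iff]
    show toPSL (x : SL2) = 1 ↔ _
    rw [toPSL_eq_one, mem_center_iff]
  have h := f.ker.card_mul_index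
  rw [Subgroup.index_ker, MonoidHom.range_eq_top.mpr hf, Subgroup.card_top, hker,
    Nat.card_congr (Subgroup.subgroupOfEquivOfLe hA).toEquiv] at h
  exact h.symm

include p in
/-- All cells of unipotent type are conjugate in `G`, their images are Sylow `p`-subgroups. -/
theorem unipotent_cls_eq (hZ : Subgroup.center SL2 ≤ G) {y y' : SL2} (hy : y ∈ G) (hy' : y' ∈ G)
    (hyZ : y ∉ Subgroup.center SL2) (hyZ' : y' ∉ Subgroup.center SL2) (ht : tr y ^ 2 = 4)
    (ht' : tr y' ^ 2 = 4) : cls G y = cls G y' := by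
  have hmax : ∀ {u : SL2}, u ∈ G → u ∉ Subgroup.center SL2 → tr u ^ 2 = 4 →
      ∃ S : Sylow p (G.map (toPSL : SL2 →* _)),
        (S : Subgroup (G.map (toPSL : SL2 →* _))).map (G.map toPSL).subtype = (cell G u).map toPSL := by
    intro u hu huZ htu
    set H := G.map (toPSL : SL2 →* Matrix.ProjectiveSpecialLinearGroup (Fin 2) F) with hH
    haveI : Finite H := Finite.of_surjective
      ((toPSL.comp G.subtype).codRestrict H fun x => ⟨x.1, x.2, rfl⟩)
      (fun ⟨_, x, hx, e⟩ => ⟨⟨x, hx⟩, Subtype.ext e⟩)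
    have hle : (cell G u).map toPSL ≤ H := Subgroup.map_mono inf_le_right
    have hP : IsPGroup p (((cell G u).map toPSL).subgroupOf H) :=
      (cell_map_isPGroup G p huZ htu).of_equiv (Subgroup.subgroupOfEquivOfLe hle).symm
    obtain ⟨S, hS⟩ := hP.exists_le_sylow
    refine ⟨S, le_antisymm ?_ ?_⟩
    swap
    · intro x hx
      exact ⟨⟨x, hle hx⟩, hS hx, rfl⟩
    have hne : ((S : Subgroup H)) ≠ ⊥ := fun h => by
      have h1 : (⟨toPSL u, hle ⟨u, mem_cell_self G hu, rfl⟩⟩ : H) ∈ (S : Subgroup H) :=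
        hS ⟨u, mem_cell_self G hu, rfl⟩
      rw [h, Subgroup.mem_bot] at h1
      exact huZ (mem_center_iff.mpr (toPSL_eq_one.mp (congrArg Subtype.val h1)))
    haveI : Nontrivial (S : Subgroup H) := Subgroup.nontrivial_iff_ne_bot _ |>.mpr hne
    haveI := (S.2).center_nontrivial
    obtain ⟨z, hz⟩ := exists_ne (1 : Subgroup.center (S : Subgroup H))
    obtain ⟨w, hwG, hw⟩ := z.1.1.2
    have hcomm : ∀ s : (S : Subgroup H), ∀ x : SL2, toPSL x = (s.1 : Matrix.ProjectiveSpecialLinearGroup (Fin 2) F) →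
        x * w * x⁻¹ = w ∨ x * w * x⁻¹ = -w := by
      intro s x hx
      have h : toPSL (x * w * x⁻¹) = toPSL w := by
        rw [map_mul, map_mul, map_inv, hx, hw]
        have := congrArg (fun e : (S : Subgroup H) => (e.1.1)) (Subgroup.mem_center_iff.mp z.2 s)
        exact mul_inv_eq_iff_eq_mul.mpr this
      rcases toPSL_eq.mp h.symm with h' | h'
      · exact Or.inl h'
      · exact Or.inr h'
    have hwZ : w ∉ Subgroup.center SL2 := fun h => hz (by
      refine Subtype.ext (Subtype.ext (Subtype.ext ?_))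
      show z.1.1.1 = 1
      rw [← hw]
      exact toPSL_eq_one.mpr (mem_center_iff.mp h))
    have hneg : ∀ {a b : SL2}, tr a ^ 2 = 4 → b * a * b⁻¹ = -a → b * a * b⁻¹ = a := by
      intro a b hta hb
      have h := tr_conj a b
      rw [hb, tr_neg] at h
      have h20 : (2 : F) = 0 := by
        have h2 : (2 : F) * tr a = 0 := by linear_combination -h
        rcases mul_eq_zero.mp h2 with h3 | h3
        · exact h3
        · rw [h3] at hta
          exact mul_self_eq_zero.mp (by linear_combination -hta)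
      rw [hb]
      refine sl_ext ?_
      ext i j
      simp
      linear_combination (-(a : M2) i j) * h20
    have hwu : w ∈ cell G u := by
      have h := hcomm ⟨⟨toPSL u, hle ⟨u, mem_cell_self G hu, rfl⟩⟩, hS ⟨u, mem_cell_self G hu, rfl⟩⟩ u rfl
      refine ⟨mem_centralizer_iff.mpr ?_, hwG⟩
      rcases h with h | h
      · exact (mul_inv_eq_iff_eq_mul.mp h).symm
      · have h' : w * u * w⁻¹ = -u := by
          have h2 : u * w = -(w * u) := by
            have := congrArg (· * u) h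
            simpa using this
          have h3 : w * u = -(u * w) := by rw [h2, neg_neg]
          rw [h3]; simp
        exact mul_inv_eq_iff_eq_mul.mp (hneg htu h')
    have htw : tr w ^ 2 = 4 := tr_sq_of_mem huZ htu hwu.1
    rintro _ ⟨s, hs, rfl⟩
    obtain ⟨x, hxG, hx⟩ := s.2
    refine ⟨x, ?_, hx⟩
    rw [← cell_eq G huZ hwZ hwu]
    refine ⟨mem_centralizer_iff.mpr ?_, hxG⟩
    rcases hcomm ⟨s, hs⟩ x hx with h | h
    · exact mul_inv_eq_iff_eq_mul.mp h
    · exact mul_inv_eq_iff_eq_mul.mp (hneg htw h)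
  obtain ⟨S, hS⟩ := hmax hy hyZ ht
  obtain ⟨S', hS'⟩ := hmax hy' hyZ' ht'
  haveI : Finite (G.map (toPSL : SL2 →* Matrix.ProjectiveSpecialLinearGroup (Fin 2) F)) :=
    Finite.of_surjective ((toPSL.comp G.subtype).codRestrict (G.map toPSL) fun x => ⟨x.1, x.2, rfl⟩)
      (fun ⟨_, x, hx, e⟩ => ⟨⟨x, hx⟩, Subtype.ext e⟩)
  obtain ⟨h, hh⟩ := MulAction.exists_smul_eq (G.map (toPSL : SL2 →* Matrix.ProjectiveSpecialLinearGroup (Fin 2) F)) S S'
  obtain ⟨g, hgG, hg⟩ := h.2
  refine (cls_eq_of_cell_mem G ⟨⟨g, hgG⟩, ?_⟩).symm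
  -- `g y g⁻¹` lies in the cell of `y'` up to sign
  have hmem : toPSL (g * y * g⁻¹) ∈ (cell G y').map toPSL := by
    rw [← hS', ← hh, Sylow.coe_subgroup_smul]
    obtain ⟨e, he, hey⟩ : toPSL y ∈ ((S : Subgroup _)).map (G.map toPSL).subtype := by
      rw [hS]; exact ⟨y, mem_cell_self G hy, rfl⟩
    refine ⟨MulAut.conj h • e, Subgroup.smul_mem_pointwise_smul e _ _ he, ?_⟩
    simp only [MulAut.smul_def, MulAut.conj_apply, Subgroup.coe_subtype, Subgroup.coe_mul,
      Subgroup.coe_inv, map_mul, map_inv, hg]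
    rw [← hey]
    rfl
  obtain ⟨x, hx, hxe⟩ := hmem
  have hmem' : g * y * g⁻¹ ∈ cell G y' := by
    rcases toPSL_eq.mp hxe with h' | h'
    · rw [h']; exact hx
    · rw [h', neg_eq_neg_one_mul]
      exact (cell G y').mul_mem (center_le_cell G hZ y' (mem_center_iff.mpr (Or.inr rfl))) hx
  show cell G (g * y * g⁻¹) = cell G y'
  exact cell_eq G hyZ' (conj_notMem_center hyZ g) hmem'

end Cfsg.Agent.Lib.Geometry.Dickson
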