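import Cfsg.Agent.Lib.Geometry.Dickson.SolubilizerBase
import Cfsg.Agent.Lib.Geometry.Dickson.Types
import Cfsg.Agent.Lib.Characters.Burnside

/-!
Solubilizers in `SL₂(q)`, `q` a power of `3`, `q ≡ 3 mod 4`.
-/

set_option autoImplicit false
set_option maxHeartbeats 400000

namespace Cfsg.Agent.Lib.Geometry.Dickson

open Matrix
open scoped Matrix MatrixGroups Pointwise
open Cfsg.Agent.Lib.SL2Trace (tr tr_eq tr_conj tr_inv tr_neg tr_mul_comm det_eq sq_eq tr_comp isConj_of_tr_eq toPSL
  toPSL_surjective toPSL_eq toPSL_eq_one toPSL_neg mem_center_iff)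

/-- A solvable subgroup and an element normalising it generate a solvable group. -/
theorem solvable_closure_normal {G : Type*} [Group G] {A : Subgroup G} (hA : Group.IsSolvable A) {a b : G}
    (ha : a ∈ A) (h : b ∈ Subgroup.normalizer (A : Set G)) : Group.IsSolvable (Subgroup.closure ({a, b} : Set G)) := by
  classical
  set S := A ⊔ Subgroup.zpowers b
  have hS : S ≤ Subgroup.normalizer (A : Set G) := sup_le Subgroup.le_normalizer (Subgroup.zpowers_le.mpr h)
  have hA' : A ≤ S := le_sup_left
  set T := A.subgroupOf S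
  haveI : T.Normal := Subgroup.normal_subgroupOf_iff_le_normalizer hA' |>.mpr hS
  haveI := hA
  haveI : Group.IsSolvable T := Group.isSolvable_of_isSolvable_injective (Subgroup.subgroupOfEquivOfLe hA').injective
    (f := (Subgroup.subgroupOfEquivOfLe hA').toMonoidHom)
  set bS : S := ⟨b, Subgroup.mem_sup_right (Subgroup.mem_zpowers b)⟩
  have hgen : ∀ z : S ⧸ T, z ∈ Subgroup.zpowers (QuotientGroup.mk bS : S ⧸ T) := by
    intro z
    obtain ⟨⟨g, hg⟩, rfl⟩ := QuotientGroup.mk'_surjective T z
    have hcl : S = Subgroup.closure ((A : Set G) ∪ {b}) := by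
      rw [Subgroup.closure_union, Subgroup.closure_eq, ← Subgroup.zpowers_eq_closure]
    refine Subgroup.closure_induction
      (p := fun g hg => QuotientGroup.mk' T ⟨g, hcl.symm.le hg⟩ ∈ Subgroup.zpowers (QuotientGroup.mk bS : S ⧸ T))
      ?_ ?_ ?_ ?_ (hcl.le hg)
    · rintro g (hgA | rfl)
      · rw [show QuotientGroup.mk' T ⟨g, _⟩ = 1 from
          (QuotientGroup.eq_one_iff _).mpr (Subgroup.mem_subgroupOf.mpr hgA)]
        exact one_mem _
      · exact Subgroup.mem_zpowers _
    · exact one_mem _
    · intro u v hu hv h1 h2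
      exact mul_mem h1 h2
    · intro u hu h1
      exact inv_mem h1
  haveI : Group.IsSolvable (S ⧸ T) := Group.isSolvable_of_comm fun u v => by
    obtain ⟨i, rfl⟩ := hgen u
    obtain ⟨k, rfl⟩ := hgen v
    simp only [← _root_.zpow_add, add_comm]
  haveI : Group.IsSolvable S := Group.isSolvable_of_ker_le_range T.subtype (QuotientGroup.mk' T)
    (by rw [QuotientGroup.ker_mk', Subgroup.range_subtype])
  have hle : Subgroup.closure ({a, b} : Set G) ≤ S := by
    rw [Subgroup.closure_le]
    rintro z (rfl | rfl)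
    · exact hA' ha
    · exact Subgroup.mem_sup_right (Subgroup.mem_zpowers _)
  exact Group.isSolvable_of_isSolvable_injective (Subgroup.inclusion_injective hle)

theorem mem_normalizer_closure_pair {G : Type*} [Group G] [Finite G] {x z g : G}
    (hx : g * x * g⁻¹ ∈ Subgroup.closure ({x, z} : Set G)) (hz : g * z * g⁻¹ ∈ Subgroup.closure ({x, z} : Set G)) :
    g ∈ Subgroup.normalizer (Subgroup.closure ({x, z} : Set G) : Set G) := by
  set H := Subgroup.closure ({x, z} : Set G)
  have hle : H.map (MulAut.conj g).toMonoidHom ≤ H := by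
    rw [MonoidHom.map_closure, Subgroup.closure_le]
    rintro _ ⟨w, (rfl | rfl), rfl⟩
    · exact hx
    · exact hz
  have heq := Subgroup.eq_of_le_of_card_ge hle
    (Subgroup.card_map_of_injective (f := (MulAut.conj g).toMonoidHom) (MulAut.conj g).injective).ge
  rw [Subgroup.mem_normalizer_iff]
  intro w
  conv_rhs => rw [← heq]
  exact (Subgroup.mem_map_iff_mem (f := (MulAut.conj g).toMonoidHom) (MulAut.conj g).injective).symm

variable {F : Type*} [Field F]

local notation "SL2" => Matrix.SpecialLinearGroup (Fin 2) F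
local notation "M2" => Matrix (Fin 2) (Fin 2) F
local notation "PSL2" => Matrix.ProjectiveSpecialLinearGroup (Fin 2) F

/-- `x` and `y` generate a solvable group. -/
def Sol {G : Type*} [Group G] (x y : G) : Prop := Group.IsSolvable (Subgroup.closure ({x, y} : Set G))

theorem sol_toPSL_iff (x y : SL2) : Sol (toPSL x) (toPSL y) ↔ Sol x y := by
  let f : Subgroup.closure ({x, y} : Set SL2) →* Subgroup.closure ({toPSL x, toPSL y} : Set PSL2) :=
    (toPSL.comp (Subgroup.closure ({x, y} : Set SL2)).subtype).codRestrict _ fun s => by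
      have : toPSL s.1 ∈ (Subgroup.closure ({x, y} : Set SL2)).map toPSL := ⟨s.1, s.2, rfl⟩
      rwa [MonoidHom.map_closure, Set.image_insert_eq, Set.image_singleton] at this
  have hf : Function.Surjective f := by
    rintro ⟨z, hz⟩
    have : z ∈ (Subgroup.closure ({x, y} : Set SL2)).map toPSL := by
      rwa [MonoidHom.map_closure, Set.image_insert_eq, Set.image_singleton]
    obtain ⟨w, hw, rfl⟩ := this
    exact ⟨⟨w, hw⟩, rfl⟩
  constructor <;> intro h
  · haveI : Group.IsSolvable (Subgroup.closure ({toPSL x, toPSL y} : Set PSL2)) := h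
    haveI : Group.IsSolvable f.ker := Group.isSolvable_of_comm fun u v => by
      have hu : u.1.1 ∈ Subgroup.center SL2 := by
        have := congrArg Subtype.val (MonoidHom.mem_ker.mp u.2)
        rw [mem_center_iff]
        exact toPSL_eq_one.mp this
      exact Subtype.ext (Subtype.ext ((Subgroup.mem_center_iff.mp hu v.1.1).symm))
    exact Group.isSolvable_of_ker_le_range f.ker.subtype f (by rw [Subgroup.range_subtype])
  · haveI : Group.IsSolvable (Subgroup.closure ({x, y} : Set SL2)) := h
    exact Group.isSolvable_of_surjective hf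

/-- Elements of trace zero square to `-1`. -/
theorem sq_of_tr_zero' {y : SL2} (h : tr y = 0) : y * y = -1 := sl_ext (by
  show (y : M2) * (y : M2) = -1
  rw [sq_eq, h, zero_smul, zero_sub])

theorem inv_of_tr_zero {y : SL2} (h : tr y = 0) : y⁻¹ = -y :=
  inv_eq_of_mul_eq_one_right (by rw [mul_neg, sq_of_tr_zero' h, neg_neg])

theorem tr_mul_inv' (a b : SL2) : tr (a * b⁻¹) = tr a * tr b - tr (a * b) := by
  show ((a * b⁻¹ : SL2) : M2).trace = _
  rw [Matrix.SpecialLinearGroup.coe_mul, coe_inv_eq, mul_sub, mul_smul_comm, mul_one, trace_sub, trace_smul,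
    smul_eq_mul, mul_comm]
  rfl

theorem tr_one' : tr (1 : SL2) = 2 := by rw [tr_eq]; simp; norm_num

theorem tr_sq' (a : SL2) : tr (a * a) = tr a * tr a - 2 := by
  have := tr_mul_inv' a a
  rw [mul_inv_cancel, tr_one'] at this
  linear_combination this

/-- The trace identity for the conjugate of a trace-zero element. -/
theorem tr_mul_conj {e : SL2} (he : tr e = 0) (g : SL2) :
    tr (e * (g * e * g⁻¹)) = 2 - tr g ^ 2 - tr (e * g) ^ 2 := by
  rw [← mul_assoc, ← mul_assoc, tr_mul_inv', show e * g * e * g = (e * g) * (e * g) by group, tr_sq',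
    show tr (e * g * e) = - tr g by
      rw [tr_mul_comm, ← mul_assoc, sq_of_tr_zero' he, neg_mul, one_mul, tr_neg]]
  ring

/-- An element inverting a torus element has trace zero. -/
theorem tr_zero_of_inverts' {a y : SL2} (ht : tr a ^ 2 ≠ 4) (h : y * a * y⁻¹ = a⁻¹) : tr y = 0 := by
  have e : y * a = a⁻¹ * y := mul_inv_eq_iff_eq_mul.mp h
  have h1 : 2 * tr (y * a) = tr y * tr a := by
    have := tr_mul_inv' y a
    rw [tr_mul_comm y a⁻¹, ← e] at this
    linear_combination this
  have h2 : 2 * tr (y * a * a) = tr (y * a) * tr a := by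
    have := tr_mul_inv' (y * a) a
    rw [tr_mul_comm (y * a) a⁻¹, show a⁻¹ * (y * a) = a⁻¹ * y * a by group, ← e] at this
    linear_combination this
  have h3 : tr (y * a * a) = tr (y * a) * tr a - tr y := by
    have := tr_mul_inv' (y * a) a
    rw [mul_inv_cancel_right] at this
    linear_combination this
  have : tr y * (tr a ^ 2 - 4) = 0 := by linear_combination (-tr a) * h1 + 2 * h2 - 4 * h3
  exact (mul_eq_zero.mp this).resolve_right (sub_ne_zero.mpr ht)

/-- Two elements of trace zero whose product has trace zero anticommute. -/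
theorem anticomm_of_tr {a b : SL2} (ha : tr a = 0) (hb : tr b = 0) (hab : tr (a * b) = 0) : b * a = -(a * b) := by
  have h := inv_of_tr_zero hab
  rw [_root_.mul_inv_rev, inv_of_tr_zero ha, inv_of_tr_zero hb, neg_mul_neg] at h
  exact h

/-- Two elements of trace zero generate a solvable group. -/
theorem sol_of_tr_zero {x y : SL2} (hx : tr x = 0) (hy : tr y = 0) : Sol x y := by
  have hs := solvable_closure_pair (a := x * y) (b := x) (zpowers_normalized (Or.inr (by
    rw [_root_.mul_inv_rev, inv_of_tr_zero hx, inv_of_tr_zero hy, ← mul_assoc, sq_of_tr_zero' hx, neg_one_mul,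
      neg_mul_neg])))
  have hle : Subgroup.closure ({x, y} : Set SL2) ≤ Subgroup.closure ({x * y, x} : Set SL2) := by
    have hx' : x ∈ Subgroup.closure ({x * y, x} : Set SL2) := Subgroup.subset_closure (Set.mem_insert_of_mem _ rfl)
    have hxy : x * y ∈ Subgroup.closure ({x * y, x} : Set SL2) := Subgroup.subset_closure (Set.mem_insert _ _)
    rw [Subgroup.closure_le]
    rintro z (rfl | rfl)
    · exact hx'
    · have := mul_mem (inv_mem hx') hxy
      rwa [inv_mul_cancel_left] at this
  exact Group.isSolvable_of_isSolvable_injective (Subgroup.inclusion_injective hle)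

theorem sol_mul_right_iff {G : Type*} [Group G] (x y : G) : Sol x (x * y) ↔ Sol x y := by
  have e : Subgroup.closure ({x, x * y} : Set G) = Subgroup.closure ({x, y} : Set G) := by
    apply le_antisymm <;> rw [Subgroup.closure_le] <;> rintro z (rfl | rfl)
    · exact Subgroup.subset_closure (Set.mem_insert _ _)
    · exact mul_mem (Subgroup.subset_closure (Set.mem_insert _ _)) (Subgroup.subset_closure (Set.mem_insert_of_mem _ rfl))
    · exact Subgroup.subset_closure (Set.mem_insert _ _)
    · have h1 : x ∈ Subgroup.closure ({x, x * z} : Set G) := Subgroup.subset_closure (Set.mem_insert _ _)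
      have h2 : x * z ∈ Subgroup.closure ({x, x * z} : Set G) := Subgroup.subset_closure (Set.mem_insert_of_mem _ rfl)
      simpa using mul_mem (inv_mem h1) h2
  unfold Sol
  rw [e]

variable [CharP F 3]

theorem three_eq_zero : (3 : F) = 0 := by exact_mod_cast CharP.cast_eq_zero F 3

theorem two_ne' : (2 : F) ≠ 0 := fun h => one_ne_zero (α := F) (by linear_combination (three_eq_zero (F := F)) - h)

theorem one_ne_neg_one : (1 : F) ≠ -1 := fun h => two_ne' (F := F) (by linear_combination h)

theorem neg_one_ne_one_SL : (-1 : SL2) ≠ 1 := fun h => one_ne_neg_one (F := F) (by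
  have := congrArg (fun g : SL2 => (g : M2) 0 0) h
  simpa using this.symm)

/-- The elements `0`, `1`, `-1`. -/
def Small (r : F) : Prop := r = 0 ∨ r = 1 ∨ r = -1

omit [CharP F 3] in
theorem small_iff (r : F) : Small r ↔ r = 0 ∨ r ^ 2 = 1 := by
  rw [sq_eq_one_iff]; exact Iff.rfl

theorem Small.sub {a b : F} (ha : Small a) (hb : Small b) : Small (a - b) := by
  have h3 := three_eq_zero (F := F)
  rcases ha with rfl | rfl | rfl <;> rcases hb with rfl | rfl | rfl
  · exact Or.inl (by ring)
  · exact Or.inr (Or.inr (by ring))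
  · exact Or.inr (Or.inl (by ring))
  · exact Or.inr (Or.inl (by ring))
  · exact Or.inl (by ring)
  · exact Or.inr (Or.inr (by linear_combination h3))
  · exact Or.inr (Or.inr (by ring))
  · exact Or.inr (Or.inl (by linear_combination -h3))
  · exact Or.inl (by ring)

omit [CharP F 3] in
theorem small_neg {a : F} (ha : Small a) : Small (-a) := by
  rcases ha with rfl | rfl | rfl
  · exact Or.inl neg_zero
  · exact Or.inr (Or.inr rfl)
  · exact Or.inr (Or.inl (neg_neg 1))

theorem Small.add {a b : F} (ha : Small a) (hb : Small b) : Small (a + b) := by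
  have := Small.sub ha (small_neg hb)
  rwa [sub_neg_eq_add] at this

/-- The data of a quaternion subgroup normalised by `g`. -/
def QNorm (A : Subgroup SL2) (g : SL2) : Prop := ∀ c ∈ A, g * c * g⁻¹ ∈ A

variable (hn : ∀ r : F, r * r ≠ -1)

include hn

/-- Traces in the normaliser of a quaternion group. -/
theorem small_tr_of_qnorm [Fintype F] {A : Subgroup SL2} {a b g : SL2} (haA : a ∈ A) (hbA : b ∈ A)
    (hA : ∀ c ∈ A, Small (tr c)) (ha : tr a = 0) (hb : tr b = 0) (hab : tr (a * b) = 0) (hg : QNorm A g) :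
    Small (tr g) := by
  have h3 := three_eq_zero (F := F)
  have key : ∀ e ∈ A, tr e = 0 → Small (tr g ^ 2 + tr (e * g) ^ 2) := by
    intro e he h0
    have h := hA _ (mul_mem he (hg e he))
    rw [tr_mul_conj h0] at h
    have h2 : Small (2 : F) := Or.inr (Or.inr (by linear_combination h3))
    have := h2.sub h
    rwa [show (2 : F) - (2 - tr g ^ 2 - tr (e * g) ^ 2) = tr g ^ 2 + tr (e * g) ^ 2 by ring] at this
  have hsum : tr g ^ 2 + tr (a * g) ^ 2 + tr (b * g) ^ 2 + tr (a * b * g) ^ 2 = 4 := by
    obtain ⟨h, hh⟩ := isConj_iff.mp (isConj_of_tr_eq (A := SL2Trace.comp (0 : F)) (B := a) (by rw [tr_comp, ha])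
      (by rw [tr_comp]; intro h; exact one_ne_zero (α := F) (by linear_combination -h - h3)))
    have hb' : tr (h⁻¹ * b * h) = 0 := by rw [tr_mul_comm, mul_inv_cancel_left, hb]
    have hab' : tr (SL2Trace.comp (0 : F) * (h⁻¹ * b * h)) = 0 := by
      rw [show SL2Trace.comp (0 : F) * (h⁻¹ * b * h) = h⁻¹ * (a * b) * h by rw [← hh]; group, tr_mul_comm,
        mul_inv_cancel_left, hab]
    have e1 : tr g = tr (h⁻¹ * g * h) := by rw [tr_mul_comm (h⁻¹ * g), mul_inv_cancel_left]
    have e2 : tr (a * g) = tr (SL2Trace.comp (0 : F) * (h⁻¹ * g * h)) := by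
      rw [show SL2Trace.comp (0 : F) * (h⁻¹ * g * h) = h⁻¹ * (a * g) * h by rw [← hh]; group, tr_mul_comm (h⁻¹ * (a * g)),
        mul_inv_cancel_left]
    have e3 : tr (b * g) = tr (h⁻¹ * b * h * (h⁻¹ * g * h)) := by
      rw [show h⁻¹ * b * h * (h⁻¹ * g * h) = h⁻¹ * (b * g) * h by group, tr_mul_comm (h⁻¹ * (b * g)),
        mul_inv_cancel_left]
    have e4 : tr (a * b * g) = tr (SL2Trace.comp (0 : F) * (h⁻¹ * b * h) * (h⁻¹ * g * h)) := by
      rw [show SL2Trace.comp (0 : F) * (h⁻¹ * b * h) * (h⁻¹ * g * h) = h⁻¹ * (a * b * g) * h by rw [← hh]; group,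
        tr_mul_comm (h⁻¹ * (a * b * g)), mul_inv_cancel_left]
    rw [e1, e2, e3, e4]
    generalize h⁻¹ * b * h = B at hb' hab'
    generalize h⁻¹ * g * h = G
    have hB := det_eq B
    have hG := det_eq G
    rw [tr_eq] at hb' hab'
    rw [Matrix.SpecialLinearGroup.coe_mul] at hab'
    simp [SL2Trace.comp, Matrix.mul_apply, Matrix.vecMul, dotProduct, Fin.sum_univ_two] at hab'
    have h11 : (B : M2) 1 1 = -(B : M2) 0 0 := by linear_combination hb'
    have h10 : (B : M2) 1 0 = (B : M2) 0 1 := by linear_combination -hab'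
    rw [h11, h10] at hB
    simp only [tr_eq, Matrix.SpecialLinearGroup.coe_mul]
    simp [SL2Trace.comp, Matrix.mul_apply, Matrix.vecMul, dotProduct, Fin.sum_univ_two, h11, h10]
    linear_combination 4 * hG -
      (((G : M2) 0 0 - (G : M2) 1 1) ^ 2 + ((G : M2) 0 1 + (G : M2) 1 0) ^ 2) * hB
  have k1 := key a haA ha
  have k2 := key b hbA hb
  have k3 := key (a * b) (mul_mem haA hbA) hab
  have hsm : Small (tr g ^ 2) := by
    have h1 : Small (1 : F) := Or.inr (Or.inl rfl)
    have := h1.sub ((k1.add k2).add k3)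
    rwa [show (1 : F) - (tr g ^ 2 + tr (a * g) ^ 2 + (tr g ^ 2 + tr (b * g) ^ 2) + (tr g ^ 2 + tr (a * b * g) ^ 2)) =
      tr g ^ 2 by linear_combination -hsum + (-(tr g ^ 2) - 1) * h3] at this
  rw [small_iff]
  rcases hsm with h | h | h
  · exact Or.inl (by simpa using h)
  · exact Or.inr h
  · exact absurd (by rw [← pow_two, h]) (hn (tr g))

/-- The three kinds of solvable subgroups. -/
theorem sol_cases [Fintype F] {x y : SL2} (hx : x ∉ Subgroup.center SL2) (hs : Sol x y) :
    (∃ (v : Fin 2 → F) (c d : F), v ≠ 0 ∧ (x : M2) *ᵥ v = c • v ∧ (y : M2) *ᵥ v = d • v) ∨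
      (∃ a : SL2, a ∉ Subgroup.center SL2 ∧ tr a ^ 2 ≠ 4 ∧ (x * a * x⁻¹ = a ∨ x * a * x⁻¹ = a⁻¹) ∧
        (y * a * y⁻¹ = a ∨ y * a * y⁻¹ = a⁻¹)) ∨
      (Small (tr x) ∧ Small (tr y) ∧ Small (tr (x * y))) := by
  have hs' : Group.IsSolvable (Subgroup.closure ({toPSL x, toPSL y} : Set PSL2)) := (sol_toPSL_iff x y).mpr hs
  set S := Subgroup.closure ({toPSL x, toPSL y} : Set PSL2)
  have hxS : toPSL x ∈ S := Subgroup.subset_closure (Set.mem_insert _ _)
  have hyS : toPSL y ∈ S := Subgroup.subset_closure (Set.mem_insert_of_mem _ rfl)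
  obtain ⟨A₀, hA₀, hab, a₀, ha₀, ha₁⟩ := exists_abelian_normal hs' ⟨⟨toPSL x, hxS⟩, fun h => hx
    (mem_center_iff.mpr (toPSL_eq_one.mp (congrArg Subtype.val h)))⟩
  set A : Subgroup SL2 := (A₀.map S.subtype).comap toPSL with hAdef
  have hnorm : ∀ g, toPSL g ∈ S → QNorm A g := by
    rintro g hg c ⟨c₀, hc₀, hc⟩
    refine ⟨⟨toPSL g, hg⟩ * c₀ * ⟨toPSL g, hg⟩⁻¹, hA₀.conj_mem _ hc₀ _, ?_⟩
    simp [Subgroup.subtype_apply] at hc ⊢
    rw [hc]
  have hcomm : ∀ c ∈ A, ∀ d ∈ A, d * c = c * d ∨ d * c = -(c * d) := by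
    rintro c ⟨c₀, hc₀, hc⟩ d ⟨d₀, hd₀, hd⟩
    refine toPSL_eq.mp ?_
    simp only [Subgroup.subtype_apply] at hc hd
    rw [map_mul, map_mul, ← hc, ← hd]
    exact congrArg Subtype.val (hab _ hc₀ _ hd₀)
  obtain ⟨a, ha⟩ := toPSL_surjective (a₀ : PSL2)
  have haA : a ∈ A := ⟨a₀, ha₀, ha.symm⟩
  have haC : a ∉ Subgroup.center SL2 := fun h => ha₁ (Subtype.ext (by
    show (a₀ : PSL2) = 1
    rw [← ha, toPSL_eq_one]
    exact mem_center_iff.mp h))
  by_cases hall : ∀ c ∈ A, ∀ d ∈ A, d * c = c * d
  · have hconj : ∀ g, toPSL g ∈ S → g * a * g⁻¹ ∈ Subgroup.centralizer ({a} : Set SL2) := fun g hg =>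
      mem_centralizer_iff.mpr (hall _ haA _ (hnorm g hg a haA))
    by_cases ht : tr a ^ 2 = 4
    · obtain ⟨v, ε, hv, hε, htr, hav⟩ := exists_fixed_vector ht
      obtain ⟨c, hc⟩ := fix_line_of_conj_mem haC hv hε htr hav (hconj x hxS)
      obtain ⟨d, hd⟩ := fix_line_of_conj_mem haC hv hε htr hav (hconj y hyS)
      exact Or.inl ⟨v, c, d, hv, hc, hd⟩
    · exact Or.inr (Or.inl ⟨a, haC, ht, eq_or_eq_inv_of_tr haC ht (hconj x hxS) (tr_conj _ _),
        eq_or_eq_inv_of_tr haC ht (hconj y hyS) (tr_conj _ _)⟩)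
  · push Not at hall
    obtain ⟨u, hu, w, hw, hne⟩ := hall
    have hanti : w * u = -(u * w) := (hcomm u hu w hw).resolve_left hne
    have anti_tr : ∀ c d : SL2, d * c = -(c * d) → tr c = 0 := by
      intro c d h
      have e : tr (d * c * d⁻¹) = tr (-c) := by rw [h, neg_mul, mul_inv_cancel_right]
      rw [tr_conj, tr_neg] at e
      exact (mul_eq_zero.mp (show (2 : F) * tr c = 0 by linear_combination e)).resolve_left two_ne'
    have hu0 : tr u = 0 := anti_tr u w hanti
    have hw0 : tr w = 0 := anti_tr w u (by rw [hanti, neg_neg])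
    have huw0 : tr (u * w) = 0 := anti_tr (u * w) u (by
      rw [mul_assoc u w u, hanti, mul_neg, neg_neg])
    have hsm : ∀ c ∈ A, Small (tr c) := by
      intro c hc
      by_cases hcC : c ∈ Subgroup.center SL2
      · rcases mem_center_iff.mp hcC with h | h <;> rw [h]
        · exact Or.inr (Or.inr (by rw [tr_one']; linear_combination three_eq_zero (F := F)))
        · exact Or.inr (Or.inl (by rw [tr_neg, tr_one']; linear_combination -three_eq_zero (F := F)))
      · refine Or.inl ?_
        rcases hcomm u hu c hc with h | h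
        · rcases hcomm w hw c hc with h' | h'
          · exfalso
            have h1 : u ∈ Subgroup.centralizer ({c} : Set SL2) := mem_centralizer_iff.mpr h.symm
            have h2 : w ∈ Subgroup.centralizer ({c} : Set SL2) := mem_centralizer_iff.mpr h'.symm
            exact hne (centralizer_comm hcC h1 h2).symm
          · exact anti_tr c w (by rw [h', neg_neg])
        · exact anti_tr c u (by rw [h, neg_neg])
    refine Or.inr (Or.inr ⟨?_, ?_, ?_⟩)
    · exact small_tr_of_qnorm hn hu hw hsm hu0 hw0 huw0 (hnorm x hxS)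
    · exact small_tr_of_qnorm hn hu hw hsm hu0 hw0 huw0 (hnorm y hyS)
    · exact small_tr_of_qnorm hn hu hw hsm hu0 hw0 huw0 (hnorm (x * y) (by rw [map_mul]; exact mul_mem hxS hyS))

/-- The solubilizer of an element of trace zero. -/
theorem sol_trace_zero_iff [Fintype F] {x : SL2} (hx : tr x = 0) (y : SL2) :
    Sol x y ↔ tr y = 0 ∨ tr (x * y) = 0 ∨ tr y ^ 2 + tr (x * y) ^ 2 = 1 ∨ (tr y ^ 2 = 1 ∧ tr (x * y) ^ 2 = 1) := by
  have h3 := three_eq_zero (F := F)
  have hxC : x ∉ Subgroup.center SL2 := fun h => two_ne' (F := F) (by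
    rcases mem_center_iff.mp h with e | e <;> rw [e] at hx
    · rwa [tr_one'] at hx
    · rwa [tr_neg, tr_one', neg_eq_zero] at hx)
  have hxv : ∀ (v : Fin 2 → F) (c : F), v ≠ 0 → (x : M2) *ᵥ v ≠ c • v := by
    intro v c hv h
    refine hn c ?_
    have e := congrArg (fun M : M2 => M *ᵥ v) (show (x : M2) * (x : M2) = -1 by rw [sq_eq, hx, zero_smul, zero_sub])
    simp only [← Matrix.mulVec_mulVec, h, Matrix.mulVec_smul, smul_smul, Matrix.neg_mulVec, Matrix.one_mulVec] at e
    exact smul_left_cancel_vec hv (by rw [e, neg_one_smul])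
  constructor
  · intro hs
    rcases sol_cases hn hxC hs with ⟨v, c, d, hv, hxe, -⟩ | ⟨a, haC, ha, hxa, hya⟩ | ⟨-, h1, h2⟩
    · exact absurd hxe (hxv v c hv)
    · rcases hya with hy | hy
      · rcases hxa with hxa | hxa
        · right; right; left
          have hax : a ∈ Subgroup.centralizer ({x} : Set SL2) :=
            mem_centralizer_iff.mpr (mul_inv_eq_iff_eq_mul.mp hxa).symm
          have hyc : y ∈ Subgroup.centralizer ({x} : Set SL2) := by
            rw [← centralizer_eq hxC haC hax]
            exact mem_centralizer_iff.mpr (mul_inv_eq_iff_eq_mul.mp hy)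
          have e := tr_mul_conj hx y
          rw [show y * x * y⁻¹ = x by rw [mem_centralizer_iff.mp hyc, mul_inv_cancel_right], tr_sq', hx] at e
          linear_combination e + h3
        · right; left
          refine tr_zero_of_inverts' ha ?_
          rw [show x * y * a * (x * y)⁻¹ = x * (y * a * y⁻¹) * x⁻¹ by group, hy, hxa]
      · exact Or.inl (tr_zero_of_inverts' ha hy)
    · rw [small_iff] at h1 h2
      rcases h1 with h1 | h1
      · exact Or.inl h1
      · rcases h2 with h2 | h2
        · exact Or.inr (Or.inl h2)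
        · exact Or.inr (Or.inr (Or.inr ⟨h1, h2⟩))
  · rintro (h | h | h | ⟨h1, h2⟩)
    · exact sol_of_tr_zero hx h
    · exact (sol_mul_right_iff x y).mp (sol_of_tr_zero hx h)
    · set z := y * x * y⁻¹ with hz
      have hzt : tr z = 0 := by rw [hz, tr_conj, hx]
      have hu : tr (z * x) = 1 := by rw [tr_mul_comm, hz, tr_mul_conj hx]; linear_combination -h
      have huC : z * x ∈ Subgroup.center SL2 := by
        by_contra huC
        obtain ⟨v, ε, hv, hε, htr, huv⟩ := exists_fixed_vector (y := z * x) (by rw [hu]; linear_combination -h3)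
        obtain ⟨c, hc⟩ := fix_line_of_conj_mem (g := x) huC hv hε htr huv (by
          rw [show x * (z * x) * x⁻¹ = x * z by group, show x * z = (z * x)⁻¹ by
            rw [_root_.mul_inv_rev, inv_of_tr_zero hx, inv_of_tr_zero hzt, neg_mul_neg]]
          exact inv_mem (mem_centralizer_iff.mpr rfl))
        exact hxv v c hv hc
      refine solvable_closure_pair (zpowers_normalized ?_)
      rw [← hz]
      rcases mem_center_iff.mp huC with e | e
      · exact Or.inr (eq_inv_of_mul_eq_one_left e)
      · left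
        rw [eq_mul_inv_of_mul_eq e, inv_of_tr_zero hx, neg_mul_neg, one_mul]
    · set z := y * x * y⁻¹ with hz
      set u := y⁻¹ * x * y with hu
      have hzt : tr z = 0 := by rw [hz, tr_conj, hx]
      have hut : tr u = 0 := by rw [hu, tr_mul_comm (y⁻¹ * x), mul_inv_cancel_left, hx]
      have hxz : tr (x * z) = 0 := by rw [hz, tr_mul_conj hx, h1, h2]; ring
      have hxu : tr (x * u) = 0 := by
        rw [show x * u = x * (y⁻¹ * x * y⁻¹⁻¹) by rw [hu, inv_inv], tr_mul_conj hx, tr_inv, tr_mul_inv', hx, h1]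
        linear_combination -h2
      obtain ⟨η, hη, hy3⟩ : ∃ η : SL2, η ∈ Subgroup.center SL2 ∧ y * y * y = η := by
        refine ⟨y * y * y, ?_, rfl⟩
        have hm : ((y * y * y : SL2) : M2) = (-tr y) • (1 : M2) := by
          simp only [Matrix.SpecialLinearGroup.coe_mul]
          rw [sq_eq, sub_mul, smul_mul_assoc, sq_eq, one_mul, smul_sub, smul_smul, ← pow_two, h1, one_smul,
            neg_smul]
          abel
        rw [mem_center_iff]
        rcases sq_eq_one_iff.mp h1 with e | e <;> rw [e] at hm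
        · exact Or.inr (sl_ext (by rw [hm]; simp))
        · exact Or.inl (sl_ext (by rw [hm]; simp))
      have hw : y * z * y⁻¹ = u := by
        have := Subgroup.mem_center_iff.mp hη x
        calc y * z * y⁻¹ = y⁻¹ * (η * x * η⁻¹) * y := by rw [hz, ← hy3]; group
          _ = u := by rw [← this, mul_inv_cancel_right]
      have hzu : tr (z * u) = 0 := by
        rw [show z * u = y * (x * (y⁻¹ * y⁻¹ * x * y * y)) * y⁻¹ by rw [hz, hu]; group, tr_conj,
          show y⁻¹ * y⁻¹ * x * y * y = z by
            have := Subgroup.mem_center_iff.mp hη x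
            calc y⁻¹ * y⁻¹ * x * y * y = y * (η⁻¹ * (x * η)) * y⁻¹ := by rw [← hy3]; group
              _ = z := by rw [this, inv_mul_cancel_left]]
        exact hxz
      have azx := anticomm_of_tr hx hzt hxz
      have aux := anticomm_of_tr hx hut hxu
      have auz := anticomm_of_tr hzt hut hzu
      clear_value z u
      set m := u * (x * z) with hm
      have hmx : m * x = x * m := by
        rw [hm, mul_assoc, mul_assoc, azx, mul_neg, mul_neg, ← mul_assoc u x, aux, neg_mul, neg_neg, mul_assoc]
      have hmz : m * z = z * m := by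
        refine Eq.symm ?_
        calc z * m = z * u * (x * z) := by rw [hm, mul_assoc]
          _ = -(u * (z * x * z)) := by
            rw [show z * u = -(u * z) by rw [auz, neg_neg], neg_mul]; simp only [mul_assoc]
          _ = m * z := by rw [azx, neg_mul, mul_neg, neg_neg, hm, mul_assoc u]
      have hmC : m ∈ Subgroup.center SL2 := by
        by_contra hmC
        have := centralizer_comm hmC (mem_centralizer_iff.mpr hmx.symm) (mem_centralizer_iff.mpr hmz.symm)
        rw [azx] at this
        exact neg_one_ne_one_SL (F := F) (mul_right_cancel (b := x * z) (by rw [neg_one_mul, ← this, one_mul]))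
      have hxQ : x ∈ Subgroup.closure ({x, z} : Set SL2) := Subgroup.subset_closure (Set.mem_insert _ _)
      have hzQ : z ∈ Subgroup.closure ({x, z} : Set SL2) := Subgroup.subset_closure (Set.mem_insert_of_mem _ rfl)
      have huQ : u ∈ Subgroup.closure ({x, z} : Set SL2) := by
        have hm1 : m ∈ Subgroup.closure ({x, z} : Set SL2) := by
          rcases mem_center_iff.mp hmC with e | e <;> rw [e]
          · exact one_mem _
          · rw [← sq_of_tr_zero' hx]; exact mul_mem hxQ hxQ
        rw [show u = m * (x * z)⁻¹ by rw [hm, mul_inv_cancel_right]]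
        exact mul_mem hm1 (inv_mem (mul_mem hxQ hzQ))
      exact solvable_closure_normal (sol_of_tr_zero hx hzt) hxQ
        (mem_normalizer_closure_pair (by rw [← hz]; exact hzQ) (by rw [hw]; exact huQ))

end Cfsg.Agent.Lib.Geometry.Dickson
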