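import Cfsg.Agent.Lib.Geometry.Dickson.SolubilizerThree

/-!
Counting solubilizers in `SL₂(q)`, `q` a power of `3`, `q ≡ 3 mod 4`.
-/

set_option autoImplicit false
set_option maxHeartbeats 400000

namespace Cfsg.Agent.Lib.Geometry.Dickson

open Matrix
open scoped Matrix MatrixGroups Pointwise
open Cfsg.Agent.Lib.SL2Trace (tr tr_eq tr_conj tr_inv tr_neg tr_mul_comm det_eq sq_eq tr_comp isConj_of_tr_eq toPSL
  toPSL_surjective toPSL_eq toPSL_eq_one toPSL_neg mem_center_iff)

variable {F : Type*} [Field F]

local notation "SL2" => Matrix.SpecialLinearGroup (Fin 2) F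
local notation "M2" => Matrix (Fin 2) (Fin 2) F
local notation "PSL2" => Matrix.ProjectiveSpecialLinearGroup (Fin 2) F

theorem solvable_SL2_three : Group.IsSolvable (Matrix.SpecialLinearGroup (Fin 2) (ZMod 3)) := by
  haveI : Fact (Nat.Prime 2) := ⟨Nat.prime_two⟩
  haveI : Fact (Nat.Prime 3) := ⟨Nat.prime_three⟩
  refine Cfsg.Agent.Lib.Characters.isSolvable_of_card_eq_pow_mul_pow (p := 2) (q := 3) (a := 3) (b := 1) Nat.prime_two
    Nat.prime_three ?_
  rw [Nat.card_eq_fintype_card]
  decide +kernel

/-- The solvability of a pair is invariant under a simultaneous triangularisation. -/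
theorem sol_triangular {x y : SL2} (hx : (x : M2) 1 0 = 0) (hy : (y : M2) 1 0 = 0) : Sol x y :=
  solvable_triangular_gen hx hy

variable [CharP F 3] [Fintype F] (hn : ∀ r : F, r * r ≠ -1)

theorem small_of_not {r : F} (h : ¬ Small r) : r ≠ 0 ∧ r ^ 2 ≠ 1 :=
  ⟨fun e => h (Or.inl e), fun e => h ((small_iff r).mpr (Or.inr e))⟩

theorem four_eq_one : (4 : F) = 1 := by linear_combination three_eq_zero (F := F)

include hn

/-- The solubilizer of an element of order three. -/
theorem sol_upper_iff (y : SL2) :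
    Sol (upper (1 : F)) y ↔
      (y : M2) 1 0 = 0 ∨ (((y : M2) 1 0 = 1 ∨ (y : M2) 1 0 = -1) ∧ Small (tr y)) := by
  have h3 := three_eq_zero (F := F)
  set x : SL2 := upper (1 : F) with hx
  have hxC : x ∉ Subgroup.center SL2 := upper_notMem_center one_ne_zero
  have htr : tr (x * y) = tr y + (y : M2) 1 0 := by
    rw [tr_eq, tr_eq, Matrix.SpecialLinearGroup.coe_mul]
    simp [hx, upper, Matrix.mul_apply, Matrix.vecMul, dotProduct, Fin.sum_univ_two]
    ring
  constructor
  · intro hs
    rcases sol_cases hn hxC hs with ⟨v, c, d, hv, hxv, hyv⟩ | ⟨a, haC, ha, hxa, -⟩ | ⟨-, h1, h2⟩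
    · left
      have h0 : v 1 = 0 := by
        have e0 := congrFun hxv 0
        have e1 := congrFun hxv 1
        simp [hx, upper, Matrix.mulVec, dotProduct, Fin.sum_univ_two] at e0 e1
        by_contra h1
        have hc : c = 1 := (mul_eq_right₀ h1).mp e1.symm
        rw [hc, one_mul, add_eq_left] at e0
        exact h1 e0
      have hv0 : v 0 ≠ 0 := fun h => hv (funext fun i => by fin_cases i <;> assumption)
      have e1 := congrFun hyv 1
      simp [Matrix.mulVec, dotProduct, Fin.sum_univ_two, h0] at e1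
      exact e1.resolve_right hv0
    · exfalso
      have hx4 : tr x ^ 2 = 4 := by rw [hx, tr_upper]; norm_num
      rcases hxa with h | h
      · exact ha (tr_sq_of_mem hxC hx4 (mem_centralizer_iff.mpr (mul_inv_eq_iff_eq_mul.mp h).symm))
      · have := tr_zero_of_inverts' ha h
        rw [hx, tr_upper] at this
        exact two_ne' this
    · have hc : Small ((y : M2) 1 0) := by
        have := h2.sub h1
        rwa [htr, add_sub_cancel_left] at this
      rcases hc with h | h | h
      · exact Or.inl h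
      · exact Or.inr ⟨Or.inl h, h1⟩
      · exact Or.inr ⟨Or.inr h, h1⟩
  · rintro (h | ⟨hc, ht⟩)
    · exact sol_triangular (by simp [hx, upper]) h
    · set c := (y : M2) 1 0 with hcdef
      have hcc : c * c = 1 := by rcases hc with h | h <;> rw [h] <;> ring
      set r := (y : M2) 0 0 * c with hr
      set g : SL2 := upper r with hg
      have hval : ((g⁻¹ * y * g : SL2) : M2) = !![0, -c; c, tr y] := by
        have hd := det_eq y
        rw [Matrix.SpecialLinearGroup.coe_mul, Matrix.SpecialLinearGroup.coe_mul, Matrix.SpecialLinearGroup.coe_inv, tr_eq]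
        ext i k
        fin_cases i <;> fin_cases k <;>
          simp [hg, upper, Matrix.adjugate_fin_two, Matrix.mul_apply, Matrix.vecMul, dotProduct, Fin.sum_univ_two,
            ← hcdef, hr]
        · linear_combination (-(y : M2) 0 0) * hcc
        · linear_combination (-c) * hd - ((y : M2) 0 0 ^ 2 * c) * hcc - (y : M2) 0 1 * hcc
        · linear_combination (y : M2) 0 0 * hcc
      obtain ⟨c', hc'⟩ : ∃ c' : ZMod 3, ZMod.castHom dvd_rfl F c' = c := by
        rcases hc with h | h
        · exact ⟨1, by rw [map_one, h]⟩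
        · exact ⟨-1, by rw [map_neg, map_one, h]⟩
      obtain ⟨t', ht'⟩ : ∃ t' : ZMod 3, ZMod.castHom dvd_rfl F t' = tr y := by
        rcases ht with h | h | h
        · exact ⟨0, by rw [map_zero, h]⟩
        · exact ⟨1, by rw [map_one, h]⟩
        · exact ⟨-1, by rw [map_neg, map_one, h]⟩
      let φ : Matrix.SpecialLinearGroup (Fin 2) (ZMod 3) →* SL2 :=
        Matrix.SpecialLinearGroup.map (ZMod.castHom dvd_rfl F)
      have hcc' : c' * c' = 1 := (ZMod.castHom dvd_rfl F).injective (by rw [map_mul, hc', hcc, map_one])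
      have h1 : g⁻¹ * x * g ∈ φ.range := by
        refine ⟨⟨!![1, 1; 0, 1], by simp [Matrix.det_fin_two_of]⟩, sl_ext ?_⟩
        show (!![1, 1; 0, 1] : Matrix (Fin 2) (Fin 2) (ZMod 3)).map (ZMod.castHom dvd_rfl F) = _
        rw [show g⁻¹ * x * g = x by rw [hg, hx, upper_inv, upper_mul, upper_mul]; congr 1; ring]
        ext i k
        fin_cases i <;> fin_cases k <;> simp [hx, upper]
      have h2 : g⁻¹ * y * g ∈ φ.range := by
        refine ⟨⟨!![0, -c'; c', t'], by rw [Matrix.det_fin_two_of]; linear_combination hcc'⟩, sl_ext ?_⟩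
        show (!![0, -c'; c', t'] : Matrix (Fin 2) (Fin 2) (ZMod 3)).map (ZMod.castHom dvd_rfl F) = _
        rw [hval]
        ext i k
        fin_cases i <;> fin_cases k <;> simp [-ZMod.castHom_apply, hc', ht', map_neg, map_zero]
      haveI := solvable_SL2_three
      haveI : Group.IsSolvable φ.range := Group.isSolvable_of_surjective φ.rangeRestrict_surjective
      have hle : Subgroup.closure ({g⁻¹ * x * g, g⁻¹ * y * g} : Set SL2) ≤ φ.range := by
        rw [Subgroup.closure_le]
        rintro z (rfl | rfl)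
        · exact h1
        · exact h2
      have hs := Group.isSolvable_of_isSolvable_injective (Subgroup.inclusion_injective hle)
      rw [show g⁻¹ * x * g = MulAut.conj g⁻¹ x by rw [MulAut.conj_apply, inv_inv],
        show g⁻¹ * y * g = MulAut.conj g⁻¹ y by rw [MulAut.conj_apply, inv_inv]] at hs
      exact (solvable_closure_map (MulAut.conj g⁻¹) x y).mp hs

/-- Elements of a torus whose trace is not small. -/
theorem torus_cases {x y : SL2} (hsm : ¬ Small (tr x)) (hs : Sol x y) :
    (∃ (v : Fin 2 → F) (c d : F), v ≠ 0 ∧ (x : M2) *ᵥ v = c • v ∧ (y : M2) *ᵥ v = d • v) ∨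
      (y * x * y⁻¹ = x ∨ y * x * y⁻¹ = x⁻¹) := by
  obtain ⟨h0, h1⟩ := small_of_not hsm
  have hx4 : tr x ^ 2 ≠ 4 := by rw [four_eq_one]; exact h1
  have hxC : x ∉ Subgroup.center SL2 := fun h => hx4 (by
    rcases mem_center_iff.mp h with e | e <;> rw [e]
    · rw [tr_one']; norm_num
    · rw [tr_neg, tr_one']; norm_num)
  rcases sol_cases hn hxC hs with h | ⟨a, haC, ha, hxa, hya⟩ | ⟨h, -, -⟩
  · exact Or.inl h
  · refine Or.inr (eq_or_eq_inv_of_tr hxC hx4 ?_ (tr_conj _ _))
    have hxa' : x * a * x⁻¹ = a := hxa.resolve_right fun h => h0 (tr_zero_of_inverts' ha h)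
    have hC : Subgroup.centralizer ({a} : Set SL2) = Subgroup.centralizer {x} :=
      centralizer_eq hxC haC (mem_centralizer_iff.mpr (mul_inv_eq_iff_eq_mul.mp hxa').symm)
    have hxaC : x ∈ Subgroup.centralizer ({a} : Set SL2) := mem_centralizer_iff.mpr (mul_inv_eq_iff_eq_mul.mp hxa')
    have h1 := (conj_mem_centralizer_iff y x a).mpr hxaC
    rcases hya with hy | hy <;> rw [hy] at h1
    · rw [← hC]; exact h1
    · rw [← hC, mem_centralizer_iff]
      have h2 := mem_centralizer_iff.mp h1
      have h3 := Commute.inv_right (show Commute (y * x * y⁻¹) a⁻¹ from h2)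
      rw [inv_inv] at h3
      exact h3.eq
  · exact absurd h hsm

/-- The solubilizer of a diagonal element. -/
theorem sol_diag_iff {x : SL2} (h01 : (x : M2) 0 1 = 0) (h10 : (x : M2) 1 0 = 0) (hsm : ¬ Small (tr x)) (y : SL2) :
    Sol x y ↔ (y : M2) 1 0 = 0 ∨ (y : M2) 0 1 = 0 ∨ ((y : M2) 0 0 = 0 ∧ (y : M2) 1 1 = 0) := by
  obtain ⟨h0, h1⟩ := small_of_not hsm
  have hd := det_eq x
  rw [h01, zero_mul, sub_zero] at hd
  have hne : (x : M2) 0 0 ≠ (x : M2) 1 1 := fun h => h1 (by
    rw [tr_eq]; rw [h] at hd ⊢; linear_combination 4 * hd + three_eq_zero (F := F))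
  constructor
  · intro hs
    rcases torus_cases hn hsm hs with ⟨v, c, d, hv, hxv, hyv⟩ | h | h
    · have e0 := congrFun hxv 0
      have e1 := congrFun hxv 1
      simp [Matrix.mulVec, dotProduct, Fin.sum_univ_two, h01, h10] at e0 e1
      by_cases h1 : v 1 = 0
      · left
        have hv0 : v 0 ≠ 0 := fun h => hv (funext fun i => by fin_cases i <;> assumption)
        have e := congrFun hyv 1
        simp [Matrix.mulVec, dotProduct, Fin.sum_univ_two, h1] at e
        exact e.resolve_right hv0
      · right; left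
        have hv0 : v 0 = 0 := by
          by_contra hv0
          exact hne ((e0.resolve_right hv0).trans (e1.resolve_right h1).symm)
        have e := congrFun hyv 0
        simp [Matrix.mulVec, dotProduct, Fin.sum_univ_two, hv0] at e
        exact e.resolve_right h1
    · left
      have e := congrArg (fun g : SL2 => (g : M2) 1 0) (mul_inv_eq_iff_eq_mul.mp h)
      simp [Matrix.mul_apply, Matrix.vecMul, dotProduct, Fin.sum_univ_two, h01, h10] at e
      exact (mul_eq_zero.mp (show ((x : M2) 0 0 - (x : M2) 1 1) * (y : M2) 1 0 = 0 by linear_combination e)).resolve_left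
        (sub_ne_zero.mpr hne)
    · right; right
      have e := mul_inv_eq_iff_eq_mul.mp h
      have e00 := congrArg (fun g : SL2 => (g : M2) 0 0) e
      have e11 := congrArg (fun g : SL2 => (g : M2) 1 1) e
      simp [Matrix.SpecialLinearGroup.coe_inv, Matrix.adjugate_fin_two, Matrix.mul_apply, Matrix.vecMul, dotProduct,
        Fin.sum_univ_two, h01, h10] at e00 e11
      exact ⟨(mul_eq_zero.mp (show ((x : M2) 0 0 - (x : M2) 1 1) * (y : M2) 0 0 = 0 by
          linear_combination e00)).resolve_left (sub_ne_zero.mpr hne),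
        (mul_eq_zero.mp (show ((x : M2) 0 0 - (x : M2) 1 1) * (y : M2) 1 1 = 0 by
          linear_combination -e11)).resolve_left (sub_ne_zero.mpr hne)⟩
  · rintro (h | h | ⟨h0, h1⟩)
    · exact sol_triangular h10 h
    · let W : SL2 := ⟨!![0, 1; -1, 0], by rw [Matrix.det_fin_two_of]; ring⟩
      refine (solvable_closure_map (MulAut.conj W) x y).mp (sol_triangular ?_ ?_)
      · rw [MulAut.conj_apply, Matrix.SpecialLinearGroup.coe_mul, Matrix.SpecialLinearGroup.coe_mul,
          Matrix.SpecialLinearGroup.coe_inv]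
        simp [W, Matrix.adjugate_fin_two, Matrix.mul_apply, Matrix.vecMul, dotProduct, Fin.sum_univ_two, h01]
      · rw [MulAut.conj_apply, Matrix.SpecialLinearGroup.coe_mul, Matrix.SpecialLinearGroup.coe_mul,
          Matrix.SpecialLinearGroup.coe_inv]
        simp [W, Matrix.adjugate_fin_two, Matrix.mul_apply, Matrix.vecMul, dotProduct, Fin.sum_univ_two, h]
    · refine solvable_closure_pair (zpowers_normalized (Or.inr ?_))
      rw [mul_inv_eq_iff_eq_mul]
      refine sl_ext ?_
      show (y : M2) * (x : M2) = ((x⁻¹ : SL2) : M2) * (y : M2)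
      ext i k
      fin_cases i <;> fin_cases k <;>
        simp [Matrix.SpecialLinearGroup.coe_inv, Matrix.adjugate_fin_two, Matrix.mul_apply, Matrix.vecMul, dotProduct,
          Fin.sum_univ_two, h01, h10, h0, h1, mul_comm]

/-- The solubilizer of an element of a nonsplit torus. -/
theorem sol_nonsplit_iff {x : SL2} (hsm : ¬ Small (tr x)) (hns : ¬ IsSplit x) (y : SL2) :
    Sol x y ↔ (y * x * y⁻¹ = x ∨ y * x * y⁻¹ = x⁻¹) := by
  refine ⟨fun hs => ?_, fun h => solvable_closure_pair (zpowers_normalized h)⟩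
  rcases torus_cases hn hsm hs with ⟨v, c, d, hv, hxv, -⟩ | h
  · refine absurd ⟨c, ?_⟩ hns
    have h := congrArg (fun A : M2 => A *ᵥ v) (sq_eq x)
    simp only [← Matrix.mulVec_mulVec, hxv, Matrix.mulVec_smul, Matrix.sub_mulVec, Matrix.smul_mulVec,
      Matrix.one_mulVec, smul_smul] at h
    have h0 : (c ^ 2 - tr x * c + 1) • v = 0 := by
      rw [add_smul, sub_smul, one_smul, pow_two, h]; abel
    exact (smul_eq_zero.mp h0).resolve_right hv
  · exact h

end Cfsg.Agent.Lib.Geometry.Dickson
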