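import Cfsg.Agent.Lib.Geometry.Dickson.SolubilizerThreeCount

/-!
Solubilizers in `PSL₂(3^p)`.
-/

set_option autoImplicit false
set_option maxHeartbeats 400000

namespace Cfsg.Agent.Lib.Geometry.Dickson

open Matrix
open scoped Matrix MatrixGroups Pointwise
open Cfsg.Agent.Lib.SL2Trace (tr tr_eq tr_conj tr_inv tr_neg tr_mul_comm det_eq sq_eq tr_comp isConj_of_tr_eq toPSL
  toPSL_surjective toPSL_eq toPSL_eq_one toPSL_neg mem_center_iff)

theorem count_aux {m q : ℕ} (h4 : 4 ≤ m) (hB : m + 1 = 2 * q) :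
    q + 1 + (m - 4 + 4) * (q + 1) = 2 * q * (q + 1) := by
  rw [Nat.sub_add_cancel h4, ← hB]
  ring

variable {F : Type*} [Field F] [CharP F 3] [Fintype F]

local notation "SL2" => Matrix.SpecialLinearGroup (Fin 2) F
local notation "M2" => Matrix (Fin 2) (Fin 2) F
local notation "PSL2" => Matrix.ProjectiveSpecialLinearGroup (Fin 2) F

variable (hn : ∀ r : F, r * r ≠ -1)

include hn

theorem sq_add_sq_eq_zero {a b : F} (h : a * a + b * b = 0) : a = 0 ∧ b = 0 := by
  have hb : b = 0 := by
    by_contra hb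
    refine hn (a / b) ?_
    field_simp
    linear_combination h
  rw [hb, mul_zero, add_zero] at h
  exact ⟨mul_self_eq_zero.mp h, hb⟩

theorem card_circle {c : F} (hc : c ≠ 0) :
    Nat.card {p : F × F // p.1 * p.1 + p.2 * p.2 = c} = Fintype.card F + 1 := by
  set x : SL2 := SL2Trace.comp (0 : F) with hx
  have htr : tr x = 0 := tr_comp 0
  have ht : tr x ^ 2 ≠ 4 := by rw [htr, four_eq_one]; norm_num
  have hxC : x ∉ Subgroup.center SL2 := fun h => by
    rcases mem_center_iff.mp h with e | e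
    · have := congrArg (fun g : SL2 => (g : M2) 1 0) e
      simp [hx, SL2Trace.comp] at this
    · have := congrArg (fun g : SL2 => (g : M2) 1 0) e
      simp [hx, SL2Trace.comp] at this
  have hns : ¬ IsSplit x := fun ⟨r, hr⟩ => hn r (by rw [htr] at hr; linear_combination hr)
  have hone : Nat.card {p : F × F // p.1 * p.1 + p.2 * p.2 = 1} = Fintype.card F + 1 := by
    rw [← card_cell_nonsplit hxC ht hns]
    have hcomm : ∀ g : SL2, g ∈ cell ⊤ x ↔ (g : M2) 1 1 = (g : M2) 0 0 ∧ (g : M2) 0 1 = -(g : M2) 1 0 := by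
      intro g
      rw [cell, Subgroup.mem_inf, and_iff_left (Subgroup.mem_top g), mem_centralizer_iff]
      constructor
      · intro h
        have h' : (g : M2) * (x : M2) = (x : M2) * (g : M2) := congrArg (fun g : SL2 => (g : M2)) h
        have e0 := congrFun (congrFun h' 0) 0
        have e1 := congrFun (congrFun h' 1) 0
        simp [hx, SL2Trace.comp, Matrix.mul_apply, Matrix.vecMul, dotProduct, Fin.sum_univ_two] at e0 e1
        exact ⟨by linear_combination e1, by linear_combination e0⟩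
      · rintro ⟨h1, h2⟩
        refine sl_ext ?_
        show (g : M2) * (x : M2) = (x : M2) * (g : M2)
        ext i k
        fin_cases i <;> fin_cases k <;>
          simp [hx, SL2Trace.comp, Matrix.mul_apply, Matrix.vecMul, dotProduct, Fin.sum_univ_two, h1, h2]
    refine Nat.card_congr
      { toFun := fun p => ⟨⟨!![p.1.1, -p.1.2; p.1.2, p.1.1], by rw [Matrix.det_fin_two_of]; linear_combination p.2⟩, by
          exact (hcomm _).mpr ⟨by simp, by simp⟩⟩
        invFun := fun g => ⟨((g.1 : M2) 0 0, (g.1 : M2) 1 0), by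
          obtain ⟨h1, h2⟩ := (hcomm g.1).mp g.2
          have := det_eq g.1
          rw [h1, h2] at this
          linear_combination this⟩
        left_inv := fun p => by simp
        right_inv := fun g => by
          obtain ⟨h1, h2⟩ := (hcomm g.1).mp g.2
          refine Subtype.ext (sl_ext ?_)
          ext i k
          fin_cases i <;> fin_cases k <;> simp [h1, h2] }
  obtain ⟨a, b, hab⟩ : ∃ a b : F, a * a + b * b = c := by
    obtain ⟨a, b, h⟩ := SL2Trace.exists_binary_eq_one (a := c⁻¹) (l := 0) (b := -c⁻¹) (by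
      rw [four_eq_one]; simp [hc])
    refine ⟨a, b, ?_⟩
    field_simp at h
    linear_combination h
  rw [← hone]
  let E : {p : F × F // p.1 * p.1 + p.2 * p.2 = 1} ≃ {p : F × F // p.1 * p.1 + p.2 * p.2 = c} :=
    { toFun := fun p => ⟨(a * p.1.1 - b * p.1.2, a * p.1.2 + b * p.1.1), by
        linear_combination (a * a + b * b) * p.2 + hab⟩
      invFun := fun p => ⟨((a * p.1.1 + b * p.1.2) / c, (a * p.1.2 - b * p.1.1) / c), by
        field_simp
        linear_combination (a * a + b * b) * p.2 + c * hab⟩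
      left_inv := fun p => by
        refine Subtype.ext (Prod.ext ?_ ?_)
        · show (a * (a * p.1.1 - b * p.1.2) + b * (a * p.1.2 + b * p.1.1)) / c = p.1.1
          rw [div_eq_iff hc]; linear_combination p.1.1 * hab
        · show (a * (a * p.1.2 + b * p.1.1) - b * (a * p.1.1 - b * p.1.2)) / c = p.1.2
          rw [div_eq_iff hc]; linear_combination p.1.2 * hab
      right_inv := fun p => by
        refine Subtype.ext (Prod.ext ?_ ?_)
        · show a * ((a * p.1.1 + b * p.1.2) / c) - b * ((a * p.1.2 - b * p.1.1) / c) = p.1.1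
          field_simp; linear_combination p.1.1 * hab
        · show a * ((a * p.1.2 - b * p.1.1) / c) + b * ((a * p.1.1 + b * p.1.2) / c) = p.1.2
          field_simp; linear_combination p.1.2 * hab }
  exact (Nat.card_congr E).symm

/-- The weighted number of allowed pairs of traces. -/
theorem card_pairs [DecidableEq F] (P : F × F → Prop) [DecidablePred P]
    (hP : ∀ p, P p ↔ (p.1 = 0 ∨ p.2 = 0 ∨ p.1 ^ 2 + p.2 ^ 2 = 1 ∨ (p.1 ^ 2 = 1 ∧ p.2 ^ 2 = 1))) :
    ∑ p ∈ (Finset.univ : Finset (F × F)).filter P, (if p.1 ^ 2 + p.2 ^ 2 = 1 then 1 else Fintype.card F + 1) =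
      2 * Fintype.card F * (Fintype.card F + 1) := by
  obtain ⟨q, hq⟩ : ∃ q, q = Fintype.card F := ⟨_, rfl⟩
  rw [← hq]
  set S : Finset (F × F) := (Finset.univ : Finset (F × F)).filter P
  set A : Finset (F × F) := Finset.univ.filter fun p => p.1 ^ 2 + p.2 ^ 2 = 1
  set B : Finset (F × F) := Finset.univ.filter fun p => p.1 = 0 ∨ p.2 = 0
  set C : Finset (F × F) := ({1, -1} : Finset F) ×ˢ ({1, -1} : Finset F)
  rw [Finset.sum_ite, Finset.sum_const, Finset.sum_const, smul_eq_mul, smul_eq_mul, mul_one]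
  have hA : A.card = q + 1 := by
    rw [hq, ← card_circle hn (one_ne_zero (α := F)), Nat.card_eq_fintype_card, Fintype.card_subtype]
    simp [A, pow_two]
  have h1 : (S.filter fun p => p.1 ^ 2 + p.2 ^ 2 = 1) = A := by
    ext p
    simp only [S, A, hP, Finset.mem_filter, Finset.mem_univ, true_and]
    tauto
  have h11 : (1 : F) ≠ -1 := one_ne_neg_one
  have hC : C.card = 4 := by simp [C, h11]
  have hB : B.card + 1 = 2 * q := by
    have e : B = ({0} : Finset F) ×ˢ (Finset.univ : Finset F) ∪ (Finset.univ : Finset F) ×ˢ ({0} : Finset F) := by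
      ext ⟨a, b⟩; simp [B]; exact or_congr ⟨Eq.symm, Eq.symm⟩ ⟨Eq.symm, Eq.symm⟩
    have hi : ({0} : Finset F) ×ˢ (Finset.univ : Finset F) ∩ (Finset.univ : Finset F) ×ˢ ({0} : Finset F) = {(0, 0)} := by
      ext ⟨a, b⟩; simp [Prod.ext_iff, eq_comm]
    have := Finset.card_union_add_card_inter (({0} : Finset F) ×ˢ (Finset.univ : Finset F))
      ((Finset.univ : Finset F) ×ˢ ({0} : Finset F))
    rw [← e, hi] at this
    simp at this
    omega
  have hAB : (A ∩ B).card = 4 := by
    have e : A ∩ B = ({(0, 1), (0, -1), (1, 0), (-1, 0)} : Finset (F × F)) := by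
      ext ⟨a, b⟩
      simp only [A, B, Finset.mem_inter, Finset.mem_filter, Finset.mem_univ, true_and, Finset.mem_insert,
        Finset.mem_singleton, Prod.mk.injEq]
      constructor
      · rintro ⟨h, rfl | rfl⟩
        · rcases sq_eq_one_iff.mp (show b ^ 2 = 1 by linear_combination h) with e | e
          · exact Or.inl ⟨rfl, e⟩
          · exact Or.inr (Or.inl ⟨rfl, e⟩)
        · rcases sq_eq_one_iff.mp (show a ^ 2 = 1 by linear_combination h) with e | e
          · exact Or.inr (Or.inr (Or.inl ⟨e, rfl⟩))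
          · exact Or.inr (Or.inr (Or.inr ⟨e, rfl⟩))
      · rintro (⟨rfl, rfl⟩ | ⟨rfl, rfl⟩ | ⟨rfl, rfl⟩ | ⟨rfl, rfl⟩) <;> simp
    rw [e]
    simp [h11, h11.symm, Prod.ext_iff, one_ne_zero, zero_ne_one]
  have h2 : (S.filter fun p => ¬ p.1 ^ 2 + p.2 ^ 2 = 1) = B \ A ∪ C := by
    ext ⟨a, b⟩
    simp only [S, A, B, C, hP, Finset.mem_filter, Finset.mem_univ, true_and, Finset.mem_union, Finset.mem_sdiff,
      Finset.mem_product, Finset.mem_insert, Finset.mem_singleton, ← sq_eq_one_iff]
    constructor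
    · rintro ⟨h | h | h | h, hA⟩
      · exact Or.inl ⟨Or.inl h, hA⟩
      · exact Or.inl ⟨Or.inr h, hA⟩
      · exact absurd h hA
      · exact Or.inr h
    · rintro (⟨h | h, hA⟩ | h)
      · exact ⟨Or.inl h, hA⟩
      · exact ⟨Or.inr (Or.inl h), hA⟩
      · refine ⟨Or.inr (Or.inr (Or.inr h)), fun hA => one_ne_zero (α := F) ?_⟩
        linear_combination hA - h.1 - h.2
  have hd : Disjoint (B \ A) C := by
    rw [Finset.disjoint_left]
    rintro ⟨a, b⟩ hab hC'
    simp only [B, C, Finset.mem_filter, Finset.mem_univ, true_and, Finset.mem_sdiff, Finset.mem_product,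
      Finset.mem_insert, Finset.mem_singleton, ← sq_eq_one_iff] at hab hC'
    rcases hab.1 with h | h <;> subst h <;> simp at hC'
  rw [h1, h2, Finset.card_union_of_disjoint hd, hA, hC, Finset.card_sdiff, hAB]
  have h4 : 4 ≤ B.card := hAB ▸ Finset.card_le_card Finset.inter_subset_right
  exact count_aux h4 hB

omit [CharP F 3] [Fintype F] hn in
/-- The allowed pairs of traces. -/
def PairCond (p : F × F) : Prop :=
  p.1 = 0 ∨ p.2 = 0 ∨ p.1 ^ 2 + p.2 ^ 2 = 1 ∨ (p.1 ^ 2 = 1 ∧ p.2 ^ 2 = 1)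

omit [Fintype F] hn in
theorem tr_comp_mul (y : SL2) : tr (SL2Trace.comp (0 : F) * y) = (y : M2) 0 1 - (y : M2) 1 0 := by
  rw [tr_eq, Matrix.SpecialLinearGroup.coe_mul]
  simp [SL2Trace.comp, Matrix.mul_apply, Fin.sum_univ_two]
  ring

omit [Fintype F] hn in
/-- The element with given traces. -/
def mkTr (t s u v : F) (h : u * u + v * v = t ^ 2 + s ^ 2 - 1) : SL2 :=
  ⟨!![-(t + u), -(v + s); -(v - s), -(t - u)], by rw [Matrix.det_fin_two_of]; linear_combination -h⟩

theorem tr_mkTr {t s u v : F} (h : u * u + v * v = t ^ 2 + s ^ 2 - 1) :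
    tr (mkTr t s u v h) = t ∧ tr (SL2Trace.comp (0 : F) * mkTr t s u v h) = s := by
  have h3 := three_eq_zero (F := F)
  constructor
  · refine (tr_eq _).trans ?_
    simp [mkTr]
    linear_combination -t * h3
  · refine (tr_comp_mul _).trans ?_
    simp [mkTr]
    linear_combination -s * h3

theorem toPair_mem (y : SL2) (h : PairCond (tr y, tr (SL2Trace.comp (0 : F) * y))) :
    PairCond ((y : M2) 0 0 + (y : M2) 1 1, (y : M2) 0 1 - (y : M2) 1 0) := by
  rwa [tr_eq, tr_comp_mul] at h

theorem toFibre_mem (y : SL2) :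
    ((y : M2) 0 0 - (y : M2) 1 1) * ((y : M2) 0 0 - (y : M2) 1 1) + ((y : M2) 0 1 + (y : M2) 1 0) * ((y : M2) 0 1 + (y : M2) 1 0) =
      ((y : M2) 0 0 + (y : M2) 1 1) ^ 2 + ((y : M2) 0 1 - (y : M2) 1 0) ^ 2 - 1 := by
  linear_combination (-4) * det_eq y - three_eq_zero (F := F)

theorem mkTr_mem (p w : F × F) (hp : PairCond p) (h : w.1 * w.1 + w.2 * w.2 = p.1 ^ 2 + p.2 ^ 2 - 1) :
    PairCond (tr (mkTr p.1 p.2 w.1 w.2 h), tr (SL2Trace.comp (0 : F) * mkTr p.1 p.2 w.1 w.2 h)) := by
  obtain ⟨e1, e2⟩ := tr_mkTr hn h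
  rwa [e1, e2]

theorem mkTr_left (y : SL2) (h) :
    mkTr ((y : M2) 0 0 + (y : M2) 1 1) ((y : M2) 0 1 - (y : M2) 1 0) ((y : M2) 0 0 - (y : M2) 1 1)
      ((y : M2) 0 1 + (y : M2) 1 0) h = y := by
  have h3 := three_eq_zero (F := F)
  refine sl_ext ?_
  ext i k
  fin_cases i <;> fin_cases k <;> simp [mkTr]
  · linear_combination -(y : M2) 0 0 * h3
  · linear_combination -(y : M2) 0 1 * h3
  · linear_combination -(y : M2) 1 0 * h3
  · linear_combination -(y : M2) 1 1 * h3

/-- Parametrising `SL₂` by the two traces. -/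
theorem card_sigma_eq :
    Nat.card {y : SL2 // PairCond (tr y, tr (SL2Trace.comp (0 : F) * y))} =
      Nat.card (Σ p : {p : F × F // PairCond p}, {w : F × F // w.1 * w.1 + w.2 * w.2 = p.1.1 ^ 2 + p.1.2 ^ 2 - 1}) := by
  refine Nat.card_congr
    { toFun := fun y => ⟨⟨_, toPair_mem hn y.1 y.2⟩, ⟨((y.1 : M2) 0 0 - (y.1 : M2) 1 1, (y.1 : M2) 0 1 + (y.1 : M2) 1 0),
        toFibre_mem hn y.1⟩⟩
      invFun := fun w => ⟨mkTr w.1.1.1 w.1.1.2 w.2.1.1 w.2.1.2 w.2.2, mkTr_mem hn w.1.1 w.2.1 w.1.2 w.2.2⟩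
      left_inv := fun y => Subtype.ext (mkTr_left hn y.1 (toFibre_mem hn y.1))
      right_inv := fun w => ?_ }
  obtain ⟨⟨⟨t, s⟩, hp⟩, ⟨⟨u, v⟩, hw⟩⟩ := w
  have h3 := three_eq_zero (F := F)
  have e1 : -(t + u) + -(t - u) = t := by linear_combination -t * h3
  have e2 : -(v + s) - -(v - s) = s := by linear_combination -s * h3
  have e3 : -(t + u) - -(t - u) = u := by linear_combination -u * h3
  have e4 : -(v + s) + -(v - s) = v := by linear_combination -v * h3
  simp only [mkTr, Matrix.cons_val', Matrix.cons_val_zero, Matrix.cons_val_one, Matrix.of_apply, Matrix.cons_val_fin_one]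
  exact Sigma.subtype_ext (Subtype.ext (Prod.ext e1 e2)) (Prod.ext e3 e4)

theorem card_fibre (p : F × F) [Decidable (p.1 ^ 2 + p.2 ^ 2 = 1)] :
    Nat.card {w : F × F // w.1 * w.1 + w.2 * w.2 = p.1 ^ 2 + p.2 ^ 2 - 1} =
      if p.1 ^ 2 + p.2 ^ 2 = 1 then 1 else Fintype.card F + 1 := by
  split_ifs with h
  · rw [h, sub_self, Nat.card_eq_one_iff_unique]
    refine ⟨⟨fun a b => Subtype.ext ?_⟩, ⟨⟨(0, 0), by simp⟩⟩⟩
    obtain ⟨a1, a2⟩ := sq_add_sq_eq_zero hn a.2
    obtain ⟨b1, b2⟩ := sq_add_sq_eq_zero hn b.2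
    exact Prod.ext (a1.trans b1.symm) (a2.trans b2.symm)
  · exact card_circle hn (sub_ne_zero.mpr h)

/-- The number of elements in the solubilizer of an involution. -/
theorem card_sol_trace_zero :
    Nat.card {y : SL2 // tr y = 0 ∨ tr (SL2Trace.comp (0 : F) * y) = 0 ∨
      tr y ^ 2 + tr (SL2Trace.comp (0 : F) * y) ^ 2 = 1 ∨
      (tr y ^ 2 = 1 ∧ tr (SL2Trace.comp (0 : F) * y) ^ 2 = 1)} = 2 * Fintype.card F * (Fintype.card F + 1) := by
  classical
  show Nat.card {y : SL2 // PairCond (tr y, tr (SL2Trace.comp (0 : F) * y))} = _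
  rw [card_sigma_eq hn, Nat.card_sigma, Finset.sum_congr rfl fun p _ => card_fibre hn p.1,
    ← Finset.sum_subtype ((Finset.univ : Finset (F × F)).filter PairCond) (fun x => by simp)
      fun p : F × F => if p.1 ^ 2 + p.2 ^ 2 = 1 then 1 else Fintype.card F + 1]
  exact card_pairs hn PairCond fun p => Iff.rfl

/-- The solubilizer of an element of trace zero in `SL₂`. -/
theorem solCard_trace_zero {x : SL2} (hx : tr x = 0) : solCard x = 2 * Fintype.card F * (Fintype.card F + 1) := by
  obtain ⟨h, hh⟩ := isConj_iff.mp (isConj_of_tr_eq (A := x) (B := SL2Trace.comp (0 : F)) (by rw [tr_comp, hx])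
    (by rw [hx, four_eq_one]; norm_num))
  rw [← solCard_conj h⁻¹ x, inv_inv, hh, ← card_sol_trace_zero hn]
  exact Nat.card_congr (Equiv.subtypeEquivRight (sol_trace_zero_iff hn (tr_comp 0)))

theorem card_sol_upper :
    Nat.card {y : SL2 // (y : M2) 1 0 = 0 ∨ (((y : M2) 1 0 = 1 ∨ (y : M2) 1 0 = -1) ∧ Small (tr y))} =
      Fintype.card F * (Fintype.card F + 5) := by
  classical
  have h3 := three_eq_zero (F := F)
  set q := Fintype.card F with hq
  set B : Finset SL2 := Finset.univ.filter fun y => (y : M2) 1 0 = 0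
  set C : Finset SL2 := Finset.univ.filter fun y => ((y : M2) 1 0 = 1 ∨ (y : M2) 1 0 = -1) ∧ Small (tr y)
  have hB : B.card = (q - 1) * q := by
    rw [hq, ← card_borel, Nat.card_eq_fintype_card, Fintype.card_subtype]
    exact congrArg Finset.card (Finset.filter_congr fun y _ => (mem_borel_iff y).symm)
  have h11 : (1 : F) ≠ -1 := one_ne_neg_one
  have hC : C.card = 6 * q := by
    set T : Finset (F × F × F) := ({1, -1} : Finset F) ×ˢ ({0, 1, -1} : Finset F) ×ˢ (Finset.univ : Finset F)
    have hT : T.card = 6 * q := by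
      rw [Finset.card_product, Finset.card_product, Finset.card_univ, ← hq]
      simp [h11, zero_ne_one]
      ring
    rw [← hT]
    refine Finset.card_bij (fun y _ => ((y : M2) 1 0, tr y, (y : M2) 0 0)) ?_ ?_ ?_
    · intro y hy
      obtain ⟨h1, h2⟩ := (Finset.mem_filter.mp hy).2
      simp only [T, Finset.mem_product, Finset.mem_insert, Finset.mem_singleton, Finset.mem_univ, and_true]
      exact ⟨h1, h2⟩
    · intro a ha b hb h
      simp only [Prod.mk.injEq] at h
      obtain ⟨e1, e2, e3⟩ := h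
      rw [tr_eq, tr_eq, e3, add_right_inj] at e2
      have hne : (a : M2) 1 0 ≠ 0 := by
        rcases (Finset.mem_filter.mp ha).2.1 with h | h <;> rw [h] <;> simp
      have hda := det_eq a
      have hdb := det_eq b
      rw [← e1, ← e2, ← e3] at hdb
      have e4 : (a : M2) 0 1 = (b : M2) 0 1 := mul_right_cancel₀ hne (by linear_combination hdb - hda)
      refine sl_ext ?_
      ext i k
      fin_cases i <;> fin_cases k <;> simp [e1, e2, e3, e4]
    · rintro ⟨c, t, a⟩ hw
      simp only [T, Finset.mem_product, Finset.mem_insert, Finset.mem_singleton, Finset.mem_univ, and_true] at hw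
      have hcc : c * c = 1 := by rcases hw.1 with h | h <;> rw [h] <;> ring
      let y : SL2 := ⟨!![a, (a * (t - a) - 1) * c; c, t - a], by
        rw [Matrix.det_fin_two_of]; linear_combination (1 - a * (t - a)) * hcc⟩
      have hy : tr y = t := by rw [tr_eq]; simp [y]
      refine ⟨y, Finset.mem_filter.mpr ⟨Finset.mem_univ _, by simpa [y] using hw.1, by rw [hy]; exact hw.2⟩, ?_⟩
      rw [hy]
      simp [y]
  have hd : Disjoint B C := by
    rw [Finset.disjoint_left]
    intro y h1 h2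
    have := (Finset.mem_filter.mp h1).2
    rcases (Finset.mem_filter.mp h2).2.1 with h | h <;> rw [this] at h <;> simp at h
  rw [Nat.card_eq_fintype_card, Fintype.card_subtype, show (Finset.univ.filter fun y : SL2 =>
    (y : M2) 1 0 = 0 ∨ (((y : M2) 1 0 = 1 ∨ (y : M2) 1 0 = -1) ∧ Small (tr y))) = B ∪ C by ext y; simp [B, C],
    Finset.card_union_of_disjoint hd, hB, hC]
  obtain ⟨k, hk⟩ : ∃ k, q = k + 1 := ⟨q - 1, by have := Fintype.card_pos (α := F); omega⟩
  rw [hk, Nat.add_sub_cancel]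
  ring

omit hn in
theorem solCard_eq_two_mul (x : SL2) : solCard x = 2 * solCard (toPSL x) := by
  classical
  let Z := Subgroup.center SL2
  have e : {y : SL2 // Sol x y} ≃ (QuotientGroup.mk (s := Z) ⁻¹' {Y : PSL2 | Sol (toPSL x) Y}) :=
    Equiv.subtypeEquivRight fun y => (sol_toPSL_iff x y).symm
  have hZ : Nat.card Z = 2 := by
    have hset : (Z : Set SL2) = {1, -1} := Set.ext fun z => mem_center_iff
    show Nat.card (Z : Set SL2) = 2
    rw [hset, Nat.card_coe_set_eq, Set.ncard_pair (neg_one_ne_one_SL (F := F)).symm]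
  show Nat.card {y : SL2 // Sol x y} = _
  rw [Nat.card_congr e, Nat.card_congr (QuotientGroup.preimageMkEquivSubgroupProdSet Z _), Nat.card_prod, hZ]
  rfl

theorem solCard_upper : solCard (upper (1 : F)) = Fintype.card F * (Fintype.card F + 5) := by
  rw [← card_sol_upper hn]
  exact Nat.card_congr (Equiv.subtypeEquivRight (sol_upper_iff hn))

/-- The solubilizer of an element of trace `±2`. -/
theorem solCard_parabolic {x : SL2} (hx : x ∉ Subgroup.center SL2) (ht : tr x ^ 2 = 4) :
    solCard x = Fintype.card F * (Fintype.card F + 5) := by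
  classical
  wlog htwo : tr x = 2 generalizing x with H
  · have hneg : solCard (-x) = solCard x := by rw [solCard_eq_two_mul, solCard_eq_two_mul x, toPSL_neg]
    rw [← hneg]
    refine H (fun h => hx ?_) (by rw [tr_neg, neg_sq, ht]) ?_
    · rw [mem_center_iff] at h ⊢
      rcases h with h | h
      · exact Or.inr (neg_eq_iff_eq_neg.mp h)
      · exact Or.inl (neg_injective h)
    · obtain ⟨ε, hε, he⟩ := exists_eps ht
      rcases mul_self_eq_one_iff.mp hε with h | h
      · rw [h, mul_one] at he; exact absurd he htwo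
      · rw [tr_neg, he, h]; ring
  obtain ⟨v, ε, hv, hε, hte, hxv⟩ := exists_fixed_vector ht
  obtain rfl : ε = 1 := mul_left_cancel₀ two_ne' (by rw [← hte, htwo, mul_one])
  obtain ⟨g, -, hg⟩ := exists_triangular hv hxv
  set x₁ := g⁻¹ * x * g with hx₁
  obtain ⟨h00, h10⟩ := mulVec_basis_zero.mp hg
  have ht1 : tr x₁ = 2 := by rw [hx₁, show g⁻¹ * x * g = g⁻¹ * x * g⁻¹⁻¹ by rw [inv_inv], tr_conj, htwo]
  have h11 : (x₁ : M2) 1 1 = 1 := by rw [tr_eq, h00] at ht1; linear_combination ht1
  set b := (x₁ : M2) 0 1 with hb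
  have hx1 : x₁ = upper b := sl_ext (by
    ext i k; fin_cases i <;> fin_cases k <;> simp [upper, h00, h10, h11, hb])
  have hb0 : b ≠ 0 := fun h0 => hx (by
    have e : x = 1 := by
      calc x = g * x₁ * g⁻¹ := by rw [hx₁]; group
        _ = 1 := by rw [hx1, h0, upper_zero, mul_one, mul_inv_cancel]
    rw [e]; exact one_mem _)
  have hscale : ∀ {c : F}, c ≠ 0 → IsSquare c → solCard (upper c) = solCard (upper (1 : F)) := by
    rintro c hc0 ⟨s, hs⟩
    have hs0 : s ≠ 0 := fun h0 => hc0 (by rw [hs, h0, mul_zero])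
    let d : SL2 := ⟨!![s, 0; 0, s⁻¹], by rw [Matrix.det_fin_two_of]; field_simp; ring⟩
    have hd : d⁻¹ * upper c * d = upper 1 := by
      rw [mul_assoc, inv_mul_eq_iff_eq_mul]
      refine sl_ext ?_
      show (upper c : M2) * (d : M2) = (d : M2) * (upper (1 : F) : M2)
      ext i k
      fin_cases i <;> fin_cases k <;> simp [d, upper, Matrix.mul_apply, Fin.sum_univ_two, hs, hs0]
    rw [← solCard_conj d (upper c), hd]
  rw [← solCard_conj g x, ← hx₁, hx1]
  have hsq : IsSquare b ∨ IsSquare (-b) := by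
    by_contra h
    push Not at h
    have h1 := quadraticChar_dichotomy (F := F) (a := b) hb0
    have e1 : quadraticChar F b = -1 := h1.resolve_left fun e => h.1 ((quadraticChar_one_iff_isSquare hb0).mp e)
    have e2 : quadraticChar F (-b) = -1 := (quadraticChar_dichotomy (F := F) (a := -b) (neg_ne_zero.mpr hb0)).resolve_left
      fun e => h.2 ((quadraticChar_one_iff_isSquare (neg_ne_zero.mpr hb0)).mp e)
    have e3 : quadraticChar F (-1) = -1 := quadraticChar_neg_one_iff_not_isSquare.mpr fun ⟨r, hr⟩ => hn r hr.symm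
    rw [← neg_one_mul, map_mul, e1, e3] at e2
    norm_num at e2
  rcases hsq with h | h
  · rw [hscale hb0 h, solCard_upper hn]
  · have hinv : solCard (upper b) = solCard (upper (-b)) := by
      have e : ∀ y : SL2, Subgroup.closure ({upper b, y} : Set SL2) = Subgroup.closure ({upper (-b), y} : Set SL2) := by
        intro y
        rw [← upper_inv, Set.insert_eq, Set.insert_eq ((upper b)⁻¹), Subgroup.closure_union, Subgroup.closure_union,
          Subgroup.closure_singleton_inv]
      exact Nat.card_congr (Equiv.subtypeEquivRight fun y => by rw [e y])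
    rw [hinv, hscale (neg_ne_zero.mpr hb0) h, solCard_upper hn]

/-- The solubilizer of an element of a split torus. -/
theorem solCard_split' {x : SL2} (hsm : ¬ Small (tr x)) (hs : IsSplit x) :
    solCard x = 2 * Fintype.card F * (Fintype.card F - 1) := by
  classical
  obtain ⟨h0, h1⟩ := small_of_not hsm
  obtain ⟨r, hr⟩ := hs
  obtain ⟨v, hv, hxv⟩ : ∃ v : Fin 2 → F, v ≠ 0 ∧ ((x : M2) - r • (1 : M2)) *ᵥ v = 0 := by
    refine Matrix.exists_mulVec_eq_zero_iff.mpr ?_
    have hd := det_eq x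
    rw [Matrix.det_fin_two]
    rw [tr_eq] at hr
    simp
    linear_combination hr + hd
  rw [Matrix.sub_mulVec, Matrix.smul_mulVec, Matrix.one_mulVec, sub_eq_zero] at hxv
  obtain ⟨g, -, hg⟩ := exists_triangular hv hxv
  set x₁ := g⁻¹ * x * g with hx₁
  obtain ⟨h00, h10⟩ := mulVec_basis_zero.mp hg
  have ht1 : tr x₁ = tr x := by rw [hx₁, show g⁻¹ * x * g = g⁻¹ * x * g⁻¹⁻¹ by rw [inv_inv], tr_conj]
  have hne : (x₁ : M2) 0 0 ≠ (x₁ : M2) 1 1 := fun h => h1 (by
    have hd := det_eq x₁
    rw [← ht1, tr_eq]; rw [h, h10, mul_zero, sub_zero] at hd; rw [h]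
    linear_combination 4 * hd + three_eq_zero (F := F))
  set s := (x₁ : M2) 0 1 / ((x₁ : M2) 1 1 - (x₁ : M2) 0 0)
  have hsub : (x₁ : M2) 1 1 - (x₁ : M2) 0 0 ≠ 0 := sub_ne_zero.mpr hne.symm
  set x₂ := (upper s)⁻¹ * x₁ * upper s with hx₂
  have hval : (x₂ : M2) 1 0 = 0 ∧ (x₂ : M2) 0 1 = 0 := by
    rw [hx₂, Matrix.SpecialLinearGroup.coe_mul, Matrix.SpecialLinearGroup.coe_mul, Matrix.SpecialLinearGroup.coe_inv]
    simp [Matrix.adjugate_fin_two, upper, Matrix.mul_apply, Matrix.vecMul, dotProduct, Fin.sum_univ_two, h10, s]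
    field_simp
    ring
  have ht2 : tr x₂ = tr x := by
    rw [hx₂, show (upper s)⁻¹ * x₁ * upper s = (upper s)⁻¹ * x₁ * (upper s)⁻¹⁻¹ by rw [inv_inv], tr_conj, ht1]
  rw [← solCard_conj g x, ← hx₁, ← solCard_conj (upper s) x₁, ← hx₂, ← card_diag_sol]
  exact Nat.card_congr (Equiv.subtypeEquivRight (sol_diag_iff hn hval.2 hval.1 (ht2 ▸ hsm)))

/-- The solubilizer of an element of a nonsplit torus. -/
theorem solCard_nonsplit' {x : SL2} (hsm : ¬ Small (tr x)) (hns : ¬ IsSplit x) :
    solCard x = 2 * (Fintype.card F + 1) := by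
  classical
  obtain ⟨h0, h1⟩ := small_of_not hsm
  have ht4 : tr x ^ 2 ≠ 4 := by rw [four_eq_one]; exact h1
  have hxC : x ∉ Subgroup.center SL2 := fun h => ht4 (by
    rcases mem_center_iff.mp h with e | e <;> rw [e]
    · rw [tr_one']; norm_num
    · rw [tr_neg, tr_one']; norm_num)
  set C : Finset SL2 := Finset.univ.filter fun y => y * x * y⁻¹ = x
  set D : Finset SL2 := Finset.univ.filter fun y => y * x * y⁻¹ = x⁻¹
  have hC : C.card = Fintype.card F + 1 := by
    rw [← card_cell_nonsplit hxC ht4 hns, Nat.card_eq_fintype_card, Fintype.card_subtype]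
    refine congrArg Finset.card (Finset.filter_congr fun y _ => ?_)
    rw [mul_inv_eq_iff_eq_mul, cell, Subgroup.mem_inf, mem_centralizer_iff]
    simp
  obtain ⟨g, hg, hgc⟩ := exists_inverting hxC ht4
  have hg' : g * x * g⁻¹ = x⁻¹ := by
    have h2 : g * x * g⁻¹ ∈ MulAut.conj g • cell ⊤ x := ⟨x, mem_cell_self ⊤ (Subgroup.mem_top _), rfl⟩
    rw [((mem_cellNorm_iff ⊤).mp hg).2] at h2
    rcases eq_or_eq_inv_of_tr hxC ht4 h2.1 (tr_conj _ _) with h | h
    · exact absurd ⟨mem_centralizer_iff.mpr (mul_inv_eq_iff_eq_mul.mp h), Subgroup.mem_top _⟩ hgc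
    · exact h
  have hD : D.card = C.card := by
    refine Finset.card_bij (fun y _ => g⁻¹ * y) ?_ ?_ ?_
    · intro y hy
      simp only [C, D, Finset.mem_filter, Finset.mem_univ, true_and] at hy ⊢
      calc g⁻¹ * y * x * (g⁻¹ * y)⁻¹ = g⁻¹ * (y * x * y⁻¹) * g := by group
        _ = g⁻¹ * (g * x * g⁻¹) * g := by rw [hy, hg']
        _ = x := by group
    · intro a _ b _ h; exact mul_left_cancel h
    · intro z hz
      refine ⟨g * z, ?_, inv_mul_cancel_left g z⟩
      simp only [C, D, Finset.mem_filter, Finset.mem_univ, true_and] at hz ⊢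
      rw [show g * z * x * (g * z)⁻¹ = g * (z * x * z⁻¹) * g⁻¹ by group, hz, hg']
  have hdis : Disjoint C D := by
    rw [Finset.disjoint_left]
    intro y hy hy'
    simp only [C, D, Finset.mem_filter, Finset.mem_univ, true_and] at hy hy'
    have hxx : x * x = 1 := eq_inv_iff_mul_eq_one.mp (hy.symm.trans hy')
    have e := tr_sq' x
    rw [hxx, tr_one'] at e
    exact h1 (by linear_combination -e + three_eq_zero (F := F))
  show Nat.card {y : SL2 // Sol x y} = _
  rw [Nat.card_congr (Equiv.subtypeEquivRight (sol_nonsplit_iff hn hsm hns)), Nat.card_eq_fintype_card,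
    Fintype.card_subtype,
    show (Finset.univ.filter fun y : SL2 => y * x * y⁻¹ = x ∨ y * x * y⁻¹ = x⁻¹) = C ∪ D by ext y; simp [C, D],
    Finset.card_union_of_disjoint hdis, hD, hC]
  ring

/-- Solubilizers in `PSL₂(3^p)`. -/
theorem solubilizer_three (hq3 : 3 ∣ Fintype.card F) (X : PSL2) :
    (orderOf X = 2 → solCard X = Fintype.card F * (Fintype.card F + 1)) ∧
    (orderOf X = 3 → 2 * solCard X = Fintype.card F * (Fintype.card F + 5)) ∧
    (X ≠ 1 → orderOf X ≠ 2 → orderOf X ∣ Fintype.card F - 1 →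
      solCard X = Fintype.card F * (Fintype.card F - 1)) ∧
    (X ≠ 1 → orderOf X ≠ 2 → orderOf X ∣ Fintype.card F + 1 → solCard X = Fintype.card F + 1) := by
  classical
  have h3 := three_eq_zero (F := F)
  obtain ⟨x, rfl⟩ := toPSL_surjective X
  have hc := solCard_eq_two_mul x
  have hnc : toPSL x ≠ 1 → x ∉ Subgroup.center SL2 := fun h hz => h (toPSL_eq_one.mpr (mem_center_iff.mp hz))
  have htor : toPSL x ≠ 1 → orderOf (toPSL x) ≠ 2 → ¬ (3 ∣ orderOf (toPSL x)) → ¬ Small (tr x) := by
    intro h1 h2 h3' hsm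
    rcases (small_iff _).mp hsm with h | h
    · refine h2 (haveI : Fact (Nat.Prime 2) := ⟨Nat.prime_two⟩; orderOf_eq_prime ?_ h1)
      rw [← map_pow, pow_two, sq_of_tr_zero' h, toPSL_eq_one]
      exact Or.inr rfl
    · refine h3' ?_
      haveI : Fact (Nat.Prime 3) := ⟨Nat.prime_three⟩
      rw [orderOf_eq_prime (p := 3) ?_ h1]
      rw [← map_pow, toPSL_eq_one]
      have hm : ((x ^ 3 : SL2) : M2) = (-tr x) • (1 : M2) := by
        rw [pow_succ, pow_two]
        simp only [Matrix.SpecialLinearGroup.coe_mul]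
        rw [sq_eq, sub_mul, smul_mul_assoc, sq_eq, one_mul, smul_sub, smul_smul, ← pow_two, h, one_smul, neg_smul]
        abel
      rcases sq_eq_one_iff.mp h with e | e <;> rw [e] at hm
      · exact Or.inr (sl_ext (by rw [hm]; simp))
      · exact Or.inl (sl_ext (by rw [hm]; simp))
  have h2odd : toPSL x ≠ 1 → orderOf (toPSL x) ≠ 2 → orderOf (toPSL x) ∣ Fintype.card F - 1 →
      orderOf (toPSL x) ∣ Fintype.card F + 1 → False := by
    intro h1 h2 ha hb
    have h := Nat.dvd_sub hb ha
    have := Fintype.card_pos (α := F)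
    rw [show Fintype.card F + 1 - (Fintype.card F - 1) = 2 by omega] at h
    rcases (Nat.dvd_prime Nat.prime_two).mp h with e | e
    · exact h1 (orderOf_eq_one_iff.mp e)
    · exact h2 e
  have hnot3 : ∀ {k}, k = Fintype.card F - 1 ∨ k = Fintype.card F + 1 → orderOf (toPSL x) ∣ k →
      ¬ (3 ∣ orderOf (toPSL x)) := by
    intro k hk hd h
    obtain ⟨i, hi⟩ := h.trans hd
    obtain ⟨j, hj⟩ := hq3
    have := Fintype.card_pos (α := F)
    omega
  have hcell : ∀ {k}, Nat.card (cell ⊤ x) = k → orderOf (toPSL x) ∣ k := fun {k} hk => by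
    refine (orderOf_map_dvd toPSL x).trans ?_
    rw [← hk, ← Subgroup.orderOf_mk x (mem_cell_self ⊤ (Subgroup.mem_top x))]
    exact orderOf_dvd_natCard _
  refine ⟨fun h => ?_, fun h => ?_, fun h1 h2 hd => ?_, fun h1 h2 hd => ?_⟩
  · have h1 : toPSL x ≠ 1 := fun e => by rw [e, orderOf_one] at h; omega
    have hxx : toPSL (x * x) = 1 := by
      have := pow_orderOf_eq_one (toPSL x)
      rwa [h, pow_two, ← map_mul] at this
    have hxC := hnc h1
    have ht : tr x = 0 := by
      rcases toPSL_eq_one.mp hxx with e | e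
      · exfalso
        have hm := sq_eq x
        rw [show (x : M2) * (x : M2) = 1 from congrArg (fun g : SL2 => (g : M2)) e, eq_sub_iff_add_eq] at hm
        by_cases h0 : tr x = 0
        · rw [h0, zero_smul] at hm
          have := congrFun (congrFun hm 0) 0
          simp at this
          exact two_ne' (F := F) (by linear_combination this)
        · refine not_isScal_of_notMem_center hxC (KnownA.isScal_iff.mpr ⟨(tr x)⁻¹ * 2, ?_⟩)
          rw [show (x : M2) = (tr x)⁻¹ • (tr x • (x : M2)) by rw [smul_smul, inv_mul_cancel₀ h0, one_smul], ← hm,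
            ← two_smul F (1 : M2), smul_smul]
      · have := tr_sq' x
        rw [e, tr_neg, tr_one'] at this
        exact mul_self_eq_zero.mp (by linear_combination -this)
    have := solCard_trace_zero hn ht
    rw [hc, mul_assoc] at this
    omega
  · have h1 : toPSL x ≠ 1 := fun e => by rw [e, orderOf_one] at h; omega
    have hxC := hnc h1
    have hxxx : toPSL (x * x * x) = 1 := by
      have := pow_orderOf_eq_one (toPSL x)
      rwa [h, pow_succ, pow_two, ← map_mul, ← map_mul] at this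
    have ht : tr x ^ 2 = 4 := by
      by_contra ht
      rw [four_eq_one] at ht
      have hm : ((x * x * x : SL2) : M2) = (tr x ^ 2 - 1) • (x : M2) - tr x • (1 : M2) := by
        simp only [Matrix.SpecialLinearGroup.coe_mul]
        rw [sq_eq, sub_mul, smul_mul_assoc, sq_eq, one_mul, smul_sub, smul_smul, sub_smul, one_smul, ← pow_two]
        abel
      obtain ⟨η, hη⟩ : ∃ η : F, ((x * x * x : SL2) : M2) = η • (1 : M2) := by
        rcases toPSL_eq_one.mp hxxx with e | e
        · exact ⟨1, by rw [e, one_smul]; rfl⟩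
        · exact ⟨-1, by rw [e, neg_one_smul]; rfl⟩
      rw [hη, eq_sub_iff_add_eq, ← add_smul] at hm
      refine not_isScal_of_notMem_center hxC (KnownA.isScal_iff.mpr ⟨(tr x ^ 2 - 1)⁻¹ * (η + tr x), ?_⟩)
      rw [show (x : M2) = (tr x ^ 2 - 1)⁻¹ • ((tr x ^ 2 - 1) • (x : M2)) by
        rw [smul_smul, inv_mul_cancel₀ (sub_ne_zero.mpr ht), one_smul], ← hm, smul_smul]
    rw [← hc, solCard_parabolic hn hxC ht]
  · have hsm := htor h1 h2 (hnot3 (Or.inl rfl) hd)
    obtain ⟨h0, h1'⟩ := small_of_not hsm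
    have ht4 : tr x ^ 2 ≠ 4 := by rw [four_eq_one]; exact h1'
    have hs : IsSplit x := by
      by_contra hns
      exact h2odd h1 h2 hd (hcell (card_cell_nonsplit (hnc h1) ht4 hns))
    have := solCard_split' hn hsm hs
    rw [hc, mul_assoc] at this
    omega
  · have hsm := htor h1 h2 (hnot3 (Or.inr rfl) hd)
    obtain ⟨h0, h1'⟩ := small_of_not hsm
    have ht4 : tr x ^ 2 ≠ 4 := by rw [four_eq_one]; exact h1'
    have hns : ¬ IsSplit x := fun hs => h2odd h1 h2 (hcell (card_cell_split (hnc h1) ht4 hs)) hd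
    have := solCard_nonsplit' hn hsm hns
    rw [hc] at this
    omega

end Cfsg.Agent.Lib.Geometry.Dickson
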