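import Cfsg.Agent.Lib.Geometry.Dickson.FourGroups
import Cfsg.Agent.Lib.Geometry.Dickson.Solv
import Cfsg.Agent.Lib.Geometry.Dickson.Maximal
import Cfsg.Agent.Lib.Classical.LinearSimple

/-!
Normalisers of non-trivial proper subgroups of `PSL(2, 13)` are maximal.
-/

set_option autoImplicit false

namespace Cfsg.Agent.Lib.Geometry.Dickson.Thirteen

open Matrix
open scoped MatrixGroups Pointwise
open Cfsg.Agent.Lib.SL2Trace (toPSL toPSL_surjective tr)

variable {F : Type*} [Field F] [Fintype F] [Fact (Nat.Prime 13)] [CharP F 13] (hF : Fintype.card F = 13)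

local notation "SL2" => Matrix.SpecialLinearGroup (Fin 2) F
local notation "PSL2" => Matrix.ProjectiveSpecialLinearGroup (Fin 2) F

include hF in
theorem psl_card : Nat.card PSL2 = 1092 := by
  have h := card_PSL2_odd (F := F) (by rw [hF])
  rw [hF] at h
  norm_num at h
  omega

include hF in
theorem proper_le {M : Subgroup PSL2} (hM : M ≠ ⊤) : Nat.card M ≤ 78 := by
  have h := card_le_borel 13 (by rw [hF]; decide) hM
  rw [hF, show Nat.gcd 2 (13 - 1) = 2 from rfl] at h
  omega

include hF in
theorem coatom_of_card {N : Subgroup PSL2} (h : Nat.card N = 12 ∨ Nat.card N = 78) : IsCoatom N := by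
  haveI : Finite PSL2 := Nat.finite_of_card_ne_zero (by rw [psl_card hF]; norm_num)
  refine ⟨fun e => ?_, fun M hM => by_contra fun hMt => ?_⟩
  · rw [e, Subgroup.card_top, psl_card hF] at h; omega
  · have h1 := proper_le hF hMt
    have h2 : Nat.card M ∣ 1092 := psl_card (F := F) hF ▸ M.card_subgroup_dvd_card
    obtain ⟨k, hk⟩ := Subgroup.card_dvd_of_le hM.le
    have h3 : 2 ≤ k := by
      by_contra hk2
      interval_cases k
      · rw [mul_zero] at hk; exact Nat.card_pos.ne' hk
      · exact hM.ne (Subgroup.eq_of_le_of_card_ge hM.le (by rw [hk, mul_one]))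
    rcases h with h | h <;> rw [h] at hk
    · have : k ≤ 6 := by omega
      interval_cases k <;> rw [hk] at h2 <;> norm_num at h2
    · omega

include hF in
theorem simple : IsSimpleGroup PSL2 :=
  Cfsg.Agent.Lib.Classical.isSimpleGroup_PSL_fin le_rfl fun _ => by
    rw [Nat.card_eq_fintype_card, hF]; norm_num

include hF in
theorem norm_ne_top {H : Subgroup PSL2} (h1 : H ≠ ⊥) (h2 : H ≠ ⊤) : Subgroup.normalizer (H : Set PSL2) ≠ ⊤ := by
  haveI := simple (F := F) hF
  intro h
  rcases (Subgroup.normalizer_eq_top_iff.mp h).eq_bot_or_eq_top with e | e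
  · exact h1 e
  · exact h2 e

include hF in
theorem coatom_eq {H N : Subgroup PSL2} (h1 : H ≠ ⊥) (h2 : H ≠ ⊤) (hN : IsCoatom N)
    (hle : N ≤ Subgroup.normalizer (H : Set PSL2)) : IsCoatom (Subgroup.normalizer (H : Set PSL2)) := by
  rcases hle.lt_or_eq with h | h
  · exact absurd (hN.2 _ h) (norm_ne_top hF h1 h2)
  · exact h ▸ hN

include hF in
/-- The normaliser of a subgroup generated by a semisimple element. -/
theorem torus_case {x : PSL2} (hx : x ≠ 1) (h13 : ¬ 13 ∣ orderOf x) :
    ∃ N : Subgroup PSL2, IsCoatom N ∧ N ≤ Subgroup.normalizer ((Subgroup.zpowers x : Subgroup PSL2) : Set PSL2) ∧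
      (Nat.card N = 12 ∨ Nat.card N = 14) := by
  haveI : Finite PSL2 := Nat.finite_of_card_ne_zero (by rw [psl_card hF]; norm_num)
  obtain ⟨y, rfl⟩ := toPSL_surjective x
  have hy : y ∉ Subgroup.center SL2 := fun h => hx
    (Cfsg.Agent.Lib.SL2Trace.toPSL_eq_one.mpr (Cfsg.Agent.Lib.SL2Trace.mem_center_iff.mp h))
  have ht : tr y ^ 2 ≠ 4 := by
    intro h
    obtain ⟨S, hS⟩ := sylow_zpowers 13 h
    obtain ⟨k, hk⟩ := S.isPGroup' ⟨_, hS (Subgroup.mem_zpowers _)⟩
    have hd : orderOf (toPSL y) ∣ 13 ^ k := orderOf_dvd_of_pow_eq_one (congrArg Subtype.val hk)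
    obtain ⟨j, -, hj⟩ := (Nat.dvd_prime_pow (by norm_num)).mp hd
    rcases j with _ | j
    · exact hx (orderOf_eq_one_iff.mp (by rw [hj, pow_zero]))
    · exact h13 (hj ▸ dvd_pow_self 13 (Nat.succ_ne_zero j))
  refine ⟨torusNorm y, ?_, ?_, ?_⟩
  · by_cases hs : IsSplit y
    · refine isCoatom_torusNorm 13 hy ht (split_half hy ht hs) (Or.inr ⟨?_, ?_⟩)
      · rw [hF]; norm_num
      · rw [hF]; decide
    · refine isCoatom_torusNorm 13 hy ht (nonsplit_half hy ht hs) (Or.inl ⟨?_, ?_⟩)
      · rw [hF]; norm_num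
      · rw [hF]; decide
  · rintro _ ⟨g, hg, rfl⟩
    rw [Subgroup.mem_normalizer_iff_map_conj_eq, MonoidHom.map_zpowers]
    have hcell : g * y * g⁻¹ ∈ cell ⊤ y := by
      have h := ((mem_cellNorm_iff ⊤).mp hg).2
      rw [cell_conj ⊤ (Subgroup.mem_top g)] at h
      exact h ▸ mem_cell_self ⊤ (Subgroup.mem_top _)
    show Subgroup.zpowers (toPSL g * toPSL y * (toPSL g)⁻¹) = _
    rw [← map_inv, ← map_mul, ← map_mul]
    rcases eq_or_eq_inv_of_tr hy ht hcell.1 (Cfsg.Agent.Lib.SL2Trace.tr_conj y g) with h | h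
    · rw [h]
    · rw [h, map_inv, Subgroup.zpowers_inv]
  · by_cases hs : IsSplit y
    · left
      rw [Nat.card_congr ((torusNorm_data hy ht (split_half hy ht hs)).1.some).toEquiv, DihedralGroup.nat_card, hF]
      norm_num
    · right
      rw [Nat.card_congr ((torusNorm_data hy ht (nonsplit_half hy ht hs)).1.some).toEquiv, DihedralGroup.nat_card, hF]
      norm_num

include hF in
theorem cyclic_case {H : Subgroup PSL2} [IsCyclic H] (h1 : H ≠ ⊥) (h2 : H ≠ ⊤) (h13 : ¬ 13 ∣ Nat.card H) :
    IsCoatom (Subgroup.normalizer (H : Set PSL2)) := by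
  obtain ⟨x, hx⟩ := (Subgroup.isCyclic_iff_exists_zpowers_eq_top H).mp inferInstance
  subst hx
  rw [Nat.card_zpowers] at h13
  obtain ⟨N, hN, hle, -⟩ := torus_case hF (fun h => h1 (Subgroup.zpowers_eq_bot.mpr h)) h13
  exact coatom_eq hF h1 h2 hN hle

include hF in
theorem subfield_top (K : Subfield F) : K = ⊤ := by
  have hbij : Function.Bijective (ZMod.castHom (dvd_refl 13) F) :=
    (Fintype.bijective_iff_injective_and_card _).mpr ⟨RingHom.injective _, by rw [hF, ZMod.card]⟩
  refine eq_top_iff.mpr fun x _ => ?_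
  obtain ⟨a, rfl⟩ := hbij.2 x
  rw [← ZMod.natCast_zmod_val a, map_natCast]
  exact natCast_mem K _

include hF in
/-- Every non-trivial proper subgroup of `PSL(2, 13)` has a maximal normaliser. -/
theorem norm_coatom (H : Subgroup PSL2) (h1 : H ≠ ⊥) (h2 : H ≠ ⊤) :
    IsCoatom (Subgroup.normalizer (H : Set PSL2)) := by
  classical
  haveI : Finite PSL2 := Nat.finite_of_card_ne_zero (by rw [psl_card hF]; norm_num)
  have hd : Nat.gcd 2 (13 - 1) = 2 := rfl
  have hdvd : Nat.card H ∣ 1092 := psl_card (F := F) hF ▸ H.card_subgroup_dvd_card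
  rcases subType 13 H with ⟨k, hk, hc, hcard⟩ | ⟨k, hk, ⟨e⟩⟩ | ⟨S, hS⟩ | ⟨⟨e⟩⟩ | ⟨⟨e⟩⟩ | ⟨⟨e⟩⟩ | ⟨K, hK⟩
  · rw [hF, hd] at hk
    norm_num at hk
    refine cyclic_case hF h1 h2 ?_
    rw [hcard]
    intro h
    rcases hk with hk | hk <;> [have := h.trans hk; have := h.trans hk] <;> norm_num at this
  · rw [hF, hd] at hk
    norm_num at hk
    have hcard : Nat.card H = 2 * k := by rw [Nat.card_congr e.toEquiv, DihedralGroup.nat_card]
    have hk0 : 0 < k := by
      rcases hk with hk | hk <;> exact Nat.pos_of_dvd_of_pos hk (by norm_num)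
    rcases Nat.lt_or_ge k 3 with hlt | hge
    · interval_cases k
      · haveI : Fact (Nat.Prime 2) := ⟨Nat.prime_two⟩
        haveI : IsCyclic H := isCyclic_of_prime_card (p := 2) hcard
        exact cyclic_case hF h1 h2 (by rw [hcard]; norm_num)
      · haveI : Fact (Nat.Prime 2) := ⟨Nat.prime_two⟩
        have hsq : Nat.card PSL2 = 2 ^ 2 * 273 := psl_card hF
        let P : Sylow 2 PSL2 := Sylow.ofCard H (by
          rw [hsq, Nat.factorization_mul (by norm_num) (by norm_num), Nat.Prime.factorization_pow Nat.prime_two,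
            Finsupp.add_apply, Finsupp.single_eq_same, Nat.factorization_eq_zero_of_not_dvd (by norm_num), hcard]
          norm_num)
        have hP : (P : Subgroup PSL2) = H := rfl
        haveI hkl : IsKleinFour H :=
          { card_four := hcard
            exponent_two := (Monoid.exponent_eq_of_mulEquiv e).trans IsKleinFour.exponent_two }
        have hall : ∀ V : Subgroup PSL2, IsKleinFour V ↔ ∃ Q : Sylow 2 PSL2, (Q : Subgroup PSL2) = V := by
          intro V
          constructor
          · intro hV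
            refine ⟨Sylow.ofCard V ?_, rfl⟩
            rw [hsq, Nat.factorization_mul (by norm_num) (by norm_num), Nat.Prime.factorization_pow Nat.prime_two,
              Finsupp.add_apply, Finsupp.single_eq_same, Nat.factorization_eq_zero_of_not_dvd (by norm_num),
              hV.card_four]
            norm_num
          · rintro ⟨Q, rfl⟩
            let φ : Q ≃* H := (Sylow.equiv Q P).trans (MulEquiv.subgroupCongr hP)
            exact { card_four := by rw [Nat.card_congr φ.toEquiv, hcard]
                    exponent_two := (Monoid.exponent_eq_of_mulEquiv φ).trans IsKleinFour.exponent_two }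
        have hn : Nat.card (Sylow 2 PSL2) = 91 := by
          have h := card_four_groups (F := F) (by rw [hF])
          rw [psl_card hF] at h
          let f : Sylow 2 PSL2 ≃ {V : Subgroup PSL2 // IsKleinFour V} :=
            Equiv.ofBijective (fun Q => ⟨(Q : Subgroup PSL2), (hall _).mpr ⟨Q, rfl⟩⟩)
              ⟨fun Q R hQR => Sylow.ext (Subtype.ext_iff.mp hQR), fun ⟨V, hV⟩ => by
                obtain ⟨Q, hQ⟩ := (hall V).mp hV
                exact ⟨Q, Subtype.ext hQ⟩⟩
          rw [Nat.card_congr f]
          omega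
        rw [P.card_eq_index_normalizer] at hn
        change (Subgroup.normalizer (H : Set PSL2)).index = 91 at hn
        have h := (Subgroup.normalizer (H : Set PSL2)).card_mul_index
        rw [hn, psl_card hF] at h
        exact coatom_of_card hF (Or.inl (by omega))
    · set r : H := e.symm (DihedralGroup.r 1) with hr
      have hrk : orderOf (r : PSL2) = k := by
        rw [Subgroup.orderOf_coe, hr, MulEquiv.orderOf_eq, DihedralGroup.orderOf_r_one]
      have hr1 : (r : PSL2) ≠ 1 := fun h => by rw [h, orderOf_one] at hrk; omega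
      have hk' : k = 3 ∨ k = 6 ∨ k = 7 := by
        rcases hk with hk | hk
        · rcases (Nat.dvd_prime (by norm_num)).mp hk with h | h <;> omega
        · have hm := Nat.mem_divisors.mpr ⟨hk, by norm_num⟩
          rw [show Nat.divisors 6 = {1, 2, 3, 6} by decide] at hm
          simp only [Finset.mem_insert, Finset.mem_singleton] at hm
          omega
      obtain ⟨N, hN, hle, hNc⟩ := torus_case hF hr1 (by rw [hrk]; rcases hk' with h | h | h <;> rw [h] <;> norm_num)
      set R := Subgroup.zpowers (r : PSL2) with hRdef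
      have hRH : R ≤ H := Subgroup.zpowers_le.mpr r.2
      have hRb : R ≠ ⊥ := fun h => hr1 (Subgroup.zpowers_eq_bot.mp h)
      have hRt : R ≠ ⊤ := fun h => h2 (eq_top_iff.mpr (h ▸ hRH))
      have hR2 : (R.subgroupOf H).index = 2 := by
        have h := (R.subgroupOf H).card_mul_index
        rw [Nat.card_congr (Subgroup.subgroupOfEquivOfLe hRH).toEquiv, Nat.card_zpowers, hrk, hcard] at h
        exact Nat.eq_of_mul_eq_mul_left hk0 (h.trans (mul_comm 2 k))
      have hHR : H ≤ Subgroup.normalizer (R : Set PSL2) :=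
        (Subgroup.normal_subgroupOf_iff_le_normalizer hRH).mp (Subgroup.normal_of_index_eq_two hR2)
      have hNR : Subgroup.normalizer (R : Set PSL2) = N := by
        rcases hle.lt_or_eq with h | h
        · exact absurd (hN.2 _ h) (norm_ne_top hF hRb hRt)
        · exact h.symm
      have hHN : H ≤ N := hNR ▸ hHR
      refine coatom_eq hF h1 h2 hN ?_
      obtain ⟨j, hj⟩ := Subgroup.card_dvd_of_le hHN
      rw [hcard] at hj
      have hj0 : j ≠ 0 := by rintro rfl; rw [mul_zero] at hj; exact Nat.card_pos.ne' hj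
      have hj2 : j = 1 ∨ j = 2 := by
        rcases hk' with h | h | h <;> rw [h] at hj <;> omega
      rcases hj2 with rfl | rfl
      · have : H = N := Subgroup.eq_of_le_of_card_ge hHN (by omega)
        rw [← this]
        exact Subgroup.le_normalizer
      · refine (Subgroup.normal_subgroupOf_iff_le_normalizer hHN).mp (Subgroup.normal_of_index_eq_two ?_)
        have h := (H.subgroupOf N).card_mul_index
        rw [Nat.card_congr (Subgroup.subgroupOfEquivOfLe hHN).toEquiv, hcard, hj] at h
        exact Nat.eq_of_mul_eq_mul_left (by omega) h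
  · set N := Subgroup.normalizer ((S : Subgroup PSL2) : Set PSL2) with hNdef
    have hNc : Nat.card N = 78 := by
      have h := N.card_mul_index
      rw [hNdef, index_normalizer_sylow 13 S, psl_card hF, hF] at h
      rw [hNdef]
      omega
    have hmemS : ∀ c ∈ N, orderOf c ∣ 13 → c ∈ (S : Subgroup PSL2) := by
      intro c hc ho
      have hp : IsPGroup 13 (Subgroup.zpowers c) := by
        rintro ⟨_, i, rfl⟩
        refine ⟨1, Subtype.ext ?_⟩
        show (c ^ i) ^ (13 ^ 1) = 1
        rw [pow_one, ← zpow_natCast, ← _root_.zpow_mul, mul_comm, _root_.zpow_mul, zpow_natCast,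
          orderOf_dvd_iff_pow_eq_one.mp ho, _root_.one_zpow]
      have hsup := IsPGroup.to_sup_of_normal_right' hp S.2 (Subgroup.zpowers_le.mpr hc)
      rw [← S.3 hsup le_sup_right]
      exact Subgroup.mem_sup_left (Subgroup.mem_zpowers c)
    by_cases h13 : 13 ∣ Nat.card H
    · have hSc : Nat.card (S : Subgroup PSL2) = 13 := by
        rw [S.card_eq_multiplicity, psl_card hF, show (1092 : ℕ) = 13 ^ 1 * 84 from rfl,
          Nat.factorization_mul (by norm_num) (by norm_num), Nat.Prime.factorization_pow (by norm_num),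
          Finsupp.add_apply, Finsupp.single_eq_same, Nat.factorization_eq_zero_of_not_dvd (by norm_num)]
        norm_num
      obtain ⟨c, hc⟩ := exists_prime_orderOf_dvd_card' 13 h13
      have hcS : (c : PSL2) ∈ (S : Subgroup PSL2) := hmemS _ (hS c.2) (by rw [Subgroup.orderOf_coe, hc])
      have hSH : (S : Subgroup PSL2) ≤ H := by
        have : Subgroup.zpowers (c : PSL2) = (S : Subgroup PSL2) :=
          Subgroup.eq_of_le_of_card_ge (Subgroup.zpowers_le.mpr hcS)
            (by rw [Nat.card_zpowers, Subgroup.orderOf_coe, hc, hSc])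
        exact this ▸ Subgroup.zpowers_le.mpr c.2
      have hconj : ∀ n ∈ N, ∀ h ∈ H, n * h * n⁻¹ ∈ H := by
        intro n hn h hh
        have := hSH (hmemS _ (N.mul_mem (N.mul_mem (N.mul_mem hn (hS hh)) (N.inv_mem hn)) (N.inv_mem (hS hh)))
          (orderOf_commutator_dvd 13 S hn (hS hh)))
        simpa using H.mul_mem this hh
      refine coatom_eq hF h1 h2 (coatom_of_card hF (Or.inr hNc)) fun n hn => ?_
      rw [Subgroup.mem_normalizer_iff]
      exact fun h => ⟨hconj n hn h, fun hh => by simpa [mul_assoc] using hconj n⁻¹ (N.inv_mem hn) _ hh⟩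
    · haveI : IsCyclic H := by
        have hcomm : ∀ a b : H, a * b = b * a := by
          intro a b
          have hd := orderOf_commutator_dvd 13 S (hS a.2) (hS b.2)
          rcases (Nat.dvd_prime (Fact.out : Nat.Prime 13)).mp hd with h | h
          · have := orderOf_eq_one_iff.mp h
            exact Subtype.ext (by simpa using mul_inv_eq_one.mp (by simpa [mul_assoc] using this : (a : PSL2) * b * ((b : PSL2) * a)⁻¹ = 1))
          · have hm : (a : PSL2) * b * (a : PSL2)⁻¹ * (b : PSL2)⁻¹ ∈ H :=
              H.mul_mem (H.mul_mem (H.mul_mem a.2 b.2) (H.inv_mem a.2)) (H.inv_mem b.2)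
            exact absurd (h ▸ H.orderOf_dvd_natCard hm) h13
        letI : CommGroup H := { (inferInstance : Group H) with mul_comm := hcomm }
        refine IsCyclic.of_exponent_eq_card (Nat.dvd_antisymm Group.exponent_dvd_nat_card ?_)
        have h78 : Nat.card H ∣ 78 := hNc ▸ Subgroup.card_dvd_of_le hS
        have h6 : Nat.card H ∣ 6 := ((Nat.Prime.coprime_iff_not_dvd (by norm_num)).mpr h13).symm.dvd_of_dvd_mul_left
          (show Nat.card H ∣ 13 * 6 from h78)
        have h2' : ∀ p, p.Prime → p ∣ Nat.card H → p ∣ Monoid.exponent H := fun p hp hd => by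
          haveI := Fact.mk hp
          obtain ⟨x, hx⟩ := exists_prime_orderOf_dvd_card' p hd
          exact hx ▸ Monoid.order_dvd_exponent x
        have hle6 := Nat.le_of_dvd (by norm_num) h6
        generalize Nat.card H = n at *
        interval_cases n <;> norm_num at h6
        · exact one_dvd _
        · exact h2' 2 Nat.prime_two dvd_rfl
        · exact h2' 3 Nat.prime_three dvd_rfl
        · exact Nat.Coprime.mul_dvd_of_dvd_of_dvd (by norm_num : Nat.Coprime 2 3)
            (h2' 2 Nat.prime_two (by norm_num)) (h2' 3 Nat.prime_three (by norm_num))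
      exact cyclic_case hF h1 h2 h13
  · refine coatom_eq hF h1 h2 (coatom_of_card hF (Or.inl ?_)) Subgroup.le_normalizer
    rw [Nat.card_congr e.toEquiv, Nat.card_eq_fintype_card]
    decide
  · rw [Nat.card_congr e.toEquiv, Nat.card_eq_fintype_card] at hdvd
    simp [Fintype.card_perm, Nat.factorial] at hdvd
  · rw [Nat.card_congr e.toEquiv, Nat.card_eq_fintype_card, show Fintype.card (alternatingGroup (Fin 5)) = 60 by
      decide +kernel] at hdvd
    norm_num at hdvd
  · exact absurd (eq_top_of_subfield_top K (subfield_top hF K) hK) h2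

end Cfsg.Agent.Lib.Geometry.Dickson.Thirteen
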