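import Cfsg.Agent.Lib.Geometry.Dickson.Global

/-!
Maximal tori of `SL₂`, their normalisers, and element orders in `PSL₂` and `PGL₂`.
-/

set_option autoImplicit false

namespace Cfsg.Agent.Lib.Geometry.Dickson

open Matrix
open scoped Matrix MatrixGroups LinearAlgebra.Projectivization
open Cfsg.Agent.Lib.SL2Trace (tr tr_eq toPSL toPSL_surjective toPSL_eq toPSL_eq_one mem_center_iff)

variable {F : Type*} [Field F] [Fintype F]

local notation "SL2" => Matrix.SpecialLinearGroup (Fin 2) F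
local notation "M2" => Matrix (Fin 2) (Fin 2) F
local notation "PSL2" => Matrix.ProjectiveSpecialLinearGroup (Fin 2) F

/-- The characteristic polynomial of `y` has a root. -/
def IsSplit (y : SL2) : Prop := ∃ r : F, r ^ 2 - tr y * r + 1 = 0

theorem exists_nonsplit : ∃ y : SL2, ¬ IsSplit y ∧ tr y ^ 2 ≠ 4 ∧ y ∉ Subgroup.center SL2 := by
  classical
  obtain ⟨t, ht⟩ : ∃ t : F, ∀ r : F, r ^ 2 - t * r + 1 ≠ 0 := by
    by_contra hc
    push Not at hc
    choose r hr using hc
    have hr0 : ∀ t, r t ≠ 0 := fun t h => by simpa [h] using hr t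
    have hinj : Function.Injective (fun t => Units.mk0 (r t) (hr0 t)) := fun a b h => by
      have h' : r a = r b := congrArg Units.val h
      have h2 := hr a
      rw [h'] at h2
      exact mul_right_cancel₀ (hr0 b) (by linear_combination hr b - h2)
    have := Fintype.card_le_of_injective _ hinj
    rw [Fintype.card_units] at this
    have := Fintype.card_pos (α := F)
    omega
  have h4 : t ^ 2 ≠ 4 := fun h => by
    obtain ⟨ε, hε, hte⟩ : ∃ ε : F, ε * ε = 1 ∧ t = 2 * ε := by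
      rcases mul_eq_zero.mp (show (t - 2) * (t + 2) = 0 by linear_combination h) with h1 | h1
      · exact ⟨1, one_mul 1, by linear_combination h1⟩
      · exact ⟨-1, by ring, by linear_combination h1⟩
    exact ht ε (by rw [hte]; linear_combination -hε)
  refine ⟨Cfsg.Agent.Lib.SL2Trace.comp t, ?_, ?_, ?_⟩
  · rintro ⟨r, hr⟩
    rw [Cfsg.Agent.Lib.SL2Trace.tr_comp] at hr
    exact ht r hr
  · rwa [Cfsg.Agent.Lib.SL2Trace.tr_comp]
  · intro h
    rcases mem_center_iff.mp h with h | h <;>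
    · have := congrArg (fun g : SL2 => (g : M2) 1 0) h
      simp [Cfsg.Agent.Lib.SL2Trace.comp] at this

theorem exists_split (hq : 4 ≤ Fintype.card F) :
    ∃ y : SL2, IsSplit y ∧ tr y ^ 2 ≠ 4 ∧ y ∉ Subgroup.center SL2 := by
  classical
  obtain ⟨r, hr⟩ : ∃ r : F, r ∉ ({0, 1, -1} : Finset F) := by
    by_contra hc
    push Not at hc
    have h := Finset.card_le_card (fun x _ => hc x : (Finset.univ : Finset F) ⊆ {0, 1, -1})
    rw [Finset.card_univ] at h
    have := Finset.card_le_three (a := (0 : F)) (b := 1) (c := -1)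
    omega
  simp only [Finset.mem_insert, Finset.mem_singleton, not_or] at hr
  obtain ⟨hr0, hr1, hr2⟩ := hr
  let y : SL2 := ⟨!![r, 0; 0, r⁻¹], by simp [Matrix.det_fin_two, hr0]⟩
  have hty : tr y = r + r⁻¹ := by rw [tr_eq]; simp [y]
  have hne : r ≠ r⁻¹ := fun h => by
    have : r * r = 1 := by nth_rw 2 [h]; exact mul_inv_cancel₀ hr0
    rcases mul_self_eq_one_iff.mp this with h | h
    · exact hr1 h
    · exact hr2 h
  refine ⟨y, ⟨r, ?_⟩, ?_, ?_⟩
  · rw [hty]; field_simp; ring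
  · rw [hty]
    intro h
    have h' : (r - r⁻¹) * (r - r⁻¹) = 0 := by linear_combination h - 4 * (mul_inv_cancel₀ hr0)
    exact hne (sub_eq_zero.mp (mul_self_eq_zero.mp h'))
  · intro h
    rcases mem_center_iff.mp h with h | h
    · exact hr1 (by simpa [y] using congrArg (fun g : SL2 => (g : M2) 0 0) h)
    · exact hr2 (by simpa [y] using congrArg (fun g : SL2 => (g : M2) 0 0) h)

theorem card_cell_split {y : SL2} (hy : y ∉ Subgroup.center SL2) (ht : tr y ^ 2 ≠ 4) (hs : IsSplit y) :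
    Nat.card (cell ⊤ y) = Fintype.card F - 1 := by
  classical
  obtain ⟨r, hr⟩ := hs
  have hr0 : r ≠ 0 := fun h => by simp [h] at hr
  let D : SL2 := ⟨!![r, 0; 0, r⁻¹], by simp [Matrix.det_fin_two, hr0]⟩
  have htD : tr D = tr y := by
    rw [tr_eq]
    simp [D]
    field_simp
    linear_combination hr
  have hne : r ≠ r⁻¹ := fun h => ht (by
    rw [← htD, tr_eq]
    simp [D]
    rw [← h]
    have : r * r = 1 := by nth_rw 2 [h]; exact mul_inv_cancel₀ hr0
    linear_combination 4 * this)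
  obtain ⟨g, hg⟩ := isConj_iff.mp (Cfsg.Agent.Lib.SL2Trace.isConj_of_tr_eq htD (htD.symm ▸ ht))
  let f : Fˣ → cell ⊤ y := fun a => ⟨g * ⟨!![(a : F), 0; 0, (a : F)⁻¹], by simp [Matrix.det_fin_two]⟩ * g⁻¹, by
    refine ⟨?_, Subgroup.mem_top _⟩
    rw [← hg]
    refine (conj_mem_centralizer_iff g _ D).mpr (mem_centralizer_iff.mpr (sl_ext ?_))
    show (!![(a : F), 0; 0, (a : F)⁻¹] : M2) * !![r, 0; 0, r⁻¹] = !![r, 0; 0, r⁻¹] * !![(a : F), 0; 0, (a : F)⁻¹]
    ext i j
    fin_cases i <;> fin_cases j <;> simp [Matrix.mul_apply, Fin.sum_univ_two, mul_comm]⟩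
  have hf : Function.Bijective f := by
    constructor
    · intro a b h
      have h' := mul_left_cancel (mul_right_cancel (congrArg (fun e : cell ⊤ y => (e : SL2)) h))
      exact Units.ext (congrArg (fun e : SL2 => (e : M2) 0 0) h')
    · rintro ⟨x, hx, -⟩
      obtain ⟨z, hz⟩ : ∃ z : SL2, z = g⁻¹ * x * g := ⟨_, rfl⟩
      have hzD : z ∈ Subgroup.centralizer ({D} : Set SL2) := by
        rw [← conj_mem_centralizer_iff g z D, hg, hz]
        simpa [mul_assoc] using hx
      have e := congrArg (fun h : SL2 => (h : M2)) (mem_centralizer_iff.mp hzD)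
      simp only [Matrix.SpecialLinearGroup.coe_mul] at e
      have e01 := congrFun (congrFun e 0) 1
      have e10 := congrFun (congrFun e 1) 0
      simp [D, Matrix.mul_apply, Fin.sum_univ_two] at e01 e10
      have h01 : (z : M2) 0 1 = 0 := by
        by_contra h
        exact hne (mul_left_cancel₀ h (e01.trans (mul_comm _ _))).symm
      have h10 : (z : M2) 1 0 = 0 := by
        by_contra h
        exact hne (mul_left_cancel₀ h (e10.trans (mul_comm _ _)))
      have hd : (z : M2) 0 0 * (z : M2) 1 1 - (z : M2) 0 1 * (z : M2) 1 0 = 1 := Cfsg.Agent.Lib.SL2Trace.det_eq z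
      rw [h01, zero_mul, sub_zero] at hd
      refine ⟨Units.mk0 _ (left_ne_zero_of_mul_eq_one hd), Subtype.ext ?_⟩
      show g * _ * g⁻¹ = x
      rw [show x = g * z * g⁻¹ by rw [hz]; group]
      congr 2
      refine sl_ext ?_
      show (!![(z : M2) 0 0, 0; 0, ((z : M2) 0 0)⁻¹] : M2) = (z : M2)
      ext i j
      fin_cases i <;> fin_cases j <;> simp [h01, h10]
      exact inv_eq_of_mul_eq_one_right hd
  rw [← Nat.card_congr (Equiv.ofBijective f hf), Cfsg.Agent.Lib.Classical.natCard_units]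

theorem card_cell_nonsplit {y : SL2} (hy : y ∉ Subgroup.center SL2) (ht : tr y ^ 2 ≠ 4) (hs : ¬ IsSplit y) :
    Nat.card (cell ⊤ y) = Fintype.card F + 1 := by
  classical
  haveI := Fintype.ofFinite (cell ⊤ y)
  let P : F × F → M2 := fun ab => ab.1 • (1 : M2) + ab.2 • (y : M2)
  have hdet : ∀ ab : F × F, (P ab).det = ab.1 * ab.1 + ab.1 * ab.2 * tr y + ab.2 * ab.2 := fun ab => by
    rw [Cfsg.Agent.Lib.KnownA.det_add_smul, show (y : M2).det = 1 from y.2, mul_one]
    rfl
  have hne : ∀ ab : F × F, ab ≠ 0 → (P ab).det ≠ 0 := by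
    rintro ⟨a, b⟩ hab h
    rw [hdet] at h
    by_cases hb : b = 0
    · subst hb
      simp at h
      exact hab (by simp [h])
    · refine hs ⟨-a / b, ?_⟩
      field_simp
      linear_combination h
  have hcommP : ∀ ab, P ab * (y : M2) = (y : M2) * P ab := fun ab => by
    simp [P, add_mul, mul_add]
  let U := {ab : F × F // ab ≠ 0}
  let δ : U → Fˣ := fun u => Units.mk0 _ (hne u.1 u.2)
  have hfib : ∀ d : Fˣ, ((Finset.univ : Finset U).filter fun u => δ u = d).card ≤ Fintype.card (cell ⊤ y) := by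
    intro d
    rcases ((Finset.univ : Finset U).filter fun u => δ u = d).eq_empty_or_nonempty with h | ⟨u₀, hu₀⟩
    · rw [h, Finset.card_empty]; exact Nat.zero_le _
    rw [Finset.mem_filter] at hu₀
    have h0 : (P u₀.1).det = d := congrArg Units.val hu₀.2
    have hcinv : (P u₀.1)⁻¹ * (y : M2) = (y : M2) * (P u₀.1)⁻¹ := by
      have hu : IsUnit (P u₀.1).det := IsUnit.mk0 _ (hne _ u₀.2)
      calc (P u₀.1)⁻¹ * (y : M2) = (P u₀.1)⁻¹ * ((y : M2) * P u₀.1) * (P u₀.1)⁻¹ := by
            rw [mul_assoc, mul_assoc, Matrix.mul_nonsing_inv _ hu, mul_one]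
        _ = (y : M2) * (P u₀.1)⁻¹ := by
            rw [← hcommP, ← mul_assoc, Matrix.nonsing_inv_mul _ hu, one_mul]
    rw [← Finset.card_univ (α := cell ⊤ y)]
    refine Finset.card_le_card_of_injOn (fun u => if h : δ u = d then
      (⟨⟨P u.1 * (P u₀.1)⁻¹, ?_⟩, ?_⟩ : cell ⊤ y) else 1) (fun _ _ => Finset.mem_univ _) ?_
    · rw [Matrix.det_mul, Matrix.det_nonsing_inv, h0, show (P u.1).det = d from congrArg Units.val h,
        Ring.inverse_eq_inv', mul_inv_cancel₀ d.ne_zero]
    · refine ⟨mem_centralizer_iff.mpr (sl_ext ?_), Subgroup.mem_top _⟩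
      show P u.1 * (P u₀.1)⁻¹ * (y : M2) = (y : M2) * (P u.1 * (P u₀.1)⁻¹)
      rw [mul_assoc, hcinv, ← mul_assoc, hcommP, mul_assoc]
    · intro a ha b hb hab
      rw [Finset.coe_filter] at ha hb
      simp only [dif_pos ha.2, dif_pos hb.2] at hab
      have hab' : P a.1 * (P u₀.1)⁻¹ = P b.1 * (P u₀.1)⁻¹ := congrArg (fun e : cell ⊤ y => ((e : SL2) : M2)) hab
      have hu : IsUnit (P u₀.1).det := IsUnit.mk0 _ (hne _ u₀.2)
      have := congrArg (· * P u₀.1) hab'
      simp only [mul_assoc, Matrix.nonsing_inv_mul _ hu, mul_one] at this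
      obtain ⟨e1, e2⟩ := Cfsg.Agent.Lib.KnownA.add_smul_injective (not_isScal_of_notMem_center hy) this
      exact Subtype.ext (Prod.ext e1 e2)
  have hU : Fintype.card U = Fintype.card F * Fintype.card F - 1 := by
    rw [Fintype.card_subtype_compl, Fintype.card_subtype_eq, Fintype.card_prod]
  have hmain := Finset.card_le_mul_card_image (f := δ) (Finset.univ : Finset U) (Fintype.card (cell ⊤ y))
    (fun d _ => hfib d)
  rw [Finset.card_univ, hU] at hmain
  have hle : (Finset.univ.image δ).card ≤ Fintype.card F - 1 := by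
    refine (Finset.card_le_univ _).trans ?_
    rw [Fintype.card_units]
  have h := hmain.trans (Nat.mul_le_mul_left _ hle)
  rw [← Nat.card_eq_fintype_card (α := cell ⊤ y)] at h
  have hq : 2 ≤ Fintype.card F := Fintype.one_lt_card
  obtain ⟨j, hj⟩ : ∃ j, Fintype.card F = j + 2 := ⟨Fintype.card F - 2, by omega⟩
  rw [hj] at h ⊢
  have hge : j + 3 ≤ Nat.card (cell ⊤ y) := by
    by_contra hlt
    have h1 : Nat.card (cell ⊤ y) * (j + 2 - 1) ≤ (j + 2) * (j + 1) := Nat.mul_le_mul (by omega) (by omega)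
    have h2 : (j + 2) * (j + 2) = (j + 2) * (j + 1) + (j + 2) := by ring
    omega
  rcases torus_card_dvd ⊤ hy ht (Subgroup.mem_top y) with hd | hd <;> rw [hj] at hd
  · have := Nat.le_of_dvd (by omega) hd
    omega
  · have := Nat.le_of_dvd (by omega) hd
    omega

/-- The image of the normaliser of a torus. -/
def torusNorm (y : SL2) : Subgroup PSL2 := (cellNorm ⊤ y).map toPSL

theorem exists_inverting {y : SL2} (hy : y ∉ Subgroup.center SL2) (ht : tr y ^ 2 ≠ 4) :
    ∃ g ∈ cellNorm ⊤ y, g ∉ cell ⊤ y := by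
  obtain ⟨g, hg⟩ := isConj_iff.mp (Cfsg.Agent.Lib.SL2Trace.isConj_of_tr_eq
    (Cfsg.Agent.Lib.SL2Trace.tr_inv y).symm ht)
  refine ⟨g, (mem_cellNorm_iff ⊤).mpr ⟨Subgroup.mem_top g, ?_⟩, fun h => ?_⟩
  · rw [cell_conj ⊤ (Subgroup.mem_top g), hg]
    have hy' : y⁻¹ ∉ Subgroup.center SL2 := fun h => hy (inv_inv y ▸ Subgroup.inv_mem _ h)
    exact cell_eq ⊤ hy hy' ((cell ⊤ y).inv_mem (mem_cell_self ⊤ (Subgroup.mem_top y)))
  · rw [mem_centralizer_iff.mp h.1, mul_inv_cancel_right] at hg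
    have h1 : y * y = 1 := mul_eq_one_iff_eq_inv.mpr hg
    have h2 : tr y • (y : M2) = (2 : F) • 1 := by
      rw [two_smul]
      have := Cfsg.Agent.Lib.SL2Trace.sq_eq y
      rw [show (y : M2) * (y : M2) = 1 from congrArg (fun e : SL2 => (e : M2)) h1] at this
      rw [eq_sub_iff_add_eq] at this
      exact this.symm
    by_cases h0 : tr y = 0
    · rw [h0, zero_smul] at h2
      have := congrFun (congrFun h2 0) 0
      simp at this
      exact ht (by rw [h0]; linear_combination 2 * this)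
    · refine hy (mem_center_iff.mpr ?_)
      have hentry : ∀ i j, (y : M2) i j = (tr y)⁻¹ * ((2 : F) • (1 : M2)) i j := fun i j => by
        rw [← h2]; simp [h0]
      exact Cfsg.Agent.Lib.SL2Trace.eq_scalar_of_entries (by rw [hentry]; simp) (by rw [hentry]; simp)
        (by rw [hentry 0 0, hentry 1 1]; simp)

/-- The data of a maximal torus: dihedral normaliser of order `2m`. -/
theorem torusNorm_data {y : SL2} (hy : y ∉ Subgroup.center SL2) (ht : tr y ^ 2 ≠ 4) {m : ℕ}
    (hm : Nat.card (cell ⊤ y) = Nat.card (Subgroup.center SL2) * m) :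
    Nonempty (torusNorm y ≃* DihedralGroup m) ∧ ∃ x ∈ torusNorm y, orderOf x = m := by
  set N := cellNorm ⊤ y with hN
  have hcellN : cell N y = cell ⊤ y :=
    le_antisymm (le_inf inf_le_left le_top) (le_inf inf_le_left (cell_le_cellNorm ⊤ y))
  have hyN : y ∈ N := cell_le_cellNorm ⊤ y (mem_cell_self ⊤ (Subgroup.mem_top y))
  have hnN : cellNorm N y = N := by
    refine le_antisymm inf_le_right (le_inf (fun g hg => ?_) le_rfl)
    rw [hcellN]
    exact hg.1
  have hZ : Subgroup.center SL2 ≤ N := (center_le_cell ⊤ le_top y).trans (cell_le_cellNorm ⊤ y)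
  have hd : HasData N y m 2 := by
    refine ⟨hyN, hy, by rw [hcellN, hm], ?_⟩
    rw [hnN]
    obtain ⟨g, hg, hgc⟩ := exists_inverting hy ht
    rcases torus_index ⊤ (Subgroup.mem_top y) hy ht with h | ⟨h, -⟩
    · exact absurd (Subgroup.eq_of_le_of_card_ge (cell_le_cellNorm ⊤ y) h.le ▸ hg) hgc
    · rw [h, hm]; ring
  refine ⟨dihedral_image N hZ hd ht hnN, ?_⟩
  haveI : IsCyclic ((cell ⊤ y).map (toPSL : SL2 →* _)) := by
    haveI := torus_isCyclic (⊤ : Subgroup SL2) hy ht
    exact isCyclic_of_surjective ((toPSL.comp (cell ⊤ y).subtype).codRestrict ((cell ⊤ y).map toPSL)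
      fun x => ⟨x.1, x.2, rfl⟩)
      fun ⟨_, x, hx, e⟩ => ⟨⟨x, hx⟩, Subtype.ext e⟩
  obtain ⟨x, hx⟩ := IsCyclic.exists_ofOrder_eq_natCard (α := (cell ⊤ y).map (toPSL : SL2 →* _))
  refine ⟨x, Subgroup.map_mono (cell_le_cellNorm ⊤ y) x.2, ?_⟩
  rw [Subgroup.orderOf_coe, hx]
  have h := card_map_toPSL ⊤ le_top (cell ⊤ y) (center_le_cell ⊤ le_top y) le_top
  rw [hm] at h
  exact (Nat.eq_of_mul_eq_mul_left Nat.card_pos h).symm

theorem split_half {y : SL2} (hy : y ∉ Subgroup.center SL2) (ht : tr y ^ 2 ≠ 4) (hs : IsSplit y) :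
    Nat.card (cell ⊤ y) = Nat.card (Subgroup.center SL2) * ((Fintype.card F - 1) / Nat.gcd 2 (Fintype.card F - 1)) := by
  rw [card_cell_split hy ht hs, zz_eq, Nat.mul_div_cancel' (Nat.gcd_dvd_right _ _)]

theorem nonsplit_half {y : SL2} (hy : y ∉ Subgroup.center SL2) (ht : tr y ^ 2 ≠ 4) (hs : ¬ IsSplit y) :
    Nat.card (cell ⊤ y) = Nat.card (Subgroup.center SL2) * ((Fintype.card F + 1) / Nat.gcd 2 (Fintype.card F - 1)) := by
  rw [card_cell_nonsplit hy ht hs, zz_eq, Nat.mul_div_cancel' ?_]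
  have h2 := Nat.gcd_dvd_left 2 (Fintype.card F - 1)
  have h3 := Nat.gcd_dvd_right 2 (Fintype.card F - 1)
  have := Fintype.card_pos (α := F)
  rw [show Fintype.card F + 1 = (Fintype.card F - 1) + 2 by omega]
  exact Nat.dvd_add h3 h2

/-! Element orders. -/

theorem pgl_orderOf_le {K : Type*} [Field K] [Fintype K] (x : Matrix.ProjGenLinGroup (Fin 2) K) :
    orderOf x ≤ Fintype.card K + 1 := by
  classical
  obtain ⟨A, rfl⟩ := Matrix.ProjGenLinGroup.mk_surjective x
  set M : Matrix (Fin 2) (Fin 2) K := (A : Matrix (Fin 2) (Fin 2) K)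
  have hpow : ∀ i : ℕ, ∃ v : Fin 2 → K, M ^ i = v 0 • 1 + v 1 • M := by
    intro i
    induction i with
    | zero => exact ⟨![1, 0], by simp⟩
    | succ i ih =>
      obtain ⟨v, hv⟩ := ih
      refine ⟨![- (v 1 * M.det), v 0 + v 1 * M.trace], ?_⟩
      have hMM : M * M = M.trace • M - M.det • 1 := by
        ext a b
        fin_cases a <;> fin_cases b <;>
          simp [Matrix.mul_apply, Fin.sum_univ_two, Matrix.trace_fin_two, Matrix.det_fin_two] <;> ring
      rw [pow_succ, hv, add_mul, Matrix.smul_mul, Matrix.smul_mul, one_mul, hMM, smul_sub, smul_smul, smul_smul]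
      simp only [Matrix.cons_val_zero, Matrix.cons_val_one, add_smul, neg_smul]
      abel
  choose v hv using hpow
  have hv0 : ∀ i, v i ≠ 0 := fun i h => by
    have := hv i
    rw [h] at this
    simp at this
    have hu : IsUnit (M ^ i) := by rw [← Units.val_pow_eq_pow_val]; exact Units.isUnit _
    rw [this] at hu
    exact not_isUnit_zero hu
  haveI := Fintype.ofFinite (ℙ K (Fin 2 → K))
  let f : Fin (orderOf (Matrix.ProjGenLinGroup.mk A)) → ℙ K (Fin 2 → K) := fun i =>
    Projectivization.mk K (v i) (hv0 i)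
  have hf : Function.Injective f := by
    intro i j h
    obtain ⟨c, hc⟩ := (Projectivization.mk_eq_mk_iff' K _ _ (hv0 i) (hv0 j)).mp h
    have hAij : ((A ^ (i : ℕ) : GL (Fin 2) K) : Matrix (Fin 2) (Fin 2) K) = c • (M ^ (j : ℕ)) := by
      rw [Units.val_pow_eq_pow_val, hv, hv, ← hc, smul_add, smul_smul, smul_smul]
      rfl
    have hq : (Matrix.ProjGenLinGroup.mk A) ^ (i : ℕ) = (Matrix.ProjGenLinGroup.mk A) ^ (j : ℕ) := by
      rw [← map_pow, ← map_pow]
      refine QuotientGroup.eq.mpr ?_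
      rw [Matrix.GeneralLinearGroup.mem_center_iff_val_mem_range_scalar]
      refine ⟨c⁻¹, ?_⟩
      have hc0 : c ≠ 0 := fun h0 => hv0 i (by rw [← hc, h0, zero_smul])
      have e : ((A ^ (j : ℕ) : GL (Fin 2) K) : Matrix (Fin 2) (Fin 2) K) = c⁻¹ • ((A ^ (i : ℕ) : GL (Fin 2) K) : Matrix (Fin 2) (Fin 2) K) := by
        rw [hAij, smul_smul, inv_mul_cancel₀ hc0, one_smul, Units.val_pow_eq_pow_val]
      rw [Units.val_mul, e, Matrix.mul_smul, Units.inv_mul, Matrix.smul_one_eq_diagonal]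
      rfl
    exact Fin.ext (pow_injOn_Iio_orderOf (Set.mem_Iio.mpr i.2) (Set.mem_Iio.mpr j.2) hq)
  have := Fintype.card_le_of_injective f hf
  rw [Fintype.card_fin, ← Nat.card_eq_fintype_card (α := ℙ K (Fin 2 → K)), Cfsg.Agent.Lib.Classical.card_projLine] at this
  exact this

theorem psl_orderOf_le {K : Type*} [Field K] [Fintype K] (x : Matrix.ProjectiveSpecialLinearGroup (Fin 2) K) :
    orderOf x ≤ Fintype.card K + 1 := by
  obtain ⟨A, rfl⟩ := toPSL_surjective x
  haveI : Finite (Matrix.ProjGenLinGroup (Fin 2) K) := Finite.of_surjective _ Matrix.ProjGenLinGroup.mk_surjective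
  refine le_trans ?_ (pgl_orderOf_le (Matrix.ProjGenLinGroup.mk (Matrix.SpecialLinearGroup.toGL A)))
  refine Nat.le_of_dvd (orderOf_pos _) (orderOf_dvd_of_pow_eq_one ?_)
  rw [← map_pow]
  refine toPSL_eq_one.mpr (mem_center_iff.mp ?_)
  rw [← Matrix.SpecialLinearGroup.toGL_mem_center_iff, map_pow]
  refine (QuotientGroup.eq_one_iff _).mp ?_
  show Matrix.ProjGenLinGroup.mk _ = 1
  rw [map_pow]
  exact pow_orderOf_eq_one _

theorem subfield_orderOf_le {H : Subgroup PSL2} (K : Subfield F)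
    (h : Nonempty (H ≃* Matrix.ProjectiveSpecialLinearGroup (Fin 2) K) ∨
      Nonempty (H ≃* Matrix.ProjGenLinGroup (Fin 2) K)) {x : PSL2} (hx : x ∈ H) :
    orderOf x ≤ Nat.card K + 1 := by
  classical
  haveI := Fintype.ofFinite K
  rw [← Subgroup.orderOf_mk x hx, Nat.card_eq_fintype_card]
  rcases h with ⟨⟨e⟩⟩ | ⟨⟨e⟩⟩ <;> rw [← e.orderOf_eq]
  · exact psl_orderOf_le _
  · exact pgl_orderOf_le _

end Cfsg.Agent.Lib.Geometry.Dickson
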