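import Cfsg.Agent.Lib.Geometry.Dickson.Types

/-!
Normalisers of unipotent cells: the stabiliser of a line.
-/

set_option autoImplicit false

namespace Cfsg.Agent.Lib.Geometry.Dickson

open Matrix
open scoped Matrix MatrixGroups Pointwise
open Cfsg.Agent.Lib.SL2Trace (tr tr_conj tr_neg toPSL mem_center_iff)

variable {F : Type*} [Field F]

local notation "SL2" => Matrix.SpecialLinearGroup (Fin 2) F
local notation "M2" => Matrix (Fin 2) (Fin 2) F

variable (G : Subgroup (Matrix.SpecialLinearGroup (Fin 2) F)) [Finite G] (p : ℕ) [Fact p.Prime] [CharP F p]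

theorem mem_cellNorm_unipotent_iff {y : SL2} (hy : y ∈ G) (hyZ : y ∉ Subgroup.center SL2)
    {v : Fin 2 → F} {ε : F} (hv : v ≠ 0) (hε : ε * ε = 1) (ht : tr y = 2 * ε)
    (hyv : (y : M2) *ᵥ v = ε • v) (g : SL2) :
    g ∈ cellNorm G y ↔ g ∈ G ∧ ∃ d : F, (g : M2) *ᵥ v = d • v := by
  rw [mem_cellNorm_iff]
  refine and_congr_right fun hg => ⟨fun h => ?_, fun ⟨d, hd⟩ => ?_⟩
  · refine fix_line_of_conj_mem hyZ hv hε ht hyv ?_
    have : g * y * g⁻¹ ∈ cell G y := by
      rw [← h]; exact Subgroup.smul_mem_pointwise_smul y (MulAut.conj g) _ (mem_cell_self G hy)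
    exact this.1
  · rw [cell_conj G hg]
    exact cell_eq G hyZ (conj_notMem_center hyZ g)
      ⟨conj_mem_of_fix_line hyZ hv hε ht hyv hd (mem_centralizer_iff.mpr rfl),
        G.mul_mem (G.mul_mem hg hy) (G.inv_mem hg)⟩

theorem smul_ne_zero_vec {g : SL2} {v : Fin 2 → F} (hv : v ≠ 0) : (g : M2) *ᵥ v ≠ 0 := fun h => hv (by
  have h' := congrArg (fun u => ((g⁻¹ : SL2) : M2) *ᵥ u) h
  simp only [Matrix.mulVec_mulVec, Matrix.mulVec_zero] at h'
  rwa [show ((g⁻¹ : SL2) : M2) * (g : M2) = 1 from congrArg (fun e : SL2 => (e : M2)) (inv_mul_cancel g),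
    Matrix.one_mulVec] at h')

/-- Data of the normaliser of a unipotent cell. -/
theorem unipotent_norm_data [Fintype F] (hZ : Subgroup.center SL2 ≤ G) {y : SL2} (hy : y ∈ G)
    (hyZ : y ∉ Subgroup.center SL2) (ht : tr y ^ 2 = 4) :
    ∃ r k : ℕ, 2 ≤ r ∧ 1 ≤ k ∧ (∃ s, r = p ^ s) ∧ k ∣ r - 1 ∧
      Nat.card (cell G y) = Nat.card (Subgroup.center SL2) * r ∧
      Nat.card (cellNorm G y) = Nat.card (Subgroup.center SL2) * (r * k) ∧
      (2 ≤ k → ∃ g ∈ G, g ∉ Subgroup.center SL2 ∧ tr g ^ 2 ≠ 4 ∧ cell G g ≤ cellNorm G y ∧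
        Nat.card (cell G g) = Nat.card (Subgroup.center SL2) * k) := by
  classical
  obtain ⟨v, ε, hv, hε, hty, hyv⟩ := exists_fixed_vector ht
  have hN := mem_cellNorm_unipotent_iff G hy hyZ hv hε hty hyv
  have hcard_z : 0 < Nat.card (Subgroup.center SL2) := Nat.card_pos
  haveI : Finite (cell G y) := Finite.of_injective (Subgroup.inclusion (inf_le_right : cell G y ≤ G))
    (Subgroup.inclusion_injective _)
  haveI : Finite (cellNorm G y) := Finite.of_injective (Subgroup.inclusion (inf_le_right : cellNorm G y ≤ G))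
    (Subgroup.inclusion_injective _)
  obtain ⟨r, hr2, hr⟩ := two_le_of_notMem G hZ hy hyZ
  have hrp : ∃ s, r = p ^ s := by
    have h := card_map_toPSL G hZ (cell G y) (center_le_cell G hZ y) inf_le_right
    rw [hr] at h
    haveI : Finite ((cell G y).map toPSL) := Finite.of_surjective
      ((toPSL.comp (cell G y).subtype).codRestrict ((cell G y).map toPSL) fun x => ⟨x.1, x.2, rfl⟩)
      (fun ⟨_, x, hx, e⟩ => ⟨⟨x, hx⟩, Subtype.ext e⟩)
    obtain ⟨s, hs⟩ := (cell_map_isPGroup G p hyZ ht).exists_card_eq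
    exact ⟨s, (Nat.eq_of_mul_eq_mul_left hcard_z h).trans hs⟩
  -- the squared eigenvalue on the line
  choose! lam hlam using fun g (hg : g ∈ cellNorm G y) => ((hN g).mp hg).2
  have hlam0 : ∀ g ∈ cellNorm G y, lam g ≠ 0 := fun g hg h => smul_ne_zero_vec (g := g) hv (by
    rw [hlam g hg, h, zero_smul])
  let Λ : cellNorm G y →* Fˣ := MonoidHom.mk' (fun g => Units.mk0 _ (hlam0 g g.2) ^ 2) (fun a b => by
    rw [← mul_pow]
    congr 1
    refine Units.ext ?_
    show lam ((a * b : cellNorm G y) : SL2) = lam a * lam b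
    refine smul_left_cancel_vec hv ?_
    rw [← hlam _ (a * b).2, mul_comm (lam (a : SL2)), ← smul_smul, ← hlam _ a.2, ← Matrix.mulVec_smul,
      ← hlam _ b.2, Matrix.mulVec_mulVec]
    rfl)
  have hkerΛ : ∀ g : cellNorm G y, g ∈ Λ.ker ↔ (g : SL2) ∈ cell G y := by
    intro g
    rw [MonoidHom.mem_ker]
    constructor
    · intro h
      have h' : lam g * lam g = 1 := by
        have := congrArg Units.val h
        simpa [Λ, sq] using this
      exact ⟨(mem_centralizer_unipotent_iff hyZ hv hε hty hyv _).mpr ⟨_, h', hlam _ g.2⟩, g.2.2⟩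
    · intro h
      obtain ⟨c, hc, hgv⟩ := (mem_centralizer_unipotent_iff hyZ hv hε hty hyv _).mp h.1
      refine Units.ext ?_
      show (Units.mk0 (lam g) _ ^ 2 : Fˣ).val = 1
      rw [Units.val_pow_eq_pow_val, Units.val_mk0, sq,
        smul_left_cancel_vec hv ((hlam _ g.2).symm.trans hgv), hc]
  set k := Nat.card Λ.range with hk
  have hker : Λ.ker = (cell G y).subgroupOf (cellNorm G y) :=
    Subgroup.ext fun g => (hkerΛ g).trans Subgroup.mem_subgroupOf.symm
  have hNcard : Nat.card (cellNorm G y) = Nat.card (Subgroup.center SL2) * (r * k) := by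
    have h := Λ.ker.card_mul_index
    rw [Subgroup.index_ker, hker, Nat.card_congr (Subgroup.subgroupOfEquivOfLe (cell_le_cellNorm G y)).toEquiv,
      hr, mul_assoc] at h
    exact h.symm
  have hk1 : 1 ≤ k := Nat.card_pos
  -- `k ∣ r - 1`: the normaliser permutes the unipotents of trace two freely
  have hdvd : k ∣ r - 1 := by
    let U := {x : SL2 // x ∈ cell G y ∧ x ∉ Subgroup.center SL2 ∧ tr x = 2}
    haveI : Finite U := Finite.of_injective (fun x : U => (⟨x.1, x.2.1⟩ : cell G y)) fun a b h =>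
      Subtype.ext (congrArg (fun e : cell G y => (e : SL2)) h)
    have hconj : ∀ (n : cellNorm G y) (x : U), (n : SL2) * x.1 * (n : SL2)⁻¹ ∈ cell G y := fun n x => by
      have h := Subgroup.smul_mem_pointwise_smul x.1 (MulAut.conj (n : SL2)) _ x.2.1
      rwa [((mem_cellNorm_iff G).mp n.2).2] at h
    letI : MulAction (cellNorm G y) U :=
      { smul := fun n x => ⟨(n : SL2) * x.1 * (n : SL2)⁻¹, hconj n x, conj_notMem_center x.2.2.1 _,
          by rw [tr_conj, x.2.2.2]⟩
        one_smul := fun x => Subtype.ext (by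
          show ((1 : cellNorm G y) : SL2) * x.1 * ((1 : cellNorm G y) : SL2)⁻¹ = x.1
          simp)
        mul_smul := fun a b x => Subtype.ext (by
          show ((a * b : cellNorm G y) : SL2) * x.1 * ((a * b : cellNorm G y) : SL2)⁻¹ =
            (a : SL2) * ((b : SL2) * x.1 * (b : SL2)⁻¹) * (a : SL2)⁻¹
          simp [mul_assoc]) }
    have hstab : ∀ x : U, MulAction.stabilizer (cellNorm G y) x = (cell G y).subgroupOf (cellNorm G y) := by
      intro x
      ext n
      rw [MulAction.mem_stabilizer_iff, Subgroup.mem_subgroupOf, Subtype.ext_iff]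
      show (n : SL2) * x.1 * (n : SL2)⁻¹ = x.1 ↔ _
      constructor
      · intro h
        rw [← cell_eq G hyZ x.2.2.1 x.2.1]
        exact ⟨mem_centralizer_iff.mpr (mul_inv_eq_iff_eq_mul.mp h), n.2.2⟩
      · intro h
        rw [← cell_eq G hyZ x.2.2.1 x.2.1] at h
        exact mul_inv_eq_iff_eq_mul.mpr (mem_centralizer_iff.mp h.1)
    have horb : ∀ x : U, Nat.card (MulAction.orbit (cellNorm G y) x) = k := by
      intro x
      rw [Nat.card_congr (MulAction.orbitEquivQuotientStabilizer (cellNorm G y) x)]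
      show (MulAction.stabilizer (cellNorm G y) x).index = k
      rw [hstab, ← hker, Subgroup.index_ker]
    haveI := Fintype.ofFinite (Quotient (MulAction.orbitRel (cellNorm G y) U))
    have hU : k ∣ Nat.card U := by
      rw [Nat.card_congr (MulAction.selfEquivSigmaOrbits (cellNorm G y) U), Nat.card_sigma]
      exact Finset.dvd_sum fun q _ => (horb q.out).symm.dvd
    suffices hUr : Nat.card U = r - 1 by rwa [hUr] at hU
    let π : U → {e : (cell G y).map (toPSL : SL2 →* _) // e ≠ 1} := fun x =>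
      ⟨⟨toPSL x.1, x.1, x.2.1, rfl⟩, fun h => x.2.2.1
        (mem_center_iff.mpr (Cfsg.Agent.Lib.SL2Trace.toPSL_eq_one.mp (congrArg Subtype.val h)))⟩
    have hπ : Function.Bijective π := by
      constructor
      · intro a b h
        have h' : toPSL a.1 = toPSL b.1 := congrArg (fun e => e.1.1) h
        rcases Cfsg.Agent.Lib.SL2Trace.toPSL_eq.mp h' with e | e
        · exact Subtype.ext e.symm
        · refine Subtype.ext ?_
          have h4 : (2 : F) * 2 = 0 := by
            have := congrArg tr e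
            rw [b.2.2.2, tr_neg, a.2.2.2] at this
            linear_combination this
          have h20 : (2 : F) = 0 := mul_self_eq_zero.mp h4
          rw [e]
          refine sl_ext ?_
          ext i j
          simp
          linear_combination ((a.1 : M2) i j) * h20
      · rintro ⟨⟨_, x, hx, rfl⟩, hne⟩
        have hxZ : x ∉ Subgroup.center SL2 := fun h => hne (Subtype.ext
          (Cfsg.Agent.Lib.SL2Trace.toPSL_eq_one.mpr (mem_center_iff.mp h)))
        obtain ⟨e, he, hte⟩ := exists_eps (tr_sq_of_mem hyZ ht hx.1)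
        rcases mul_self_eq_one_iff.mp he with rfl | rfl
        · exact ⟨⟨x, hx, hxZ, by rw [hte, mul_one]⟩, rfl⟩
        · have hneg : (-1 : SL2) ∈ Subgroup.center SL2 := mem_center_iff.mpr (Or.inr rfl)
          refine ⟨⟨-x, ?_, fun h => hxZ ?_, by rw [tr_neg, hte]; ring⟩, Subtype.ext (Subtype.ext
            (Cfsg.Agent.Lib.SL2Trace.toPSL_neg x))⟩
          · rw [neg_eq_neg_one_mul]
            exact (cell G y).mul_mem (center_le_cell G hZ y hneg) hx
          · have := Subgroup.mul_mem _ hneg h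
            simpa using this
    haveI : Finite ((cell G y).map toPSL) := Finite.of_surjective
      ((toPSL.comp (cell G y).subtype).codRestrict ((cell G y).map toPSL) fun x => ⟨x.1, x.2, rfl⟩)
      (fun ⟨_, x, hx, e⟩ => ⟨⟨x, hx⟩, Subtype.ext e⟩)
    haveI := Fintype.ofFinite ((cell G y).map (toPSL : SL2 →* _))
    have hm := card_map_toPSL G hZ (cell G y) (center_le_cell G hZ y) inf_le_right
    rw [hr] at hm
    rw [Nat.card_congr (Equiv.ofBijective π hπ), Nat.eq_of_mul_eq_mul_left hcard_z hm,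
      Nat.card_eq_fintype_card, Nat.card_eq_fintype_card, Fintype.card_subtype_compl, Fintype.card_subtype_eq]
  refine ⟨r, k, hr2, hk1, hrp, hdvd, hr, hNcard, fun hk2 => ?_⟩
  obtain ⟨⟨u, g, hgu⟩, hgen⟩ := IsCyclic.exists_generator (α := Λ.range)
  have hg1 : Λ g ≠ 1 := by
    intro h
    have : ∀ x : Λ.range, x = 1 := fun x => by
      obtain ⟨j, hj⟩ := hgen x
      refine Subtype.ext ?_
      rw [← hj]
      show u ^ j = 1
      rw [← hgu, h, _root_.one_zpow]
    haveI : Subsingleton Λ.range := ⟨fun a b => (this a).trans (this b).symm⟩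
    rw [hk, Nat.card_unique] at hk2
    omega
  have hgc : (g : SL2) ∉ cell G y := fun h => hg1 ((hkerΛ g).mpr h)
  have hgZ : (g : SL2) ∉ Subgroup.center SL2 := fun h => hgc (center_le_cell G hZ y h)
  have hlg : lam g * lam g ≠ 1 := fun h => hg1 (Units.ext (by simpa [Λ, sq] using h))
  have htg : tr (g : SL2) ^ 2 ≠ 4 := by
    intro h
    have h1 := congrArg (fun A : M2 => A *ᵥ v) (Cfsg.Agent.Lib.SL2Trace.sq_eq (g : SL2))
    simp only [← Matrix.mulVec_mulVec, hlam _ g.2, Matrix.mulVec_smul, Matrix.sub_mulVec, Matrix.smul_mulVec,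
      Matrix.one_mulVec, smul_smul] at h1
    have h2 : lam g * lam g = tr (g : SL2) * lam g - 1 := by
      refine smul_left_cancel_vec hv ?_
      rw [sub_smul, one_smul]
      exact h1
    apply hlg
    have h3 : (2 * lam g - tr (g : SL2)) * (2 * lam g - tr (g : SL2)) = 0 := by linear_combination 4 * h2 + h
    have h4 : tr (g : SL2) = 2 * lam g := (sub_eq_zero.mp (mul_self_eq_zero.mp h3)).symm
    rw [h4] at h2
    linear_combination -h2
  have hle : cell G g ≤ cellNorm G y := by
    intro x hx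
    refine (hN x).mpr ⟨hx.2, ?_⟩
    have hcomm := congrArg (fun e : SL2 => (e : M2) *ᵥ v) (mem_centralizer_iff.mp hx.1)
    have hxv : ((g : SL2) : M2) *ᵥ ((x : M2) *ᵥ v) = lam g • ((x : M2) *ᵥ v) := by
      simp only [Matrix.SpecialLinearGroup.coe_mul, ← Matrix.mulVec_mulVec, hlam _ g.2,
        Matrix.mulVec_smul] at hcomm
      exact hcomm.symm
    obtain ⟨c, hc⟩ := Cfsg.Agent.Lib.Classical.eigenvector_smul_of_not_scalar
      (fun s hs => not_isScal_of_notMem_center hgZ (Cfsg.Agent.Lib.KnownA.isScal_iff.mpr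
        ⟨s, by rw [hs, Matrix.smul_one_eq_diagonal]; rfl⟩)) hv (hlam _ g.2) hxv
    exact ⟨c, hc⟩
  refine ⟨g, g.2.2, hgZ, htg, hle, ?_⟩
  let Λ' : cell G g →* Λ.range := (Λ.comp (Subgroup.inclusion hle)).codRestrict _ fun x => ⟨_, rfl⟩
  have hsurj : Function.Surjective Λ' := by
    intro x
    obtain ⟨j, hj⟩ := hgen x
    refine ⟨(⟨g, mem_cell_self G g.2.2⟩ : cell G g) ^ j, Subtype.ext ?_⟩
    rw [← hj]
    show Λ (Subgroup.inclusion hle ((⟨g, mem_cell_self G g.2.2⟩ : cell G g) ^ j)) = u ^ j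
    rw [map_zpow, map_zpow, ← hgu]
    rfl
  have hk' : Λ'.ker = (Subgroup.center SL2).subgroupOf (cell G g) := by
    ext x
    rw [MonoidHom.mem_ker, Subgroup.mem_subgroupOf, Subtype.ext_iff]
    show Λ (Subgroup.inclusion hle x) = 1 ↔ _
    rw [← MonoidHom.mem_ker, hkerΛ]
    refine ⟨fun h => ?_, fun h => center_le_cell G hZ y h⟩
    by_contra hxZ
    apply hgc
    have e1 : cell G (x : SL2) = cell G y := cell_eq G hyZ hxZ h
    have e2 : cell G (x : SL2) = cell G g := cell_eq G hgZ hxZ x.2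
    rw [← e1, e2]
    exact mem_cell_self G g.2.2
  have h := Λ'.ker.card_mul_index
  rw [Subgroup.index_ker, MonoidHom.range_eq_top.mpr hsurj, Subgroup.card_top, hk',
    Nat.card_congr (Subgroup.subgroupOfEquivOfLe (center_le_cell G hZ (g : SL2))).toEquiv] at h
  exact h.symm

include p in
/-- The other cells of unipotent type are permuted freely by the cell of `u`. -/
theorem unipotent_cls_card_mod (hZ : Subgroup.center SL2 ≤ G) {u : SL2} (hu : u ∈ G)
    (huZ : u ∉ Subgroup.center SL2) (ht : tr u ^ 2 = 4) {r : ℕ}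
    (hr : Nat.card (cell G u) = Nat.card (Subgroup.center SL2) * r) :
    r ∣ Nat.card (cls G u) - 1 := by
  classical
  obtain ⟨v, ε, hv, hε, htu, huv⟩ := exists_fixed_vector ht
  have hN := mem_cellNorm_unipotent_iff G hu huZ hv hε htu huv
  haveI : Finite (cell G u) := Finite.of_injective (Subgroup.inclusion (inf_le_right : cell G u ≤ G))
    (Subgroup.inclusion_injective _)
  haveI : Finite (cls G u) := Finite.Set.finite_range _
  haveI : Finite (Subgroup.center SL2) := Finite.of_injective (Subgroup.inclusion hZ)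
    (Subgroup.inclusion_injective _)
  have hfix : ∀ x : cell G u, MulAut.conj (x : SL2) • cell G u = cell G u := fun x =>
    ((mem_cellNorm_iff G).mp (cell_le_cellNorm G u x.2)).2
  let X := {A : Subgroup SL2 // A ∈ cls G u ∧ A ≠ cell G u}
  haveI : Finite X := Finite.of_injective (fun A : X => (⟨A.1, A.2.1⟩ : cls G u)) fun a b h =>
    Subtype.ext (congrArg (fun e : cls G u => (e : Subgroup SL2)) h)
  have hmem : ∀ (x : cell G u) (A : X), MulAut.conj (x : SL2) • A.1 ∈ cls G u ∧
      MulAut.conj (x : SL2) • A.1 ≠ cell G u := by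
    intro x A
    refine ⟨?_, fun h => A.2.2 (smul_left_cancel _ (h.trans (hfix x).symm))⟩
    obtain ⟨g, hg⟩ := A.2.1
    refine ⟨⟨x.1, x.2.2⟩ * g, ?_⟩
    rw [← hg]
    show cell G ((x : SL2) * g * u * ((x : SL2) * g)⁻¹) = MulAut.conj (x : SL2) • cell G ((g : SL2) * u * (g : SL2)⁻¹)
    rw [cell_conj G x.2.2]
    simp [mul_assoc]
  letI : MulAction (cell G u) X :=
    { smul := fun x A => ⟨MulAut.conj (x : SL2) • A.1, hmem x A⟩
      one_smul := fun A => Subtype.ext (by
        show MulAut.conj ((1 : cell G u) : SL2) • A.1 = A.1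
        simp)
      mul_smul := fun x y A => Subtype.ext (by
        show MulAut.conj ((x * y : cell G u) : SL2) • A.1 =
          MulAut.conj (x : SL2) • (MulAut.conj (y : SL2) • A.1)
        rw [Subgroup.coe_mul, map_mul, mul_smul]) }
  have hstab : ∀ A : X, MulAction.stabilizer (cell G u) A =
      (Subgroup.center SL2).subgroupOf (cell G u) := by
    intro A
    ext x
    rw [MulAction.mem_stabilizer_iff, Subgroup.mem_subgroupOf, Subtype.ext_iff]
    show MulAut.conj (x : SL2) • A.1 = A.1 ↔ _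
    constructor
    · intro h
      by_contra hxZ
      apply A.2.2
      obtain ⟨g, hg⟩ := A.2.1
      rw [← hg] at h ⊢
      have hu' := conj_notMem_center huZ (g : SL2)
      have hgu : (g : SL2) * u * (g : SL2)⁻¹ ∈ G := G.mul_mem (G.mul_mem g.2 hu) (G.inv_mem g.2)
      have hu'v : (((g : SL2) * u * (g : SL2)⁻¹ : SL2) : M2) *ᵥ (((g : SL2) : M2) *ᵥ v) =
          ε • (((g : SL2) : M2) *ᵥ v) := by
        rw [Matrix.mulVec_mulVec]
        show (((g : SL2) * u * (g : SL2)⁻¹ * (g : SL2) : SL2) : M2) *ᵥ v = _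
        rw [inv_mul_cancel_right]
        show (((g : SL2) : M2) * (u : M2)) *ᵥ v = _
        rw [← Matrix.mulVec_mulVec, huv, Matrix.mulVec_smul]
      obtain ⟨-, d, hd⟩ := (mem_cellNorm_unipotent_iff G hgu hu' (smul_ne_zero_vec hv) hε
        (by rw [tr_conj, htu]) hu'v (x : SL2)).mp ((mem_cellNorm_iff G).mpr ⟨x.2.2, h⟩)
      obtain ⟨c, hc, hxv⟩ := (mem_centralizer_unipotent_iff huZ hv hε htu huv _).mp x.2.1
      obtain ⟨v', ε', hv', hε', htx, hxv'⟩ := exists_fixed_vector (tr_sq_of_mem huZ ht x.2.1)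
      obtain ⟨e, he⟩ := mem_line_of_eigen hxZ hv' hε' htx hxv' hd
      obtain ⟨e', he'⟩ := mem_line_of_eigen hxZ hv' hε' htx hxv' hxv
      have he'0 : e' ≠ 0 := fun h => hv (by rw [he', h, zero_smul])
      have hgN : (g : SL2) ∈ cellNorm G u :=
        (hN _).mpr ⟨g.2, e * e'⁻¹, by rw [he, he', smul_smul, inv_mul_cancel_right₀ he'0]⟩
      show cell G ((g : SL2) * u * (g : SL2)⁻¹) = cell G u
      rw [← cell_conj G g.2 u]
      exact ((mem_cellNorm_iff G).mp hgN).2
    · intro h
      have : MulAut.conj (x : SL2) = 1 := MulEquiv.ext fun w => by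
        rw [MulAut.conj_apply, Subgroup.mem_center_iff.mp h w |>.symm, mul_inv_cancel_right]
        rfl
      rw [this, one_smul]
  have horb : ∀ A : X, Nat.card (MulAction.orbit (cell G u) A) = r := by
    intro A
    rw [Nat.card_congr (MulAction.orbitEquivQuotientStabilizer (cell G u) A)]
    show (MulAction.stabilizer (cell G u) A).index = r
    rw [hstab]
    have h := ((Subgroup.center SL2).subgroupOf (cell G u)).card_mul_index
    rw [Nat.card_congr (Subgroup.subgroupOfEquivOfLe (center_le_cell G hZ u)).toEquiv, hr] at h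
    exact Nat.eq_of_mul_eq_mul_left Nat.card_pos h
  haveI := Fintype.ofFinite (Quotient (MulAction.orbitRel (cell G u) X))
  have hX : r ∣ Nat.card X := by
    rw [Nat.card_congr (MulAction.selfEquivSigmaOrbits (cell G u) X), Nat.card_sigma]
    exact Finset.dvd_sum fun q _ => (horb q.out).symm.dvd
  suffices hXc : Nat.card X = Nat.card (cls G u) - 1 by rwa [← hXc]
  let eX : X ≃ {A : cls G u // A ≠ ⟨cell G u, cell_mem_cls G u⟩} :=
    { toFun := fun A => ⟨⟨A.1, A.2.1⟩, fun h => A.2.2 (congrArg (fun e : cls G u => (e : Subgroup SL2)) h)⟩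
      invFun := fun A => ⟨A.1.1, A.1.2, fun h => A.2 (Subtype.ext h)⟩
      left_inv := fun _ => rfl
      right_inv := fun _ => rfl }
  haveI := Fintype.ofFinite (cls G u)
  rw [Nat.card_congr eX, Nat.card_eq_fintype_card, Nat.card_eq_fintype_card, Fintype.card_subtype_compl,
    Fintype.card_subtype_eq]

end Cfsg.Agent.Lib.Geometry.Dickson
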